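import Cfsg.Agent.BlockChar.Rotation
import Cfsg.Agent.Blocks.Congr
import Cfsg.Agent.CharArith.Basic
import Mathlib.FieldTheory.Finite.Basic

/-!
# Orthogonality within a block between p-regular and p-singular elements

If `x` is p-regular and `a` is the coefficient function of a block idempotent, then
`f z = a (z x⁻¹)` is equal to its `q`-th convolution power whenever `q ≡ 1` modulo the order
of `x`.  Taking `q` a high power of `p`, the rotation lemma shows that the class sums of `f`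
vanish on p-singular classes, which says `∑_{χ ∈ B} χ x * conj (χ y) = 0`.
-/

namespace Cfsg.Agent.BlockChar

open scoped ComplexConjugate
open Cfsg.Agent Cfsg.Agent.Blocks

universe u

variable {G : Type u} [Group G] {p : ℕ} {M : Ideal Cfsg.AlgInt}

/-- a p-singular element is not conjugate to a `p ^ a`-th power, `p ^ a` the order's p-part -/
theorem isPRegular_pow_ordProj [Finite G] (hp : p.Prime) (w : G) :
    Cfsg.IsPRegular p (w ^ p ^ (Nat.card G).factorization p) := fun hd =>
  Nat.not_dvd_ordCompl hp Nat.card_pos.ne' (hd.trans (orderOf_dvd_of_pow_eq_one (by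
    rw [← pow_mul, Nat.ordProj_mul_ordCompl_eq_self, pow_card_eq_one'])))

theorem isPRegular_of_isConj {x y : G} (h : IsConj x y) (hx : Cfsg.IsPRegular p x) :
    Cfsg.IsPRegular p y := by
  obtain ⟨c, rfl⟩ := isConj_iff.1 h
  rw [Cfsg.IsPRegular, ← MulAut.conj_apply, MulEquiv.orderOf_eq]
  exact hx

theorem eq_zero_of_forall_dvdIn (hM : Cfsg.IsPModular p M) {z : ℂ}
    (h : ∀ n, DvdIn (localRing hM) p n z) : z = 0 := by
  by_contra hz
  obtain ⟨c₀, hc₀, hzc⟩ := h 0
  obtain ⟨a, b, hb, hab⟩ := hc₀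
  have hb0 := coe_ne_zero_of_notMem hb
  have hza : (a : ℂ) = z * (b : ℂ) := by
    rw [hzc, pow_zero, one_mul, ← hab, div_mul_cancel₀ _ hb0]
  have ha : a ≠ 0 := fun e => by
    rw [e, ZeroMemClass.coe_zero, zero_eq_mul] at hza
    exact hza.elim hz hb0
  -- a nonzero rational integer divisible by `a`
  obtain ⟨P, hPm, hP⟩ := (integralClosure.isIntegral a : IsIntegral ℤ a)
  obtain ⟨Q, hQ0, hQe⟩ : ∃ Q : Polynomial ℤ, Q.coeff 0 ≠ 0 ∧ Polynomial.aeval a Q = 0 := by
    clear hzc hza h
    obtain ⟨Q, hQ, hQ'⟩ := P.exists_eq_pow_rootMultiplicity_mul_and_not_dvd hPm.ne_zero 0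
    refine ⟨Q, ?_, ?_⟩
    · rw [Polynomial.C_0, sub_zero, Polynomial.X_dvd_iff] at hQ'
      exact hQ'
    · have hP' : Polynomial.aeval a P = 0 := hP
      rw [hQ, map_mul, map_pow, map_sub, Polynomial.aeval_X, Polynomial.aeval_C, map_zero,
        sub_zero] at hP'
      exact (mul_eq_zero.1 hP').resolve_left (pow_ne_zero _ ha)
  obtain ⟨r, hr⟩ : ∃ r : Cfsg.AlgInt, (Q.coeff 0 : ℂ) = (a : ℂ) * (r : ℂ) := by
    refine ⟨-Polynomial.aeval a Q.divX, ?_⟩
    have e := congrArg (Polynomial.aeval a) Q.X_mul_divX_add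
    rw [hQe, map_add, map_mul, Polynomial.aeval_X, Polynomial.aeval_C] at e
    have e' := congrArg (fun x : Cfsg.AlgInt => (x : ℂ)) e
    push_cast at e'
    rw [NegMemClass.coe_neg, mul_neg, ← add_eq_zero_iff_eq_neg', ← e']
    simp
  have hnm : (p : ℤ) ^ ((Q.coeff 0).natAbs) ∣ Q.coeff 0 := by
    generalize (Q.coeff 0).natAbs = n
    obtain ⟨c, hc, hzn⟩ := h n
    have key : ∀ k ≤ n, (p : ℤ) ^ k ∣ Q.coeff 0 := by
      intro k
      induction k with
      | zero => simp
      | succ k ih =>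
        intro hk
        obtain ⟨u, hu⟩ := ih (by omega)
        rw [hu, pow_succ]
        refine mul_dvd_mul_left _ ?_
        rw [← memLocalIdeal_intCast_iff hM]
        have hu' : (u : ℂ) = (p : ℂ) * ((p : ℂ) ^ (n - k - 1) * c * ((b : ℂ) * (r : ℂ))) := by
          apply mul_left_cancel₀ (pow_ne_zero k (Nat.cast_ne_zero.2 hM.1.ne_zero : (p : ℂ) ≠ 0))
          calc (p : ℂ) ^ k * (u : ℂ) = (Q.coeff 0 : ℂ) := by rw [hu]; push_cast; rfl
            _ = z * (b : ℂ) * (r : ℂ) := by rw [hr, hza]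
            _ = (p : ℂ) ^ (k + 1 + (n - k - 1)) * c * (b : ℂ) * (r : ℂ) := by
              rw [show k + 1 + (n - k - 1) = n by omega, hzn]
            _ = _ := by ring
        rw [hu']
        refine memLocalIdeal_mul_right hM ((memLocalIdeal_natCast_iff hM p).2 dvd_rfl) ?_
        exact (localRing hM).mul_mem ((localRing hM).mul_mem
          ((localRing hM).pow_mem (natCast_mem _ p) _) hc)
          ((localRing hM).mul_mem (memLocalRing_coe hM b) (memLocalRing_coe hM r))
    exact key n le_rfl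
  have h1 := Int.natAbs_dvd_natAbs.2 hnm
  rw [Int.natAbs_pow, Int.natAbs_natCast] at h1
  exact absurd (Nat.le_of_dvd (Int.natAbs_pos.2 hQ0) h1)
    (not_le.2 (Nat.lt_pow_self hM.1.one_lt))

variable [Fintype G]

/-- the `n`-th convolution power, as a sum over tuples -/
noncomputable def cpow (f : G → ℂ) (n : ℕ) (z : G) : ℂ :=
  open Classical in ∑ t : Fin n → G, if (List.ofFn t).prod = z then ∏ i, f (t i) else 0

theorem cpow_succ (f : G → ℂ) (n : ℕ) : cpow f (n + 1) = conv f (cpow f n) := by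
  classical
  funext z
  simp only [cpow, conv]
  rw [← (Fin.consEquiv fun _ : Fin (n + 1) => G).sum_comp, Fintype.sum_prod_type]
  refine Finset.sum_congr rfl fun g _ => ?_
  rw [Finset.mul_sum]
  refine Finset.sum_congr rfl fun t _ => ?_
  simp [Fin.consEquiv, List.ofFn_succ, Fin.prod_univ_succ, eq_inv_mul_iff_mul_eq, mul_ite]

theorem cpow_one (f : G → ℂ) : cpow f 1 = f := by
  classical
  funext z
  simp only [cpow]
  rw [Finset.sum_eq_single fun _ => z]
  · simp
  · intro t _ ht
    rw [if_neg]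
    intro e
    simp at e
    exact ht (funext fun i => by rw [Subsingleton.elim i 0]; exact e)
  · simp

theorem cpow_shift {a : G → ℂ} (ha : Cfsg.IsClassFunction G a) (hidem : conv a a = a) (x : G)
    (n : ℕ) :
    cpow (fun z => a (z * x⁻¹)) (n + 1) = fun z => a (z * (x ^ (n + 1))⁻¹) := by
  induction n with
  | zero => rw [cpow_one]; simp
  | succ n ih =>
    rw [cpow_succ, ih]
    funext z
    have := congrFun hidem (z * (x ^ (n + 1 + 1))⁻¹)
    simp only [conv] at this ⊢
    rw [← this, ← Equiv.sum_comp (Equiv.mulRight x)]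
    refine Finset.sum_congr rfl fun k _ => ?_
    simp only [Equiv.coe_mulRight, mul_inv_cancel_right]
    congr 1
    have h2 := ha ((k * x)⁻¹ * z * (x ^ (n + 1))⁻¹) x
    rw [← h2]
    congr 1
    simp [pow_succ', mul_assoc]

theorem sum_classSum_cpow {q : ℕ} [NeZero q] (f : G → ℂ) (P : G → Prop) [DecidablePred P] :
    (∑ z, if P z then cpow f q z else 0) =
      ∑ t : Tup q G, if P (word t.val 0 q) then ∏ i, f (t.val i) else 0 := by
  classical
  simp only [cpow, ← Finset.sum_filter (p := P)]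
  rw [Finset.sum_comm]
  simp only [Finset.sum_ite_eq, Finset.mem_filter, Finset.mem_univ, true_and]
  let e : Fin q ≃ ZMod q :=
    ⟨fun i => (i.val : ZMod q), fun s => ⟨s.val, ZMod.val_lt s⟩,
      fun i => Fin.ext (ZMod.val_natCast_of_lt i.isLt), fun s => ZMod.natCast_zmod_val s⟩
  refine Fintype.sum_equiv ((Equiv.arrowCongr e (Equiv.refl G)).trans Tup.equiv.symm) _ _
    fun t => ?_
  have ht : ∀ i : Fin q, (Tup.equiv.symm (Equiv.arrowCongr e (Equiv.refl G) t)).val
      (i.val : ZMod q) = t i := fun i => congrArg t (e.symm_apply_apply i)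
  simp only [Equiv.trans_apply]
  refine if_congr ?_ ?_ rfl
  · rw [word, ← List.map_coe_finRange_eq_range, List.map_map, ← List.ofFn_eq_map]
    simp only [Function.comp_def, zero_add, ht]
  · exact Fintype.prod_equiv e _ _ fun i => congrArg f (ht i).symm

theorem classSum_shift_eq_zero (hM : Cfsg.IsPModular p M) {B : Set (Cfsg.IrrCharacter G)}
    (hB : Cfsg.IsPBlock M B) {x y : G} (hx : Cfsg.IsPRegular p x) (hy : ¬ Cfsg.IsPRegular p y)
    [DecidablePred (IsConj y)] :
    (∑ z, if IsConj y z then Cfsg.blockCoeff B (z * x⁻¹) else 0) = 0 := by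
  refine eq_zero_of_forall_dvdIn hM fun n => ?_
  set a := (Nat.card G).factorization p with ha
  set o := orderOf x with ho
  obtain ⟨N, hN, hN'⟩ : ∃ N, n + a ≤ N ∧ p ^ N ≡ 1 [MOD o] := by
    have h := Nat.ModEq.pow_totient ((hM.1.coprime_iff_not_dvd).2 hx : Nat.Coprime p o)
    refine ⟨o.totient * (n + a), Nat.le_mul_of_pos_left _
      (Nat.totient_pos.2 (orderOf_pos x)), ?_⟩
    simpa [pow_mul] using h.pow (n + a)
  have : NeZero (p ^ N) := ⟨pow_ne_zero _ hM.1.ne_zero⟩
  have h := dvdIn_sum_tuples hM.1 N a (localRing hM) (fun z => Cfsg.blockCoeff B (z * x⁻¹))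
    (fun g => memLocalRing_blockCoeff hM hB _) (IsConj y) (fun _ _ h h' => h'.trans h)
    (fun w hw => hy (isPRegular_of_isConj hw.symm (isPRegular_pow_ordProj hM.1 w)))
  rw [← sum_classSum_cpow (fun z => Cfsg.blockCoeff B (z * x⁻¹)) (IsConj y)] at h
  obtain ⟨k, hk⟩ := Nat.exists_eq_succ_of_ne_zero (pow_ne_zero N hM.1.ne_zero : p ^ N ≠ 0)
  have hxq : x ^ p ^ N = x := by
    conv_rhs => rw [← pow_one x]
    exact pow_eq_pow_iff_modEq.2 hN'
  rw [hk, cpow_shift (isClassFunction_blockCoeff B) (blockCoeff_conv B)] at h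
  simp only [show k + 1 = k.succ from rfl, ← hk, hxq] at h
  obtain ⟨c, hc, e⟩ := h
  exact ⟨(p : ℂ) ^ (N - a - n) * c,
    (localRing hM).mul_mem ((localRing hM).pow_mem (natCast_mem _ p) _) hc,
    by rw [e, ← mul_assoc, ← pow_add]; congr 2; omega⟩

/-- **Weak block orthogonality**: within a block, the columns at a p-regular and at a
p-singular element are orthogonal. -/
theorem sum_block_eq_zero (hM : Cfsg.IsPModular p M) {B : Set (Cfsg.IrrCharacter G)}
    [DecidablePred (· ∈ B)] (hB : Cfsg.IsPBlock M B) {x y : G} (hx : Cfsg.IsPRegular p x)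
    (hy : ¬ Cfsg.IsPRegular p y) :
    ∑ χ : Cfsg.IrrCharacter G,
      (if χ ∈ B then (χ : G → ℂ) x * conj ((χ : G → ℂ) y) else 0) = 0 := by
  classical
  set v : G → ℂ := fun z => Cfsg.blockCoeff B (z * x⁻¹) with hv
  have h0 : (∑ z, if IsConj y z then v z else 0) = 0 := classSum_shift_eq_zero hM hB hx hy
  have h1 : ((Finset.univ.filter (IsConj y)).card : ℂ) * (∑ k : G, v (k * y * k⁻¹)) = 0 := by
    have hk : ∀ k : G, (∑ z, if IsConj y z then v (k * z * k⁻¹) else 0) = 0 := fun k => by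
      refine Eq.trans ?_ h0
      refine Fintype.sum_equiv (MulAut.conj k).toEquiv _ _ fun z => ?_
      simp only [MulEquiv.toEquiv_eq_coe, MulEquiv.coe_toEquiv, MulAut.conj_apply]
      exact if_congr ⟨fun e => e.trans (isConj_iff.2 ⟨k, rfl⟩),
        fun e => e.trans (isConj_iff.2 ⟨k, rfl⟩).symm⟩ rfl rfl
    have hs := Finset.sum_eq_zero (fun k (_ : k ∈ (Finset.univ : Finset G)) => hk k)
    simp only [← Finset.sum_filter] at hs
    rw [Finset.sum_comm, Finset.sum_congr rfl (g := fun _ => ∑ k : G, v (k * y * k⁻¹)),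
      Finset.sum_const, nsmul_eq_mul] at hs
    · exact hs
    · intro z hz
      obtain ⟨c, rfl⟩ := isConj_iff.1 (Finset.mem_filter.1 hz).2
      refine Fintype.sum_equiv (Equiv.mulRight c) _ _ fun k => ?_
      simp [mul_assoc]
  have hne : ((Finset.univ.filter (IsConj y)).card : ℂ) ≠ 0 :=
    Nat.cast_ne_zero.2 (Finset.card_ne_zero.2 ⟨y, Finset.mem_filter.2 ⟨Finset.mem_univ y, IsConj.refl y⟩⟩)
  have h2 := (mul_eq_zero.1 h1).resolve_left hne
  have hG : (Nat.card G : ℂ) ≠ 0 := Nat.cast_ne_zero.2 Nat.card_pos.ne'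
  simp only [hv, blockCoeff_eq_sum B, ← Finset.mul_sum] at h2
  replace h2 := (mul_eq_zero.1 h2).resolve_left (inv_ne_zero hG)
  rw [Finset.sum_comm] at h2
  apply mul_left_cancel₀ hG
  rw [mul_zero, Finset.mul_sum]
  conv_rhs => rw [← h2]
  refine Finset.sum_congr rfl fun χ _ => ?_
  split_ifs with h
  · have e := congrArg (starRingEnd ℂ) (CharArith.classMult χ.2 y x⁻¹)
    rw [map_mul, map_mul, map_mul, map_sum, map_natCast,
      Char.IsChar.inv_eq_conj (Char.IsIrr.isCharacter χ.2) x, Complex.conj_conj] at e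
    obtain ⟨d, -, hd⟩ := Char.IsIrr.degree χ.2
    rw [hd, map_natCast, Finset.mul_sum] at e
    rw [hd, e]
    ring
  · simp

/-- The column form at a p-singular element on the left. -/
theorem sum_block_eq_zero' (hM : Cfsg.IsPModular p M) {B : Set (Cfsg.IrrCharacter G)}
    [DecidablePred (· ∈ B)] (hB : Cfsg.IsPBlock M B) {x y : G} (hx : Cfsg.IsPRegular p x)
    (hy : ¬ Cfsg.IsPRegular p y) :
    ∑ χ : Cfsg.IrrCharacter G,
      (if χ ∈ B then (χ : G → ℂ) y * conj ((χ : G → ℂ) x) else 0) = 0 := by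
  have h := congrArg (starRingEnd ℂ) (sum_block_eq_zero hM hB hx hy)
  rw [map_sum, map_zero] at h
  refine Eq.trans (Finset.sum_congr rfl fun χ _ => ?_) h
  split_ifs <;> simp [mul_comm]

/-- weak orthogonality at the identity -/
theorem sum_block_degree_mul_eq_zero (hM : Cfsg.IsPModular p M)
    {B : Set (Cfsg.IrrCharacter G)} [DecidablePred (· ∈ B)] (hB : Cfsg.IsPBlock M B) {y : G}
    (hy : ¬ Cfsg.IsPRegular p y) :
    ∑ χ : Cfsg.IrrCharacter G,
      (if χ ∈ B then (χ : G → ℂ) 1 * (χ : G → ℂ) y else 0) = 0 := by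
  have h1 : Cfsg.IsPRegular p (1 : G) := by simp [Cfsg.IsPRegular, hM.1.ne_one]
  refine Eq.trans (Finset.sum_congr rfl fun χ _ => ?_) (sum_block_eq_zero' hM hB h1 hy)
  obtain ⟨d, -, hd⟩ := Char.IsIrr.degree χ.2
  split_ifs <;> simp [hd, mul_comm]

omit [Fintype G] in
/-- Osima: the block idempotent is supported on the p-regular elements. -/
theorem blockCoeff_eq_zero [Finite G] (hM : Cfsg.IsPModular p M)
    {B : Set (Cfsg.IrrCharacter G)} (hB : Cfsg.IsPBlock M B) {y : G}
    (hy : ¬ Cfsg.IsPRegular p y) : Cfsg.blockCoeff B y = 0 := by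
  classical
  have := Fintype.ofFinite G
  have h1 : Cfsg.IsPRegular p (1 : G) := by simp [Cfsg.IsPRegular, hM.1.ne_one]
  rw [blockCoeff_eq_sum B, sum_block_eq_zero hM hB h1 hy, mul_zero]

end Cfsg.Agent.BlockChar
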