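import Cfsg.Agent.Char.Gen
import Cfsg.Agent.Char.Integral
import Mathlib.RingTheory.RootsOfUnity.Complex
import Mathlib.FieldTheory.Minpoly.IsIntegrallyClosed
import Mathlib.FieldTheory.IsAlgClosed.AlgebraicClosure

/-!
# Field embeddings acting on character values

An embedding of the algebraic numbers in `ℂ` sends `χ g` to `χ (g ^ k)` for a suitable `k`
prime to the group order, and a number fixed by all embeddings is rational.
-/

namespace Cfsg.Agent.BlockChar

open Cfsg.Agent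

universe u

/-- the algebraic numbers -/
noncomputable abbrev QBar : IntermediateField ℚ ℂ := algebraicClosure ℚ ℂ

theorem mem_qBar_of_isIntegral {z : ℂ} (h : IsIntegral ℤ z) : z ∈ QBar :=
  mem_algebraicClosure_iff.2 (h.tower_top : IsIntegral ℚ z).isAlgebraic

/-- on `n`-th roots of unity an embedding is a power map -/
theorem exists_powMap (ψ : QBar →ₐ[ℚ] ℂ) (n : ℕ) [NeZero n] :
    ∃ k : ℕ, k.Coprime n ∧ ∀ μ : QBar, μ ^ n = 1 → ψ μ = (μ : ℂ) ^ k := by
  have hz := Complex.isPrimitiveRoot_exp n (NeZero.ne n)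
  let ζ : QBar := ⟨_, mem_qBar_of_isIntegral (IsIntegral.of_pow (NeZero.pos n) (by rw [hz.pow_eq_one]; exact isIntegral_one))⟩
  have hζ : IsPrimitiveRoot ζ n :=
    IsPrimitiveRoot.of_map_of_injective (f := QBar.val) hz Subtype.coe_injective
  have hψ : IsPrimitiveRoot (ψ ζ) n := hζ.map_of_injective ψ.injective
  obtain ⟨k, -, hk⟩ := hz.eq_pow_of_pow_eq_one hψ.pow_eq_one
  refine ⟨k, ?_, fun μ hμ => ?_⟩
  · rw [← hk] at hψ
    exact (hz.pow_iff_coprime (NeZero.pos n) k).1 hψ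
  · obtain ⟨i, -, rfl⟩ := hζ.eq_pow_of_pow_eq_one hμ
    rw [map_pow, ← hk]
    show _ = ((ζ : ℂ) ^ i) ^ k
    rw [← pow_mul, ← pow_mul, Nat.mul_comm k i]

variable {G : Type u} [Group G]

/-- An embedding acts on all character values of `G` by one power map of the group. -/
theorem exists_pow_galois [Finite G] (ψ : QBar →ₐ[ℚ] ℂ) :
    ∃ k : ℕ, k.Coprime (Nat.card G) ∧ ∀ χ : G → ℂ, Cfsg.IsCharacter G χ →
      ∀ (g : G) (h : χ g ∈ QBar), ψ ⟨χ g, h⟩ = χ (g ^ k) := by
  have : NeZero (Nat.card G) := ⟨Nat.card_pos.ne'⟩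
  obtain ⟨k, hk, hpow⟩ := exists_powMap ψ (Nat.card G)
  refine ⟨k, hk, ?_⟩
  rintro _ ⟨n, ρ, rfl⟩ g h
  obtain ⟨μ, b, hb, hμ, hχ⟩ := Char.exists_eigenbasis ρ g
  have hμn : ∀ i, μ i ^ Nat.card G = 1 := fun i => by
    obtain ⟨c, hc⟩ := orderOf_dvd_natCard g
    rw [hc, pow_mul, hμ, one_pow]
  let μ' : _ → QBar := fun i => ⟨μ i, mem_qBar_of_isIntegral
    (IsIntegral.of_pow Nat.card_pos (by rw [hμn i]; exact isIntegral_one))⟩
  have e : (⟨ρ.character g, h⟩ : QBar) = ∑ i, μ' i := Subtype.ext (by simp [μ', hχ])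
  have hbk : ∀ m i, ρ (g ^ m) (b i) = μ i ^ m • b i := by
    intro m i
    induction m with
    | zero => simp
    | succ m ih =>
      rw [pow_succ', map_mul, Module.End.mul_apply, ih, map_smul, hb, smul_smul, pow_succ]
  rw [e, map_sum, show ρ.character (g ^ k) = ∑ i, μ i ^ k from
    Char.trace_eq_sum_of_eigenbasis _ b _ (hbk k)]
  exact Finset.sum_congr rfl fun i _ => hpow (μ' i) (Subtype.ext (by simpa [μ'] using hμn i))

/-- A number fixed by every embedding is rational. -/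
theorem exists_rat_of_fixed (z : QBar) (h : ∀ ψ : QBar →ₐ[ℚ] ℂ, ψ z = (z : ℂ)) :
    ∃ r : ℚ, (z : ℂ) = (r : ℂ) := by
  have : Algebra.IsAlgebraic ℚ QBar := algebraicClosure.isAlgebraic ℚ ℂ
  have hz : IsIntegral ℚ z := (Algebra.IsAlgebraic.isAlgebraic z).isIntegral
  have hroots : (minpoly ℚ z).rootSet ℂ ⊆ {(z : ℂ)} := by
    rw [← Algebra.IsAlgebraic.range_eval_eq_rootSet_minpoly (F := ℚ) (K := QBar) ℂ z]
    rintro _ ⟨ψ, rfl⟩
    exact h ψ
  have h1 : Fintype.card ((minpoly ℚ z).rootSet ℂ) = (minpoly ℚ z).natDegree :=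
    Polynomial.card_rootSet_eq_natDegree (minpoly.irreducible hz).separable (IsAlgClosed.splits _)
  have h2 : (minpoly ℚ z).natDegree ≤ 1 := by
    rw [← h1, ← Nat.card_eq_fintype_card, Nat.card_coe_set_eq]
    exact (Set.ncard_le_ncard hroots).trans (Set.ncard_singleton _).le
  obtain ⟨r, hr⟩ := minpoly.natDegree_eq_one_iff.1
    (le_antisymm h2 (minpoly.natDegree_pos hz))
  exact ⟨r, by rw [← hr]; simp⟩

/-- A sum of products of character values over a set stable under coprime powers that is an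
algebraic integer is a rational integer. -/
theorem exists_int_of_galois_fixed {z : ℂ} (hz : IsIntegral ℤ z)
    (h : ∀ ψ : QBar →ₐ[ℚ] ℂ, ψ ⟨z, mem_qBar_of_isIntegral hz⟩ = z) : ∃ m : ℤ, z = (m : ℂ) := by
  obtain ⟨r, hr⟩ := exists_rat_of_fixed ⟨z, mem_qBar_of_isIntegral hz⟩ h
  have hr' : z = (r : ℂ) := hr
  obtain ⟨m, hm⟩ := Char.exists_int_of_isIntegral_rat (q := r) (hr' ▸ hz)
  exact ⟨m, by rw [hr', ← hm]; simp⟩

end Cfsg.Agent.BlockChar
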