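import Cfsg.Prelude.Def_Characters
import Mathlib.Analysis.InnerProductSpace.PiL2
import Mathlib.RepresentationTheory.Invariants
import Mathlib.GroupTheory.Subgroup.Simple
import Mathlib.Analysis.Complex.Basic

/-!
Blichfeldt: in a simple linear group no element has an eigenvalue at distance less than one from
all the others (unless the fixed space of the group is non-zero or the element is central).
-/

set_option autoImplicit false

namespace Cfsg.Agent.BlockChar

open Module

universe u

/-- Pairwise orthogonal vectors: Pythagoras. -/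
theorem norm_sum_sq_of_orth {S ι : Type*} [NormedAddCommGroup S] [InnerProductSpace ℂ S]
    (T : Finset ι) (f : ι → S)
    (h : ∀ c ∈ T, ∀ d ∈ T, c ≠ d → (inner ℂ (f c) (f d) : ℂ) = 0) :
    ‖∑ c ∈ T, f c‖ ^ 2 = ∑ c ∈ T, ‖f c‖ ^ 2 := by
  classical
  induction T using Finset.induction_on with
  | empty => simp
  | insert a s ha ih =>
    rw [Finset.sum_insert ha, Finset.sum_insert ha]
    have h0 : (inner ℂ (f a) (∑ c ∈ s, f c) : ℂ) = 0 := by
      rw [inner_sum]
      exact Finset.sum_eq_zero fun c hc =>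
        h a (Finset.mem_insert_self _ _) c (Finset.mem_insert_of_mem hc) fun e => ha (e ▸ hc)
    rw [pow_two, norm_add_sq_eq_norm_sq_add_norm_sq_of_inner_eq_zero _ _ h0,
      ← ih fun c hc d hd => h c (Finset.mem_insert_of_mem hc) d (Finset.mem_insert_of_mem hd)]
    ring

/-- An inner product space model on which the representation acts by isometries. -/
theorem exists_isometric_model {G : Type u} [Group G] [Finite G] {m : ℕ}
    (ρ : Representation ℂ G (Fin m → ℂ)) :
    ∃ (S : Type u) (_ : NormedAddCommGroup S) (_ : InnerProductSpace ℂ S)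
      (e : (Fin m → ℂ) ≃ₗ[ℂ] S), ∀ g w, ‖e (ρ g w)‖ = ‖e w‖ := by
  classical
  cases nonempty_fintype G
  let Φ : (Fin m → ℂ) →ₗ[ℂ] EuclideanSpace ℂ (G × Fin m) :=
    { toFun := fun v => WithLp.toLp 2 fun p => ρ p.1 v p.2
      map_add' := fun a b => by ext p; simp
      map_smul' := fun c a => by ext p; simp }
  have hΦ : Function.Injective Φ := fun a b h => funext fun i => by
    have := congrArg (fun w : EuclideanSpace ℂ (G × Fin m) => w.ofLp (1, i)) h
    simpa [Φ] using this
  refine ⟨LinearMap.range Φ, inferInstance, inferInstance, LinearEquiv.ofInjective Φ hΦ,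
    fun g w => ?_⟩
  change ‖Φ (ρ g w)‖ = ‖Φ w‖
  rw [EuclideanSpace.norm_eq, EuclideanSpace.norm_eq]
  congr 1
  refine Fintype.sum_equiv ((Equiv.mulRight g).prodCongr (Equiv.refl _)) _ _ fun p => ?_
  simp [Φ]

theorem blichfeldt_sixty {G : Type*} [Group G] [Finite G] [IsSimpleGroup G] {m : ℕ}
    (ρ : Representation ℂ G (Fin m → ℂ))
    (htriv : ∀ v : Fin m → ℂ, (∀ g, ρ g v = v) → v = 0)
    {x : G} (hxc : x ∉ Subgroup.center G) {ι : Type*} [Fintype ι] (b : Basis ι ℂ (Fin m → ℂ))
    (μ : ι → ℂ) (hb : ∀ i, ρ x (b i) = μ i • b i) (i₀ : ι)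
    (hnear : ∀ i, ‖μ i - μ i₀‖ < 1) : False := by
  classical
  cases nonempty_fintype G
  -- unitary model
  obtain ⟨S, instS, instI, e, he⟩ := exists_isometric_model ρ
  let L : G → Module.End ℂ S := fun g => e.conj (ρ g)
  have hL : ∀ g w, L g (e w) = e (ρ g w) := fun g w => by simp [L, LinearEquiv.conj_apply]
  have hmul : ∀ g h v, L (g * h) v = L g (L h v) := fun g h v => by
    obtain ⟨w, rfl⟩ := e.surjective v
    rw [hL, hL, hL, map_mul, Module.End.mul_apply]
  have hone : ∀ v, L 1 v = v := fun v => by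
    obtain ⟨w, rfl⟩ := e.surjective v
    rw [hL, map_one, Module.End.one_apply]
  have hinv : ∀ g v, L g⁻¹ (L g v) = v := fun g v => by rw [← hmul, inv_mul_cancel, hone]
  have hinv' : ∀ g v, L g (L g⁻¹ v) = v := fun g v => by rw [← hmul, mul_inv_cancel, hone]
  have hiso : ∀ g v, ‖L g v‖ = ‖v‖ := fun g v => by
    obtain ⟨w, rfl⟩ := e.surjective v
    rw [hL]
    exact he g w
  have hinner : ∀ g u v, (inner ℂ (L g u) (L g v) : ℂ) = inner ℂ u v := fun g u v =>
    ({ toLinearMap := L g, norm_map' := hiso g } : S →ₗᵢ[ℂ] S).inner_map_map u v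
  set ε := μ i₀ with hε
  have hμ1 : ∀ i, ‖μ i‖ = 1 := fun i => by
    have h1 := hiso x (e (b i))
    rw [hL, hb, map_smul, norm_smul] at h1
    refine mul_right_cancel₀ (norm_ne_zero_iff.2 fun h => b.ne_zero i ?_) (h1.trans (one_mul _).symm)
    exact e.map_eq_zero_iff.1 h
  have hεn : ‖ε‖ = 1 := hμ1 i₀
  have hε0 : ε ≠ 0 := fun h => by rw [h, norm_zero] at hεn; exact zero_ne_one hεn
  haveI : Nonempty ι := ⟨i₀⟩
  obtain ⟨j, hj⟩ := Finite.exists_max fun i => ‖μ i - ε‖
  set r := ‖μ j - ε‖ with hr
  have hr0 : 0 ≤ r := norm_nonneg _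
  have hr1 : r < 1 := hnear j
  -- the operator norm bound
  have hbound : ∀ v, ‖L x v - ε • v‖ ≤ r * ‖v‖ := by
    intro v
    obtain ⟨f, hf⟩ : ∃ f : ℂ → S, ∀ c,
        f c = ∑ i ∈ Finset.univ.filter (fun i => μ i = c), (b.repr (e.symm v) i) • e (b i) :=
      ⟨_, fun c => rfl⟩
    have hfc : ∀ c, L x (f c) = c • f c := fun c => by
      rw [hf, map_sum, Finset.smul_sum]
      refine Finset.sum_congr rfl fun i hi => ?_
      rw [map_smul, hL, hb, map_smul, (Finset.mem_filter.1 hi).2, smul_comm]
    have hv : v = ∑ c ∈ Finset.univ.image μ, f c := by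
      rw [Finset.sum_congr rfl fun c _ => hf c,
        Finset.sum_fiberwise_of_maps_to (fun i hi => Finset.mem_image_of_mem μ hi)]
      conv_lhs => rw [← e.apply_symm_apply v, ← b.sum_repr (e.symm v), map_sum]
      simp only [map_smul]
    have horth : ∀ c ∈ Finset.univ.image μ, ∀ d ∈ Finset.univ.image μ, c ≠ d →
        (inner ℂ (f c) (f d) : ℂ) = 0 := by
      intro c hc d _ hcd
      by_contra hne
      have h1 := hinner x (f c) (f d)
      rw [hfc, hfc, inner_smul_left, inner_smul_right, ← mul_assoc] at h1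
      have h2 : (starRingEnd ℂ) c * d = 1 := mul_right_cancel₀ hne (h1.trans (one_mul _).symm)
      obtain ⟨i, -, rfl⟩ := Finset.mem_image.1 hc
      have h3 : (starRingEnd ℂ) (μ i) * μ i = 1 := by rw [Complex.conj_mul', hμ1 i]; simp
      exact hcd (by linear_combination d * h3 - μ i * h2)
    have hd : L x v - ε • v = ∑ c ∈ Finset.univ.image μ, (c - ε) • f c := by
      conv_lhs => rw [hv]
      rw [map_sum, Finset.smul_sum, ← Finset.sum_sub_distrib]
      exact Finset.sum_congr rfl fun c _ => by rw [hfc, sub_smul]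
    refine (sq_le_sq₀ (norm_nonneg _) (by positivity)).1 ?_
    rw [hd, norm_sum_sq_of_orth _ _ fun c hc d hd hcd => by
      rw [inner_smul_left, inner_smul_right, horth c hc d hd hcd, mul_zero, mul_zero], mul_pow]
    conv_rhs => rw [hv, norm_sum_sq_of_orth _ _ horth, Finset.mul_sum]
    refine Finset.sum_le_sum fun c hc => ?_
    rw [norm_smul, mul_pow]
    obtain ⟨i, -, rfl⟩ := Finset.mem_image.1 hc
    gcongr
    exact hj i
  have hboundc : ∀ g v, ‖L (g * x * g⁻¹) v - ε • v‖ ≤ r * ‖v‖ := by
    intro g v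
    have h1 : L (g * x * g⁻¹) v - ε • v = L g (L x (L g⁻¹ v) - ε • L g⁻¹ v) := by
      rw [map_sub, map_smul, hinv', hmul, hmul]
    rw [h1, hiso, ← hiso g⁻¹ v]
    exact hbound _
  -- every conjugate of `x` preserves the `ε`-eigenspace
  have hpres : ∀ g v, L x v = ε • v → L x (L (g * x * g⁻¹)⁻¹ v) = ε • L (g * x * g⁻¹)⁻¹ v := by
    intro g
    obtain ⟨U, hU0, hU⟩ : ∃ U : ℕ → G, U 0 = g * x * g⁻¹ ∧
        ∀ k, U (k + 1) = U k * x * (U k)⁻¹ :=
      ⟨fun k => (fun u => u * x * u⁻¹)^[k] (g * x * g⁻¹), rfl,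
        fun k => Function.iterate_succ_apply' _ _ _⟩
    have hconj : ∀ k, ∃ w, U k = w * x * w⁻¹ := fun k => by
      cases k with
      | zero => exact ⟨g, hU0⟩
      | succ k => exact ⟨U k, hU k⟩
    have hub : ∀ k v, ‖L (U k) v - ε • v‖ ≤ r * ‖v‖ := fun k v => by
      obtain ⟨w, hw⟩ := hconj k
      rw [hw]
      exact hboundc w v
    have hstep : ∀ k v, L x v = ε • v →
        L (U (k + 1)) (ε⁻¹ • L (U k) v) = ε • (ε⁻¹ • L (U k) v) ∧
        ‖v - ε⁻¹ • L (U k) v‖ = ‖L (U k) v - ε • v‖ := fun k v hv => by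
      refine ⟨?_, ?_⟩
      · rw [map_smul, hU, hmul, hinv, hmul, hv, map_smul, smul_comm]
      · have h1 : v - ε⁻¹ • L (U k) v = (-ε⁻¹) • (L (U k) v - ε • v) := by
          rw [smul_sub, smul_smul, neg_mul, inv_mul_cancel₀ hε0]
          module
        rw [h1, norm_smul, norm_neg, norm_inv, hεn, inv_one, one_mul]
    have hQ : ∀ k v, L x v = ε • v →
        ∃ a, L (U (k + 1)) a = ε • a ∧ ‖v - a‖ ≤ r ^ (k + 1) * ‖v‖ := by
      intro k
      induction k with
      | zero =>
        intro v hv
        obtain ⟨h1, h2⟩ := hstep 0 v hv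
        refine ⟨_, h1, ?_⟩
        rw [h2, pow_one]
        exact hub 0 v
      | succ k ih =>
        intro v hv
        obtain ⟨a, ha, hva⟩ := ih v hv
        obtain ⟨h1, h2⟩ := hstep (k + 1) v hv
        refine ⟨_, h1, ?_⟩
        have h3 : L (U (k + 1)) v - ε • v = L (U (k + 1)) (v - a) - ε • (v - a) := by
          rw [map_sub, ha, smul_sub]; abel
        rw [h2, h3, pow_succ' r (k + 1), mul_assoc]
        exact (hub _ _).trans (mul_le_mul_of_nonneg_left hva hr0)
    -- periodicity gives a fixed point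
    have hZ : ∃ k, ∀ v, L x v = ε • v → L (U (k + 1)) v = ε • v := by
      obtain ⟨a, c, hac, he⟩ := Finite.exists_ne_map_eq_of_infinite fun k => U (k + 1)
      obtain ⟨k, l, hl, he⟩ : ∃ k l, 0 < l ∧ U (k + 1) = U (k + l + 1) := by
        rcases Nat.lt_or_gt_of_ne hac with h | h
        · exact ⟨a, c - a, by omega, by rw [Nat.add_sub_cancel' h.le]; exact he⟩
        · exact ⟨c, a - c, by omega, by rw [Nat.add_sub_cancel' h.le]; exact he.symm⟩
      have hper : ∀ s t, U (k + s + 1) = U (k + t * l + s + 1) := by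
        intro s
        induction s with
        | zero =>
          intro t
          induction t with
          | zero => simp
          | succ t iht =>
            have h : ∀ d, U (k + d + 1) = U (k + l + d + 1) := by
              intro d
              induction d with
              | zero => simpa using he
              | succ d ihd =>
                rw [← add_assoc k d 1, ← add_assoc (k + l) d 1, hU (k + d + 1),
                  hU (k + l + d + 1), ihd]
            rw [iht, show k + t * l + 0 + 1 = k + t * l + 1 by ring, h (t * l)]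
            congr 1
            ring
        | succ s ih =>
          intro t
          rw [← add_assoc k s 1, ← add_assoc (k + t * l) s 1, hU, ih t, ← hU]
      refine ⟨k, fun v hv => ?_⟩
      rw [← sub_eq_zero, ← norm_le_zero_iff]
      refine le_of_forall_pos_le_add fun δ hδ => ?_
      rw [zero_add]
      rcases eq_or_ne v 0 with rfl | hv0
      · simpa using hδ.le
      obtain ⟨t, ht⟩ := exists_pow_lt_of_lt_one (div_pos hδ (norm_pos_iff.2 hv0)) hr1
      obtain ⟨a, ha, hva⟩ := hQ (k + t * l) v hv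
      rw [show U (k + t * l + 1) = U (k + 1) from (hper 0 t).symm] at ha
      have h3 : L (U (k + 1)) v - ε • v = L (U (k + 1)) (v - a) - ε • (v - a) := by
        rw [map_sub, ha, smul_sub]; abel
      have htl : r ^ (k + t * l + 1) ≤ r ^ t :=
        pow_le_pow_of_le_one hr0 hr1.le (by nlinarith)
      rw [lt_div_iff₀ (norm_pos_iff.2 hv0)] at ht
      rw [h3]
      refine (hub _ _).trans ((mul_le_of_le_one_left (norm_nonneg _) hr1.le).trans ?_)
      exact hva.trans ((mul_le_mul_of_nonneg_right htl (norm_nonneg v)).trans ht.le)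
    -- backwards
    have hback : ∀ u v, (∀ v, L x v = ε • v → L (u * x * u⁻¹) v = ε • v) → L x v = ε • v →
        L x (L u⁻¹ v) = ε • L u⁻¹ v := fun u v hu hv => by
      have h1 := congrArg (L u⁻¹) (hu v hv)
      rw [hmul, hmul, hinv, map_smul] at h1
      exact h1
    -- a set of elements preserving the eigenspace is closed under inverses
    have hpow : ∀ u, (∀ v, L x v = ε • v → L x (L u v) = ε • L u v) →
        ∀ v, L x v = ε • v → L x (L u⁻¹ v) = ε • L u⁻¹ v := by
      intro u hu
      have h1 : ∀ (n : ℕ) v, L x v = ε • v → L x (L (u ^ n) v) = ε • L (u ^ n) v := by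
        intro n
        induction n with
        | zero => intro v hv; rw [pow_zero, hone]; exact hv
        | succ n ih => intro v hv; rw [pow_succ', hmul]; exact hu _ (ih v hv)
      obtain ⟨n, hn⟩ : u⁻¹ ∈ Submonoid.powers u :=
        mem_powers_iff_mem_zpowers.2 ⟨-1, zpow_neg_one u⟩
      intro v hv
      rw [← hn]
      exact h1 n v hv
    have hdown : ∀ j, (∀ v, L x v = ε • v → L (U (j + 1)) v = ε • v) →
        ∀ v, L x v = ε • v → L x (L (U j)⁻¹ v) = ε • L (U j)⁻¹ v := fun j hj v hv =>
      hback (U j) v (fun v hv => by rw [← hU]; exact hj v hv) hv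
    have hdesc : ∀ j, (∀ v, L x v = ε • v → L (U (j + 1 + 1)) v = ε • v) →
        ∀ v, L x v = ε • v → L (U (j + 1)) v = ε • v := by
      intro j hj v hv
      have h1 := hdown (j + 1) hj
      have hp : L x (L (U (j + 1)) v) = ε • L (U (j + 1)) v := by
        have := hpow (U (j + 1))⁻¹ h1 v hv
        rwa [inv_inv] at this
      set w := L (U (j + 1)) v - ε • v with hw
      have hwE : L x w = ε • w := by rw [hw, map_sub, map_smul, hp, hv, smul_sub]
      obtain ⟨a, ha, hwa⟩ := hQ j w hwE
      have hperp : (inner ℂ a w : ℂ) = 0 := by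
        have h2 := hinner (U (j + 1)) a v
        rw [ha, inner_smul_left] at h2
        rw [hw, inner_sub_right, inner_smul_right]
        have h3 : (starRingEnd ℂ) ε * ε = 1 := by rw [Complex.conj_mul', hεn]; simp
        linear_combination ε * h2 - (inner ℂ a (L (U (j + 1)) v) : ℂ) * h3
      have h4 : ‖w - a‖ ^ 2 = ‖w‖ ^ 2 + ‖a‖ ^ 2 := by
        rw [norm_sub_sq (𝕜 := ℂ), inner_eq_zero_symm.1 hperp]
        simp
      have h5 : r ^ (j + 1) ≤ r := pow_le_of_le_one hr0 hr1.le (by omega)
      have h6 : ‖w‖ = 0 := by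
        by_contra hne
        have h7 : ‖w - a‖ < ‖w‖ := (hwa.trans (mul_le_mul_of_nonneg_right h5 (norm_nonneg w))).trans_lt
          (mul_lt_of_lt_one_left (lt_of_le_of_ne (norm_nonneg w) (Ne.symm hne)) hr1)
        nlinarith [norm_nonneg (w - a), sq_nonneg ‖a‖]
      rwa [hw, norm_eq_zero, sub_eq_zero] at h6
    obtain ⟨k, hk⟩ := hZ
    have h1 : ∀ v, L x v = ε • v → L (U 1) v = ε • v := by
      revert hk
      induction k with
      | zero => exact id
      | succ k ih => exact fun hk => ih (hdesc k hk)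
    intro v hv
    rw [← hU0]
    exact hdown 0 h1 v hv
  -- hence the whole group does
  have hG : ∀ g v, L x v = ε • v → L x (L g v) = ε • L g v := by
    let H : Subgroup G :=
      { carrier := {g | (∀ v, L x v = ε • v → L x (L g v) = ε • L g v) ∧
          ∀ v, L x v = ε • v → L x (L g⁻¹ v) = ε • L g⁻¹ v}
        mul_mem' := fun {a c} ha hc => ⟨fun v hv => by rw [hmul]; exact ha.1 _ (hc.1 v hv),
          fun v hv => by rw [mul_inv_rev, hmul]; exact hc.2 _ (ha.2 v hv)⟩
        one_mem' := ⟨fun v hv => by rw [hone]; exact hv, fun v hv => by rw [inv_one, hone]; exact hv⟩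
        inv_mem' := fun {a} ha => ⟨ha.2, by rw [inv_inv]; exact ha.1⟩ }
    have hmem : ∀ g, (g * x * g⁻¹)⁻¹ ∈ H := by
      intro g
      refine ⟨hpres g, ?_⟩
      rw [inv_inv]
      have h1 : ∀ (n : ℕ) v, L x v = ε • v →
          L x (L (((g * x * g⁻¹)⁻¹) ^ n) v) = ε • L (((g * x * g⁻¹)⁻¹) ^ n) v := by
        intro n
        induction n with
        | zero => intro v hv; rw [pow_zero, hone]; exact hv
        | succ n ih => intro v hv; rw [pow_succ', hmul]; exact hpres g _ (ih v hv)
      obtain ⟨n, hn⟩ : g * x * g⁻¹ ∈ Submonoid.powers (g * x * g⁻¹)⁻¹ :=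
        mem_powers_iff_mem_zpowers.2 ⟨-1, by simp⟩
      intro v hv
      rw [← hn]
      exact h1 n v hv
    have hle : Subgroup.normalClosure ({x} : Set G) ≤ H := by
      refine (Subgroup.closure_le _).2 fun y hy => ?_
      obtain ⟨z, hz, hzy⟩ := Group.mem_conjugatesOfSet_iff.1 hy
      rw [Set.mem_singleton_iff] at hz
      subst hz
      obtain ⟨g, rfl⟩ := isConj_iff.1 hzy
      exact inv_inv (g * z * g⁻¹) ▸ H.inv_mem (hmem g)
    have htop : Subgroup.normalClosure ({x} : Set G) = ⊤ :=
      (Subgroup.normalClosure_normal.eq_bot_or_eq_top).resolve_left fun h => hxc (by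
        have := Subgroup.subset_normalClosure (s := ({x} : Set G)) rfl
        rw [h] at this
        rw [Subgroup.mem_bot.1 this]
        exact one_mem _)
    exact fun g => ((htop ▸ hle) (Subgroup.mem_top g)).1
  -- so it is fixed by the whole group
  let K : Subgroup G :=
    { carrier := {g | ∀ v, L x v = ε • v → L g v = v}
      mul_mem' := fun {a c} ha hc v hv => by rw [hmul, hc v hv, ha v hv]
      one_mem' := fun v _ => hone v
      inv_mem' := fun {a} ha v hv => by
        conv_lhs => rw [← ha v hv]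
        exact hinv a v }
  have hKn : K.Normal := ⟨fun a ha g v hv => by
    rw [hmul, hmul, ha _ (hG _ v hv), hinv']⟩
  have hcm : ∀ g, g * x * g⁻¹ * x⁻¹ ∈ K := fun g v hv => by
    have h1 : L x⁻¹ v = ε⁻¹ • v := by
      have h2 := congrArg (L x⁻¹) hv
      rw [hinv, map_smul] at h2
      conv_rhs => rw [h2]
      rw [inv_smul_smul₀ hε0]
    rw [hmul, h1, map_smul, hmul, hmul, hG _ v hv, map_smul, hinv', inv_smul_smul₀ hε0]
  have hKtop : K = ⊤ := (hKn.eq_bot_or_eq_top).resolve_left fun h => hxc (by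
    refine Subgroup.mem_center_iff.2 fun g => ?_
    have := hcm g
    rw [h, Subgroup.mem_bot, mul_inv_eq_one, mul_inv_eq_iff_eq_mul] at this
    exact this)
  refine b.ne_zero i₀ (htriv _ fun g => e.injective ?_)
  rw [← hL]
  exact (hKtop ▸ Subgroup.mem_top g : g ∈ K) _ (by rw [hL, hb, map_smul])

end Cfsg.Agent.BlockChar
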