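import Cfsg.Agent.Char.Gen
import Cfsg.Agent.Blocks.PPart
import Mathlib.LinearAlgebra.Trace
import Mathlib.LinearAlgebra.Matrix.Basis
import Mathlib.LinearAlgebra.Projection
import Mathlib.RingTheory.IntegralClosure.IsIntegral.Basic
import Mathlib.Data.ZMod.Basic

/-!
# Means of character values that are algebraic integers

The mean of `g ↦ χ (g ^ q)` over the group is an algebraic integer (the trace of a cyclic shift
on the invariants of a tensor power), and the mean of `u ↦ χ (g u)` over a subgroup centralized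
by `g` is one.
-/

namespace Cfsg.Agent.BlockChar

open Cfsg.Agent
open scoped ComplexConjugate

universe u v

/-- The trace of the product of a commuting idempotent and endomorphism of finite order is an
algebraic integer. -/
theorem isIntegral_trace_mul {V : Type v} [AddCommGroup V] [Module ℂ V] [FiniteDimensional ℂ V]
    (A T : Module.End ℂ V) {n : ℕ} (hn : n ≠ 0) (hA : A ^ n = 1) (hT : T * T = T)
    (hAT : Commute A T) : IsIntegral ℤ (LinearMap.trace ℂ V (A * T)) := by
  have hE : ∀ k : ℕ, (A * T + (1 - T)) ^ k = A ^ k * T + (1 - T) := by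
    intro k
    induction k with
    | zero => simp
    | succ k ih =>
      rw [pow_succ, ih, add_mul, mul_add, mul_add, pow_succ]
      have h1 : A ^ k * T * (A * T) = A ^ k * A * T := by
        rw [mul_assoc, ← mul_assoc T A T, ← hAT.eq, mul_assoc A T T, hT, ← mul_assoc]
      have h2 : A ^ k * T * (1 - T) = 0 := by rw [mul_assoc, mul_sub, mul_one, hT, sub_self, mul_zero]
      have h3 : (1 - T) * (A * T) = 0 := by
        rw [sub_mul, one_mul, ← mul_assoc, ← hAT.eq, mul_assoc, hT, sub_self]
      have h4 : (1 - T) * (1 - T) = 1 - T := by rw [sub_mul, one_mul, mul_sub, mul_one, hT, sub_self, sub_zero]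
      rw [h1, h2, h3, h4]
      abel
  obtain ⟨μ, b, hb, hμ⟩ := Char.exists_eigenbasis_of_pow_eq_one (A * T + (1 - T)) hn
    (by rw [hE, hA, one_mul, add_sub_cancel])
  have h := Char.trace_eq_sum_of_eigenbasis _ b μ hb
  have hTp : LinearMap.IsProj (LinearMap.range T) T := by
    refine ⟨fun x => LinearMap.mem_range_self T x, fun x hx => ?_⟩
    obtain ⟨y, rfl⟩ := hx
    rw [← Module.End.mul_apply, hT]
  rw [map_add, map_sub, LinearMap.trace_one, hTp.trace] at h
  have e : LinearMap.trace ℂ V (A * T) = ∑ i, μ i -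
      ((Module.finrank ℂ V : ℂ) - (Module.finrank ℂ (LinearMap.range T) : ℂ)) := by
    rw [← h]; ring
  rw [e]
  exact (IsIntegral.sum _ fun i _ => IsIntegral.of_pow (Nat.pos_of_ne_zero hn)
    ((hμ i).symm ▸ isIntegral_one)).sub ((isIntegral_algebraMap (x := (Module.finrank ℂ V : ℤ))).sub
      (isIntegral_algebraMap (x := (Module.finrank ℂ (LinearMap.range T) : ℤ))))

section Tensor

variable {q : ℕ} [NeZero q] {α β γ : Type}

/-- the `q`-th tensor power of a matrix -/
def tPow (q : ℕ) [NeZero q] (A : Matrix α β ℂ) : Matrix (ZMod q → α) (ZMod q → β) ℂ :=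
  fun i j => ∏ k, A (i k) (j k)

/-- the cyclic shift of the tensor factors -/
def shiftMat (q : ℕ) [NeZero q] (α : Type) [DecidableEq α] :
    Matrix (ZMod q → α) (ZMod q → α) ℂ :=
  fun i j => if (fun k => i (k + 1)) = j then 1 else 0

theorem tPow_mul [Fintype β] (A : Matrix α β ℂ) (B : Matrix β γ ℂ) :
    tPow q (A * B) = tPow q A * tPow q B := by
  classical
  ext i j
  simp only [tPow, Matrix.mul_apply, Finset.prod_univ_sum, Fintype.piFinset_univ,
    ← Finset.prod_mul_distrib]

theorem tPow_one [DecidableEq α] : tPow q (1 : Matrix α α ℂ) = 1 := by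
  classical
  ext i j
  simp only [tPow, Matrix.one_apply, funext_iff]
  split_ifs with h
  · exact Finset.prod_eq_one fun k _ => if_pos (h k)
  · obtain ⟨k, hk⟩ := not_forall.1 h
    exact Finset.prod_eq_zero (Finset.mem_univ k) (if_neg hk)

theorem shiftMat_mul [DecidableEq α] [Fintype α] (M : Matrix (ZMod q → α) (ZMod q → β) ℂ)
    (i : ZMod q → α) (j : ZMod q → β) :
    (shiftMat q α * M) i j = M (fun k => i (k + 1)) j := by
  simp [Matrix.mul_apply, shiftMat]

theorem shiftMat_tPow [DecidableEq α] [Fintype α] [DecidableEq β] [Fintype β] (A : Matrix α β ℂ) :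
    shiftMat q α * tPow q A = tPow q A * shiftMat q β := by
  classical
  ext i j
  rw [shiftMat_mul, Matrix.mul_apply, Finset.sum_eq_single fun k => j (k + -1)]
  · have e : (fun k : ZMod q => (fun k => j (k + -1)) (k + 1)) = j := by
      funext k; simp
    rw [shiftMat, if_pos e, mul_one]
    exact Fintype.prod_equiv (Equiv.addRight (1 : ZMod q)) _ _ fun k => by simp
  · intro l _ hl
    rw [shiftMat, if_neg, mul_zero]
    rintro rfl
    exact hl (funext fun k => by simp)
  · simp

theorem shiftMat_pow [DecidableEq α] [Fintype α] : shiftMat q α ^ q = 1 := by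
  have h : ∀ m : ℕ, ∀ i j, (shiftMat q α ^ m) i j =
      if (fun k => i (k + (m : ZMod q))) = j then 1 else 0 := by
    intro m
    induction m with
    | zero => intro i j; simp [Matrix.one_apply]
    | succ m ih =>
      intro i j
      rw [pow_succ', shiftMat_mul, ih]
      simp [add_assoc, add_comm (1 : ZMod q)]
  ext i j
  simp [h, Matrix.one_apply]

theorem trace_shift_diagonal [DecidableEq α] [Fintype α] (μ : α → ℂ) :
    (shiftMat q α * tPow q (Matrix.diagonal μ)).trace = ∑ a, μ a ^ q := by
  classical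
  simp only [Matrix.trace, Matrix.diag, shiftMat_mul, tPow]
  refine (Finset.sum_of_injOn (fun (a : α) (_ : ZMod q) => a) ?_ ?_ ?_ ?_).symm
  · intro a _ b _ e
    exact congrFun e 0
  · simp
  · intro i _ hi
    by_contra hne
    rw [← ne_eq, Finset.prod_ne_zero_iff] at hne
    refine hi ⟨i 0, by simp, funext fun s => ?_⟩
    suffices ∀ m : ℕ, i (m : ZMod q) = i 0 by simpa using (this s.val).symm
    intro m
    induction m with
    | zero => simp
    | succ m ih =>
      have := hne (m : ZMod q) (Finset.mem_univ _)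
      rw [Nat.cast_succ, ← ih]
      by_contra h
      exact this (Matrix.diagonal_apply_ne _ h)
  · intro a _
    simp

end Tensor

variable {G : Type u} [Group G]

theorem trace_shift_rep [Finite G] {d q : ℕ} [NeZero q]
    (ρ : Representation ℂ G (Fin d → ℂ)) (g : G) :
    (shiftMat q (Fin d) * tPow q (LinearMap.toMatrix' (ρ g))).trace = ρ.character (g ^ q) := by
  classical
  obtain ⟨μ, b, hb, -, -⟩ := Char.exists_eigenbasis ρ g
  have hpow : ∀ m i, ρ (g ^ m) (b i) = μ i ^ m • b i := by
    intro m i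
    induction m with
    | zero => simp
    | succ m ih => rw [pow_succ', map_mul, Module.End.mul_apply, ih, map_smul, hb, smul_smul, pow_succ]
  rw [show ρ.character (g ^ q) = ∑ i, μ i ^ q from
    Char.trace_eq_sum_of_eigenbasis _ b _ (hpow q)]
  let e := Pi.basisFun ℂ (Fin d)
  have hD : LinearMap.toMatrix b b (ρ g) = Matrix.diagonal μ := by
    ext i j
    rw [LinearMap.toMatrix_apply, hb, map_smul, b.repr_self]
    by_cases h : i = j
    · subst h; simp
    · simp [Matrix.diagonal_apply_ne _ h, h, Ne.symm h]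
  have hA : LinearMap.toMatrix' (ρ g) = e.toMatrix b * Matrix.diagonal μ * b.toMatrix e := by
    rw [← hD, basis_toMatrix_mul_linearMap_toMatrix_mul_basis_toMatrix,
      LinearMap.toMatrix_eq_toMatrix']
  rw [hA, tPow_mul, tPow_mul, ← Matrix.mul_assoc, Matrix.trace_mul_comm, ← Matrix.mul_assoc,
    ← shiftMat_tPow, Matrix.mul_assoc, ← Matrix.mul_assoc (tPow q (b.toMatrix e)), ← tPow_mul,
    Module.Basis.toMatrix_mul_toMatrix_flip, tPow_one, Matrix.one_mul, trace_shift_diagonal]

/-- The mean of `g ↦ χ (g ^ q)` is an algebraic integer. -/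
theorem isIntegral_mean_pow [Fintype G] {χ : G → ℂ} (hχ : Cfsg.IsCharacter G χ) {q : ℕ}
    (hq : q ≠ 0) : IsIntegral ℤ ((Nat.card G : ℂ)⁻¹ * ∑ g : G, χ (g ^ q)) := by
  classical
  obtain ⟨d, ρ, rfl⟩ := hχ
  have : NeZero q := ⟨hq⟩
  let T : G → Matrix (ZMod q → Fin d) (ZMod q → Fin d) ℂ :=
    fun g => tPow q (LinearMap.toMatrix' (ρ g))
  have hTmul : ∀ g h, T g * T h = T (g * h) := fun g h => by
    simp only [T]
    rw [← tPow_mul, map_mul, Module.End.mul_eq_comp, LinearMap.toMatrix'_comp]
  let P := (Nat.card G : ℂ)⁻¹ • ∑ g : G, T g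
  have hG : (Nat.card G : ℂ) ≠ 0 := Nat.cast_ne_zero.2 Nat.card_pos.ne'
  have hPP : P * P = P := by
    have h1 : ∀ h : G, T h * ∑ g : G, T g = ∑ g : G, T g := fun h => by
      rw [Finset.mul_sum]
      exact Fintype.sum_equiv (Equiv.mulLeft h) _ _ fun g => hTmul h g
    simp only [P]
    rw [Matrix.smul_mul, Finset.sum_mul, Finset.sum_congr rfl (g := fun _ => P)
      (fun h _ => by rw [Matrix.mul_smul, h1]), Finset.sum_const, Finset.card_univ,
      ← Nat.card_eq_fintype_card, ← Nat.cast_smul_eq_nsmul ℂ, smul_smul, inv_mul_cancel₀ hG,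
      one_smul]
  have hcomm : shiftMat q (Fin d) * P = P * shiftMat q (Fin d) := by
    simp only [P, Matrix.mul_smul, Matrix.smul_mul, Finset.mul_sum, Finset.sum_mul, T,
      shiftMat_tPow]
  have h := isIntegral_trace_mul (Matrix.toLinAlgEquiv' (shiftMat q (Fin d)))
    (Matrix.toLinAlgEquiv' P) hq (by rw [← map_pow, shiftMat_pow, map_one])
    (by rw [← map_mul, hPP]) (by
      show _ * _ = _ * _
      rw [← map_mul, ← map_mul, hcomm])
  rw [← map_mul] at h
  change IsIntegral ℤ (LinearMap.trace ℂ _ (Matrix.toLin' (shiftMat q (Fin d) * P))) at h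
  rw [Matrix.trace_toLin'_eq] at h
  simpa [P, T, Matrix.mul_smul, Finset.mul_sum, Matrix.trace_sum, trace_shift_rep] using h

/-- The mean of `u ↦ χ (g u)` over a subgroup centralized by `g` is an algebraic integer. -/
theorem isIntegral_mean_centralized [Finite G] {χ : G → ℂ} (hχ : Cfsg.IsCharacter G χ) (g : G)
    (D : Subgroup G) [Fintype D] (hg : ∀ u ∈ D, Commute g u) :
    IsIntegral ℤ ((Nat.card D : ℂ)⁻¹ * ∑ u : D, χ (g * (u : G))) := by
  classical
  obtain ⟨d, ρ, rfl⟩ := hχ
  let P := (Nat.card D : ℂ)⁻¹ • ∑ u : D, ρ (u : G)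
  have hD : (Nat.card D : ℂ) ≠ 0 := Nat.cast_ne_zero.2 Nat.card_pos.ne'
  have hPP : P * P = P := by
    have h1 : ∀ h : D, ρ (h : G) * ∑ u : D, ρ (u : G) = ∑ u : D, ρ (u : G) := fun h => by
      rw [Finset.mul_sum]
      exact Fintype.sum_equiv (Equiv.mulLeft h) _ _ fun u => by simp [← map_mul]
    simp only [P]
    rw [smul_mul_assoc, Finset.sum_mul, Finset.sum_congr rfl (g := fun _ => P)
      (fun h _ => by rw [mul_smul_comm, h1]), Finset.sum_const, Finset.card_univ,
      ← Nat.card_eq_fintype_card, ← Nat.cast_smul_eq_nsmul ℂ, smul_smul, inv_mul_cancel₀ hD,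
      one_smul]
  have hc : Commute (ρ g) P := by
    refine Commute.smul_right ?_ _
    exact Commute.sum_right _ _ _ fun u _ => (hg u u.2).map ρ
  have h := isIntegral_trace_mul (ρ g) P (orderOf_pos g).ne'
    (by rw [← map_pow, pow_orderOf_eq_one, map_one]) hPP hc
  simp only [P, mul_smul_comm, Finset.mul_sum, ← map_mul, map_smul, map_sum, smul_eq_mul] at h
  simpa [Finset.mul_sum, Representation.character] using h

end Cfsg.Agent.BlockChar
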