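import Cfsg.Agent.BlockChar.Support
import Cfsg.Agent.BlockChar.PowerMean
import Cfsg.Agent.CharArith.Central

/-!
# The defect of a block and the centralizer of a defect class

The exponent of `p` in the centralizer of a defect class is the defect, so that defect groups
have order `p ^ d`.
-/

namespace Cfsg.Agent.BlockChar

open scoped ComplexConjugate
open Cfsg.Agent Cfsg.Agent.Blocks

universe u

variable {G : Type u} [Group G] {p : ℕ} {M : Ideal Cfsg.AlgInt}
  {B : Set (Cfsg.IrrCharacter G)}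

/-- the least exponent of `p` in a degree of a member of `B` -/
noncomputable def minVal (p : ℕ) (B : Set (Cfsg.IrrCharacter G)) : ℕ :=
  sInf ((fun χ : Cfsg.IrrCharacter G => (Cfsg.charDegree (χ : G → ℂ)).factorization p) '' B)

theorem blockDefect_eq : Cfsg.blockDefect p B = (Nat.card G).factorization p - minVal p B := rfl

theorem blockHeight_eq (χ : G → ℂ) :
    Cfsg.blockHeight p B χ = (Cfsg.charDegree χ).factorization p - minVal p B := rfl

theorem minVal_le {χ : Cfsg.IrrCharacter G} (hχ : χ ∈ B) :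
    minVal p B ≤ (Cfsg.charDegree (χ : G → ℂ)).factorization p :=
  Nat.sInf_le ⟨χ, hχ, rfl⟩

theorem exists_height_zero (hne : B.Nonempty) :
    ∃ χ ∈ B, (Cfsg.charDegree (χ : G → ℂ)).factorization p = minVal p B := by
  obtain ⟨χ, hχ, h⟩ := Nat.sInf_mem (hne.image
    (fun χ : Cfsg.IrrCharacter G => (Cfsg.charDegree (χ : G → ℂ)).factorization p))
  exact ⟨χ, hχ, h⟩

theorem degree_val_le [Finite G] (χ : Cfsg.IrrCharacter G) :
    (Cfsg.charDegree (χ : G → ℂ)).factorization p ≤ (Nat.card G).factorization p :=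
  (Nat.factorization_le_iff_dvd (CharArith.irr_degree_spec χ).2.ne' Nat.card_pos.ne').2
    (CharArith.charDegree_dvd_card χ.2) p

theorem pow_minVal_dvd {χ : Cfsg.IrrCharacter G} (hχ : χ ∈ B) :
    p ^ minVal p B ∣ Cfsg.charDegree (χ : G → ℂ) :=
  (Nat.pow_dvd_pow p (minVal_le hχ)).trans (Nat.ordProj_dvd _ _)

variable [Fintype G]

/-- The block column of `g` against the degrees is divisible by `p ^ (h + c)` when `p ^ c`
divides the centralizer order of `g`. -/
theorem sum_degree_mul_divisible (hM : Cfsg.IsPModular p M) [DecidablePred (· ∈ B)]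
    (hB : Cfsg.IsPBlock M B) (g : G) (D : Subgroup G) [Fintype D] (hD : IsPGroup p D)
    (hg : ∀ u ∈ D, Commute g u) :
    ∃ z : ℂ, IsIntegral ℤ z ∧
      ∑ χ : Cfsg.IrrCharacter G,
        (if χ ∈ B then (χ : G → ℂ) 1 * conj ((χ : G → ℂ) g) else 0) =
      ((p ^ minVal p B * Nat.card D : ℕ) : ℂ) * z := by
  classical
  have h1 : Cfsg.IsPRegular p (1 : G) := by simp [Cfsg.IsPRegular, hM.1.ne_one]
  by_cases hreg : Cfsg.IsPRegular p g
  swap
  · exact ⟨0, isIntegral_zero, by rw [sum_block_eq_zero hM hB h1 hreg, mul_zero]⟩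
  have hsing : ∀ u : D, u ≠ 1 → ¬ Cfsg.IsPRegular p (g * (u : G)) := by
    intro u hu
    haveI := Fact.mk hM.1
    obtain ⟨k, hk⟩ := IsPGroup.iff_orderOf.1 hD u
    have hk0 : k ≠ 0 := by
      rintro rfl
      exact hu (orderOf_eq_one_iff.1 (by simpa using hk))
    have hk' : orderOf (u : G) = p ^ k := by rw [Subgroup.orderOf_coe, hk]
    intro hr
    refine hr ?_
    rw [(hg u u.2).orderOf_mul_eq_mul_orderOf_of_coprime (by
      rw [hk']; exact ((hM.1.coprime_iff_not_dvd.2 hreg).pow_left k).symm), hk']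
    exact Dvd.dvd.mul_left (dvd_pow_self p hk0) _
  let S : G → ℂ := fun w => ∑ χ : Cfsg.IrrCharacter G,
    (if χ ∈ B then (χ : G → ℂ) 1 * conj ((χ : G → ℂ) w) else 0)
  have hsum : S g = ∑ u : D, S (g * (u : G)) := by
    rw [Finset.sum_eq_single (1 : D)]
    · simp
    · exact fun u _ hu => sum_block_eq_zero hM hB h1 (hsing u hu)
    · simp
  let I : Cfsg.IrrCharacter G → ℂ := fun χ =>
    (Nat.card D : ℂ)⁻¹ * ∑ u : D, conj ((χ : G → ℂ) (g * (u : G)))
  have hI : ∀ χ, IsIntegral ℤ (I χ) := fun χ =>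
    isIntegral_mean_centralized (χ := fun w => conj ((χ : G → ℂ) w))
      (Char.isCharacter_conj (Char.IsIrr.isCharacter χ.2)) g D hg
  refine ⟨∑ χ : Cfsg.IrrCharacter G, if χ ∈ B then
      ((Cfsg.charDegree (χ : G → ℂ) / p ^ minVal p B : ℕ) : ℂ) * I χ else 0,
    IsIntegral.sum _ fun χ _ => ?_, ?_⟩
  · split
    · exact (isIntegral_natCast _).mul (hI χ)
    · exact isIntegral_zero
  show S g = _
  rw [hsum]
  simp only [S]
  rw [Finset.sum_comm, Finset.mul_sum]
  refine Finset.sum_congr rfl fun χ _ => ?_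
  split_ifs with h
  · rw [← Finset.mul_sum, (CharArith.irr_degree_spec χ).1]
    obtain ⟨b, hb⟩ := pow_minVal_dvd (p := p) h
    rw [hb, Nat.mul_div_cancel_left _ (pow_pos hM.1.pos _)]
    simp only [I]
    have hD0 : (Nat.card D : ℂ) ≠ 0 := Nat.cast_ne_zero.2 Nat.card_pos.ne'
    push_cast
    field_simp
  · simp

omit [Fintype G] in
/-- For a defect class the p-part of the centralizer order is `p ^ d`. -/
theorem factorization_centralizer_eq [Finite G] (hM : Cfsg.IsPModular p M)
    (hB : Cfsg.IsPBlock M B) {g : G} (hg : Cfsg.IsDefectClass M B g) :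
    (Nat.card (Subgroup.centralizer ({g} : Set G))).factorization p = Cfsg.blockDefect p B ∧
      Cfsg.IsPRegular p g := by
  classical
  have := Fintype.ofFinite G
  haveI := Fact.mk hM.1
  obtain ⟨hgR, hgu, hgω⟩ := hg
  have hreg : Cfsg.IsPRegular p g := by
    by_contra h
    exact hgu (blockCoeff_eq_zero hM hB h ▸ memLocalIdeal_zero hM)
  refine ⟨?_, hreg⟩
  set H := Subgroup.centralizer ({g} : Set G) with hH
  set c := (Nat.card H).factorization p
  set a := (Nat.card G).factorization p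
  set h := minVal p B
  have hidx : a = H.index.factorization p + c := by
    have e := congrArg (fun n => n.factorization p) (Subgroup.index_mul_card H)
    rw [Nat.factorization_mul Subgroup.index_ne_zero_of_finite Nat.card_pos.ne'] at e
    exact e.symm
  -- the class size
  obtain ⟨χ₀, hχ₀, hχ₀h⟩ := exists_height_zero (p := p) (IsPBlock.nonempty hM hB)
  have h1 : H.index.factorization p ≤ h := by
    by_contra hlt
    rw [not_le] at hlt
    obtain ⟨t, ht⟩ : p ^ (h + 1) ∣ H.index :=
      (Nat.pow_dvd_pow p hlt).trans (Nat.ordProj_dvd _ _)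
    have hdeg := (CharArith.irr_degree_spec χ₀)
    set n := Cfsg.charDegree (χ₀ : G → ℂ) with hn
    have hnd : n = p ^ h * (n / p ^ h) := (Nat.mul_div_cancel' (pow_minVal_dvd hχ₀)).symm
    have hnb : ¬ p ∣ n / p ^ h := by
      show ¬ p ∣ n / p ^ minVal p B
      rw [← hχ₀h]
      exact Nat.not_dvd_ordCompl hM.1 hdeg.2.ne'
    refine hgω χ₀ hχ₀ ?_
    have e : Cfsg.centralChar (χ₀ : G → ℂ) g =
        (p : ℂ) * ((t : ℂ) * (χ₀ : G → ℂ) g * ((n / p ^ h : ℕ) : ℂ)⁻¹) := by
      have hb0 : ((n / p ^ h : ℕ) : ℂ) ≠ 0 := Nat.cast_ne_zero.2 fun e => hnb (e ▸ dvd_zero p)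
      have hp0 : (p : ℂ) ≠ 0 := Nat.cast_ne_zero.2 hM.1.ne_zero
      rw [Cfsg.centralChar, ← hH, hdeg.1]
      conv_lhs => rw [hnd, ht]
      push_cast
      field_simp
      ring
    rw [e]
    exact memLocalIdeal_mul_right hM ((memLocalIdeal_natCast_iff hM p).2 dvd_rfl)
      ((localRing hM).mul_mem ((localRing hM).mul_mem (memLocalRing_natCast hM t)
        (memLocalRing_char hM (Char.IsIrr.isCharacter χ₀.2) g)) (memLocalRing_natCast_inv hM hnb))
  -- the coefficient
  have h2 : h + c ≤ a := by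
    by_contra hlt
    rw [not_le] at hlt
    let P : Sylow p H := default
    let D : Subgroup G := (P : Subgroup H).map H.subtype
    have hDcard : Nat.card D = p ^ c := by
      rw [← Nat.card_congr ((P : Subgroup H).equivMapOfInjective H.subtype H.subtype_injective).toEquiv]
      exact P.card_eq_multiplicity
    obtain ⟨z, hz, hze⟩ := sum_degree_mul_divisible hM hB g D (P.2.map H.subtype) (fun u hu => by
      obtain ⟨v, -, rfl⟩ := Subgroup.mem_map.1 hu
      exact (Subgroup.mem_centralizer_iff.1 v.2) g rfl)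
    refine hgu ?_
    rw [blockCoeff_eq_sum B, hze, hDcard]
    obtain ⟨r, hr⟩ := Nat.exists_eq_add_of_lt hlt
    have hm : ¬ p ∣ Nat.card G / p ^ a := Nat.not_dvd_ordCompl hM.1 Nat.card_pos.ne'
    have e : (Nat.card G : ℂ)⁻¹ * (((p ^ h * p ^ c : ℕ) : ℂ) * z) =
        (p : ℂ) * (((p ^ r : ℕ) : ℂ) * z * ((Nat.card G / p ^ a : ℕ) : ℂ)⁻¹) := by
      have hp0 : (p : ℂ) ≠ 0 := Nat.cast_ne_zero.2 hM.1.ne_zero
      have hm0 : ((Nat.card G / p ^ a : ℕ) : ℂ) ≠ 0 :=
        Nat.cast_ne_zero.2 fun e => hm (e ▸ dvd_zero p)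
      have hG : (Nat.card G : ℂ) = (p : ℂ) ^ a * ((Nat.card G / p ^ a : ℕ) : ℂ) := by
        exact_mod_cast (Nat.ordProj_mul_ordCompl_eq_self (Nat.card G) p).symm
      rw [← pow_add, hr, hG]
      generalize ((Nat.card G / p ^ a : ℕ) : ℂ) = m' at hm0 ⊢
      push_cast
      field_simp
      ring
    rw [e]
    exact memLocalIdeal_mul_right hM ((memLocalIdeal_natCast_iff hM p).2 dvd_rfl)
      ((localRing hM).mul_mem ((localRing hM).mul_mem (memLocalRing_natCast hM _)
        (memLocalRing_of_isIntegral hM hz)) (memLocalRing_natCast_inv hM hm))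
  have h3 : h ≤ a := by omega
  rw [blockDefect_eq]
  show c = a - h
  omega

omit [Fintype G] in
/-- Defect groups have order `p ^ d`. -/
theorem card_defectGroup [Finite G] (hM : Cfsg.IsPModular p M) (hB : Cfsg.IsPBlock M B)
    {D : Subgroup G} (hD : Cfsg.IsDefectGroup p M B D) :
    Nat.card D = p ^ Cfsg.blockDefect p B := by
  haveI := Fact.mk hM.1
  obtain ⟨g, hg, P, rfl⟩ := hD
  rw [← (factorization_centralizer_eq hM hB hg).1, ← P.card_eq_multiplicity]
  exact (Nat.card_congr
    ((P : Subgroup (Subgroup.centralizer ({g} : Set G))).equivMapOfInjective _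
      (Subgroup.subtype_injective _)).toEquiv).symm

end Cfsg.Agent.BlockChar
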