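import Cfsg.Agent.BlockThms.DefectCor
import Cfsg.Agent.BlockChar.Defect

/-!
# Blocks of a given defect and the regular classes of the same defect

The central character of a block of defect `d` at the idempotent of a block of defect `d` only
sees, modulo the local ideal, the `p`-regular classes of defect exactly `d`.
-/

namespace Cfsg.Agent.BlockChar

open Cfsg.Agent Cfsg.Agent.Blocks

universe u

variable {G : Type u} [Group G] [Fintype G] {p : ℕ} {M : Ideal Cfsg.AlgInt}

/-- A unit coefficient of the idempotent bounds the defect of the class by that of the block. -/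
theorem le_blockDefect_of_unit_coeff (hM : Cfsg.IsPModular p M) {B : Set (Cfsg.IrrCharacter G)}
    (hB : Cfsg.IsPBlock M B) {h : G} (hh : ¬ Cfsg.MemLocalIdeal M (Cfsg.blockCoeff B h)) :
    (Nat.card (Subgroup.centralizer ({h} : Set G))).factorization p ≤ Cfsg.blockDefect p B := by
  classical
  have := Fact.mk hM.1
  obtain ⟨D, hD⟩ := DefectThms.exists_defectGroup hM hB
  obtain ⟨g, hg, hgD⟩ := DefectThms.isDefectGroup_iff.1 hD
  obtain ⟨S, hS⟩ := DefectThms.exists_isSylC p h
  obtain ⟨k, hk⟩ := DefectThms.exists_conj_le_of_unit_coeff hM hB hg hgD hh hS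
  have h1 := Subgroup.card_le_of_le hk
  rw [DefectThms.card_map_conj, hS.2.2, card_defectGroup hM hB hD] at h1
  exact (Nat.pow_le_pow_iff_right hM.1.one_lt).1 h1

open scoped Classical in
/-- The classes that matter between two blocks of defect `d`. -/
noncomputable def defectClasses (p : ℕ) (G : Type u) [Group G] [Fintype (ConjClasses G)] (d : ℕ) :
    Finset (ConjClasses G) :=
  Finset.univ.filter fun C => Cfsg.IsPRegular p C.out ∧
    (Nat.card (Subgroup.centralizer ({C.out} : Set G))).factorization p = d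

theorem memLocalIdeal_omega_sub_defectClasses [Fintype (ConjClasses G)]
    (hM : Cfsg.IsPModular p M) {B : Set (Cfsg.IrrCharacter G)} (hB : Cfsg.IsPBlock M B) {d : ℕ}
    (hd : Cfsg.blockDefect p B = d) (χ : Cfsg.IrrCharacter G)
    (hχ : Cfsg.blockDefect p (Cfsg.blockOf M (χ : G → ℂ)) = d) :
    Cfsg.MemLocalIdeal M (omega (χ : G → ℂ) (Cfsg.blockCoeff B) -
      ∑ C ∈ defectClasses p G d,
        Cfsg.blockCoeff B C.out * Cfsg.centralChar (χ : G → ℂ) C.out) := by
  classical
  have := Fact.mk hM.1
  rw [omega_eq_sum_classes (Char.isClassFunction_of_isIrr χ.2) (isClassFunction_blockCoeff B),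
    defectClasses, Finset.sum_filter, ← Finset.sum_sub_distrib]
  refine memLocalIdeal_sum hM _ fun C _ => ?_
  have hbR := memLocalRing_blockCoeff hM hB C.out
  have hcR := memLocalRing_centralChar hM χ.2 C.out
  split_ifs with hC
  · rw [sub_self]; exact memLocalIdeal_zero hM
  · rw [sub_zero]
    by_cases hr : Cfsg.IsPRegular p C.out
    · by_cases hu : Cfsg.MemLocalIdeal M (Cfsg.blockCoeff B C.out)
      · exact memLocalIdeal_mul_right hM hu hcR
      · refine memLocalIdeal_mul_left hM hbR (not_not.1 fun hv => hC ⟨hr, le_antisymm ?_ ?_⟩)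
        · exact hd ▸ le_blockDefect_of_unit_coeff hM hB hu
        · exact hχ ▸ DefectThms.blockDefect_le_of_unit hM (isPBlock_blockOf χ)
            (mem_blockOf_self hM χ) hv
    · rw [blockCoeff_eq_zero hM hB hr, zero_mul]
      exact memLocalIdeal_zero hM

omit [Fintype G] in
/-- Characters in blocks of defect `d` are separated by the regular classes of defect `d`. -/
theorem sameBlock_of_defect_classes [Finite G] (hM : Cfsg.IsPModular p M) {d : ℕ}
    (χ ψ : Cfsg.IrrCharacter G) (hχ : Cfsg.blockDefect p (Cfsg.blockOf M (χ : G → ℂ)) = d)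
    (hψ : Cfsg.blockDefect p (Cfsg.blockOf M (ψ : G → ℂ)) = d)
    (h : ∀ x : G, ¬ p ∣ orderOf x →
      (Nat.card (Subgroup.centralizer ({x} : Set G))).factorization p = d →
      Cfsg.MemLocalIdeal M (Cfsg.centralChar (χ : G → ℂ) x - Cfsg.centralChar (ψ : G → ℂ) x)) :
    Cfsg.SameBlock M (χ : G → ℂ) (ψ : G → ℂ) := by
  classical
  have := Fintype.ofFinite G
  have : Finite (ConjClasses G) := Quotient.finite _
  have := Fintype.ofFinite (ConjClasses G)
  by_contra hne
  set B := Cfsg.blockOf M (χ : G → ℂ)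
  have hB : Cfsg.IsPBlock M B := isPBlock_blockOf χ
  have h1 := memLocalIdeal_omega_sub_defectClasses hM hB hχ χ hχ
  have h2 := memLocalIdeal_omega_sub_defectClasses hM hB hχ ψ hψ
  rw [omega_blockCoeff, if_pos (mem_blockOf_self hM χ)] at h1
  rw [omega_blockCoeff, if_neg (mt mem_blockOf.1 hne)] at h2
  have h3 : Cfsg.MemLocalIdeal M (∑ C ∈ defectClasses p G d, Cfsg.blockCoeff B C.out *
      (Cfsg.centralChar (χ : G → ℂ) C.out - Cfsg.centralChar (ψ : G → ℂ) C.out)) :=
    memLocalIdeal_sum hM _ fun C hC => by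
      obtain ⟨-, hr, hv⟩ := Finset.mem_filter.1 hC
      exact memLocalIdeal_mul_left hM (memLocalRing_blockCoeff hM hB _) (h _ hr hv)
  simp only [mul_sub, Finset.sum_sub_distrib] at h3
  refine not_memLocalIdeal_one hM ?_
  convert memLocalIdeal_add hM (memLocalIdeal_sub hM h1 h2) h3 using 1
  ring

omit [Fintype G] in
/-- The number of blocks of defect exactly `d`. -/
theorem card_blocks_defect_le [Finite G] (hM : Cfsg.IsPModular p M) (d : ℕ) :
    Nat.card {B : Set (Cfsg.IrrCharacter G) // Cfsg.IsPBlock M B ∧ Cfsg.blockDefect p B = d} ≤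
      Nat.card {C : ConjClasses G // ∃ g : G, ConjClasses.mk g = C ∧ ¬ p ∣ orderOf g ∧
        (Nat.card (Subgroup.centralizer ({g} : Set G))).factorization p = d} := by
  classical
  have := Fintype.ofFinite G
  have := hM.2.1
  let _ := Ideal.Quotient.field M
  have : Finite (ConjClasses G) := Quotient.finite _
  have := Fintype.ofFinite (ConjClasses G)
  set S := {B : Set (Cfsg.IrrCharacter G) // Cfsg.IsPBlock M B ∧ Cfsg.blockDefect p B = d}
  have hrep : ∀ B : S, ∃ χ, χ ∈ B.1 := fun B => IsPBlock.nonempty hM B.2.1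
  choose χ hχ using hrep
  let T := {C : ConjClasses G // C ∈ defectClasses p G d}
  let A : Matrix S T (localRing hM) := fun B C =>
    ⟨Cfsg.centralChar (χ B : G → ℂ) C.1.out, memLocalRing_centralChar hM (χ B).2 _⟩
  let E : Matrix T S (localRing hM) := fun C B =>
    ⟨Cfsg.blockCoeff B.1 C.1.out, memLocalRing_blockCoeff hM B.2.1 _⟩
  have hAE : A.map (residue hM) * E.map (residue hM) = 1 := by
    rw [← Matrix.map_mul]
    ext B B'
    rw [Matrix.map_apply, Matrix.one_apply]
    have h : omega (χ B : G → ℂ) (Cfsg.blockCoeff B'.1) = if B = B' then 1 else 0 := by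
      rw [omega_blockCoeff]
      refine if_congr ⟨fun h => Subtype.ext ?_, fun h => h ▸ hχ B⟩ rfl rfl
      rw [IsPBlock.eq_blockOf hM B.2.1 (hχ B), IsPBlock.eq_blockOf hM B'.2.1 h]
    rw [show (if B = B' then (1 : Cfsg.AlgInt ⧸ M) else 0) =
      residue hM (if B = B' then 1 else 0) by split_ifs <;> simp, residue_eq_iff]
    have hval : ((if B = B' then 1 else 0 : localRing hM) : ℂ) = if B = B' then 1 else 0 := by
      split_ifs <;> rfl
    rw [hval, ← h, Matrix.mul_apply, AddSubmonoidClass.coe_finsetSum]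
    simp only [A, E, MulMemClass.coe_mul]
    rw [← Finset.sum_subtype (defectClasses p G d) (fun C => Iff.rfl)
      (fun C : ConjClasses G => Cfsg.centralChar (χ B : G → ℂ) C.out *
        Cfsg.blockCoeff B'.1 C.out)]
    have hB : Cfsg.blockDefect p (Cfsg.blockOf M (χ B : G → ℂ)) = d := by
      rw [← IsPBlock.eq_blockOf hM B.2.1 (hχ B), B.2.2]
    convert memLocalIdeal_neg (memLocalIdeal_omega_sub_defectClasses hM B'.2.1 B'.2.2 (χ B) hB)
      using 1
    rw [neg_sub]
    congr 1
    exact Finset.sum_congr rfl fun C _ => mul_comm _ _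
  have hr := Matrix.rank_mul_le_left (A.map (residue hM)) (E.map (residue hM))
  rw [hAE, Matrix.rank_one] at hr
  rw [Nat.card_eq_fintype_card]
  refine (hr.trans (Matrix.rank_le_card_width _)).trans ?_
  rw [← Nat.card_eq_fintype_card]
  refine Nat.card_le_card_of_injective (fun C : T => ⟨C.1, C.1.out, Quotient.out_eq C.1,
    (Finset.mem_filter.1 C.2).2.1, (Finset.mem_filter.1 C.2).2.2⟩) ?_
  intro C C' h
  have h' := congrArg Subtype.val h
  exact Subtype.ext h'

end Cfsg.Agent.BlockChar
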