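import Cfsg.Agent.BlockChar.LowDefect

/-!
# The sum of the squared degrees of a block, and the case `k(B) = l(B)`
-/

namespace Cfsg.Agent.BlockChar

open scoped ComplexConjugate
open Cfsg.Agent Cfsg.Agent.Blocks

universe u

variable {G : Type u} [Group G] {p : ℕ} {M : Ideal Cfsg.AlgInt}
  {B : Set (Cfsg.IrrCharacter G)}

/-- the sum over a block -/
noncomputable def bsum {R : Type*} [AddCommMonoid R] [Finite G] (B : Set (Cfsg.IrrCharacter G))
    (f : Cfsg.IrrCharacter G → R) : R :=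
  open Classical in ∑ χ : Cfsg.IrrCharacter G, if χ ∈ B then f χ else 0

theorem bsum_congr {R : Type*} [AddCommMonoid R] [Finite G] {f f' : Cfsg.IrrCharacter G → R}
    (h : ∀ χ ∈ B, f χ = f' χ) : bsum B f = bsum B f' := by
  classical
  refine Finset.sum_congr rfl fun χ _ => ?_
  by_cases hh : χ ∈ B
  · rw [if_pos hh, if_pos hh, h χ hh]
  · rw [if_neg hh, if_neg hh]

theorem bsum_lin {R : Type*} [CommRing R] [Finite G] (a b : R)
    (f f' : Cfsg.IrrCharacter G → R) :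
    bsum B (fun χ => a * f χ + b * f' χ) = a * bsum B f + b * bsum B f' := by
  classical
  simp only [bsum, Finset.mul_sum, ← Finset.sum_add_distrib]
  refine Finset.sum_congr rfl fun χ _ => ?_
  split_ifs <;> simp

theorem map_bsum {R S : Type*} [CommRing R] [CommRing S] [Finite G] (φ : R →+* S)
    (f : Cfsg.IrrCharacter G → R) : φ (bsum B f) = bsum B fun χ => φ (f χ) := by
  classical
  simp only [bsum, map_sum]
  refine Finset.sum_congr rfl fun χ _ => ?_
  split_ifs <;> simp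

/-- A block combination with integer coefficients vanishing on the p-singular elements is
reproduced by `regM`, and its degree is divisible by `p ^ a`. -/
theorem bsum_mul_regM [Fintype G]
    (z : Cfsg.IrrCharacter G → ℤ)
    (hz : ∀ y : G, ¬ Cfsg.IsPRegular p y → bsum B (fun χ => (z χ : ℂ) * (χ : G → ℂ) y) = 0)
    {ψ : Cfsg.IrrCharacter G} (hψ : ψ ∈ B) :
    bsum B (fun χ => (z χ : ℂ) * regM p B χ ψ) =
      ((p ^ Cfsg.blockDefect p B : ℕ) : ℂ) * (z ψ : ℂ) := by
  classical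
  set K : ℂ := ((p ^ Cfsg.blockDefect p B : ℕ) : ℂ) / (Nat.card G : ℂ) with hK
  have e1 : bsum B (fun χ => (z χ : ℂ) * regM p B χ ψ) =
      K * ∑ w : G, bsum B (fun χ => (z χ : ℂ) * (χ : G → ℂ) w) * conj ((ψ : G → ℂ) w) := by
    have hval : ∀ w : G, bsum B (fun χ => (z χ : ℂ) * (χ : G → ℂ) w) * conj ((ψ : G → ℂ) w) =
        bsum B fun χ => if Cfsg.IsPRegular p w then
          (z χ : ℂ) * ((χ : G → ℂ) w * conj ((ψ : G → ℂ) w)) else 0 := by
      intro w
      by_cases hw : Cfsg.IsPRegular p w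
      · simp only [if_pos hw, bsum, Finset.sum_mul]
        refine Finset.sum_congr rfl fun χ _ => ?_
        split_ifs <;> ring
      · rw [hz w hw, zero_mul]
        simp [bsum, if_neg hw]
    rw [Finset.sum_congr rfl fun w _ => hval w]
    simp only [bsum]
    rw [Finset.sum_comm, Finset.mul_sum]
    refine Finset.sum_congr rfl fun χ _ => ?_
    split_ifs
    · simp only [regM, regSum, ← hK, Finset.mul_sum]
      refine Finset.sum_congr rfl fun w _ => ?_
      split_ifs <;> ring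
    · simp
  rw [e1]
  have e2 : ∑ w : G, bsum B (fun χ => (z χ : ℂ) * (χ : G → ℂ) w) * conj ((ψ : G → ℂ) w) =
      (Nat.card G : ℂ) * (z ψ : ℂ) := by
    simp only [bsum, Finset.sum_mul]
    rw [Finset.sum_comm, Finset.sum_eq_single ψ]
    · simp only [if_pos hψ, mul_assoc, ← Finset.mul_sum]
      have h1 := (Char.classInner_irrChar ψ ψ).trans (if_pos rfl)
      rw [Cfsg.classInner, inv_mul_eq_iff_eq_mul₀ (Nat.cast_ne_zero.2 Nat.card_pos.ne'), mul_one] at h1
      rw [h1]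
      ring
    · intro χ _ hχ
      by_cases h : χ ∈ B
      · simp only [if_pos h, mul_assoc, ← Finset.mul_sum]
        have h1 := (Char.classInner_irrChar χ ψ).trans (if_neg hχ)
        rw [Cfsg.classInner, mul_eq_zero, inv_eq_zero] at h1
        rw [h1.resolve_left (Nat.cast_ne_zero.2 Nat.card_pos.ne'), mul_zero]
      · simp [h]
    · simp
  rw [e2, hK, ← mul_assoc, div_mul_cancel₀ _ (Nat.cast_ne_zero.2 Nat.card_pos.ne')]

theorem pow_dvd_bsum_degree [Finite G] (hM : Cfsg.IsPModular p M)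
    (z : Cfsg.IrrCharacter G → ℤ)
    (hz : ∀ y : G, ¬ Cfsg.IsPRegular p y → bsum B (fun χ => (z χ : ℂ) * (χ : G → ℂ) y) = 0) :
    (p : ℤ) ^ (Nat.card G).factorization p ∣
      bsum B (fun χ => z χ * (Cfsg.charDegree (χ : G → ℂ) : ℤ)) := by
  classical
  have := Fintype.ofFinite G
  haveI := Fact.mk hM.1
  let P : Sylow p G := default
  let D : Subgroup G := (P : Subgroup G)
  let F : G → ℂ := fun y => bsum B fun χ => (z χ : ℂ) * (χ : G → ℂ) y
  have hsum : ∑ u : D, F (1 * (u : G)) = F 1 := by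
    rw [Finset.sum_eq_single (1 : D)]
    · simp
    · intro u _ hu
      rw [one_mul]
      refine hz _ fun hr => ?_
      obtain ⟨j, hj⟩ := IsPGroup.iff_orderOf.1 P.2 u
      rcases j with _ | j
      · exact hu (orderOf_eq_one_iff.1 (by simpa using hj))
      · refine hr ?_
        rw [Subgroup.orderOf_coe]
        exact (show orderOf u = p ^ (j + 1) from hj) ▸ dvd_pow_self p (Nat.succ_ne_zero j)
    · simp
  let I : Cfsg.IrrCharacter G → ℂ := fun χ =>
    (Nat.card D : ℂ)⁻¹ * ∑ u : D, (χ : G → ℂ) (1 * (u : G))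
  have hint : IsIntegral ℤ (bsum B fun χ => (z χ : ℂ) * I χ) := by
    refine IsIntegral.sum _ fun χ _ => ?_
    split
    · exact (Blocks.isIntegral_intCast _).mul
        (isIntegral_mean_centralized (Char.IsIrr.isCharacter χ.2) 1 D fun u _ => Commute.one_left u)
    · exact isIntegral_zero
  have hcard : Nat.card D = p ^ (Nat.card G).factorization p := P.card_eq_multiplicity
  have hF : F 1 = (Nat.card D : ℂ) * bsum B fun χ => (z χ : ℂ) * I χ := by
    rw [← hsum]
    simp only [F, bsum, I, Finset.mul_sum]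
    rw [Finset.sum_comm]
    refine Finset.sum_congr rfl fun χ _ => ?_
    split_ifs
    · rw [Finset.mul_sum]
      refine Finset.sum_congr rfl fun u _ => ?_
      field_simp [Nat.cast_ne_zero (R := ℂ) |>.2 (Nat.card_pos (α := D)).ne']
    · simp
  have hZ : F 1 = ((bsum B fun χ => z χ * (Cfsg.charDegree (χ : G → ℂ) : ℤ) : ℤ) : ℂ) := by
    rw [show ((bsum B fun χ => z χ * (Cfsg.charDegree (χ : G → ℂ) : ℤ) : ℤ) : ℂ) =
      Int.castRingHom ℂ (bsum B fun χ => z χ * (Cfsg.charDegree (χ : G → ℂ) : ℤ)) from rfl, map_bsum]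
    refine bsum_congr fun χ _ => ?_
    rw [(CharArith.irr_degree_spec χ).1]
    simp
  set T := bsum B fun χ => z χ * (Cfsg.charDegree (χ : G → ℂ) : ℤ)
  have hD0 : (Nat.card D : ℂ) ≠ 0 := Nat.cast_ne_zero.2 Nat.card_pos.ne'
  obtain ⟨n, hn⟩ := Char.exists_int_of_isIntegral_rat (q := (T : ℚ) / (Nat.card D : ℚ)) (by
    have e : (((T : ℚ) / (Nat.card D : ℚ) : ℚ) : ℂ) = bsum B fun χ => (z χ : ℂ) * I χ := by
      push_cast
      rw [div_eq_iff hD0, ← hZ, hF, mul_comm]
    rw [e]; exact hint)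
  refine ⟨n, ?_⟩
  have e : (T : ℚ) = (Nat.card D : ℚ) * n := by
    rw [hn, mul_div_cancel₀ _ (Nat.cast_ne_zero.2 Nat.card_pos.ne')]
  rw [show ((p : ℤ) ^ (Nat.card G).factorization p) = ((Nat.card D : ℕ) : ℤ) by rw [hcard]; push_cast; rfl]
  exact_mod_cast e

/-- The sum of the squared reduced degrees has exponent of `p` exactly `d`. -/
theorem redDeg_sq_sum [Finite G] (hM : Cfsg.IsPModular p M) (hB : Cfsg.IsPBlock M B) :
    (p : ℤ) ^ Cfsg.blockDefect p B ∣ bsum B (fun χ => (redDeg p B χ : ℤ) ^ 2) ∧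
      ¬ (p : ℤ) ^ (Cfsg.blockDefect p B + 1) ∣ bsum B (fun χ => (redDeg p B χ : ℤ) ^ 2) := by
  classical
  have := Fintype.ofFinite G
  set a := (Nat.card G).factorization p with ha
  set h := minVal p B
  set d := Cfsg.blockDefect p B with hdd
  obtain ⟨ψ, hψ, hψv⟩ := exists_height_zero (p := p) (IsPBlock.nonempty hM hB)
  have hψ0 : Cfsg.blockHeight p B (ψ : G → ℂ) = 0 := by rw [blockHeight_eq, hψv, Nat.sub_self]
  have hda : h + d = a := by
    have := (minVal_le (p := p) hψ).trans (degree_val_le ψ)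
    rw [hdd, blockDefect_eq, ← ha]
    show minVal p B + (a - minVal p B) = a
    omega
  let b : Cfsg.IrrCharacter G → ℤ := fun χ => redDeg p B χ
  have hu : ∀ χ : Cfsg.IrrCharacter G, ∃ n : ℤ, χ ∈ B → regM p B χ ψ = (n : ℂ) := fun χ => by
    by_cases hh : χ ∈ B
    · obtain ⟨n, hn⟩ := exists_int_regM hM hh ψ
      exact ⟨n, fun _ => hn⟩
    · exact ⟨0, fun h' => absurd h' hh⟩
  choose u hu using hu
  set m := Nat.card G / p ^ (Nat.card G).factorization p with hm
  have hmp : ¬ (p : ℤ) ∣ (m : ℤ) := by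
    rw [Int.natCast_dvd_natCast]; exact Nat.not_dvd_ordCompl hM.1 Nat.card_pos.ne'
  have hbp : ¬ (p : ℤ) ∣ b ψ := by
    show ¬ (p : ℤ) ∣ ((redDeg p B ψ : ℕ) : ℤ)
    rw [Int.natCast_dvd_natCast]; exact (not_dvd_redDeg_iff hM.1 hψ).2 hψ0
  have hup : ¬ (p : ℤ) ∣ u ψ := by
    rw [← memLocalIdeal_intCast_iff hM, ← hu ψ hψ, regM_memLocalIdeal_iff hM hψ, not_or]
    exact ⟨(not_dvd_redDeg_iff hM.1 hψ).2 hψ0, not_memLocalIdeal_omega_regConj hM hB hψ hψ hψ0⟩
  let A : ℤ := (m : ℤ) * u ψ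
  let C : ℤ := (m : ℤ) * b ψ
  let z : Cfsg.IrrCharacter G → ℤ := fun χ => A * b χ + -C * u χ
  have hbz : ∀ y : G, ¬ Cfsg.IsPRegular p y →
      bsum B (fun χ => (b χ : ℂ) * (χ : G → ℂ) y) = 0 := by
    intro y hy
    have h1 := sum_block_degree_mul_eq_zero hM hB hy
    have hph : ((p ^ h : ℕ) : ℂ) ≠ 0 := Nat.cast_ne_zero.2 (pow_ne_zero _ hM.1.ne_zero)
    apply mul_left_cancel₀ hph
    rw [mul_zero, ← h1, bsum, Finset.mul_sum]
    refine Finset.sum_congr rfl fun χ _ => ?_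
    split_ifs with hh
    · rw [(CharArith.irr_degree_spec χ).1, (redDeg_mul (B := B) hM.1 hh).1]
      push_cast [b]
      ring
    · simp
  have huz : ∀ y : G, ¬ Cfsg.IsPRegular p y →
      bsum B (fun χ => (u χ : ℂ) * (χ : G → ℂ) y) = 0 := by
    intro y hy
    have h1 := sum_regM_mul hM hB hψ y
    rw [if_neg hy] at h1
    rw [← h1]
    refine Finset.sum_congr rfl fun χ _ => ?_
    split_ifs with hh
    · show (u χ : ℂ) * _ = _
      rw [← hu χ hh, regM_comm hM χ ψ]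
    · rfl
  have hzz : ∀ y : G, ¬ Cfsg.IsPRegular p y →
      bsum B (fun χ => (z χ : ℂ) * (χ : G → ℂ) y) = 0 := by
    intro y hy
    rw [bsum_congr (B := B) (f' := fun χ => (A : ℂ) * ((b χ : ℂ) * (χ : G → ℂ) y) +
      (-C : ℂ) * ((u χ : ℂ) * (χ : G → ℂ) y)) (fun χ _ => by simp only [z]; push_cast; ring),
      bsum_lin, hbz y hy, huz y hy, mul_zero, mul_zero, add_zero]
  -- every entry of `z` is divisible by `p`
  have hzp : ∀ χ : Cfsg.IrrCharacter G, ∃ n : ℤ, χ ∈ B → z χ = (p : ℤ) * n := fun χ => by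
    by_cases hh : χ ∈ B
    · have e1 := regM_eq hM.1 hh ψ
      have e2 := regM_eq hM.1 hψ ψ
      rw [← hm, hu χ hh] at e1
      rw [← hm, hu ψ hψ] at e2
      have hzC : (z χ : ℂ) = (b χ : ℂ) * (b ψ : ℂ) *
          (omega (ψ : G → ℂ) (regConj p (ψ : G → ℂ)) - omega (χ : G → ℂ) (regConj p (ψ : G → ℂ))) := by
        simp only [z, A, C, b]
        push_cast
        linear_combination (redDeg p B χ : ℂ) * e2 - (redDeg p B ψ : ℂ) * e1
      have hmem : Cfsg.MemLocalIdeal M (z χ : ℂ) := by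
        rw [hzC]
        exact memLocalIdeal_mul_left hM
          ((localRing hM).mul_mem (memLocalRing_of_isIntegral hM (Blocks.isIntegral_intCast _))
            (memLocalRing_of_isIntegral hM (Blocks.isIntegral_intCast _)))
          (memLocalIdeal_omega_sub hM ψ.2 χ.2
            (isClassFunction_regConj (Char.isClassFunction_of_isIrr ψ.2))
            (regConj_memLocalRing hM ψ) (IsPBlock.sameBlock hM hB hψ hh))
      obtain ⟨n, hn⟩ := (memLocalIdeal_intCast_iff hM _).1 hmem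
      exact ⟨n, fun _ => hn⟩
    · exact ⟨0, fun h' => absurd h' hh⟩
  choose z' hz' using hzp
  have hp0 : (p : ℂ) ≠ 0 := Nat.cast_ne_zero.2 hM.1.ne_zero
  have hpZ : (p : ℤ) ≠ 0 := Int.natCast_ne_zero.2 hM.1.ne_zero
  have hz'z : ∀ y : G, ¬ Cfsg.IsPRegular p y →
      bsum B (fun χ => (z' χ : ℂ) * (χ : G → ℂ) y) = 0 := by
    intro y hy
    apply mul_left_cancel₀ hp0
    rw [mul_zero, ← hzz y hy, bsum, bsum, Finset.mul_sum]
    refine Finset.sum_congr rfl fun χ _ => ?_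
    split_ifs with hh
    · rw [hz' χ hh]; push_cast; ring
    · simp
  have hzu : bsum B (fun χ => z' χ * u χ) = (p : ℤ) ^ d * z' ψ := by
    apply Int.cast_injective (α := ℂ)
    rw [show ((bsum B fun χ => z' χ * u χ : ℤ) : ℂ) =
      Int.castRingHom ℂ (bsum B fun χ => z' χ * u χ) from rfl, map_bsum]
    rw [bsum_congr (B := B) (f' := fun χ => (z' χ : ℂ) * regM p B χ ψ)
      (fun χ hh => by simp [hu χ hh]), bsum_mul_regM z' hz'z hψ]
    push_cast
    rfl
  have hzb : (p : ℤ) ^ d ∣ bsum B (fun χ => z' χ * b χ) := by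
    have h1 := pow_dvd_bsum_degree hM z' hz'z
    rw [bsum_congr (B := B) (f' := fun χ => (p : ℤ) ^ h * (z' χ * b χ) + 0 * (z' χ))
      (fun χ hh => by rw [(redDeg_mul (B := B) hM.1 hh).1]; simp only [b]; push_cast; ring),
      bsum_lin, zero_mul, add_zero, ← ha, ← hda, pow_add] at h1
    exact (mul_dvd_mul_iff_left (pow_ne_zero h hpZ)).1 h1
  have hzzd : (p : ℤ) ^ (d + 1) ∣ bsum B (fun χ => z χ * z χ) := by
    rw [bsum_congr (B := B) (f' := fun χ => ((p : ℤ) * A) * (z' χ * b χ) + ((p : ℤ) * -C) * (z' χ * u χ))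
      (fun χ hh => by nth_rewrite 1 [hz' χ hh]; simp only [z]; ring), bsum_lin, hzu, pow_succ']
    obtain ⟨t, ht⟩ := hzb
    exact ⟨A * t + -C * z' ψ, by rw [ht]; ring⟩
  -- expand
  set S := bsum B (fun χ => (redDeg p B χ : ℤ) ^ 2) with hS
  have hbu : bsum B (fun χ => b χ * u χ) = (p : ℤ) ^ d * b ψ := by
    apply Int.cast_injective (α := ℂ)
    rw [show ((bsum B fun χ => b χ * u χ : ℤ) : ℂ) =
      Int.castRingHom ℂ (bsum B fun χ => b χ * u χ) from rfl, map_bsum]
    rw [bsum_congr (B := B) (f' := fun χ => (b χ : ℂ) * regM p B χ ψ)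
      (fun χ hh => by simp [hu χ hh]), bsum_mul_regM b hbz hψ]
    push_cast
    rfl
  have huu : bsum B (fun χ => u χ * u χ) = (p : ℤ) ^ d * u ψ := by
    apply Int.cast_injective (α := ℂ)
    rw [show ((bsum B fun χ => u χ * u χ : ℤ) : ℂ) =
      Int.castRingHom ℂ (bsum B fun χ => u χ * u χ) from rfl, map_bsum]
    rw [bsum_congr (B := B) (f' := fun χ => (u χ : ℂ) * regM p B χ ψ)
      (fun χ hh => by simp [hu χ hh]), bsum_mul_regM u huz hψ]
    push_cast
    rfl
  have hexp : bsum B (fun χ => z χ * z χ) =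
      A ^ 2 * S - (m : ℤ) ^ 2 * u ψ * b ψ ^ 2 * (p : ℤ) ^ d := by
    rw [bsum_congr (B := B) (f' := fun χ => 1 * (A ^ 2 * ((redDeg p B χ : ℤ) ^ 2) +
        (-(2 * A * C)) * (b χ * u χ)) + C ^ 2 * (u χ * u χ))
      (fun χ hh => by simp only [z, b]; ring), bsum_lin, bsum_lin, hbu, huu, ← hS]
    simp only [A, C]
    ring
  rw [hexp] at hzzd
  have hpr : Prime (p : ℤ) := Nat.prime_iff_prime_int.1 hM.1
  have hAp : ¬ (p : ℤ) ∣ A ^ 2 := fun hh => by
    rcases hpr.dvd_or_dvd (hpr.dvd_of_dvd_pow hh) with h1 | h1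
    · exact hmp h1
    · exact hup h1
  refine ⟨?_, fun hS1 => ?_⟩
  · have h1 : (p : ℤ) ^ d ∣ A ^ 2 * S := by
      have h2 := dvd_trans (pow_dvd_pow (p : ℤ) (Nat.le_succ d)) hzzd
      have h3 := dvd_add h2 (dvd_mul_left ((p : ℤ) ^ d) ((m : ℤ) ^ 2 * u ψ * b ψ ^ 2))
      rwa [sub_add_cancel] at h3
    exact ((hpr.coprime_iff_not_dvd.2 hAp).pow_left).dvd_of_dvd_mul_left h1
  · have h1 : (p : ℤ) ^ d * (p : ℤ) ∣ (p : ℤ) ^ d * ((m : ℤ) ^ 2 * u ψ * b ψ ^ 2) := by
      rw [← pow_succ, mul_comm]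
      have h4 := dvd_sub (hS1.mul_left (A ^ 2)) hzzd
      rwa [sub_sub_cancel] at h4
    rcases hpr.dvd_or_dvd ((mul_dvd_mul_iff_left (pow_ne_zero d hpZ)).1 h1) with h2 | h2
    · rcases hpr.dvd_or_dvd h2 with h3 | h3
      · exact hmp (hpr.dvd_of_dvd_pow h3)
      · exact hup h3
    · exact hbp (hpr.dvd_of_dvd_pow h2)

end Cfsg.Agent.BlockChar
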