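import Cfsg.Agent.BlockChar.AlgLocal

/-!
# The dimension of a symmetric algebra with one simple module and a small centre
-/

namespace Cfsg.Agent.BlockChar.AlgStruct

open Module

variable {k B : Type*} [Field k] [Ring B] [Algebra k B] [FiniteDimensional k B]

/-- A symmetric algebra with a single simple module whose centre has dimension at most four is a
full matrix algebra over its centre, up to dimension. -/
theorem exists_dims [IsAlgClosed k] [Nontrivial B] (τ : B →ₗ[k] k)
    (hτ : ∀ a b : B, τ (a * b) = τ (b * a)) (hnd : ∀ a : B, (∀ b, τ (a * b) = 0) → a = 0)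
    (hl : ∀ t₁ t₂ : Dual k B, t₁ ∈ traces k B → t₂ ∈ traces k B →
      (∀ x, IsNilpotent x → t₁ x = 0) → (∀ x, IsNilpotent x → t₂ x = 0) →
        LinearIndependent k ![t₁, t₂] → False)
    (hζ4 : finrank k (Subalgebra.center k B) ≤ 4) :
    ∃ (n : ℕ) (f : B), IsIdempotentElem f ∧
      finrank k B = n ^ 2 * finrank k (Subalgebra.center k B) ∧
      finrank k (LinearMap.range (LinearMap.mulRight k f)) =
        n * finrank k (Subalgebra.center k B) := by
  classical
  set ζ := finrank k (Subalgebra.center k B) with hζ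
  have hTr : finrank k (traces k B) ≤ ζ := finrank_traces_le τ hτ hnd
  have : IsArtinianRing B := IsArtinianRing.of_finite k B
  set J : Ideal B := Ring.jacobson B with hJ
  obtain ⟨N₀, hN₀⟩ : IsNilpotent J := IsSemiprimaryRing.isNilpotent
  set N := N₀ + 1 with hNdef
  have hN : J ^ N = ⊥ := by
    rw [hNdef, Ideal.IsTwoSided.pow_succ, hN₀]
    simp
  obtain ⟨l, d, hd, ⟨e⟩⟩ :=
    IsSemisimpleRing.exists_algEquiv_pi_matrix_of_isAlgClosed k (B ⧸ J)
  let π : B →ₐ[k] Π i, Matrix (Fin (d i)) (Fin (d i)) k :=
    (e : (B ⧸ J) →ₐ[k] _).comp (Ideal.Quotient.mkₐ k J)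
  have hπs : Function.Surjective π := e.surjective.comp (Ideal.Quotient.mkₐ_surjective k J)
  have hπker : ∀ b, π b = 0 ↔ b ∈ J := fun b => by
    rw [← Ideal.Quotient.eq_zero_iff_mem]
    show e (Ideal.Quotient.mk J b) = 0 ↔ _
    exact EmbeddingLike.map_eq_zero_iff
  obtain rfl : l = 1 := by
    rcases (show l = 0 ∨ l = 1 ∨ 2 ≤ l by omega) with rfl | rfl | h2
    · exfalso
      have h1 : (1 : B) ∈ J := (hπker 1).1 (Subsingleton.elim _ _)
      have := Ideal.pow_mem_pow h1 N
      rw [hN, one_pow] at this
      exact one_ne_zero (α := B) (by simpa using this)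
    · rfl
    · exfalso
      let i₀ : Fin l := ⟨0, by omega⟩
      let i₁ : Fin l := ⟨1, by omega⟩
      have hne : i₀ ≠ i₁ := fun e => absurd (congrArg Fin.val e) zero_ne_one
      let T : Fin l → Dual k B := fun i =>
        (Matrix.traceLinearMap (Fin (d i)) k k).comp ((LinearMap.proj i).comp π.toLinearMap)
      have hT : ∀ i b, T i b = Matrix.trace (π b i) := fun i b => rfl
      have hTtr : ∀ i, T i ∈ traces k B := fun i a b => by
        rw [hT, hT, map_mul, map_mul]; exact Matrix.trace_mul_comm _ _
      have hTnil : ∀ i x, IsNilpotent x → T i x = 0 := fun i x hx =>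
        (Matrix.isNilpotent_trace_of_isNilpotent (hx.map
          ((Pi.evalAlgHom k (fun i => Matrix (Fin (d i)) (Fin (d i)) k) i).comp π))).eq_zero
      refine hl (T i₀) (T i₁) (hTtr _) (hTtr _) (hTnil _) (hTnil _)
        (LinearIndependent.pair_iff.2 fun s r hsr => ?_)
      obtain ⟨b₀, hb₀⟩ := hπs (Pi.single i₀ (Matrix.single 0 0 1))
      obtain ⟨b₁, hb₁⟩ := hπs (Pi.single i₁ (Matrix.single 0 0 1))
      have h0 := LinearMap.congr_fun hsr b₀
      have h1 := LinearMap.congr_fun hsr b₁
      simp only [LinearMap.add_apply, LinearMap.smul_apply, hT, hb₀, hb₁, Pi.single_eq_same,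
        Pi.single_eq_of_ne hne, Pi.single_eq_of_ne hne.symm, Matrix.trace_single_eq_same,
        Matrix.trace_zero, smul_zero, smul_eq_mul, mul_one, add_zero, zero_add, LinearMap.zero_apply] at h0 h1
      exact ⟨by simpa using h0, by simpa using h1⟩
  set m := d 0 with hm
  let π₁ : B →ₐ[k] Matrix (Fin m) (Fin m) k :=
    (Pi.evalAlgHom k (fun i => Matrix (Fin (d i)) (Fin (d i)) k) 0).comp π
  have hπ₁ : ∀ b, π₁ b = π b 0 := fun b => rfl
  have hπ₁s : Function.Surjective π₁ := fun x => by
    obtain ⟨b, hb⟩ := hπs (Pi.single 0 x)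
    exact ⟨b, by rw [hπ₁, hb, Pi.single_eq_same]⟩
  have hker : ∀ b, π₁ b = 0 ↔ b ∈ J := fun b => by
    rw [← hπker, hπ₁]
    refine ⟨fun h => funext fun i => ?_, fun h => by rw [h]; rfl⟩
    obtain rfl : i = 0 := Subsingleton.elim _ _
    exact h
  have hnil : ∀ x ∈ J, IsNilpotent x := fun x hx => ⟨N, by
    have := Ideal.pow_mem_pow hx N
    rw [hN] at this
    simpa using this⟩
  -- lift the diagonal idempotents
  let E : Fin m → Matrix (Fin m) (Fin m) k := fun i => Matrix.single i i 1
  have hE : CompleteOrthogonalIdempotents E := by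
    refine CompleteOrthogonalIdempotents.iff_ortho_complete.2 ⟨fun i j hij => ?_, ?_⟩
    · simp [E, hij]
    · ext a b
      rw [Matrix.sum_apply, Matrix.one_apply]
      simp only [E, Matrix.single_apply]
      by_cases h : a = b
      · subst h; simp
      · simp only [h, if_false]
        exact Finset.sum_eq_zero fun i _ => if_neg fun hi => h (hi.1.symm.trans hi.2)
  obtain ⟨f, hf, hfE⟩ := CompleteOrthogonalIdempotents.lift_of_isNilpotent_ker π₁.toRingHom
    (fun x hx => hnil x ((hker x).1 hx)) hE (fun i => by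
      obtain ⟨b, hb⟩ := hπ₁s (E i); exact ⟨b, hb⟩)
  have hfi : ∀ i, f i * f i = f i := fun i => hf.idem i
  have hπf : ∀ i, π₁ (f i) = Matrix.single i i 1 := fun i => congrFun hfE i
  set z : Fin m := 0 with hz
  choose a ha using fun i => hπ₁s (Matrix.single z i (1 : k))
  choose a' ha' using fun i => hπ₁s (Matrix.single i z (1 : k))
  have hkey : ∀ i, ∃ u v : B, f z * u = u ∧ u * f i = u ∧ f i * v = v ∧ v * f z = v ∧
      u * v = f z ∧ v * u = f i := by
    intro i
    set u₀ := f z * a i * f i with hu₀
    set v := f i * a' i * f z with hv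
    set c := u₀ * v with hc
    set j := f z - c with hj
    have hzc : f z * c = c := by
      rw [hc, hu₀]; simp only [← mul_assoc, hfi]
    have hcz : c * f z = c := by
      rw [hc, hv]; simp only [mul_assoc, hfi]
    have hjz : Commute j (f z) := by
      show j * f z = f z * j
      rw [hj, sub_mul, mul_sub, hzc, hcz]
    have hπu : π₁ u₀ = Matrix.single z i 1 := by
      rw [hu₀, map_mul, map_mul, hπf, hπf, ha]
      simp
    have hπv : π₁ v = Matrix.single i z 1 := by
      rw [hv, map_mul, map_mul, hπf, hπf, ha']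
      simp
    have hπj : π₁ j = 0 := by
      rw [hj, hc, map_sub, map_mul, hπf, hπu, hπv]
      simp
    set w := f z * ∑ s ∈ Finset.range N, j ^ s with hw
    have hπw : π₁ w = Matrix.single z z 1 := by
      rw [hw, map_mul, map_sum, hπf, Finset.sum_eq_single 0]
      · simp
      · intro s _ hs
        rw [map_pow, hπj, zero_pow hs]
      · intro h
        exact absurd (Finset.mem_range.2 (Nat.succ_pos N₀)) h
    have hjN : j ^ N = 0 := by
      have := Ideal.pow_mem_pow ((hker j).1 hπj) N
      rw [hN] at this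
      simpa using this
    have hwc : w * c = f z := by
      have hcom : Commute (∑ s ∈ Finset.range N, j ^ s) (f z) :=
        Commute.sum_left _ _ _ fun s _ => hjz.pow_left s
      have hfc : f z * (1 - j) = c := by
        rw [mul_sub, mul_one, hj, mul_sub, hfi, hzc, sub_sub_cancel]
      calc w * c = f z * (∑ s ∈ Finset.range N, j ^ s) * (f z * (1 - j)) := by rw [hfc, hw]
        _ = f z * f z * ((∑ s ∈ Finset.range N, j ^ s) * (1 - j)) := by
            rw [mul_assoc (f z) _ (f z * (1 - j)), ← mul_assoc _ (f z) (1 - j), hcom.eq]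
            simp only [mul_assoc]
        _ = f z := by
            rw [geom_sum_mul_neg, hjN, sub_zero, mul_one, hfi]
    refine ⟨w * u₀, v, ?_, ?_, ?_, ?_, ?_, ?_⟩
    · rw [hw]; simp only [← mul_assoc, hfi]
    · rw [hu₀]; simp only [mul_assoc, hfi]
    · rw [hv]; simp only [← mul_assoc, hfi]
    · rw [hv]; simp only [mul_assoc, hfi]
    · rw [mul_assoc, ← hc, hwc]
    · set q := v * (w * u₀) with hq
      have hqq : q * q = q := by
        calc q * q = v * (w * (u₀ * v)) * (w * u₀) := by rw [hq]; simp only [mul_assoc]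
          _ = q := by
            rw [← hc, hwc, hq, mul_assoc, ← mul_assoc (f z) w u₀, hw]
            simp only [← mul_assoc, hfi]
      have hfq : f i * q = q := by
        rw [hq, hv]; simp only [← mul_assoc, hfi]
      have hqf : q * f i = q := by
        rw [hq, hu₀]; simp only [mul_assoc, hfi]
      have hidem' : IsIdempotentElem (f i - q) := by
        show (f i - q) * (f i - q) = f i - q
        rw [sub_mul, mul_sub, mul_sub, hfi, hfq, hqf, hqq, sub_self, sub_zero]
      have hπq : π₁ (f i - q) = 0 := by
        rw [hq, map_sub, map_mul π₁ v, map_mul π₁ w, hπf, hπv, hπw, hπu]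
        simp
      obtain ⟨s, hs⟩ := hnil _ ((hker _).1 hπq)
      rcases s with - | s
      · exact absurd hs (by simp)
      · rw [hidem'.pow_succ_eq] at hs
        exact (sub_eq_zero.1 hs).symm
  choose u v hzu huf hfv hvz huv hvu using hkey
  have huv0 : ∀ i j, i ≠ j → u i * v j = 0 := fun i j hij => by
    rw [← huf i, ← hfv j, mul_assoc, ← mul_assoc (f i), hf.ortho hij, zero_mul, mul_zero]
  have hcompl : ∑ i, v i * u i = 1 := by
    simp only [hvu]; exact hf.complete
  -- the corner
  let cor : B →ₗ[k] B := (LinearMap.mulLeft k (f z)).comp (LinearMap.mulRight k (f z))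
  have hcor : ∀ b, cor b = f z * (b * f z) := fun b => rfl
  set A := LinearMap.range cor with hA
  have hAl : ∀ x ∈ A, f z * x = x := by
    rintro _ ⟨b, rfl⟩; rw [hcor, ← mul_assoc, hfi]
  have hAr : ∀ x ∈ A, x * f z = x := by
    rintro _ ⟨b, rfl⟩; rw [hcor]; simp only [mul_assoc, hfi]
  have hAmem : ∀ x, f z * x = x → x * f z = x → x ∈ A := fun x h1 h2 => ⟨x, by rw [hcor, h2, h1]⟩
  have hsand : ∀ i j b, u i * b * v j ∈ A := fun i j b => hAmem _
    (by rw [← mul_assoc, ← mul_assoc, hzu]) (by rw [mul_assoc, hvz])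
  have hdim : finrank k B = m ^ 2 * finrank k A := by
    let F : B →ₗ[k] (Fin m × Fin m → A) :=
      LinearMap.pi fun ij =>
        ((LinearMap.mulRight k (v ij.2)).comp (LinearMap.mulLeft k (u ij.1))).codRestrict A
          fun b => hsand ij.1 ij.2 b
    have hF : ∀ b i j, (F b (i, j) : B) = u i * b * v j := fun b i j => rfl
    have hbij : Function.Bijective F := by
      refine ⟨(injective_iff_map_eq_zero _).2 fun b hb => ?_, fun x => ?_⟩
      · calc b = (∑ i, v i * u i) * b * (∑ j, v j * u j) := by rw [hcompl, one_mul, mul_one]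
          _ = 0 := by
            rw [Finset.sum_mul, Finset.sum_mul]
            refine Finset.sum_eq_zero fun i _ => ?_
            rw [Finset.mul_sum]
            refine Finset.sum_eq_zero fun j _ => ?_
            have h0 : (F b (i, j) : B) = 0 := by rw [hb]; rfl
            rw [hF] at h0
            calc v i * u i * b * (v j * u j) = v i * (u i * b * v j) * u j := by
                  simp only [mul_assoc]
              _ = 0 := by rw [h0, mul_zero, zero_mul]
      · refine ⟨∑ ij : Fin m × Fin m, v ij.1 * (x ij : B) * u ij.2, funext fun ⟨i, j⟩ => ?_⟩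
        refine Subtype.ext ?_
        rw [hF, Finset.mul_sum, Finset.sum_mul, Finset.sum_eq_single (i, j)]
        · calc u i * (v i * (x (i, j) : B) * u j) * v j
              = (u i * v i) * (x (i, j) : B) * (u j * v j) := by simp only [mul_assoc]
            _ = _ := by rw [huv, huv, hAl _ (x (i, j)).2, hAr _ (x (i, j)).2]
        · rintro ⟨i', j'⟩ _ hne
          calc u i * (v i' * (x (i', j') : B) * u j') * v j
              = (u i * v i') * (x (i', j') : B) * (u j' * v j) := by simp only [mul_assoc]
            _ = 0 := by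
              by_cases h : i = i'
              · have : j' ≠ j := fun e => hne (by rw [h, e])
                rw [huv0 _ _ this, mul_zero]
              · rw [huv0 _ _ h, zero_mul, zero_mul]
        · simp
    rw [(LinearEquiv.ofBijective F hbij).finrank_eq, Module.finrank_pi_fintype,
      Finset.sum_const, Finset.card_univ, Fintype.card_prod, Fintype.card_fin, smul_eq_mul, sq]
  -- the radical of the corner
  set JA : Submodule k B := A ⊓ J.restrictScalars k with hJA
  have hAdec : ∀ x ∈ A, ∃ c : k, x - c • f z ∈ JA := by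
    intro x hx
    refine ⟨π₁ x z z, A.sub_mem hx (A.smul_mem _ (hAmem _ (hfi z) (hfi z))), ?_⟩
    show x - π₁ x z z • f z ∈ J
    rw [← hker, map_sub, map_smul, hπf, sub_eq_zero]
    conv_lhs => rw [← hAl x hx, ← hAr x hx]
    rw [map_mul, map_mul, hπf, ← mul_assoc, Matrix.single_mul_mul_single]
    simp
  have hquot : ∀ S : Submodule k B, S ≤ A →
      (∀ x ∈ JA, ∀ y ∈ JA, x * y - y * x ∈ S) →
      finrank k A ≤ finrank k S + ζ := by
    intro S hSA hcomm
    let res : traces k B →ₗ[k] Dual k A := A.subtype.dualMap.comp (traces k B).subtype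
    have hle : (S.comap A.subtype).dualAnnihilator ≤ LinearMap.range res := by
      intro φ hφ
      obtain ⟨φ', hφ'⟩ := LinearMap.exists_extend φ
      have hext : ∀ x, ∀ hx : x ∈ A, φ' x = φ ⟨x, hx⟩ := fun x hx =>
        LinearMap.congr_fun hφ' ⟨x, hx⟩
      have hS0 : ∀ x ∈ S, φ' x = 0 := fun x hx => by
        rw [hext x (hSA hx)]
        exact (Submodule.mem_dualAnnihilator φ).1 hφ ⟨x, hSA hx⟩ hx
      have htrA : ∀ x ∈ A, ∀ y ∈ A, φ' (x * y) = φ' (y * x) := by
        intro x hx y hy
        obtain ⟨c, hc⟩ := hAdec x hx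
        obtain ⟨c', hc'⟩ := hAdec y hy
        have := hS0 _ (hcomm _ hc _ hc')
        rw [show (x - c • f z) * (y - c' • f z) - (y - c' • f z) * (x - c • f z) =
          x * y - y * x by
            simp only [sub_mul, mul_sub, smul_sub, smul_mul_assoc, mul_smul_comm, hAl x hx, hAr x hx,
              hAl y hy, hAr y hy, hfi, smul_smul, mul_comm c c']
            abel, map_sub, sub_eq_zero] at this
        exact this
      let T : Dual k B := ∑ i, φ'.comp ((LinearMap.mulRight k (v i)).comp
        (LinearMap.mulLeft k (u i)))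
      have hT : ∀ b, T b = ∑ i, φ' (u i * b * v i) := fun b => by
        rw [LinearMap.sum_apply]; rfl
      have hTtr : T ∈ traces k B := by
        intro x y
        have hexp : ∀ x y : B, T (x * y) =
            ∑ i, ∑ l, φ' ((u i * x * v l) * (u l * y * v i)) := by
          intro x y
          rw [hT]
          refine Finset.sum_congr rfl fun i _ => ?_
          rw [← map_sum]
          congr 1
          calc u i * (x * y) * v i = u i * x * (∑ l, v l * u l) * (y * v i) := by
                rw [hcompl, mul_one]; simp only [mul_assoc]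
            _ = _ := by
                rw [Finset.mul_sum, Finset.sum_mul]
                exact Finset.sum_congr rfl fun l _ => by simp only [mul_assoc]
        rw [hexp, hexp, Finset.sum_comm]
        exact Finset.sum_congr rfl fun i _ => Finset.sum_congr rfl fun l _ =>
          htrA _ (hsand _ _ _) _ (hsand _ _ _)
      refine ⟨⟨T, hTtr⟩, LinearMap.ext fun ⟨x, hx⟩ => ?_⟩
      show T x = φ ⟨x, hx⟩
      rw [hT, Finset.sum_eq_single z, ← hext x hx]
      · have hu : u z ∈ A := hAmem _ (hzu z) (huf z)
        have hxv : x * v z ∈ A := hAmem _ (by rw [← mul_assoc, hAl x hx])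
          (by rw [mul_assoc, hvz])
        rw [mul_assoc, htrA _ hu _ hxv, mul_assoc, hvu, hAr x hx]
      · intro i _ hi
        have : u i * x = 0 := by
          rw [← hAl x hx, ← huf i, mul_assoc, ← mul_assoc (f i), hf.ortho hi, zero_mul, mul_zero]
        rw [this, zero_mul, map_zero]
      · simp
    have h1 := Subspace.finrank_add_finrank_dualAnnihilator_eq (S.comap A.subtype)
    have h2 := (Submodule.finrank_mono hle).trans (LinearMap.finrank_range_le res)
    have h3 : finrank k (S.comap A.subtype) = finrank k S :=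
      (Submodule.comapSubtypeEquivOfLe hSA).finrank_eq
    omega
  have hJAsq : JA * JA ≤ JA := Submodule.mul_le.2 fun x hx y hy =>
    ⟨hAmem _ (by rw [← mul_assoc, hAl x hx.1]) (by rw [mul_assoc, hAr y hy.1]),
      (J.mul_mem_left x hy.2 : x * y ∈ J)⟩
  have hJApow : ∀ s, JA ^ (s + 1) ≤ (J ^ (s + 1)).restrictScalars k := by
    intro s
    induction s with
    | zero => rw [zero_add, Submodule.pow_one, Submodule.pow_one]; exact inf_le_right
    | succ s ih =>
      rw [pow_succ JA (s + 1)]
      refine Submodule.mul_le.2 fun p hp q hq => ?_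
      show p * q ∈ J ^ (s + 1 + 1)
      rw [Submodule.pow_succ]
      exact Ideal.mul_mem_mul (ih hp) hq.2
  have hJAN : JA ^ (N₀ + 1) = ⊥ := le_bot_iff.1 fun r hr => by
    have h0 : r ∈ J ^ (N₀ + 1) := hJApow N₀ hr
    rw [← hNdef, hN] at h0
    simpa using h0
  have hzA : f z ∈ A := hAmem _ (hfi z) (hfi z)
  have hfz : f z ∉ JA := fun h => by
    have h' : π₁ (f z) = 0 := (hker _).2 h.2
    rw [hπf] at h'
    have := congrFun (congrFun h' z) z
    simp at this
  have hJA1 : finrank k JA + 1 ≤ finrank k A := Submodule.finrank_lt_finrank_of_lt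
    (lt_of_le_of_ne inf_le_left fun e => hfz (e ▸ hzA))
  -- the form on the corner
  have hW : ∀ W ≤ JA, (∀ x ∈ JA, ∀ w ∈ W, x * w ∈ W) → (∀ w ∈ W, τ w = 0) → W = ⊥ := by
    intro W hWJ hst hτW
    refine (Submodule.eq_bot_iff W).2 fun w hw => hnd w fun b => ?_
    obtain ⟨c, hc⟩ := hAdec (f z * (b * f z)) ⟨b, rfl⟩
    set j := f z * (b * f z) - c • f z
    have e : τ (w * b) = τ (w * (f z * (b * f z))) := by
      conv_lhs => rw [← hAl w (hWJ hw).1, ← hAr w (hWJ hw).1]
      rw [show f z * (w * f z) * b = f z * (w * f z * b) by simp only [mul_assoc], hτ (f z)]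
      simp only [mul_assoc]
    rw [e, show f z * (b * f z) = c • f z + j by simp [j], mul_add, mul_smul_comm,
      hAr w (hWJ hw).1, map_add, map_smul, hτW w hw, smul_zero, zero_add, hτ]
    exact hτW _ (hst j hc w hw)
  have hcomm : ∀ x ∈ JA, ∀ y ∈ JA, x * y = y * x :=
    commute_of_small τ hτ JA hJAsq hJAN hW hζ4 fun S hS hcS => by
      exact hJA1.trans (hquot S (hS.trans inf_le_left) hcS)
  have hA1 : finrank k A ≤ ζ := by
    have := hquot ⊥ bot_le fun x hx y hy => by rw [hcomm x hx y hy, sub_self]; exact zero_mem _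
    simpa using this
  have hA2 : ζ ≤ finrank k A := by
    let φ : Subalgebra.center k B →ₗ[k] A :=
      (cor.comp (Subalgebra.center k B).val.toLinearMap).codRestrict A fun c => ⟨c, rfl⟩
    refine LinearMap.finrank_le_finrank_of_injective (f := φ)
      ((injective_iff_map_eq_zero _).2 fun c hc => Subtype.ext ?_)
    have hcc : ∀ b, b * (c : B) = (c : B) * b :=
      (Subalgebra.mem_center_iff (R := k) (a := (c : B))).1 c.2
    have h0 : f z * ((c : B) * f z) = 0 := congrArg Subtype.val hc
    rw [← hcc, ← mul_assoc, hfi] at h0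
    show (c : B) = 0
    calc (c : B) = (∑ i, v i * u i) * c := by rw [hcompl, one_mul]
      _ = 0 := by
        rw [Finset.sum_mul]
        refine Finset.sum_eq_zero fun i _ => ?_
        calc v i * u i * (c : B) = v i * (f z * u i * c) := by rw [hzu, mul_assoc]
          _ = v i * (f z * c * u i) := by rw [mul_assoc (f z) (u i), hcc, ← mul_assoc (f z)]
          _ = 0 := by rw [h0, zero_mul, mul_zero]
  have hAz : finrank k A = ζ := le_antisymm hA1 hA2
  refine ⟨m, f z, hfi z, by rw [hdim, hAz], ?_⟩
  set R := LinearMap.range (LinearMap.mulRight k (f z)) with hR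
  have hRr : ∀ x ∈ R, x * f z = x := by
    rintro _ ⟨b, rfl⟩
    simp [mul_assoc, hfi]
  let Φ : R →ₗ[k] (Fin m → A) :=
    LinearMap.pi fun i => ((LinearMap.mulLeft k (u i)).comp R.subtype).codRestrict A fun x =>
      hAmem _ (by show f z * (u i * x.1) = u i * x.1; rw [← mul_assoc, hzu])
        (by show u i * x.1 * f z = u i * x.1; rw [mul_assoc, hRr _ x.2])
  have hΦ : ∀ x i, (Φ x i : B) = u i * x.1 := fun x i => rfl
  have hbij : Function.Bijective Φ := by
    refine ⟨(injective_iff_map_eq_zero _).2 fun x hx => Subtype.ext ?_, fun y => ?_⟩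
    · calc (x : B) = (∑ i, v i * u i) * x := by rw [hcompl, one_mul]
        _ = 0 := by
          rw [Finset.sum_mul]
          refine Finset.sum_eq_zero fun i _ => ?_
          have h0 : (Φ x i : B) = 0 := by rw [hx]; rfl
          rw [hΦ] at h0
          rw [mul_assoc, h0, mul_zero]
    · refine ⟨⟨∑ i, v i * (y i : B), ⟨∑ i, v i * (y i : B), ?_⟩⟩, funext fun i => Subtype.ext ?_⟩
      · show (∑ i, v i * (y i : B)) * f z = _
        rw [Finset.sum_mul]
        exact Finset.sum_congr rfl fun i _ => by rw [mul_assoc, hAr _ (y i).2]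
      · rw [hΦ]
        show u i * ∑ l, v l * (y l : B) = y i
        rw [Finset.mul_sum, Finset.sum_eq_single i]
        · rw [← mul_assoc, huv, hAl _ (y i).2]
        · intro l _ hl'
          rw [← mul_assoc, huv0 i l hl'.symm, zero_mul]
        · simp
  rw [(LinearEquiv.ofBijective Φ hbij).finrank_eq, Module.finrank_pi_fintype, Finset.sum_const,
    Finset.card_univ, Fintype.card_fin, smul_eq_mul, hAz]

end Cfsg.Agent.BlockChar.AlgStruct
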