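import Cfsg.Agent.BlockChar.AlgStruct

/-!
# Symmetric algebras with one simple module and a centre of dimension at most four

The corner algebra is local and symmetric with a centre of dimension at most four, hence
commutative; so its dimension is that of the centre.
-/

namespace Cfsg.Agent.BlockChar.AlgStruct

open Module

variable {k B : Type*} [Field k] [Ring B] [Algebra k B] [FiniteDimensional k B]

/-- A nilpotent space closed under products, in whose commutator span the form vanishes, has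
commuting elements when the commutator span has codimension below four. -/
theorem commute_of_small (τ : B →ₗ[k] k) (hτ : ∀ a b : B, τ (a * b) = τ (b * a))
    (JA : Submodule k B) (hmul : JA * JA ≤ JA) {N : ℕ} (hnil : JA ^ (N + 1) = ⊥)
    (hW : ∀ W ≤ JA, (∀ x ∈ JA, ∀ w ∈ W, x * w ∈ W) → (∀ w ∈ W, τ w = 0) → W = ⊥)
    {z : ℕ} (hz : z ≤ 4)
    (hdim : ∀ S ≤ JA, (∀ x ∈ JA, ∀ y ∈ JA, x * y - y * x ∈ S) →
      finrank k JA + 1 ≤ finrank k S + z) :
    ∀ x ∈ JA, ∀ y ∈ JA, x * y = y * x := by
  classical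
  -- powers
  have hpsucc : ∀ n, JA ^ (n + 2) ≤ JA ^ (n + 1) := by
    intro n
    rw [pow_succ JA (n + 1)]
    calc JA ^ (n + 1) * JA = JA ^ n * (JA * JA) := by rw [pow_succ JA n, mul_assoc]
      _ ≤ JA ^ n * JA := mul_le_mul' le_rfl hmul
      _ = JA ^ (n + 1) := (pow_succ JA n).symm
  have hstable : ∀ n, JA ^ (n + 1) ≤ JA ^ (n + 2) → JA ^ (n + 1) = ⊥ := by
    intro n hn
    have h : ∀ m, JA ^ (n + 1) ≤ JA ^ (n + 1 + m) := by
      intro m
      induction m with
      | zero => exact le_rfl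
      | succ m ih =>
        refine hn.trans ?_
        rw [pow_succ JA (n + 1), ← Nat.add_assoc, pow_succ JA (n + 1 + m)]
        exact mul_le_mul' ih le_rfl
    refine le_bot_iff.1 ((h N).trans ?_)
    rw [show n + 1 + N = n + (N + 1) by omega, pow_add, hnil, Submodule.mul_bot]
  -- a single generator
  have hgen : ∀ x ∈ JA, JA ≤ Submodule.span k {x} ⊔ JA * JA →
      ∀ p ∈ JA, ∀ q ∈ JA, p * q = q * p := by
    intro x hxm hx
    have hpow : ∀ s, JA ^ (s + 1) ≤ Submodule.span k {x ^ (s + 1)} ⊔ JA ^ (s + 2) := by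
      intro s
      induction s with
      | zero =>
        rw [zero_add, zero_add, pow_one, pow_one, pow_two]
        exact hx
      | succ s ih =>
        rw [pow_succ JA (s + 1)]
        refine (mul_le_mul' ih hx).trans ?_
        rw [Submodule.sup_mul, Submodule.mul_sup, Submodule.mul_sup, Submodule.span_mul_span,
          Set.singleton_mul_singleton, ← pow_succ x (s + 1)]
        have h1 : Submodule.span k {x ^ (s + 1)} ≤ JA ^ (s + 1) :=
          Submodule.span_le.2 (Set.singleton_subset_iff.2 (Submodule.pow_mem_pow JA hxm (s + 1)))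
        have h2 : Submodule.span k {x} ≤ JA := Submodule.span_le.2 (Set.singleton_subset_iff.2 hxm)
        have h3 : JA ^ (s + 1) * (JA * JA) = JA ^ (s + 1 + 2) := by rw [← pow_two, ← pow_add]
        have h4 : JA ^ (s + 2) * JA = JA ^ (s + 1 + 2) := by rw [← pow_succ]
        refine sup_le (sup_le le_sup_left ?_) (sup_le ?_ ?_) <;> refine le_trans ?_ le_sup_right
        · exact (mul_le_mul' h1 le_rfl).trans h3.le
        · exact (mul_le_mul' le_rfl h2).trans h4.le
        · exact (mul_le_mul' le_rfl hmul).trans h4.le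
    set C : Submodule k B := Submodule.span k (Set.range fun s : ℕ => x ^ (s + 1))
    have hclimb : ∀ s, JA ≤ C ⊔ JA ^ (s + 1) := by
      intro s
      induction s with
      | zero => rw [zero_add, pow_one]; exact le_sup_right
      | succ s ih =>
        refine ih.trans (sup_le le_sup_left ((hpow s).trans (sup_le ?_ le_sup_right)))
        exact (Submodule.span_mono (Set.singleton_subset_iff.2
          (Set.mem_range_self (f := fun s : ℕ => x ^ (s + 1)) s))).trans le_sup_left
    have hJC : JA ≤ C := (hclimb N).trans (by rw [hnil, sup_bot_eq])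
    intro p hp q hq
    have hone : ∀ a ∈ C, ∀ s : ℕ, Commute a (x ^ (s + 1)) := by
      intro a ha s
      induction ha using Submodule.span_induction with
      | mem b hb => obtain ⟨r, rfl⟩ := hb; exact Commute.pow_pow_self x _ _
      | zero => exact Commute.zero_left _
      | add b c _ _ h1 h2 => exact h1.add_left h2
      | smul c b _ h1 => exact h1.smul_left c
    have hall : ∀ a ∈ C, Commute p a := by
      intro a ha
      induction ha using Submodule.span_induction with
      | mem b hb => obtain ⟨r, rfl⟩ := hb; exact hone p (hJC hp) r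
      | zero => exact Commute.zero_right _
      | add b c _ _ h1 h2 => exact h1.add_right h2
      | smul c b _ h1 => exact h1.smul_right c
    exact hall q (hJC hq)
  by_cases hone : ∃ x ∈ JA, JA ≤ Submodule.span k {x} ⊔ JA * JA
  · obtain ⟨x, hxm, hx⟩ := hone
    exact hgen x hxm hx
  -- the commutators
  set S₀ : Submodule k B :=
    Submodule.span k {w : B | ∃ x ∈ JA, ∃ y ∈ JA, w = x * y - y * x} with hS₀
  have hS₀mem : ∀ x ∈ JA, ∀ y ∈ JA, x * y - y * x ∈ S₀ := fun x hx y hy =>
    Submodule.subset_span ⟨x, hx, y, hy, rfl⟩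
  have hS₀P : S₀ ≤ JA * JA := Submodule.span_le.2 fun w hw => by
    obtain ⟨x, hx, y, hy, rfl⟩ := hw
    exact sub_mem (Submodule.mul_mem_mul hx hy) (Submodule.mul_mem_mul hy hx)
  have hτS : ∀ w ∈ S₀, τ w = 0 := fun w hw => by
    induction hw using Submodule.span_induction with
    | mem b hb => obtain ⟨x, hx, y, hy, rfl⟩ := hb; rw [map_sub, hτ, sub_self]
    | zero => exact map_zero τ
    | add b c _ _ h1 h2 => rw [map_add, h1, h2, add_zero]
    | smul c b _ h1 => rw [map_smul, h1, smul_zero]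
  have hzero : S₀ = ⊥ → ∀ x ∈ JA, ∀ y ∈ JA, x * y = y * x := fun h0 x hx y hy => by
    have := hS₀mem x hx y hy
    rw [h0, Submodule.mem_bot, sub_eq_zero] at this
    exact this
  push Not at hone
  obtain ⟨a, haJ, haP⟩ := SetLike.not_le_iff_exists.1
    (fun h : JA ≤ JA * JA => hone 0 JA.zero_mem (h.trans le_sup_right))
  obtain ⟨b, hbJ, hbP⟩ := SetLike.not_le_iff_exists.1 (hone a haJ)
  set T₁ := Submodule.span k {a} ⊔ JA * JA with hT₁
  set T₂ := Submodule.span k {b} ⊔ T₁ with hT₂
  have hlt1 : finrank k (JA * JA : Submodule k B) < finrank k T₁ :=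
    Submodule.finrank_lt_finrank_of_lt (lt_of_le_of_ne le_sup_right fun e =>
      haP (e.symm ▸ Submodule.mem_sup_left (Submodule.mem_span_singleton_self a)))
  have hlt2 : finrank k T₁ < finrank k T₂ :=
    Submodule.finrank_lt_finrank_of_lt (lt_of_le_of_ne le_sup_right fun e =>
      hbP (e.symm ▸ Submodule.mem_sup_left (Submodule.mem_span_singleton_self b)))
  have hT₂J : T₂ ≤ JA := sup_le (Submodule.span_le.2 (Set.singleton_subset_iff.2 hbJ))
    (sup_le (Submodule.span_le.2 (Set.singleton_subset_iff.2 haJ)) hmul)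
  have h3 := Submodule.finrank_mono hT₂J
  have h4 := hdim S₀ (hS₀P.trans hmul) hS₀mem
  have h5 := Submodule.finrank_mono hS₀P
  by_cases hbig : finrank k (JA * JA : Submodule k B) + 3 ≤ finrank k JA
  · -- the commutators fill the square
    have heq : S₀ = JA * JA := Submodule.eq_of_le_of_finrank_le hS₀P (by omega)
    refine hzero (heq.trans (hW _ hmul (fun x hx w hw => ?_) (heq ▸ hτS)))
    exact (mul_le_mul' le_rfl hmul : JA * (JA * JA) ≤ JA * JA) (Submodule.mul_mem_mul hx hw)
  have hJT : T₂ = JA := Submodule.eq_of_le_of_finrank_le hT₂J (by omega)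
  set c := a * b - b * a with hc
  have hcP : c ∈ JA * JA := hS₀P (hS₀mem a haJ b hbJ)
  have hP3 : JA * (JA * JA) = JA ^ 3 := by rw [← mul_assoc, pow_three']
  have hdec : ∀ x ∈ JA, ∃ r s : k, ∃ q ∈ JA * JA, x = r • a + s • b + q := by
    intro x hx
    rw [← hJT, hT₂, Submodule.mem_sup] at hx
    obtain ⟨y, hy, t, ht, rfl⟩ := hx
    rw [hT₁, Submodule.mem_sup] at ht
    obtain ⟨u, hu, q, hq, rfl⟩ := ht
    obtain ⟨s, rfl⟩ := Submodule.mem_span_singleton.1 hy
    obtain ⟨r, rfl⟩ := Submodule.mem_span_singleton.1 hu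
    exact ⟨r, s, q, hq, by abel⟩
  have hmem3 : ∀ x ∈ JA, ∀ q ∈ JA * JA, x * q ∈ JA ^ 3 ∧ q * x ∈ JA ^ 3 := fun x hx q hq =>
    ⟨hP3 ▸ Submodule.mul_mem_mul hx hq,
      (pow_three' JA).symm ▸ Submodule.mul_mem_mul hq hx⟩
  have hS₀c : S₀ ≤ Submodule.span k {c} ⊔ JA ^ 3 := Submodule.span_le.2 fun w hw => by
    obtain ⟨x, hx, y, hy, rfl⟩ := hw
    obtain ⟨r, s, q, hq, rfl⟩ := hdec x hx
    obtain ⟨r', s', q', hq', rfl⟩ := hdec y hy
    refine Submodule.mem_sup.2 ⟨(r * s' - s * r') • c, Submodule.smul_mem _ _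
      (Submodule.mem_span_singleton_self c), _, ?_, add_sub_cancel _ _⟩
    have e : (r • a + s • b + q) * (r' • a + s' • b + q') -
        (r' • a + s' • b + q') * (r • a + s • b + q) - (r * s' - s * r') • c =
        (r • (a * q') + s • (b * q') + q * q' - q' * q + r' • (q * a) + s' • (q * b)) -
          (r • (q' * a) + s • (q' * b) + r' • (a * q) + s' • (b * q)) := by
      simp only [hc, mul_add, add_mul, smul_mul_assoc, mul_smul_comm, smul_sub, sub_smul, smul_add,
        smul_smul, mul_comm r' r, mul_comm s' s, mul_comm s' r, mul_comm r' s]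
      abel
    rw [e]
    refine Submodule.sub_mem _ ?_ ?_
    · exact Submodule.add_mem _ (Submodule.add_mem _ (Submodule.sub_mem _ (Submodule.add_mem _
        (Submodule.add_mem _ (Submodule.smul_mem _ _ (hmem3 a haJ q' hq').1)
          (Submodule.smul_mem _ _ (hmem3 b hbJ q' hq').1))
        (hmem3 q (hmul hq) q' hq').1) (hmem3 q' (hmul hq') q hq).1)
        (Submodule.smul_mem _ _ (hmem3 a haJ q hq).2))
        (Submodule.smul_mem _ _ (hmem3 b hbJ q hq).2)
    · exact Submodule.add_mem _ (Submodule.add_mem _ (Submodule.add_mem _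
        (Submodule.smul_mem _ _ (hmem3 a haJ q' hq').2)
        (Submodule.smul_mem _ _ (hmem3 b hbJ q' hq').2))
        (Submodule.smul_mem _ _ (hmem3 a haJ q hq).1))
        (Submodule.smul_mem _ _ (hmem3 b hbJ q hq).1)
  by_cases h30 : JA ^ 3 = ⊥
  · refine hzero (hW S₀ (hS₀P.trans hmul) (fun x hx w hw => ?_) hτS)
    have := (hmem3 x hx w (hS₀P hw)).1
    rw [h30, Submodule.mem_bot] at this
    rw [this]
    exact S₀.zero_mem
  exfalso
  have h3P : JA ^ 3 ≤ JA * JA := by rw [← pow_two]; exact hpsucc 1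
  have hnot : ¬ JA ^ 3 ≤ S₀ := fun h => h30 (hW _ (h3P.trans hmul) (fun x hx w hw =>
    (hmem3 x hx w (h3P hw)).1) fun w hw => hτS w (h hw))
  have hlt3 : finrank k S₀ < finrank k (S₀ ⊔ JA ^ 3 : Submodule k B) :=
    Submodule.finrank_lt_finrank_of_lt (lt_of_le_of_ne le_sup_left fun e =>
      hnot (e.symm ▸ le_sup_right))
  have hsq : S₀ ⊔ JA ^ 3 = JA * JA := Submodule.eq_of_le_of_finrank_le (sup_le hS₀P h3P) (by omega)
  have hsqc : JA * JA ≤ Submodule.span k {c} ⊔ JA ^ 3 := hsq ▸ sup_le hS₀c le_sup_right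
  have hscal : ∀ x ∈ JA, ∀ y ∈ JA, ∃ r : k, x * y - r • c ∈ JA ^ 3 := by
    intro x hx y hy
    obtain ⟨u, hu, t, ht, he⟩ := Submodule.mem_sup.1 (hsqc (Submodule.mul_mem_mul hx hy))
    obtain ⟨r, rfl⟩ := Submodule.mem_span_singleton.1 hu
    exact ⟨r, by rw [← he, add_sub_cancel_left]; exact ht⟩
  obtain ⟨α, hα⟩ := hscal a haJ a haJ
  obtain ⟨β, hβ⟩ := hscal a haJ b hbJ
  obtain ⟨δ, hδ⟩ := hscal b hbJ b hbJ
  have hβ' : b * a - (β - 1) • c ∈ JA ^ 3 := by
    have e : b * a - (β - 1) • c = a * b - β • c := by rw [sub_smul, one_smul, hc]; abel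
    rwa [e]
  set q := (JA ^ 4).mkQ with hq
  have hassoc : ∀ x ∈ JA, ∀ y ∈ JA, ∀ w ∈ JA, ∀ r s : k, x * y - r • c ∈ JA ^ 3 →
      y * w - s • c ∈ JA ^ 3 → r • q (c * w) = s • q (x * c) := by
    intro x hx y hy w hw r s h1 h2
    have e1 : q (x * y * w) = r • q (c * w) := by
      rw [← map_smul, ← sub_eq_zero, ← map_sub, hq, Submodule.mkQ_apply,
        Submodule.Quotient.mk_eq_zero, ← smul_mul_assoc, ← sub_mul, pow_succ JA 3]
      exact Submodule.mul_mem_mul h1 hw
    have e2 : q (x * y * w) = s • q (x * c) := by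
      rw [← map_smul, ← sub_eq_zero, ← map_sub, hq, Submodule.mkQ_apply,
        Submodule.Quotient.mk_eq_zero, ← mul_smul_comm, mul_assoc, ← mul_sub, pow_succ' JA 3]
      exact Submodule.mul_mem_mul hx h2
    rw [← e1, e2]
  have E1 := hassoc a haJ a haJ a haJ α α hα hα
  have E2 := hassoc a haJ a haJ b hbJ α β hα hβ
  have E3 := hassoc a haJ b hbJ a haJ β (β - 1) hβ hβ'
  have E4 := hassoc a haJ b hbJ b hbJ β δ hβ hδ
  have E5 := hassoc b hbJ a haJ a haJ (β - 1) α hβ' hα
  have E6 := hassoc b hbJ a haJ b hbJ (β - 1) β hβ' hβ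
  have E7 := hassoc b hbJ b hbJ a haJ δ (β - 1) hδ hβ'
  have E8 := hassoc b hbJ b hbJ b hbJ δ δ hδ hδ
  have hall : q (c * a) = 0 ∧ q (c * b) = 0 := by
    set u := q (c * a)
    set v := q (c * b)
    set u' := q (a * c)
    set v' := q (b * c)
    rcases eq_or_ne α 0 with hα0 | hα0
    · rcases eq_or_ne δ 0 with hδ0 | hδ0
      · subst hα0 hδ0
        simp only [zero_smul] at E2 E4 E5 E7
        rcases eq_or_ne β 0 with hb0 | hb0
        · subst hb0
          simp only [zero_sub, neg_smul, one_smul, zero_smul, neg_eq_zero] at E5 E6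
          exact ⟨E5, E6⟩
        · have hu' : u' = 0 := (smul_eq_zero.1 E2.symm).resolve_left hb0
          have hv : v = 0 := (smul_eq_zero.1 E4).resolve_left hb0
          rw [hu', smul_zero] at E3
          exact ⟨(smul_eq_zero.1 E3).resolve_left hb0, hv⟩
      · have hv : v = v' := smul_right_injective _ hδ0 E8
        rw [← hv, sub_smul, one_smul, sub_eq_iff_eq_add] at E6
        have hv0 : v = 0 := by simpa using E6.symm
        rw [← hv, hv0, smul_zero] at E7
        exact ⟨(smul_eq_zero.1 E7).resolve_left hδ0, hv0⟩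
    · have hu : u = u' := smul_right_injective _ hα0 E1
      rw [← hu, sub_smul, one_smul] at E3
      have hu0 : u = 0 := by
        have := E3.symm
        rwa [sub_eq_self] at this
      rw [← hu, hu0, smul_zero] at E2
      exact ⟨hu0, (smul_eq_zero.1 E2).resolve_left hα0⟩
  refine h30 (hstable 2 ?_)
  rw [pow_three' JA]
  refine Submodule.mul_le.2 fun p hp w hw => ?_
  obtain ⟨u, hu, t, ht, rfl⟩ := Submodule.mem_sup.1 (hsqc hp)
  obtain ⟨r, rfl⟩ := Submodule.mem_span_singleton.1 hu
  obtain ⟨r', s', q', hq', rfl⟩ := hdec w hw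
  have h4w : ∀ x ∈ JA, t * x ∈ JA ^ 4 := fun x hx => by
    rw [pow_succ JA 3]; exact Submodule.mul_mem_mul ht hx
  have hc4 : c * q' ∈ JA ^ 4 := by
    rw [show (4 : ℕ) = 2 + 2 from rfl, pow_add, pow_two]
    exact Submodule.mul_mem_mul hcP hq'
  have hca : c * a ∈ JA ^ 4 := (Submodule.Quotient.mk_eq_zero _).1 hall.1
  have hcb : c * b ∈ JA ^ 4 := (Submodule.Quotient.mk_eq_zero _).1 hall.2
  rw [add_mul, smul_mul_assoc, mul_add, mul_add, mul_smul_comm, mul_smul_comm]
  exact Submodule.add_mem _ (Submodule.smul_mem _ _ (Submodule.add_mem _ (Submodule.add_mem _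
    (Submodule.smul_mem _ _ hca) (Submodule.smul_mem _ _ hcb)) hc4)) (h4w _ hw)

end Cfsg.Agent.BlockChar.AlgStruct
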