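import Mathlib

/-!
# Indecomposable symmetric algebras with a two-dimensional centre

An indecomposable symmetric algebra over an algebraically closed field whose centre has dimension
two is a matrix algebra over `k[x]/(x^2)`; in particular its dimension is twice a square.
-/

namespace Cfsg.Agent.BlockChar.AlgStruct

open Module

variable {k B : Type*} [Field k] [Ring B] [Algebra k B]

/-- The linear forms `f` with `f (a * b) = f (b * a)`. -/
def traces (k B : Type*) [Field k] [Ring B] [Algebra k B] : Submodule k (Dual k B) where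
  carrier := {f | ∀ a b : B, f (a * b) = f (b * a)}
  zero_mem' := fun a b => rfl
  add_mem' := fun {f g} hf hg a b => by
    show f (a * b) + g (a * b) = f (b * a) + g (b * a)
    rw [hf a b, hg a b]
  smul_mem' := fun c f hf a b => by
    show c • f (a * b) = c • f (b * a)
    rw [hf a b]

variable [FiniteDimensional k B] (τ : B →ₗ[k] k) (hτ : ∀ a b : B, τ (a * b) = τ (b * a))
  (hnd : ∀ a : B, (∀ b, τ (a * b) = 0) → a = 0)

include hτ hnd in
/-- In a symmetric algebra the trace forms correspond to the centre. -/
theorem finrank_traces_le :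
    finrank k (traces k B) ≤ finrank k (Subalgebra.center k B) := by
  let Φ : B →ₗ[k] Dual k B := (LinearMap.mul k B).compr₂ τ
  have hΦ : ∀ a b, Φ a b = τ (a * b) := fun a b => rfl
  have hinj : Function.Injective Φ := by
    refine (injective_iff_map_eq_zero _).2 fun a ha => hnd a fun b => ?_
    rw [← hΦ, ha]
    rfl
  have hsurj : Function.Surjective Φ :=
    (LinearMap.injective_iff_surjective_of_finrank_eq_finrank (Subspace.dual_finrank_eq).symm).1
      hinj
  have hle : traces k B ≤ (Subalgebra.center k B).toSubmodule.map Φ := by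
    intro f hf
    obtain ⟨z, rfl⟩ := hsurj f
    refine ⟨z, ?_, rfl⟩
    show z ∈ Subalgebra.center k B
    rw [Subalgebra.mem_center_iff]
    intro b
    refine sub_eq_zero.1 (hnd _ fun c => ?_)
    have h1 := hf c b
    rw [hΦ, hΦ] at h1
    rw [sub_mul, map_sub, sub_eq_zero, mul_assoc b z c, hτ b (z * c), mul_assoc z c b, h1, mul_assoc]
  exact (Submodule.finrank_mono hle).trans (Submodule.finrank_map_le _ _)

open scoped Classical in
/-- The traces of the simple components are independent. -/
theorem card_le_of_surjective {l : ℕ} {d : Fin l → ℕ} [∀ i, NeZero (d i)]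
    (π : B →ₐ[k] Π i, Matrix (Fin (d i)) (Fin (d i)) k) (hπ : Function.Surjective π) :
    ∃ t : Fin l → Dual k B, LinearIndependent k t ∧ (∀ i, t i ∈ traces k B) ∧
      ∀ i b, π b = 0 → t i b = 0 := by
  let t : Fin l → Dual k B := fun i =>
    (Matrix.traceLinearMap (Fin (d i)) k k).comp
      ((LinearMap.proj i).comp π.toLinearMap)
  have ht : ∀ i b, t i b = Matrix.trace (π b i) := fun i b => rfl
  refine ⟨t, Fintype.linearIndependent_iff.2 fun c hc i => ?_, fun i a b => ?_, fun i b hb => ?_⟩
  · obtain ⟨b, hb⟩ := hπ (Pi.single i (Matrix.single 0 0 1))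
    have := LinearMap.congr_fun hc b
    rw [LinearMap.sum_apply, Finset.sum_eq_single i] at this
    · simpa [ht, hb] using this
    · intro j _ hj
      rw [LinearMap.smul_apply, ht, hb, Pi.single_eq_of_ne hj]
      simp
    · simp
  · rw [ht, ht, map_mul, map_mul]
    exact Matrix.trace_mul_comm _ _
  · rw [ht, hb]
    exact Matrix.trace_zero _ _

include hτ hnd in
/-- The dimension of an indecomposable symmetric algebra with two-dimensional centre is twice a
square. -/
theorem exists_finrank_eq [IsAlgClosed k]
    (hidem : ∀ f : B, IsIdempotentElem f → (∀ b, Commute f b) → f = 0 ∨ f = 1)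
    (hZ : finrank k (Subalgebra.center k B) = 2) :
    ∃ n : ℕ, finrank k B = 2 * n ^ 2 := by
  classical
  have hTr : finrank k (traces k B) ≤ 2 := hZ ▸ finrank_traces_le τ hτ hnd
  have hnt : Nontrivial B := by
    by_contra h
    rw [not_nontrivial_iff_subsingleton] at h
    have : Subsingleton (Subalgebra.center k B) := ⟨fun a b => Subtype.ext (h.elim _ _)⟩
    rw [Module.finrank_zero_of_subsingleton] at hZ
    omega
  have : IsArtinianRing B := IsArtinianRing.of_finite k B
  set J : Ideal B := Ring.jacobson B with hJ
  obtain ⟨N₀, hN₀⟩ : IsNilpotent J := IsSemiprimaryRing.isNilpotent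
  set N := N₀ + 1 with hNdef
  have hN : J ^ N = ⊥ := by
    rw [hNdef, Ideal.IsTwoSided.pow_succ, hN₀]
    simp
  obtain ⟨l, d, hd, ⟨e⟩⟩ :=
    IsSemisimpleRing.exists_algEquiv_pi_matrix_of_isAlgClosed k (B ⧸ J)
  let π : B →ₐ[k] Π i, Matrix (Fin (d i)) (Fin (d i)) k :=
    (e : (B ⧸ J) →ₐ[k] _).comp (Ideal.Quotient.mkₐ k J)
  have hπs : Function.Surjective π := e.surjective.comp (Ideal.Quotient.mkₐ_surjective k J)
  have hπker : ∀ b, π b = 0 ↔ b ∈ J := fun b => by
    rw [← Ideal.Quotient.eq_zero_iff_mem]
    show e (Ideal.Quotient.mk J b) = 0 ↔ _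
    exact EmbeddingLike.map_eq_zero_iff
  obtain ⟨t, htli, httr, htJ⟩ := card_le_of_surjective π hπs
  have hli' : LinearIndependent k (fun i => (⟨t i, httr i⟩ : traces k B)) :=
    LinearIndependent.of_comp (traces k B).subtype htli
  have hl2 : l ≤ 2 := by
    have := hli'.fintype_card_le_finrank
    rw [Fintype.card_fin] at this
    omega
  obtain rfl : l = 1 := by
    rcases (show l = 0 ∨ l = 1 ∨ l = 2 by omega) with rfl | rfl | rfl
    · exfalso
      have h1 : (1 : B) ∈ J := (hπker 1).1 (Subsingleton.elim _ _)
      have : ∀ m, (1 : B) ∈ J ^ m := by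
        intro m
        induction m with
        | zero => rw [Submodule.pow_zero, Ideal.one_eq_top]; trivial
        | succ m ih =>
          rw [Ideal.IsTwoSided.pow_succ]
          simpa using Ideal.mul_mem_mul h1 ih
      have h0 := this N
      rw [hN] at h0
      exact one_ne_zero (α := B) (by simpa using h0)
    · rfl
    · exfalso
      have hsp : Submodule.span k (Set.range t) = traces k B := by
        refine Submodule.eq_of_le_of_finrank_le (Submodule.span_le.2 ?_) ?_
        · rintro _ ⟨i, rfl⟩
          exact httr i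
        · rw [finrank_span_eq_card htli, Fintype.card_fin]
          exact hTr
      have hτJ : ∀ b ∈ J, τ b = 0 := by
        intro b hb
        have hmem : τ ∈ Submodule.span k (Set.range t) := hsp ▸ (hτ : τ ∈ traces k B)
        obtain ⟨c, h1⟩ := (Submodule.mem_span_range_iff_exists_fun k).1 hmem
        rw [← h1, LinearMap.sum_apply]
        exact Finset.sum_eq_zero fun i _ => by
          rw [LinearMap.smul_apply, htJ i b ((hπker b).2 hb), smul_zero]
      have hinj : Function.Injective π := by
        refine (injective_iff_map_eq_zero _).2 fun a ha => hnd a fun b => hτJ _ ?_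
        exact (Ring.jacobson B).mul_mem_right b ((hπker a).1 ha)
      obtain ⟨f, hf⟩ := hπs (Pi.single 0 1)
      have hfid : IsIdempotentElem f := hinj (by
        rw [map_mul, hf, ← Pi.single_mul, one_mul])
      have hfcen : ∀ b, Commute f b := fun b => hinj (by
        rw [map_mul, map_mul, hf]
        funext i
        by_cases hi : i = 0
        · subst hi; simp
        · simp [hi])
      rcases hidem f hfid hfcen with h | h
      · rw [h, map_zero] at hf
        have := congrFun hf 0
        simp at this
      · rw [h, map_one] at hf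
        have := congrFun hf 1
        simp at this
  -- a single matrix algebra on top
  set m := d 0 with hm
  let π₁ : B →ₐ[k] Matrix (Fin m) (Fin m) k :=
    (Pi.evalAlgHom k (fun i => Matrix (Fin (d i)) (Fin (d i)) k) 0).comp π
  have hπ₁ : ∀ b, π₁ b = π b 0 := fun b => rfl
  have hπ₁s : Function.Surjective π₁ := fun x => by
    obtain ⟨b, hb⟩ := hπs (Pi.single 0 x)
    exact ⟨b, by rw [hπ₁, hb, Pi.single_eq_same]⟩
  have hker : ∀ b, π₁ b = 0 ↔ b ∈ J := fun b => by
    rw [← hπker, hπ₁]
    refine ⟨fun h => funext fun i => ?_, fun h => by rw [h]; rfl⟩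
    obtain rfl : i = 0 := Subsingleton.elim _ _
    exact h
  have hnil : ∀ x ∈ J, IsNilpotent x := fun x hx => ⟨N, by
    have := Ideal.pow_mem_pow hx N
    rw [hN] at this
    simpa using this⟩
  -- the radical is not zero
  have hJ0 : ¬ ∀ x ∈ J, x = 0 := by
    intro h
    have hinj : Function.Injective π₁ :=
      (injective_iff_map_eq_zero _).2 fun b hb => h b ((hker b).1 hb)
    have hle : (Subalgebra.center k B).toSubmodule ≤ Submodule.span k {(1 : B)} := by
      intro z hz
      have hzc : π₁ z ∈ Subalgebra.center k (Matrix (Fin m) (Fin m) k) := by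
        rw [Subalgebra.mem_center_iff]
        intro x
        obtain ⟨b, rfl⟩ := hπ₁s x
        rw [← map_mul, ← map_mul, (Subalgebra.mem_center_iff (R := k) (a := z)).1 hz b]
      rw [Algebra.IsCentral.center_eq_bot k (Matrix (Fin m) (Fin m) k), Algebra.mem_bot] at hzc
      obtain ⟨c, hc⟩ := hzc
      refine Submodule.mem_span_singleton.2 ⟨c, hinj ?_⟩
      rw [map_smul, map_one, ← hc, Algebra.algebraMap_eq_smul_one]
    have := (Submodule.finrank_mono hle).trans (finrank_span_singleton (one_ne_zero (α := B))).le
    rw [show finrank k (Subalgebra.center k B).toSubmodule =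
      finrank k (Subalgebra.center k B) from rfl, hZ] at this
    simp at this
  -- lift the diagonal idempotents
  let E : Fin m → Matrix (Fin m) (Fin m) k := fun i => Matrix.single i i 1
  have hE : CompleteOrthogonalIdempotents E := by
    refine CompleteOrthogonalIdempotents.iff_ortho_complete.2 ⟨fun i j hij => ?_, ?_⟩
    · simp [E, hij]
    · ext a b
      rw [Matrix.sum_apply, Matrix.one_apply]
      simp only [E, Matrix.single_apply]
      by_cases h : a = b
      · subst h; simp
      · simp only [h, if_false]
        exact Finset.sum_eq_zero fun i _ => if_neg fun hi => h (hi.1.symm.trans hi.2)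
  obtain ⟨f, hf, hfE⟩ := CompleteOrthogonalIdempotents.lift_of_isNilpotent_ker π₁.toRingHom
    (fun x hx => hnil x ((hker x).1 hx)) hE (fun i => by
      obtain ⟨b, hb⟩ := hπ₁s (E i); exact ⟨b, hb⟩)
  have hfi : ∀ i, f i * f i = f i := fun i => hf.idem i
  have hπf : ∀ i, π₁ (f i) = Matrix.single i i 1 := fun i => congrFun hfE i
  set z : Fin m := 0 with hz
  choose a ha using fun i => hπ₁s (Matrix.single z i (1 : k))
  choose a' ha' using fun i => hπ₁s (Matrix.single i z (1 : k))
  have hkey : ∀ i, ∃ u v : B, f z * u = u ∧ u * f i = u ∧ f i * v = v ∧ v * f z = v ∧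
      u * v = f z ∧ v * u = f i := by
    intro i
    set u₀ := f z * a i * f i with hu₀
    set v := f i * a' i * f z with hv
    set c := u₀ * v with hc
    set j := f z - c with hj
    have hzc : f z * c = c := by
      rw [hc, hu₀]; simp only [← mul_assoc, hfi]
    have hcz : c * f z = c := by
      rw [hc, hv]; simp only [mul_assoc, hfi]
    have hjz : Commute j (f z) := by
      show j * f z = f z * j
      rw [hj, sub_mul, mul_sub, hzc, hcz]
    have hπu : π₁ u₀ = Matrix.single z i 1 := by
      rw [hu₀, map_mul, map_mul, hπf, hπf, ha]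
      simp
    have hπv : π₁ v = Matrix.single i z 1 := by
      rw [hv, map_mul, map_mul, hπf, hπf, ha']
      simp
    have hπj : π₁ j = 0 := by
      rw [hj, hc, map_sub, map_mul, hπf, hπu, hπv]
      simp
    set w := f z * ∑ s ∈ Finset.range N, j ^ s with hw
    have hπw : π₁ w = Matrix.single z z 1 := by
      rw [hw, map_mul, map_sum, hπf, Finset.sum_eq_single 0]
      · simp
      · intro s _ hs
        rw [map_pow, hπj, zero_pow hs]
      · intro h
        exact absurd (Finset.mem_range.2 (Nat.succ_pos N₀)) h
    have hjN : j ^ N = 0 := by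
      have := Ideal.pow_mem_pow ((hker j).1 hπj) N
      rw [hN] at this
      simpa using this
    have hwc : w * c = f z := by
      have hcom : Commute (∑ s ∈ Finset.range N, j ^ s) (f z) :=
        Commute.sum_left _ _ _ fun s _ => hjz.pow_left s
      have hfc : f z * (1 - j) = c := by
        rw [mul_sub, mul_one, hj, mul_sub, hfi, hzc, sub_sub_cancel]
      calc w * c = f z * (∑ s ∈ Finset.range N, j ^ s) * (f z * (1 - j)) := by rw [hfc, hw]
        _ = f z * f z * ((∑ s ∈ Finset.range N, j ^ s) * (1 - j)) := by
            rw [mul_assoc (f z) _ (f z * (1 - j)), ← mul_assoc _ (f z) (1 - j), hcom.eq]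
            simp only [mul_assoc]
        _ = f z := by
            rw [geom_sum_mul_neg, hjN, sub_zero, mul_one, hfi]
    refine ⟨w * u₀, v, ?_, ?_, ?_, ?_, ?_, ?_⟩
    · rw [hw]; simp only [← mul_assoc, hfi]
    · rw [hu₀]; simp only [mul_assoc, hfi]
    · rw [hv]; simp only [← mul_assoc, hfi]
    · rw [hv]; simp only [mul_assoc, hfi]
    · rw [mul_assoc, ← hc, hwc]
    · set q := v * (w * u₀) with hq
      have hqq : q * q = q := by
        calc q * q = v * (w * (u₀ * v)) * (w * u₀) := by rw [hq]; simp only [mul_assoc]
          _ = q := by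
            rw [← hc, hwc, hq, mul_assoc, ← mul_assoc (f z) w u₀, hw]
            simp only [← mul_assoc, hfi]
      have hfq : f i * q = q := by
        rw [hq, hv]; simp only [← mul_assoc, hfi]
      have hqf : q * f i = q := by
        rw [hq, hu₀]; simp only [mul_assoc, hfi]
      have hidem' : IsIdempotentElem (f i - q) := by
        show (f i - q) * (f i - q) = f i - q
        rw [sub_mul, mul_sub, mul_sub, hfi, hfq, hqf, hqq, sub_self, sub_zero]
      have hπq : π₁ (f i - q) = 0 := by
        rw [hq, map_sub, map_mul π₁ v, map_mul π₁ w, hπf, hπv, hπw, hπu]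
        simp
      obtain ⟨s, hs⟩ := hnil _ ((hker _).1 hπq)
      rcases s with - | s
      · exact absurd hs (by simp)
      · rw [hidem'.pow_succ_eq] at hs
        exact (sub_eq_zero.1 hs).symm
  choose u v hzu huf hfv hvz huv hvu using hkey
  have huv0 : ∀ i j, i ≠ j → u i * v j = 0 := fun i j hij => by
    rw [← huf i, ← hfv j, mul_assoc, ← mul_assoc (f i), hf.ortho hij, zero_mul, mul_zero]
  have hcompl : ∑ i, v i * u i = 1 := by
    simp only [hvu]; exact hf.complete
  -- the corner
  let cor : B →ₗ[k] B := (LinearMap.mulLeft k (f z)).comp (LinearMap.mulRight k (f z))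
  have hcor : ∀ b, cor b = f z * (b * f z) := fun b => rfl
  set A := LinearMap.range cor with hA
  have hAl : ∀ x ∈ A, f z * x = x := by
    rintro _ ⟨b, rfl⟩; rw [hcor, ← mul_assoc, hfi]
  have hAr : ∀ x ∈ A, x * f z = x := by
    rintro _ ⟨b, rfl⟩; rw [hcor]; simp only [mul_assoc, hfi]
  have hAmem : ∀ x, f z * x = x → x * f z = x → x ∈ A := fun x h1 h2 => ⟨x, by rw [hcor, h2, h1]⟩
  have hsand : ∀ i j b, u i * b * v j ∈ A := fun i j b => hAmem _
    (by rw [← mul_assoc, ← mul_assoc, hzu]) (by rw [mul_assoc, hvz])
  have hdim : finrank k B = m ^ 2 * finrank k A := by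
    let F : B →ₗ[k] (Fin m × Fin m → A) :=
      LinearMap.pi fun ij =>
        ((LinearMap.mulRight k (v ij.2)).comp (LinearMap.mulLeft k (u ij.1))).codRestrict A
          fun b => hsand ij.1 ij.2 b
    have hF : ∀ b i j, (F b (i, j) : B) = u i * b * v j := fun b i j => rfl
    have hbij : Function.Bijective F := by
      refine ⟨(injective_iff_map_eq_zero _).2 fun b hb => ?_, fun x => ?_⟩
      · calc b = (∑ i, v i * u i) * b * (∑ j, v j * u j) := by rw [hcompl, one_mul, mul_one]
          _ = 0 := by
            rw [Finset.sum_mul, Finset.sum_mul]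
            refine Finset.sum_eq_zero fun i _ => ?_
            rw [Finset.mul_sum]
            refine Finset.sum_eq_zero fun j _ => ?_
            have h0 : (F b (i, j) : B) = 0 := by rw [hb]; rfl
            rw [hF] at h0
            calc v i * u i * b * (v j * u j) = v i * (u i * b * v j) * u j := by
                  simp only [mul_assoc]
              _ = 0 := by rw [h0, mul_zero, zero_mul]
      · refine ⟨∑ ij : Fin m × Fin m, v ij.1 * (x ij : B) * u ij.2, funext fun ⟨i, j⟩ => ?_⟩
        refine Subtype.ext ?_
        rw [hF, Finset.mul_sum, Finset.sum_mul, Finset.sum_eq_single (i, j)]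
        · calc u i * (v i * (x (i, j) : B) * u j) * v j
              = (u i * v i) * (x (i, j) : B) * (u j * v j) := by simp only [mul_assoc]
            _ = _ := by rw [huv, huv, hAl _ (x (i, j)).2, hAr _ (x (i, j)).2]
        · rintro ⟨i', j'⟩ _ hne
          calc u i * (v i' * (x (i', j') : B) * u j') * v j
              = (u i * v i') * (x (i', j') : B) * (u j' * v j) := by simp only [mul_assoc]
            _ = 0 := by
              by_cases h : i = i'
              · have : j' ≠ j := fun e => hne (by rw [h, e])
                rw [huv0 _ _ this, mul_zero]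
              · rw [huv0 _ _ h, zero_mul, zero_mul]
        · simp
    rw [(LinearEquiv.ofBijective F hbij).finrank_eq, Module.finrank_pi_fintype,
      Finset.sum_const, Finset.card_univ, Fintype.card_prod, Fintype.card_fin, smul_eq_mul, sq]
  -- the radical of the corner
  set JA : Submodule k B := A ⊓ J.restrictScalars k with hJA
  have hAdec : ∀ x ∈ A, ∃ c : k, x - c • f z ∈ JA := by
    intro x hx
    refine ⟨π₁ x z z, A.sub_mem hx (A.smul_mem _ (hAmem _ (hfi z) (hfi z))), ?_⟩
    show x - π₁ x z z • f z ∈ J
    rw [← hker, map_sub, map_smul, hπf, sub_eq_zero]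
    conv_lhs => rw [← hAl x hx, ← hAr x hx]
    rw [map_mul, map_mul, hπf, ← mul_assoc, Matrix.single_mul_mul_single]
    simp
  have hquot : ∀ S : Submodule k B, S ≤ A →
      (∀ x ∈ JA, ∀ y ∈ JA, x * y - y * x ∈ S) →
      finrank k A ≤ finrank k S + 2 := by
    intro S hSA hcomm
    let res : traces k B →ₗ[k] Dual k A := A.subtype.dualMap.comp (traces k B).subtype
    have hle : (S.comap A.subtype).dualAnnihilator ≤ LinearMap.range res := by
      intro φ hφ
      obtain ⟨φ', hφ'⟩ := LinearMap.exists_extend φ
      have hext : ∀ x, ∀ hx : x ∈ A, φ' x = φ ⟨x, hx⟩ := fun x hx =>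
        LinearMap.congr_fun hφ' ⟨x, hx⟩
      have hS0 : ∀ x ∈ S, φ' x = 0 := fun x hx => by
        rw [hext x (hSA hx)]
        exact (Submodule.mem_dualAnnihilator φ).1 hφ ⟨x, hSA hx⟩ hx
      have htrA : ∀ x ∈ A, ∀ y ∈ A, φ' (x * y) = φ' (y * x) := by
        intro x hx y hy
        obtain ⟨c, hc⟩ := hAdec x hx
        obtain ⟨c', hc'⟩ := hAdec y hy
        have := hS0 _ (hcomm _ hc _ hc')
        rw [show (x - c • f z) * (y - c' • f z) - (y - c' • f z) * (x - c • f z) =
          x * y - y * x by
            simp only [sub_mul, mul_sub, smul_sub, smul_mul_assoc, mul_smul_comm, hAl x hx, hAr x hx,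
              hAl y hy, hAr y hy, hfi, smul_smul, mul_comm c c']
            abel, map_sub, sub_eq_zero] at this
        exact this
      let T : Dual k B := ∑ i, φ'.comp ((LinearMap.mulRight k (v i)).comp
        (LinearMap.mulLeft k (u i)))
      have hT : ∀ b, T b = ∑ i, φ' (u i * b * v i) := fun b => by
        rw [LinearMap.sum_apply]; rfl
      have hTtr : T ∈ traces k B := by
        intro x y
        have hexp : ∀ x y : B, T (x * y) =
            ∑ i, ∑ l, φ' ((u i * x * v l) * (u l * y * v i)) := by
          intro x y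
          rw [hT]
          refine Finset.sum_congr rfl fun i _ => ?_
          rw [← map_sum]
          congr 1
          calc u i * (x * y) * v i = u i * x * (∑ l, v l * u l) * (y * v i) := by
                rw [hcompl, mul_one]; simp only [mul_assoc]
            _ = _ := by
                rw [Finset.mul_sum, Finset.sum_mul]
                exact Finset.sum_congr rfl fun l _ => by simp only [mul_assoc]
        rw [hexp, hexp, Finset.sum_comm]
        exact Finset.sum_congr rfl fun i _ => Finset.sum_congr rfl fun l _ =>
          htrA _ (hsand _ _ _) _ (hsand _ _ _)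
      refine ⟨⟨T, hTtr⟩, LinearMap.ext fun ⟨x, hx⟩ => ?_⟩
      show T x = φ ⟨x, hx⟩
      rw [hT, Finset.sum_eq_single z, ← hext x hx]
      · have hu : u z ∈ A := hAmem _ (hzu z) (huf z)
        have hxv : x * v z ∈ A := hAmem _ (by rw [← mul_assoc, hAl x hx])
          (by rw [mul_assoc, hvz])
        rw [mul_assoc, htrA _ hu _ hxv, mul_assoc, hvu, hAr x hx]
      · intro i _ hi
        have : u i * x = 0 := by
          rw [← hAl x hx, ← huf i, mul_assoc, ← mul_assoc (f i), hf.ortho hi, zero_mul, mul_zero]
        rw [this, zero_mul, map_zero]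
      · simp
    have h1 := Subspace.finrank_add_finrank_dualAnnihilator_eq (S.comap A.subtype)
    have h2 := (Submodule.finrank_mono hle).trans (LinearMap.finrank_range_le res)
    have h3 : finrank k (S.comap A.subtype) = finrank k S :=
      (Submodule.comapSubtypeEquivOfLe hSA).finrank_eq
    omega
  have hJAsq : JA * JA ≤ JA := Submodule.mul_le.2 fun x hx y hy =>
    ⟨hAmem _ (by rw [← mul_assoc, hAl x hx.1]) (by rw [mul_assoc, hAr y hy.1]),
      (J.mul_mem_left x hy.2 : x * y ∈ J)⟩
  obtain ⟨x, hxm, hx⟩ : ∃ x ∈ JA, JA ≤ Submodule.span k {x} ⊔ JA * JA := by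
    by_cases hle : JA ≤ JA * JA
    · exact ⟨0, JA.zero_mem, hle.trans le_sup_right⟩
    obtain ⟨x, hxJ, hxS⟩ := SetLike.not_le_iff_exists.1 hle
    refine ⟨x, hxJ, ?_⟩
    have hA1 := hquot (JA * JA) (hJAsq.trans inf_le_left) fun p hp q hq =>
      sub_mem (Submodule.mul_mem_mul hp hq) (Submodule.mul_mem_mul hq hp)
    have hfz : f z ∉ JA := fun h => by
      have h' : π₁ (f z) = 0 := (hker _).2 h.2
      rw [hπf] at h'
      have := congrFun (congrFun h' z) z
      simp at this
    have hlt : finrank k JA < finrank k A := Submodule.finrank_lt_finrank_of_lt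
      (lt_of_le_of_ne inf_le_left fun e => hfz (e ▸ hAmem _ (hfi z) (hfi z)))
    have hlt2 : finrank k (JA * JA : Submodule k B) <
        finrank k (Submodule.span k {x} ⊔ JA * JA : Submodule k B) :=
      Submodule.finrank_lt_finrank_of_lt (lt_of_le_of_ne le_sup_right fun e =>
        hxS (e ▸ Submodule.mem_sup_left (Submodule.mem_span_singleton_self x)))
    refine (Submodule.eq_of_le_of_finrank_le
      (sup_le (Submodule.span_le.2 (Set.singleton_subset_iff.2 hxJ)) hJAsq) ?_).ge
    omega
  have hpow : ∀ s, JA ^ (s + 1) ≤ Submodule.span k {x ^ (s + 1)} ⊔ JA ^ (s + 2) := by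
    intro s
    induction s with
    | zero =>
      rw [zero_add, zero_add, pow_one, pow_one, pow_two]
      exact hx
    | succ s ih =>
      rw [pow_succ JA (s + 1)]
      refine (mul_le_mul' ih hx).trans ?_
      rw [Submodule.sup_mul, Submodule.mul_sup, Submodule.mul_sup, Submodule.span_mul_span,
        Set.singleton_mul_singleton, ← pow_succ x (s + 1)]
      have h1 : Submodule.span k {x ^ (s + 1)} ≤ JA ^ (s + 1) :=
        Submodule.span_le.2 (Set.singleton_subset_iff.2 (Submodule.pow_mem_pow JA hxm (s + 1)))
      have h2 : Submodule.span k {x} ≤ JA := Submodule.span_le.2 (Set.singleton_subset_iff.2 hxm)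
      have h3 : JA ^ (s + 1) * (JA * JA) = JA ^ (s + 1 + 2) := by rw [← pow_two, ← pow_add]
      have h4 : JA ^ (s + 2) * JA = JA ^ (s + 1 + 2) := by
        rw [← pow_succ]
      refine sup_le (sup_le le_sup_left ?_) (sup_le ?_ ?_) <;> refine le_trans ?_ le_sup_right
      · exact (mul_le_mul' h1 le_rfl).trans h3.le
      · exact (mul_le_mul' le_rfl h2).trans h4.le
      · exact (mul_le_mul' le_rfl hJAsq).trans h4.le
  set C : Submodule k B := Submodule.span k (Set.range fun s : ℕ => x ^ (s + 1)) with hC
  have hclimb : ∀ s, JA ≤ C ⊔ JA ^ (s + 1) := by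
    intro s
    induction s with
    | zero => rw [zero_add, pow_one]; exact le_sup_right
    | succ s ih =>
      refine ih.trans (sup_le le_sup_left ((hpow s).trans (sup_le ?_ le_sup_right)))
      exact (Submodule.span_mono (Set.singleton_subset_iff.2 (Set.mem_range_self (f := fun s : ℕ => x ^ (s + 1)) s))).trans le_sup_left
  have hJApow : ∀ s, JA ^ (s + 1) ≤ (J ^ (s + 1)).restrictScalars k := by
    intro s
    induction s with
    | zero => rw [zero_add, Submodule.pow_one, Submodule.pow_one]; exact inf_le_right
    | succ s ih =>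
      rw [pow_succ JA (s + 1)]
      refine Submodule.mul_le.2 fun p hp q hq => ?_
      show p * q ∈ J ^ (s + 1 + 1)
      rw [Submodule.pow_succ]
      exact Ideal.mul_mem_mul (ih hp) hq.2
  have hJAC : JA ≤ C := fun y hy => by
    obtain ⟨c, hc, r, hr, rfl⟩ := Submodule.mem_sup.1 (hclimb N₀ hy)
    have h0 : r ∈ J ^ (N₀ + 1) := hJApow N₀ hr
    rw [← hNdef, hN] at h0
    rw [show r = 0 by simpa using h0, add_zero]
    exact hc
  have hcomm : ∀ p ∈ JA, ∀ q ∈ JA, p * q - q * p ∈ (⊥ : Submodule k B) := by
    intro p hp q hq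
    rw [Submodule.mem_bot, sub_eq_zero]
    have hone : ∀ a ∈ C, ∀ s : ℕ, Commute a (x ^ (s + 1)) := by
      intro a ha s
      induction ha using Submodule.span_induction with
      | mem b hb => obtain ⟨r, rfl⟩ := hb; exact Commute.pow_pow_self x _ _
      | zero => exact Commute.zero_left _
      | add b c _ _ h1 h2 => exact h1.add_left h2
      | smul c b _ h1 => exact h1.smul_left c
    have hall : ∀ a ∈ C, Commute p a := by
      intro a ha
      induction ha using Submodule.span_induction with
      | mem b hb => obtain ⟨r, rfl⟩ := hb; exact hone p (hJAC hp) r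
      | zero => exact Commute.zero_right _
      | add b c _ _ h1 h2 => exact h1.add_right h2
      | smul c b _ h1 => exact h1.smul_right c
    exact hall q (hJAC hq)
  have hA2 : finrank k A ≤ 2 := by
    simpa using hquot ⊥ bot_le hcomm
  refine ⟨m, ?_⟩
  rw [hdim]
  have hA3 : finrank k A = 2 := by
    by_contra hne
    refine hJ0 fun b hb => ?_
    have hle : finrank k B ≤ finrank k (Matrix (Fin m) (Fin m) k) := by
      rw [hdim, Module.finrank_matrix, Fintype.card_fin, Module.finrank_self, mul_one, sq]
      exact (Nat.mul_le_mul_left _ (show finrank k A ≤ 1 by omega)).trans (mul_one _).le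
    have hrk : finrank k B = finrank k (Matrix (Fin m) (Fin m) k) :=
      le_antisymm hle (π₁.toLinearMap.finrank_le_finrank_of_surjective hπ₁s)
    exact ((injective_iff_map_eq_zero _).1
      ((LinearMap.injective_iff_surjective_of_finrank_eq_finrank hrk (f := π₁.toLinearMap)).2
        hπ₁s)) b ((hker b).2 hb)
  rw [hA3, mul_comm]

end Cfsg.Agent.BlockChar.AlgStruct
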