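import Mathlib

/-!
Groups normalised by a four group with bounded involution centralisers have bounded order
-/

namespace Cfsg.Agent.BoundedInvol

universe u

variable {G : Type u} [Group G] [Finite G]

/-- A four group of commuting involutions `e 0, e 1, e 2` with product one normalising `X`, with
centralisers in `X` of order at most `B`. -/
structure Four (X : Subgroup G) (B : ℕ) where
  e1 : G
  e2 : G
  e3 : G
  sq1 : e1 * e1 = 1
  sq2 : e2 * e2 = 1
  sq3 : e3 * e3 = 1
  mul12 : e1 * e2 = e3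
  comm : e1 * e2 = e2 * e1
  norm1 : ∀ x ∈ X, e1 * x * e1 ∈ X
  norm2 : ∀ x ∈ X, e2 * x * e2 ∈ X
  bd1 : Nat.card (X ⊓ Subgroup.centralizer ({e1} : Set G) : Subgroup G) ≤ B
  bd2 : Nat.card (X ⊓ Subgroup.centralizer ({e2} : Set G) : Subgroup G) ≤ B
  bd3 : Nat.card (X ⊓ Subgroup.centralizer ({e3} : Set G) : Subgroup G) ≤ B

theorem Four.norm3 {X : Subgroup G} {B : ℕ} (V : Four X B) : ∀ x ∈ X, V.e3 * x * V.e3 ∈ X := by
  intro x hx
  have h := V.norm1 _ (V.norm2 x hx)
  rw [show V.e1 * (V.e2 * x * V.e2) * V.e1 = (V.e1 * V.e2) * x * (V.e2 * V.e1) by group,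
    ← V.comm, V.mul12] at h
  exact h

/-- Passing to a normalised subgroup. -/
def Four.mono {X Y : Subgroup G} {B : ℕ} (V : Four X B) (hYX : Y ≤ X)
    (h1 : ∀ y ∈ Y, V.e1 * y * V.e1 ∈ Y) (h2 : ∀ y ∈ Y, V.e2 * y * V.e2 ∈ Y) : Four Y B where
  e1 := V.e1
  e2 := V.e2
  e3 := V.e3
  sq1 := V.sq1
  sq2 := V.sq2
  sq3 := V.sq3
  mul12 := V.mul12
  comm := V.comm
  norm1 := h1
  norm2 := h2
  bd1 := (Subgroup.card_le_of_le (inf_le_inf_right _ hYX)).trans V.bd1
  bd2 := (Subgroup.card_le_of_le (inf_le_inf_right _ hYX)).trans V.bd2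
  bd3 := (Subgroup.card_le_of_le (inf_le_inf_right _ hYX)).trans V.bd3

theorem pow_mem_of_dihedral {s d : G} (hs : s * s = 1) (h : s * d * s = d⁻¹) (n : ℕ) :
    s * d ^ n * s = (d ^ n)⁻¹ := by
  have hs' : s⁻¹ = s := inv_eq_of_mul_eq_one_right hs
  conv_lhs => arg 2; rw [← hs']
  rw [← conj_pow, hs', h, inv_pow]

/-- The centraliser in `X` of an element of `e₃ X` of order two, `X` of odd order. -/
theorem card_le_centralizer {X : Subgroup G} {e t : G} (hodd : Odd (Nat.card X)) (he : e * e = 1)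
    (hnorm : ∀ x ∈ X, e * x * e ∈ X) (ht : t * t = 1) (htX : e * t ∈ X) :
    Nat.card (X ⊓ Subgroup.centralizer ({t} : Set G) : Subgroup G) ≤
      Nat.card (X ⊓ Subgroup.centralizer ({e} : Set G) : Subgroup G) := by
  -- `y = (t e)^k` conjugates `e` to `t`
  have hte : t * e ∈ X := by
    have := inv_mem htX
    rwa [mul_inv_rev, inv_eq_of_mul_eq_one_right ht, inv_eq_of_mul_eq_one_right he] at this
  have hodd' : Odd (orderOf (t * e)) :=
    hodd.of_dvd_nat (by rw [← Subgroup.orderOf_mk (H := X) (t * e) hte]; exact orderOf_dvd_natCard _)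
  obtain ⟨k, hk⟩ := hodd'
  obtain ⟨y, hy⟩ : ∃ y, (t * e) ^ (k + 1) = y := ⟨_, rfl⟩
  have hyX : y ∈ X := hy ▸ pow_mem hte _
  have hd : e * (t * e) * e = (t * e)⁻¹ := by
    rw [mul_inv_rev, inv_eq_of_mul_eq_one_right ht, inv_eq_of_mul_eq_one_right he]
    rw [mul_assoc, mul_assoc t, he, mul_one]
  have hye : e * y * e = y⁻¹ := hy ▸ pow_mem_of_dihedral he hd _
  have hyy : y * y = t * e := by
    rw [← hy, ← pow_add, show k + 1 + (k + 1) = (2 * k + 1) + 1 by ring, ← hk, pow_succ,
      pow_orderOf_eq_one, one_mul]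
  have hconj : y * e * y⁻¹ = t := by
    rw [← hye, show y * e * (e * y * e) = y * (e * e) * y * e by group, he, mul_one, hyy,
      mul_assoc, he, mul_one]
  refine Nat.card_le_card_of_injective (fun c => (⟨y⁻¹ * (c : G) * y,
      Subgroup.mem_inf.2 ⟨?_, ?_⟩⟩ :
    (X ⊓ Subgroup.centralizer ({e} : Set G) : Subgroup G))) fun c c' h => ?_
  · exact mul_mem (mul_mem (inv_mem hyX) (Subgroup.mem_inf.1 c.2).1) hyX
  · show y⁻¹ * (c : G) * y ∈ Subgroup.centralizer ({e} : Set G)
    rw [Subgroup.mem_centralizer_singleton_iff]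
    have hc : (c : G) * t = t * (c : G) := Subgroup.mem_centralizer_singleton_iff.1 c.2.2
    obtain ⟨z, hz⟩ : ∃ z, (c : G) = z := ⟨_, rfl⟩
    rw [hz] at hc ⊢
    rw [← hconj] at hc
    calc y⁻¹ * z * y * e = y⁻¹ * (z * (y * e * y⁻¹)) * y := by group
      _ = y⁻¹ * ((y * e * y⁻¹) * z) * y := by rw [hc]
      _ = e * (y⁻¹ * z * y) := by group
  · have := congrArg Subtype.val h
    simp only [mul_left_inj, mul_right_inj] at this
    exact Subtype.ext this

/-- The odd order case. -/
theorem card_le_of_odd {X : Subgroup G} {B : ℕ} (V : Four X B) (hodd : Odd (Nat.card X)) :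
    Nat.card X ≤ B * B * B := by
  classical
  letI := Fintype.ofFinite G
  obtain ⟨S, hS⟩ : ∃ S : Finset G, ∀ s, s ∈ S ↔ ∃ x ∈ X, x * V.e1 * x⁻¹ = s :=
    ⟨Finset.univ.filter fun s => ∃ x ∈ X, x * V.e1 * x⁻¹ = s, fun s => by simp⟩
  obtain ⟨C2, hC2⟩ : ∃ C2 : Finset G, ∀ c, c ∈ C2 ↔ c ∈ X ∧ c * V.e2 = V.e2 * c :=
    ⟨Finset.univ.filter fun c => c ∈ X ∧ c * V.e2 = V.e2 * c, fun c => by simp⟩
  have hC2card : C2.card ≤ B := by
    refine le_trans (le_of_eq ?_) V.bd2
    rw [← Nat.card_eq_finsetCard]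
    exact Nat.card_congr (Equiv.subtypeEquivRight fun c => by
      simp [hC2, Subgroup.mem_inf, Subgroup.mem_centralizer_singleton_iff])
  -- the involution of `⟨s, e₂⟩` in `e₃ X`
  have hex : ∀ s ∈ S, ∃ c ∈ C2, (V.e3 * c) * (V.e3 * c) = 1 ∧ s * (V.e3 * c) = V.e3 * c * s := by
    intro s hs
    obtain ⟨x, hx, rfl⟩ := (hS s).1 hs
    obtain ⟨s, hsd⟩ : ∃ s, x * V.e1 * x⁻¹ = s := ⟨_, rfl⟩
    rw [hsd]
    have hs2 : s * s = 1 := by
      rw [← hsd, show x * V.e1 * x⁻¹ * (x * V.e1 * x⁻¹) = x * (V.e1 * V.e1) * x⁻¹ by group, V.sq1,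
        mul_one, mul_inv_cancel]
    obtain ⟨d, hd⟩ : ∃ d, s * V.e2 = d := ⟨_, rfl⟩
    have hdX : V.e3 * d ∈ X := by
      have h1 : V.e1 * s ∈ X := by
        rw [← hsd, show V.e1 * (x * V.e1 * x⁻¹) = (V.e1 * x * V.e1) * x⁻¹ by group]
        exact mul_mem (V.norm1 x hx) (inv_mem hx)
      have h2 := V.norm2 _ h1
      rw [← hd, ← V.mul12, V.comm]
      simpa [mul_assoc] using h2
    have hd2 : d * d ∈ X := by
      have h := mul_mem (V.norm3 _ hdX) hdX
      rw [show V.e3 * (V.e3 * d) * V.e3 * (V.e3 * d) = (V.e3 * V.e3) * d * (V.e3 * V.e3) * d by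
        group, V.sq3, one_mul, mul_one] at h
      exact h
    have hsds : s * d * s = d⁻¹ := by
      rw [← hd, mul_inv_rev, inv_eq_of_mul_eq_one_right hs2, inv_eq_of_mul_eq_one_right V.sq2,
        ← mul_assoc, hs2, one_mul]
    have he2d : V.e2 * d * V.e2 = d⁻¹ := by
      rw [← hd, mul_inv_rev, inv_eq_of_mul_eq_one_right hs2, inv_eq_of_mul_eq_one_right V.sq2]
      rw [mul_assoc, mul_assoc s, V.sq2, mul_one]
    obtain ⟨n, hn⟩ : ∃ n, orderOf (d * d) = n := ⟨_, rfl⟩
    have hnodd : Odd n := hn ▸ hodd.of_dvd_nat (by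
      rw [← Subgroup.orderOf_mk (H := X) (d * d) hd2]; exact orderOf_dvd_natCard _)
    have hdn2 : d ^ n * d ^ n = 1 := by
      rw [← (Commute.refl d).mul_pow, ← hn, pow_orderOf_eq_one]
    obtain ⟨j, hj⟩ := hnodd
    have htX : V.e3 * d ^ n ∈ X := by
      rw [hj, pow_succ', pow_mul, pow_two, ← mul_assoc]
      exact mul_mem hdX (pow_mem hd2 _)
    have hinv : (d ^ n)⁻¹ = d ^ n := inv_eq_of_mul_eq_one_right hdn2
    have hsc : s * d ^ n = d ^ n * s := by
      have h := pow_mem_of_dihedral hs2 hsds n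
      rw [hinv] at h
      calc s * d ^ n = s * d ^ n * (s * s) := by rw [hs2, mul_one]
        _ = s * d ^ n * s * s := by group
        _ = _ := by rw [h]
    have hec : V.e2 * d ^ n = d ^ n * V.e2 := by
      have h := pow_mem_of_dihedral V.sq2 he2d n
      rw [hinv] at h
      calc V.e2 * d ^ n = V.e2 * d ^ n * (V.e2 * V.e2) := by rw [V.sq2, mul_one]
        _ = V.e2 * d ^ n * V.e2 * V.e2 := by group
        _ = _ := by rw [h]
    have h32 : V.e3 * V.e2 = V.e2 * V.e3 := by
      rw [← V.mul12, ← mul_assoc V.e2, ← V.comm]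
    refine ⟨V.e3 * d ^ n, (hC2 _).2 ⟨htX, ?_⟩, ?_, ?_⟩
    · rw [mul_assoc, ← hec, ← mul_assoc, h32, mul_assoc]
    · rw [← mul_assoc V.e3 V.e3, V.sq3, one_mul, hdn2]
    · rw [← mul_assoc V.e3 V.e3, V.sq3, one_mul, hsc]
  choose! c hc hc2 hcs using hex
  have hcardS : S.card ≤ B * B := by
    refine le_trans (Finset.card_le_mul_card_image_of_maps_to (f := c) hc B fun y hy => ?_) ?_
    · rcases (S.filter fun s => c s = y).eq_empty_or_nonempty with h0 | ⟨s₀, hs₀⟩
      · rw [h0]; exact Nat.zero_le _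
      obtain ⟨hs₀S, hs₀c⟩ := Finset.mem_filter.1 hs₀
      have ht : V.e3 * (V.e3 * y) ∈ X := by
        rw [← mul_assoc, V.sq3, one_mul]; exact ((hC2 y).1 hy).1
      refine le_trans ?_ ((card_le_centralizer hodd V.sq3 V.norm3 (by rw [← hs₀c]; exact hc2 s₀ hs₀S) ht).trans
        V.bd3)
      rw [← Nat.card_eq_finsetCard]
      refine Nat.card_le_card_of_injective (fun s => ⟨s₀⁻¹ * (s : G), Subgroup.mem_inf.2 ⟨?_, ?_⟩⟩) fun u v h => ?_
      · obtain ⟨hsS, -⟩ := Finset.mem_filter.1 s.2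
        obtain ⟨x, hx, hxs⟩ := (hS _).1 hsS
        obtain ⟨x₀, hx₀, hxs₀⟩ := (hS _).1 hs₀S
        rw [← hxs, ← hxs₀]
        have := mul_mem (mul_mem hx₀ (V.norm1 _ (mul_mem (inv_mem hx₀) hx))) (inv_mem hx)
        simpa [mul_assoc, inv_eq_of_mul_eq_one_right V.sq1] using this
      · obtain ⟨hsS, hsc⟩ := Finset.mem_filter.1 s.2
        show s₀⁻¹ * (s : G) ∈ Subgroup.centralizer ({V.e3 * y} : Set G)
        exact mul_mem (inv_mem (Subgroup.mem_centralizer_singleton_iff.2
          (by rw [← hs₀c]; exact hcs s₀ hs₀S)))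
          (Subgroup.mem_centralizer_singleton_iff.2 (by have := hcs (s : G) hsS; rwa [hsc] at this))
      · exact Subtype.ext (mul_left_cancel (congrArg Subtype.val h))
    · exact Nat.mul_le_mul_left B hC2card
  -- orbit and stabiliser
  have key : Nat.card X ≤ S.card * Nat.card (X ⊓ Subgroup.centralizer ({V.e1} : Set G) :
      Subgroup G) := by
    obtain ⟨A, hA⟩ : ∃ A : Finset G, ∀ x, x ∈ A ↔ x ∈ X :=
      ⟨Finset.univ.filter fun x => x ∈ X, fun x => by simp⟩
    rw [show Nat.card X = A.card by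
      rw [← Nat.card_eq_finsetCard]
      exact Nat.card_congr (Equiv.subtypeEquivRight fun x => (hA x).symm)]
    rw [mul_comm]
    refine Finset.card_le_mul_card_image_of_maps_to (f := fun x => x * V.e1 * x⁻¹)
      (fun x hx => (hS _).2 ⟨x, (hA x).1 hx, rfl⟩) _ fun s hs => ?_
    rcases (A.filter fun x => x * V.e1 * x⁻¹ = s).eq_empty_or_nonempty with h0 | ⟨x₀, hx₀⟩
    · rw [h0]; exact Nat.zero_le _
    obtain ⟨hx₀A, hx₀s⟩ := Finset.mem_filter.1 hx₀
    rw [← Nat.card_eq_finsetCard]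
    refine Nat.card_le_card_of_injective (fun x => ⟨x₀⁻¹ * (x : G), Subgroup.mem_inf.2 ⟨?_, ?_⟩⟩) fun u v h => ?_
    · exact mul_mem (inv_mem ((hA _).1 hx₀A)) ((hA _).1 (Finset.mem_filter.1 x.2).1)
    · show x₀⁻¹ * (x : G) ∈ Subgroup.centralizer ({V.e1} : Set G)
      rw [Subgroup.mem_centralizer_singleton_iff]
      have e := (Finset.mem_filter.1 x.2).2.trans hx₀s.symm
      have e2 := congrArg (fun z => x₀⁻¹ * z * (x : G)) e
      simpa [mul_assoc] using e2
    · exact Subtype.ext (mul_left_cancel (congrArg Subtype.val h))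
  exact key.trans (Nat.mul_le_mul hcardS V.bd1)

/-- A subgroup with central `2`-elements. -/
theorem card_le_of_central {X : Subgroup G} {B a : ℕ} (V : Four X B)
    (ha : (Nat.card X).factorization 2 ≤ a)
    (hc : ∀ x ∈ X, (∃ k, orderOf x = 2 ^ k) → ∀ y ∈ X, x * y = y * x) :
    Nat.card X ≤ 2 ^ a * (B * B * B) := by
  classical
  obtain ⟨P⟩ : Nonempty (Sylow 2 X) := inferInstance
  have hPc : ∀ x ∈ (P : Subgroup X), ∀ y : X, x * y = y * x := fun x hx y => by
    obtain ⟨k, hk⟩ := IsPGroup.iff_orderOf.1 P.2 ⟨x, hx⟩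
    rw [Subgroup.orderOf_mk] at hk
    exact Subtype.ext (hc x x.2 ⟨k, by rw [Subgroup.orderOf_coe]; exact hk⟩ y y.2)
  haveI : (P : Subgroup X).Normal := ⟨fun x hx y => by
    rw [← hPc x hx y, mul_inv_cancel_right]; exact hx⟩
  obtain ⟨O, hO⟩ := Subgroup.exists_right_complement'_of_coprime P.card_coprime_index
  have hcard : Nat.card (P : Subgroup X) * Nat.card O = Nat.card X := hO.card_mul_card
  have hOidx : O.index = Nat.card (P : Subgroup X) := hO.index_eq_card
  have hOodd : Odd (Nat.card O) := by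
    rw [← hO.symm.index_eq_card]
    exact Nat.not_even_iff_odd.1 fun h => P.not_dvd_index (even_iff_two_dvd.1 h)
  haveI hOn : O.Normal := ⟨fun o ho y => by
    obtain ⟨⟨⟨t, ht⟩, ⟨o', ho'⟩⟩, rfl⟩ := hO.surjective y
    show t * o' * o * (t * o')⁻¹ ∈ O
    rw [show t * o' * o * (t * o')⁻¹ = t * (o' * o * o'⁻¹) * t⁻¹ by group, hPc t ht,
      mul_inv_cancel_right]
    exact mul_mem (mul_mem ho' ho) (inv_mem ho')⟩
  -- odd elements lie in `O`
  have hodd : ∀ x : X, Odd (orderOf x) → x ∈ O := fun x hx => by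
    obtain ⟨j, hj⟩ := IsPGroup.iff_card.1 P.2
    have h1 : orderOf (x : X ⧸ O) ∣ 2 ^ j := by
      rw [← hj, ← hOidx, Subgroup.index_eq_card]; exact orderOf_dvd_natCard _
    have h2 : orderOf (x : X ⧸ O) ∣ orderOf x := orderOf_map_dvd (QuotientGroup.mk' O) x
    have h3 := Nat.eq_one_of_dvd_coprimes
      (Nat.Coprime.pow_left j (Nat.coprime_two_left.2 hx)) h1 h2
    exact (QuotientGroup.eq_one_iff x).1 (orderOf_eq_one_iff.1 h3)
  have hinv : ∀ e : G, e * e = 1 → (∀ x ∈ X, e * x * e ∈ X) →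
      ∀ y ∈ O.map X.subtype, e * y * e ∈ O.map X.subtype := by
    rintro e he hn _ ⟨o, ho, rfl⟩
    refine ⟨⟨e * o * e, hn _ o.2⟩, hodd _ ?_, rfl⟩
    rw [← Subgroup.orderOf_coe]
    show Odd (orderOf (e * (o : G) * e))
    have h1 : orderOf (e * (o : G) * e) = orderOf (o : G) := by
      rw [← MulEquiv.orderOf_eq (MulAut.conj e) (o : G), MulAut.conj_apply,
        inv_eq_of_mul_eq_one_right he]
    rw [h1, Subgroup.orderOf_coe, ← Subgroup.orderOf_mk (H := O) o ho]
    exact hOodd.of_dvd_nat (orderOf_dvd_natCard _)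
  have hle : O.map X.subtype ≤ X := Subgroup.map_subtype_le O
  have hcO : Nat.card (O.map X.subtype) = Nat.card O :=
    (Nat.card_congr (O.equivMapOfInjective _ X.subtype_injective).toEquiv).symm
  have h3 := card_le_of_odd (V.mono hle (hinv _ V.sq1 V.norm1) (hinv _ V.sq2 V.norm2))
    (hcO ▸ hOodd)
  rw [hcO] at h3
  rw [← hcard, P.card_eq_multiplicity]
  exact Nat.mul_le_mul (Nat.pow_le_pow_right two_pos ha) h3

theorem index_normalCore_le {X : Type u} [Group X] [Finite X] (H : Subgroup X) :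
    H.normalCore.index ≤ H.index.factorial := by
  classical
  letI := Fintype.ofFinite (X ⧸ H)
  rw [Subgroup.normalCore_eq_ker, Subgroup.index_ker, Subgroup.index_eq_card H, ← Nat.card_perm]
  exact Nat.card_le_card_of_injective Subtype.val Subtype.val_injective

/-- Counting products of two conjugates: some non-central element has a large centraliser. -/
theorem card_le_of_small {X : Subgroup G} {B Z : ℕ} (V : Four X B)
    (hZ : Nat.card (X ⊓ Subgroup.centralizer (X : Set G) : Subgroup G) ≤ Z)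
    (hbig : ∀ g ∈ X, g ∉ Subgroup.centralizer (X : Set G) →
      2 * B * B * Nat.card (X ⊓ Subgroup.centralizer ({g} : Set G) : Subgroup G) ≤ Nat.card X) :
    Nat.card X ≤ 2 * B * B * Z := by
  classical
  letI := Fintype.ofFinite G
  obtain ⟨S, hS⟩ : ∃ S : Finset G, ∀ s, s ∈ S ↔ ∃ x ∈ X, x * V.e1 * x⁻¹ = s :=
    ⟨Finset.univ.filter fun s => ∃ x ∈ X, x * V.e1 * x⁻¹ = s, fun s => by simp⟩
  obtain ⟨A, hA⟩ : ∃ A : Finset G, ∀ x, x ∈ A ↔ x ∈ X :=
    ⟨Finset.univ.filter fun x => x ∈ X, fun x => by simp⟩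
  have hcardA : Nat.card X = A.card := by
    rw [← Nat.card_eq_finsetCard]
    exact Nat.card_congr (Equiv.subtypeEquivRight fun x => (hA x).symm)
  have hmem : ∀ s ∈ S, s * s = 1 ∧ V.e1 * s ∈ X := fun s hs => by
    obtain ⟨x, hx, rfl⟩ := (hS s).1 hs
    refine ⟨?_, ?_⟩
    · rw [show x * V.e1 * x⁻¹ * (x * V.e1 * x⁻¹) = x * (V.e1 * V.e1) * x⁻¹ by group, V.sq1,
        mul_one, mul_inv_cancel]
    · rw [show V.e1 * (x * V.e1 * x⁻¹) = (V.e1 * x * V.e1) * x⁻¹ by group]
      exact mul_mem (V.norm1 x hx) (inv_mem hx)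
  have hdiff : ∀ s ∈ S, ∀ s' ∈ S, s⁻¹ * s' ∈ X := fun s hs s' hs' => by
    have h := mul_mem (inv_mem (hmem s hs).2) (hmem s' hs').2
    rwa [mul_inv_rev, mul_assoc, ← mul_assoc V.e1⁻¹, inv_mul_cancel, one_mul] at h
  have hsum : S.card * S.card ≤ ∑ g ∈ A, (S.filter fun s => s * g ∈ S).card := by
    rw [← Finset.card_product, ← Finset.card_sigma]
    refine Finset.card_le_card_of_injOn (fun q => ⟨q.1⁻¹ * q.2, q.1⟩) (fun q hq => ?_)
      fun q _ q' _ h => ?_
    · obtain ⟨h1, h2⟩ := Finset.mem_product.1 (Finset.mem_coe.1 hq)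
      refine Finset.mem_coe.2 (Finset.mem_sigma.2 ⟨(hA _).2 (hdiff _ h1 _ h2),
        Finset.mem_filter.2 ⟨h1, ?_⟩⟩)
      simpa using h2
    · obtain ⟨h1, h2⟩ := Sigma.mk.inj_iff.1 h
      have h2' : q.1 = q'.1 := eq_of_heq h2
      rw [h2'] at h1
      exact Prod.ext h2' (mul_left_cancel h1)
  have hone : ∀ g, (S.filter fun s => s * g ∈ S).card ≤ Nat.card X := fun g => by
    refine (Finset.card_filter_le _ _).trans ?_
    rw [hcardA]
    refine Finset.card_le_card_of_injOn (fun s => V.e1 * s)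
      (fun s hs => Finset.mem_coe.2 ((hA _).2 (hmem s (Finset.mem_coe.1 hs)).2))
      fun s _ s' _ h => mul_left_cancel h
  have hN : ∀ g ∈ X, (S.filter fun s => s * g ∈ S).card ≤
      Nat.card (X ⊓ Subgroup.centralizer ({g} : Set G) : Subgroup G) := by
    intro g _
    rcases (S.filter fun s => s * g ∈ S).eq_empty_or_nonempty with h0 | ⟨s₀, hs₀⟩
    · rw [h0]; exact Nat.zero_le _
    have hi : ∀ s ∈ S.filter (fun s => s * g ∈ S), s * g * s = g⁻¹ := fun s hs => by
      obtain ⟨h1, h2⟩ := Finset.mem_filter.1 hs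
      have h := (hmem _ h2).1
      rw [← mul_assoc] at h
      exact eq_inv_of_mul_eq_one_left h
    rw [← Nat.card_eq_finsetCard]
    refine Nat.card_le_card_of_injective (fun s => ⟨s₀⁻¹ * (s : G), Subgroup.mem_inf.2 ⟨?_, ?_⟩⟩) fun u v h => ?_
    · exact hdiff _ (Finset.mem_filter.1 hs₀).1 _ (Finset.mem_filter.1 s.2).1
    · show s₀⁻¹ * (s : G) ∈ Subgroup.centralizer ({g} : Set G)
      rw [Subgroup.mem_centralizer_singleton_iff]
      have e1 := hi (s : G) s.2
      have e0 := hi s₀ hs₀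
      have q1 := (hmem _ (Finset.mem_filter.1 s.2).1).1
      have q0 := (hmem _ (Finset.mem_filter.1 hs₀).1).1
      rw [inv_eq_of_mul_eq_one_right q0]
      have f1 : (s : G) * g = g⁻¹ * s := by
        rw [← e1, mul_assoc _ (s : G) (s : G), q1, mul_one]
      have f0 : s₀ * g⁻¹ = g * s₀ := by
        rw [← e0, show s₀ * (s₀ * g * s₀) = s₀ * s₀ * g * s₀ by group, q0, one_mul]
      rw [mul_assoc, f1, ← mul_assoc, f0, mul_assoc]
    · exact Subtype.ext (mul_left_cancel (congrArg Subtype.val h))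
  -- the size of the class
  have hS1 : Nat.card X ≤ B * S.card := by
    rw [hcardA]
    refine Finset.card_le_mul_card_image_of_maps_to (f := fun x => x * V.e1 * x⁻¹)
      (fun x hx => (hS _).2 ⟨x, (hA x).1 hx, rfl⟩) _ fun s hs => ?_
    rcases (A.filter fun x => x * V.e1 * x⁻¹ = s).eq_empty_or_nonempty with h0 | ⟨x₀, hx₀⟩
    · rw [h0]; exact Nat.zero_le _
    obtain ⟨hx₀A, hx₀s⟩ := Finset.mem_filter.1 hx₀
    refine le_trans ?_ V.bd1
    rw [← Nat.card_eq_finsetCard]
    refine Nat.card_le_card_of_injective (fun x => ⟨x₀⁻¹ * (x : G), Subgroup.mem_inf.2 ⟨?_, ?_⟩⟩) fun u v h => ?_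
    · exact mul_mem (inv_mem ((hA _).1 hx₀A)) ((hA _).1 (Finset.mem_filter.1 x.2).1)
    · show x₀⁻¹ * (x : G) ∈ Subgroup.centralizer ({V.e1} : Set G)
      rw [Subgroup.mem_centralizer_singleton_iff]
      have e := (Finset.mem_filter.1 x.2).2.trans hx₀s.symm
      have e2 := congrArg (fun z => x₀⁻¹ * z * (x : G)) e
      simpa [mul_assoc] using e2
    · exact Subtype.ext (mul_left_cancel (congrArg Subtype.val h))
  -- the two parts of the sum
  have hbound : 2 * B * B * (S.card * S.card) ≤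
      2 * B * B * (Z * Nat.card X) + Nat.card X * Nat.card X := by
    refine (Nat.mul_le_mul_left _ hsum).trans ?_
    rw [← Finset.sum_filter_add_sum_filter_not A (fun g => g ∈ Subgroup.centralizer (X : Set G)),
      mul_add]
    refine add_le_add (Nat.mul_le_mul_left _ ?_) ?_
    · refine (Finset.sum_le_card_nsmul _ _ _ fun g _ => hone g).trans ?_
      rw [smul_eq_mul]
      refine Nat.mul_le_mul_right _ (le_trans ?_ hZ)
      rw [← Nat.card_eq_finsetCard]
      refine le_of_eq (Nat.card_congr (Equiv.subtypeEquivRight fun g => ?_))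
      simp [hA, Subgroup.mem_inf]
    · rw [Finset.mul_sum]
      refine (Finset.sum_le_card_nsmul _ _ (Nat.card X) fun g hg => ?_).trans ?_
      · obtain ⟨h1, h2⟩ := Finset.mem_filter.1 hg
        exact (Nat.mul_le_mul_left _ (hN g ((hA g).1 h1))).trans (hbig g ((hA g).1 h1) h2)
      · rw [smul_eq_mul]
        exact Nat.mul_le_mul_right _ (hcardA ▸ Finset.card_filter_le _ _)
  have h2 : 2 * (Nat.card X * Nat.card X) ≤ 2 * B * B * (S.card * S.card) := by
    calc 2 * (Nat.card X * Nat.card X) ≤ 2 * ((B * S.card) * (B * S.card)) :=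
          Nat.mul_le_mul_left 2 (Nat.mul_le_mul hS1 hS1)
      _ = _ := by ring
  have h3 : Nat.card X * Nat.card X ≤ 2 * B * B * Z * Nat.card X := by
    rw [mul_assoc (2 * B * B) Z]; omega
  exact Nat.le_of_mul_le_mul_right h3 Nat.card_pos

/-- The bound. -/
theorem exists_bound : ∀ a B : ℕ, ∃ F : ℕ, ∀ (G : Type u) [Group G] [Finite G] (X : Subgroup G),
    Four X B → (Nat.card X).factorization 2 ≤ a → Nat.card X ≤ F := by
  intro a
  induction a with
  | zero =>
    refine fun B => ⟨B * B * B, fun G _ _ X V hX => card_le_of_odd V ?_⟩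
    exact Nat.not_even_iff_odd.1 fun h => by
      have := Nat.prime_two.factorization_pos_of_dvd Nat.card_pos.ne' (even_iff_two_dvd.1 h)
      omega
  | succ a ih =>
    intro B
    obtain ⟨F, hF⟩ := ih B
    obtain ⟨Z, hZ⟩ : ∃ Z, 2 ^ (a + 1) * (B * B * B) = Z := ⟨_, rfl⟩
    obtain ⟨I, hI⟩ : ∃ I, (2 * B * B).factorial ^ 4 = I := ⟨_, rfl⟩
    obtain ⟨L, hL⟩ : ∃ L, max (2 * B * B * Z) (I * F) = L := ⟨_, rfl⟩
    -- groups generated by their `2`-elements
    have hperf : ∀ (G : Type u) [Group G] [Finite G] (X : Subgroup G), Four X B →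
        (Nat.card X).factorization 2 ≤ a + 1 →
        (∀ N : Subgroup X, N.Normal → Odd N.index → N = ⊤) → Nat.card X ≤ L := by
      intro G _ _ X V hX hgen
      by_cases hbig : ∀ g ∈ X, g ∉ Subgroup.centralizer (X : Set G) →
          2 * B * B * Nat.card (X ⊓ Subgroup.centralizer ({g} : Set G) : Subgroup G) ≤ Nat.card X
      · refine le_trans ?_ (hL ▸ le_max_left _ _)
        refine card_le_of_small V ?_ hbig
        rw [← hZ]
        refine card_le_of_central (V.mono inf_le_left (fun y hy => ⟨V.norm1 y hy.1, ?_⟩)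
          (fun y hy => ⟨V.norm2 y hy.1, ?_⟩)) ?_ (fun x hx _ y hy =>
            (Subgroup.mem_centralizer_iff.1 hy.2 x hx.1))
        · show V.e1 * y * V.e1 ∈ Subgroup.centralizer (X : Set G)
          refine Subgroup.mem_centralizer_iff.2 fun x hx => ?_
          have h1 := Subgroup.mem_centralizer_iff.1 hy.2 _ (V.norm1 x hx)
          calc x * (V.e1 * y * V.e1) = (V.e1 * V.e1) * x * (V.e1 * y * V.e1) := by
                rw [V.sq1, one_mul]
            _ = V.e1 * (V.e1 * x * V.e1 * y) * V.e1 := by group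
            _ = V.e1 * (y * (V.e1 * x * V.e1)) * V.e1 := by rw [h1]
            _ = V.e1 * y * V.e1 * x * (V.e1 * V.e1) := by group
            _ = _ := by rw [V.sq1, mul_one]
        · show V.e2 * y * V.e2 ∈ Subgroup.centralizer (X : Set G)
          refine Subgroup.mem_centralizer_iff.2 fun x hx => ?_
          have h1 := Subgroup.mem_centralizer_iff.1 hy.2 _ (V.norm2 x hx)
          calc x * (V.e2 * y * V.e2) = (V.e2 * V.e2) * x * (V.e2 * y * V.e2) := by
                rw [V.sq2, one_mul]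
            _ = V.e2 * (V.e2 * x * V.e2 * y) * V.e2 := by group
            _ = V.e2 * (y * (V.e2 * x * V.e2)) * V.e2 := by rw [h1]
            _ = V.e2 * y * V.e2 * x * (V.e2 * V.e2) := by group
            _ = _ := by rw [V.sq2, mul_one]
        · exact le_trans ((Nat.factorization_le_iff_dvd Nat.card_pos.ne' Nat.card_pos.ne').2
            (Subgroup.card_dvd_of_le inf_le_left) 2) hX
      push Not at hbig
      obtain ⟨g, hgX, hgc, hsmall⟩ := hbig
      obtain ⟨H, hH⟩ : ∃ H : Subgroup X,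
          (Subgroup.centralizer ({g} : Set G)).subgroupOf X = H := ⟨_, rfl⟩
      have hHc : Nat.card H =
          Nat.card (X ⊓ Subgroup.centralizer ({g} : Set G) : Subgroup G) := by
        rw [← hH, inf_comm, ← Nat.card_congr (Subgroup.subgroupOfEquivOfLe inf_le_right).toEquiv,
          Subgroup.inf_subgroupOf_right]
      have hHi : H.index ≤ 2 * B * B := by
        have h1 := H.card_mul_index
        rw [hHc] at h1
        by_contra hlt
        have h4 := Nat.mul_le_mul_left (Nat.card (X ⊓ Subgroup.centralizer ({g} : Set G) : Subgroup G))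
          (le_of_not_ge hlt)
        rw [← h1, mul_comm (2 * B * B)] at hsmall
        omega
      obtain ⟨C, hC⟩ : ∃ C : Subgroup X, H.normalCore = C := ⟨_, rfl⟩
      have hCn : C.Normal := hC ▸ inferInstance
      -- the automorphisms
      obtain ⟨φ, hφ⟩ : ∃ φ : Fin 4 → X →* X, ∀ i (x : X), (φ i x : G) =
          ![1, V.e1, V.e2, V.e3] i * x * ![1, V.e1, V.e2, V.e3] i := by
        have hh : ∀ (e : G), e * e = 1 → (∀ x ∈ X, e * x * e ∈ X) →
            ∃ f : X →* X, ∀ x : X, (f x : G) = e * x * e := fun e he hn =>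
          ⟨MonoidHom.mk' (fun x => ⟨e * x * e, hn _ x.2⟩) fun x y => Subtype.ext (by
            show e * (x * y : X) * e = e * x * e * (e * y * e)
            rw [Subgroup.coe_mul, show e * (x : G) * e * (e * (y : G) * e) =
              e * x * (e * e) * y * e by group, he, mul_one, mul_assoc e (x : G)]), fun _ => rfl⟩
        obtain ⟨f1, h1⟩ := hh V.e1 V.sq1 V.norm1
        obtain ⟨f2, h2⟩ := hh V.e2 V.sq2 V.norm2
        obtain ⟨f3, h3⟩ := hh V.e3 V.sq3 V.norm3
        refine ⟨![MonoidHom.id X, f1, f2, f3], fun i x => ?_⟩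
        fin_cases i <;> simp [h1, h2, h3]
      obtain ⟨N, hN⟩ : ∃ N : Subgroup X, (⨅ i, C.comap (φ i)) = N := ⟨_, rfl⟩
      haveI hNn : N.Normal := hN ▸ Subgroup.normal_iInf_normal fun i => hCn.comap _
      have hNC : N ≤ C := fun x hx => by
        rw [← hN, Subgroup.mem_iInf] at hx
        have := hx 0
        rw [Subgroup.mem_comap] at this
        rwa [show φ 0 x = x from Subtype.ext (by simp [hφ])] at this
      have hNi : N.index ≤ I := by
        rw [← hN, ← hI]
        refine (Subgroup.index_iInf_le _).trans ?_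
        refine (Finset.prod_le_pow_card _ _ ((2 * B * B).factorial) fun i _ => ?_).trans
          (le_of_eq (by simp))
        refine le_trans (Nat.le_of_dvd (Nat.pos_of_ne_zero Subgroup.index_ne_zero_of_finite)
          ?_) ((hC ▸ index_normalCore_le H).trans (Nat.factorial_le hHi))
        rw [Subgroup.index_comap]
        exact Subgroup.relIndex_dvd_index_of_normal _ _
      have hne : N ≠ ⊤ := fun e => by
        refine hgc (Subgroup.mem_centralizer_iff.2 fun x hx => ?_)
        have h1 : (⟨x, hx⟩ : X) ∈ H :=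
          H.normalCore_le (hC.symm ▸ hNC (e ▸ Subgroup.mem_top _))
        rw [← hH, Subgroup.mem_subgroupOf, Subgroup.mem_centralizer_singleton_iff] at h1
        exact h1
      have heven : 2 ∣ N.index := by
        by_contra h
        exact hne (hgen N hNn (Nat.not_even_iff_odd.1 fun h2 => h (even_iff_two_dvd.1 h2)))
      have hinv : ∀ i, ∀ y ∈ N.map X.subtype,
          ![1, V.e1, V.e2, V.e3] i * y * ![1, V.e1, V.e2, V.e3] i ∈ N.map X.subtype := by
        rintro i _ ⟨x, hx, rfl⟩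
        refine ⟨φ i x, ?_, hφ i x⟩
        rw [← hN, SetLike.mem_coe, Subgroup.mem_iInf] at hx
        rw [SetLike.mem_coe, ← hN, Subgroup.mem_iInf]
        intro j
        rw [Subgroup.mem_comap]
        have hij : ∃ l, φ j (φ i x) = φ l x := by
          have c21 : V.e2 * V.e1 = V.e3 := V.comm ▸ V.mul12
          have c13 : V.e1 * V.e3 = V.e2 := by rw [← V.mul12, ← mul_assoc, V.sq1, one_mul]
          have c31 : V.e3 * V.e1 = V.e2 := by
            rw [← V.mul12, V.comm, mul_assoc, V.sq1, mul_one]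
          have c23 : V.e2 * V.e3 = V.e1 := by
            rw [← V.mul12, V.comm, ← mul_assoc, V.sq2, one_mul]
          have c32 : V.e3 * V.e2 = V.e1 := by rw [← V.mul12, mul_assoc, V.sq2, mul_one]
          have key : ∃ l, ![1, V.e1, V.e2, V.e3] j * ![1, V.e1, V.e2, V.e3] i =
              ![1, V.e1, V.e2, V.e3] l ∧ ![1, V.e1, V.e2, V.e3] i * ![1, V.e1, V.e2, V.e3] j =
              ![1, V.e1, V.e2, V.e3] l := by
            fin_cases i <;> fin_cases j <;>
              simp [Fin.exists_fin_succ, V.sq1, V.sq2, V.sq3, V.mul12, c21, c13, c31, c23, c32]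
          obtain ⟨l, hl1, hl2⟩ := key
          refine ⟨l, Subtype.ext ?_⟩
          rw [hφ, hφ, hφ, show ∀ u v w : G, u * (v * w * v) * u = (u * v) * w * (v * u) from
            fun u v w => by group, hl1, hl2]
        obtain ⟨l, hl⟩ := hij
        rw [hl]
        exact hx l
      have hcN : Nat.card (N.map X.subtype) = Nat.card N :=
        (Nat.card_congr (N.equivMapOfInjective _ X.subtype_injective).toEquiv).symm
      have h2 : (Nat.card (N.map X.subtype)).factorization 2 ≤ a := by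
        have h := congrArg (fun n => n.factorization 2) N.card_mul_index
        rw [Nat.factorization_mul Nat.card_pos.ne' Subgroup.index_ne_zero_of_finite, Finsupp.coe_add,
          Pi.add_apply] at h
        have := Nat.prime_two.factorization_pos_of_dvd Subgroup.index_ne_zero_of_finite heven
        rw [hcN]
        omega
      have h3 := hF G _ (V.mono (Subgroup.map_subtype_le N) (hinv 1) (hinv 2)) h2
      rw [← N.card_mul_index]
      refine le_trans ?_ (hL ▸ le_max_right _ _)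
      rw [mul_comm I]
      exact Nat.mul_le_mul (hcN ▸ h3) hNi
    refine ⟨Z * (L + 1) ^ (L + 1), fun G _ _ X V hX => ?_⟩
    classical
    obtain ⟨W, hW⟩ : ∃ W : Subgroup X,
        Subgroup.closure {x : X | ∃ k, orderOf x = 2 ^ k} = W := ⟨_, rfl⟩
    haveI hWn : W.Normal := hW ▸ by
      refine ⟨fun w hw y => ?_⟩
      have : W.map (MulAut.conj y).toMonoidHom ≤ W := by
        rw [← hW, MonoidHom.map_closure]
        refine Subgroup.closure_mono ?_
        rintro _ ⟨x, ⟨k, hk⟩, rfl⟩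
        exact ⟨k, (MulEquiv.orderOf_eq _ x).trans hk⟩
      rw [← hW] at this
      exact this ⟨w, hw, rfl⟩
    have hinv : ∀ e : G, e * e = 1 → (∀ x ∈ X, e * x * e ∈ X) →
        ∀ y ∈ W.map X.subtype, e * y * e ∈ W.map X.subtype := by
      intro e he hn
      obtain ⟨f, hf⟩ : ∃ f : X →* X, ∀ x : X, (f x : G) = e * x * e :=
        ⟨MonoidHom.mk' (fun x => ⟨e * x * e, hn _ x.2⟩) fun x y => Subtype.ext (by
          show e * (x * y : X) * e = e * x * e * (e * y * e)
          rw [Subgroup.coe_mul, show e * (x : G) * e * (e * (y : G) * e) =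
            e * x * (e * e) * y * e by group, he, mul_one, mul_assoc e (x : G)]), fun _ => rfl⟩
      rintro _ ⟨x, hx, rfl⟩
      refine ⟨f x, ?_, hf x⟩
      have : W.map f ≤ W := by
        rw [← hW, MonoidHom.map_closure]
        refine Subgroup.closure_mono ?_
        rintro _ ⟨y, ⟨k, hk⟩, rfl⟩
        refine ⟨k, ?_⟩
        rw [← Subgroup.orderOf_coe, hf, ← hk, ← Subgroup.orderOf_coe y,
          ← MulEquiv.orderOf_eq (MulAut.conj e) (y : G), MulAut.conj_apply,
          inv_eq_of_mul_eq_one_right he]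
      exact this ⟨x, hx, rfl⟩
    have hcW : Nat.card (W.map X.subtype) = Nat.card W :=
      (Nat.card_congr (W.equivMapOfInjective _ X.subtype_injective).toEquiv).symm
    have hWL : Nat.card W ≤ L := by
      rw [← hcW]
      refine hperf G _ (V.mono (Subgroup.map_subtype_le W) (hinv _ V.sq1 V.norm1)
        (hinv _ V.sq2 V.norm2)) ?_ ?_
      · rw [hcW]
        exact le_trans ((Nat.factorization_le_iff_dvd Nat.card_pos.ne' Nat.card_pos.ne').2
          (Subgroup.card_subgroup_dvd_card W) 2) hX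
      intro N hN hodd
      rw [eq_top_iff]
      obtain ⟨e, he⟩ : ∃ e : W ≃* W.map X.subtype, ∀ w, ((e w : W.map X.subtype) : G) = ((w : X) : G) :=
        ⟨W.equivMapOfInjective _ X.subtype_injective, fun _ => rfl⟩
      intro z _
      obtain ⟨z, rfl⟩ := e.surjective z
      haveI := hN
      have key : W ≤ (N.comap e.toMonoidHom).map W.subtype := by
        conv_lhs => rw [← hW]
        rw [Subgroup.closure_le]
        rintro x ⟨k, hk⟩
        have hxW : x ∈ W := hW ▸ Subgroup.subset_closure ⟨k, hk⟩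
        refine ⟨⟨x, hxW⟩, ?_, rfl⟩
        show e ⟨x, hxW⟩ ∈ N
        rw [← QuotientGroup.eq_one_iff, ← orderOf_eq_one_iff]
        refine Nat.eq_one_of_dvd_coprimes (Nat.Coprime.pow_left k (Nat.coprime_two_left.2 hodd))
          ?_ (by rw [Subgroup.index_eq_card]; exact orderOf_dvd_natCard _)
        rw [← hk, ← Subgroup.orderOf_mk (H := W) x hxW, ← MulEquiv.orderOf_eq e]
        exact orderOf_map_dvd (QuotientGroup.mk' N) _
      obtain ⟨w, hw, hwz⟩ := key z.2
      rw [← show w = z from Subtype.ext hwz]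
      exact hw
    obtain ⟨Y, hY⟩ : ∃ Y : Subgroup X, Subgroup.centralizer (W : Set X) = Y := ⟨_, rfl⟩
    haveI hYn : Y.Normal := hY ▸ inferInstance
    have hYinv : ∀ e : G, e * e = 1 → (∀ x ∈ X, e * x * e ∈ X) →
        ∀ y ∈ Y.map X.subtype, e * y * e ∈ Y.map X.subtype := by
      rintro e he hn _ ⟨y, hy, rfl⟩
      refine ⟨⟨e * y * e, hn _ y.2⟩, ?_, rfl⟩
      rw [← hY, SetLike.mem_coe, Subgroup.mem_centralizer_iff] at hy ⊢
      intro w hw
      obtain ⟨w', hw', hw'e⟩ := hinv e he hn _ (Subgroup.mem_map_of_mem X.subtype hw)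
      have h1 := congrArg Subtype.val (hy w' hw')
      refine Subtype.ext ?_
      simp only [Subgroup.coe_mul] at h1 ⊢
      rw [show ((w' : X) : G) = e * (w : G) * e from hw'e] at h1
      calc (w : G) * (e * (y : G) * e) = (e * e) * w * (e * y * e) := by rw [he, one_mul]
        _ = e * (e * (w : G) * e * y) * e := by group
        _ = e * ((y : G) * (e * w * e)) * e := by rw [h1]
        _ = e * y * e * w * (e * e) := by group
        _ = _ := by rw [he, mul_one]
    have hcY : Nat.card (Y.map X.subtype) = Nat.card Y :=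
      (Nat.card_congr (Y.equivMapOfInjective _ X.subtype_injective).toEquiv).symm
    have hYZ : Nat.card Y ≤ Z := by
      rw [← hcY, ← hZ]
      refine card_le_of_central (V.mono (Subgroup.map_subtype_le Y) (hYinv _ V.sq1 V.norm1)
        (hYinv _ V.sq2 V.norm2)) ?_ ?_
      · rw [hcY]
        exact le_trans ((Nat.factorization_le_iff_dvd Nat.card_pos.ne' Nat.card_pos.ne').2
          (Subgroup.card_subgroup_dvd_card Y) 2) hX
      rintro _ ⟨x, -, rfl⟩ ⟨k, hk⟩ _ ⟨y, hy, rfl⟩
      rw [← hY, SetLike.mem_coe, Subgroup.mem_centralizer_iff] at hy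
      have hxW : x ∈ W := hW ▸ Subgroup.subset_closure ⟨k, by rwa [← Subgroup.orderOf_coe]⟩
      exact congrArg Subtype.val (hy x hxW)
    let ψ : X →* MulAut W := MulAut.conjNormal
    have hker : ψ.ker ≤ Y := fun x hx => by
      rw [← hY, Subgroup.mem_centralizer_iff]
      intro w hw
      have h1 := congrArg Subtype.val (DFunLike.congr_fun (MonoidHom.mem_ker.1 hx) (⟨w, hw⟩ : W))
      simp only [ψ, MulAut.conjNormal_apply, MulAut.one_apply] at h1
      exact (mul_inv_eq_iff_eq_mul.1 h1).symm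
    rw [← ψ.ker.card_mul_index, Subgroup.index_ker]
    refine Nat.mul_le_mul ((Subgroup.card_le_of_le hker).trans hYZ) ?_
    calc Nat.card ψ.range ≤ Nat.card (W → W) :=
          Nat.card_le_card_of_injective (fun f w => (f : MulAut W) w) fun f g h =>
            Subtype.ext (MulEquiv.ext (congrFun h))
      _ = Nat.card W ^ Nat.card W := Nat.card_fun
      _ ≤ (L + 1) ^ (L + 1) :=
          le_trans (Nat.pow_le_pow_left (hWL.trans (Nat.le_succ L)) _)
            (Nat.pow_le_pow_right (Nat.succ_pos L) (hWL.trans (Nat.le_succ L)))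

end Cfsg.Agent.BoundedInvol
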