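import Cfsg.Agent.BlockChar.LowDefect

/-!
# Blocks with a character of positive height
-/

namespace Cfsg.Agent.BlockChar

open scoped ComplexConjugate
open Cfsg.Agent Cfsg.Agent.Blocks

universe u

variable {G : Type u} [Group G] {p : ℕ} {M : Ideal Cfsg.AlgInt}
  {B : Set (Cfsg.IrrCharacter G)}

theorem two_le_defect_of_height_pos [Finite G] (hM : Cfsg.IsPModular p M) (hB : Cfsg.IsPBlock M B)
    {χ : Cfsg.IrrCharacter G} (hχ : χ ∈ B) (h : 0 < Cfsg.blockHeight p B (χ : G → ℂ)) :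
    2 ≤ Cfsg.blockDefect p B := by
  classical
  have := Fintype.ofFinite G
  by_contra hd
  rw [not_le] at hd
  have hbf := brauer_feit hM hB
  obtain ⟨ψ, hψ, hv⟩ := exists_height_zero (p := p) (IsPBlock.nonempty hM hB)
  have h0 : Cfsg.blockHeight p B (ψ : G → ℂ) = 0 := by rw [blockHeight_eq, hv, Nat.sub_self]
  have hne : ψ ≠ χ := by rintro rfl; omega
  have h2 : p ^ (2 * Cfsg.blockHeight p B (χ : G → ℂ)) + 1 ≤ ∑ φ : Cfsg.IrrCharacter G,
      (if φ ∈ B then p ^ (2 * Cfsg.blockHeight p B (φ : G → ℂ)) else 0) := by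
    calc p ^ (2 * Cfsg.blockHeight p B (χ : G → ℂ)) + 1 = ∑ φ ∈ ({χ, ψ} : Finset _),
          (if φ ∈ B then p ^ (2 * Cfsg.blockHeight p B (φ : G → ℂ)) else 0) := by
          rw [Finset.sum_pair hne.symm, if_pos hχ, if_pos hψ, h0, Nat.mul_zero, pow_zero]
      _ ≤ _ := Finset.sum_le_sum_of_subset (Finset.subset_univ _)
  have h3 : p ^ 2 ≤ p ^ (2 * Cfsg.blockHeight p B (χ : G → ℂ)) :=
    Nat.pow_le_pow_right hM.1.pos (by omega)
  have h4 : p ^ (2 * Cfsg.blockDefect p B) ≤ p ^ 2 :=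
    Nat.pow_le_pow_right hM.1.pos (by omega)
  have h5 : 4 ≤ p ^ 2 := by nlinarith [hM.1.two_le]
  omega

theorem height_le_defect_sub_two [Finite G] (hM : Cfsg.IsPModular p M) (hB : Cfsg.IsPBlock M B)
    {χ : Cfsg.IrrCharacter G} (hχ : χ ∈ B) :
    Cfsg.blockHeight p B (χ : G → ℂ) = 0 ∨
      (2 ≤ Cfsg.blockDefect p B ∧
        Cfsg.blockHeight p B (χ : G → ℂ) + 2 ≤ Cfsg.blockDefect p B) := by
  refine Or.imp id (fun h => ?_) (Nat.eq_zero_or_pos (Cfsg.blockHeight p B (χ : G → ℂ)))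
  have hd := two_le_defect_of_height_pos hM hB hχ h
  exact ⟨hd, height_add_two_le hM hB hχ hd⟩

/-- With a character of positive height, `2 k(B) ≤ p ^ (2 d - 2)`. -/
theorem two_mul_card_le [Finite G] (hM : Cfsg.IsPModular p M) (hB : Cfsg.IsPBlock M B)
    {χ : Cfsg.IrrCharacter G} (hχ : χ ∈ B) (hpos : 0 < Cfsg.blockHeight p B (χ : G → ℂ)) :
    2 * Nat.card B ≤ p ^ (2 * Cfsg.blockDefect p B - 2) := by
  classical
  have := Fintype.ofFinite G
  set d := Cfsg.blockDefect p B with hdd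
  have hd := two_le_defect_of_height_pos hM hB hχ hpos
  have hh := height_add_two_le hM hB hχ hd
  set h := Cfsg.blockHeight p B (χ : G → ℂ) with hhd
  let S₀ := Finset.univ.filter fun φ : Cfsg.IrrCharacter G =>
    φ ∈ B ∧ Cfsg.blockHeight p B (φ : G → ℂ) = 0
  let S₁ := Finset.univ.filter fun φ : Cfsg.IrrCharacter G =>
    φ ∈ B ∧ Cfsg.blockHeight p B (φ : G → ℂ) ≠ 0
  have hcard : Nat.card B = S₀.card + S₁.card := by
    rw [Nat.card_eq_fintype_card, Fintype.card_subtype, ← Finset.card_union_of_disjoint]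
    · congr 1
      ext φ
      simp only [S₀, S₁, Finset.mem_filter, Finset.mem_univ, true_and, Finset.mem_union]
      tauto
    · rw [Finset.disjoint_left]
      intro φ h0 h1
      exact (Finset.mem_filter.1 h1).2.2 (Finset.mem_filter.1 h0).2.2
  obtain ⟨ψ, hψ, hψv⟩ := exists_height_zero (p := p) (IsPBlock.nonempty hM hB)
  have hψ0 : Cfsg.blockHeight p B (ψ : G → ℂ) = 0 := by rw [blockHeight_eq, hψv, Nat.sub_self]
  have hS₀ : 1 ≤ S₀.card := Finset.card_pos.2 ⟨ψ, by simp [S₀, hψ, hψ0]⟩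
  set q := p ^ (d - 1) with hq
  have hqd : p ^ (2 * d) = p ^ 2 * q ^ 2 := by
    rw [hq, ← pow_mul, ← pow_add]; congr 1; omega
  have hq2 : p ^ (2 * d - 2) = q ^ 2 := by
    rw [hq, ← pow_mul]; congr 1; omega
  -- the bound from the column of a character of height zero
  have hbf := brauer_feit hM hB
  have h1 : S₀.card + p ^ 2 * S₁.card ≤ ∑ φ : Cfsg.IrrCharacter G,
      (if φ ∈ B then p ^ (2 * Cfsg.blockHeight p B (φ : G → ℂ)) else 0) := by
    simp only [S₀, S₁, Finset.card_filter, Finset.mul_sum, ← Finset.sum_add_distrib]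
    refine Finset.sum_le_sum fun φ _ => ?_
    by_cases hφ : φ ∈ B
    · by_cases h0 : Cfsg.blockHeight p B (φ : G → ℂ) = 0
      · simp [hφ, h0]
      · simpa [hφ, h0] using Nat.pow_le_pow_right hM.1.pos
          (show 2 ≤ 2 * Cfsg.blockHeight p B (φ : G → ℂ) by omega)
    · simp [hφ]
  rw [← hdd, hqd] at hbf
  have hS₁ : 4 * S₁.card ≤ q ^ 2 := by
    have hp4 : 0 < p ^ 2 := pow_pos hM.1.pos 2
    refine Nat.le_of_mul_le_mul_left ?_ hp4
    have e : p ^ 2 * (4 * S₁.card) = 4 * (p ^ 2 * S₁.card) := by ring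
    omega
  -- the bound from the row of `χ`
  have hkk : ∀ φ : Cfsg.IrrCharacter G, ∃ k : ℤ, φ ∈ B → regM p B χ φ = (k : ℂ) := fun φ => by
    by_cases hm : φ ∈ B
    · obtain ⟨k, hk⟩ := exists_int_regM hM hχ φ
      exact ⟨k, fun _ => hk⟩
    · exact ⟨0, fun h' => absurd h' hm⟩
  choose k hk using hkk
  have hid : ((p ^ d : ℕ) : ℤ) * k χ =
      ∑ φ : Cfsg.IrrCharacter G, if φ ∈ B then k φ ^ 2 else 0 := by
    apply Int.cast_injective (α := ℂ)
    rw [Int.cast_mul, Int.cast_natCast, Int.cast_sum, ← hk χ hχ, hdd,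
      sum_regM_mul_self hM hB hχ]
    refine Finset.sum_congr rfl fun φ _ => ?_
    split_ifs with hm
    · rw [regM_comm hM χ φ, hk φ hm]; push_cast; ring
    · simp
  have hrow : ((p ^ (2 * h) : ℕ) : ℤ) * S₀.card + k χ ^ 2 ≤ ((p ^ d : ℕ) : ℤ) * k χ := by
    rw [hid, ← Finset.sum_erase_add _ _ (Finset.mem_univ χ), if_pos hχ, Finset.card_filter,
      Nat.cast_sum, Finset.mul_sum,
      ← Finset.sum_erase_add (f := fun φ => ((p ^ (2 * h) : ℕ) : ℤ) * _) _ (Finset.mem_univ χ)]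
    refine add_le_add ?_ le_rfl
    rw [show ((p ^ (2 * h) : ℕ) : ℤ) * (((if χ ∈ B ∧ Cfsg.blockHeight p B (χ : G → ℂ) = 0 then 1
      else 0) : ℕ) : ℤ) = 0 by rw [if_neg fun e => hpos.ne' e.2]; simp, add_zero]
    refine Finset.sum_le_sum fun φ _ => ?_
    by_cases hm : φ ∈ B ∧ Cfsg.blockHeight p B (φ : G → ℂ) = 0
    · rw [if_pos hm, if_pos hm.1, Nat.cast_one, mul_one]
      exact le_sq_regM hM hB hχ hm.1 hm.2 (hk φ hm.1)
    · rw [if_neg hm]
      split <;> simp [sq_nonneg]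
  have hS₀' : 4 * S₀.card ≤ q ^ 2 := by
    have hP : ((p ^ d : ℕ) : ℤ) ^ 2 = ((p ^ 2 * q ^ 2 : ℕ) : ℤ) := by
      rw [← hqd]; push_cast; rw [← pow_mul, Nat.mul_comm]
    have h4 : ((4 * (p ^ (2 * h) * S₀.card) : ℕ) : ℤ) ≤ ((p ^ 2 * q ^ 2 : ℕ) : ℤ) := by
      rw [← hP]
      push_cast at hrow ⊢
      nlinarith [sq_nonneg ((p : ℤ) ^ d - 2 * k χ)]
    have h5 : 4 * (p ^ (2 * h) * S₀.card) ≤ p ^ 2 * q ^ 2 := by exact_mod_cast h4
    have h6 : p ^ 2 * S₀.card ≤ p ^ (2 * h) * S₀.card :=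
      Nat.mul_le_mul_right _ (Nat.pow_le_pow_right hM.1.pos (by omega))
    refine Nat.le_of_mul_le_mul_left ?_ (pow_pos hM.1.pos 2 : 0 < p ^ 2)
    have e : p ^ 2 * (4 * S₀.card) = 4 * (p ^ 2 * S₀.card) := by ring
    omega
  rw [hcard, hq2]
  omega

end Cfsg.Agent.BlockChar
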