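import Mathlib.LinearAlgebra.Matrix.Charpoly.Coeff
import Mathlib.LinearAlgebra.Matrix.SchurComplement
import Mathlib.Analysis.Matrix.PosDef
import Mathlib.Algebra.Order.Star.Real
import Mathlib.LinearAlgebra.FiniteDimensional.Basic
import Mathlib.LinearAlgebra.Matrix.ToLin
import Mathlib.RingTheory.Int.Basic

/-!
# Integer forms which are a projection times a prime and have rank one modulo it

For a symmetric integer matrix `M` with `M * M = p • M` of trace `p * l` whose two by two minors
are divisible by `p`, the form takes values at least `l` at integer vectors outside its kernel,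
unless a diagonal entry equals `p`.
-/

namespace Cfsg.Agent.BlockChar

open Matrix

/-- If the two by two minors are divisible by a prime, the determinant is divisible by the power
one less than the size. -/
theorem pow_dvd_det_of_minors {ι : Type*} [Fintype ι] [DecidableEq ι] {p : ℕ} (hp : p.Prime)
    (A : Matrix ι ι ℤ) (h : ∀ i j k m, (p : ℤ) ∣ A i j * A k m - A i m * A k j) :
    (p : ℤ) ^ (Fintype.card ι - 1) ∣ A.det := by
  classical
  by_cases hall : ∀ i j, (p : ℤ) ∣ A i j
  · choose U hU using hall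
    rw [show A = (p : ℤ) • Matrix.of U from Matrix.ext fun i j => by simp [hU i j], det_smul]
    exact (pow_dvd_pow _ (Nat.sub_le _ _)).trans (dvd_mul_right _ _)
  push Not at hall
  obtain ⟨i₀, j₀, h0⟩ := hall
  have hco : IsCoprime (A i₀ j₀) (p : ℤ) :=
    ((Nat.prime_iff_prime_int.1 hp).coprime_iff_not_dvd.2 h0).symm
  obtain ⟨s, t, hst⟩ := hco
  let a : Matrix ι Unit ℤ := Matrix.of fun i _ => A i j₀
  let b : Matrix Unit ι ℤ := Matrix.of fun _ j => s * A i₀ j
  have hd : ∀ i j, (p : ℤ) ∣ A i j - (a * b) i j := fun i j => by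
    have h1 := h i j i₀ j₀
    have e : A i j - (a * b) i j =
        s * (A i j * A i₀ j₀ - A i j₀ * A i₀ j) + (p : ℤ) * (t * A i j) := by
      simp only [a, b, Matrix.mul_apply, Matrix.of_apply, Finset.univ_unique, Finset.sum_singleton]
      linear_combination (-A i j) * hst
    rw [e]
    exact dvd_add (dvd_mul_of_dvd_right h1 _) (dvd_mul_right _ _)
  choose U hU using hd
  have hA : A = (p : ℤ) • Matrix.of U - (-a) * b := by
    ext i j
    simp only [Matrix.sub_apply, Matrix.neg_mul, Matrix.neg_apply, Matrix.smul_apply,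
      Matrix.of_apply, smul_eq_mul, ← hU]
    ring
  have hblock : fromBlocks (1 : Matrix ι ι ℤ) 0 0 ((p : ℤ) • (1 : Matrix Unit Unit ℤ)) *
      fromBlocks ((p : ℤ) • Matrix.of U) (-a) b 1 =
      fromBlocks (Matrix.of U) (-a) b ((p : ℤ) • 1) *
        fromBlocks ((p : ℤ) • (1 : Matrix ι ι ℤ)) 0 0 (1 : Matrix Unit Unit ℤ) := by
    simp only [fromBlocks_multiply, Matrix.one_mul, Matrix.mul_one, Matrix.mul_zero,
      Matrix.zero_mul, add_zero, zero_add, Matrix.smul_mul, Matrix.mul_smul, smul_zero]
  have e := congrArg Matrix.det hblock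
  rw [det_mul, det_mul, det_fromBlocks_zero₁₂, det_fromBlocks_zero₁₂, det_fromBlocks_one₂₂, ← hA,
    det_one, one_mul, det_smul, det_smul, det_one, det_one, mul_one, mul_one, mul_one,
    Fintype.card_unit, pow_one] at e
  rcases Nat.eq_zero_or_pos (Fintype.card ι) with h0 | h0
  · simp [h0]
  · refine (mul_dvd_mul_iff_left (Int.natCast_ne_zero.2 hp.ne_zero)).1 ?_
    rw [← pow_succ', show Fintype.card ι - 1 + 1 = Fintype.card ι by omega, e]
    exact dvd_mul_left _ _

open Polynomial in
/-- The principal minors of size the trace of an idempotent matrix add up to one. -/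
theorem sum_minors_of_idempotent {ι : Type*} [Fintype ι] [DecidableEq ι] {P : Matrix ι ι ℝ}
    (hP : P * P = P) {r : ℕ} (hr : P.trace = r) :
    ∑ s ∈ Finset.univ.powersetCard r,
      (P.submatrix (Subtype.val : s → ι) (Subtype.val : s → ι)).det = 1 := by
  classical
  set f := P.toLin'
  let bW := Module.finBasis ℝ (LinearMap.range f)
  let bI := Pi.basisFun ℝ ι
  set Bm := LinearMap.toMatrix bW bI (LinearMap.range f).subtype
  set Am := LinearMap.toMatrix bI bW f.rangeRestrict
  have hBA : Bm * Am = P := by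
    rw [← LinearMap.toMatrix_comp, show (LinearMap.range f).subtype ∘ₗ f.rangeRestrict = f from rfl]
    simp [bI, f, LinearMap.toMatrix_eq_toMatrix', LinearMap.toMatrix'_toLin']
  have hfix : f.rangeRestrict ∘ₗ (LinearMap.range f).subtype = LinearMap.id := by
    refine LinearMap.ext fun w => Subtype.ext ?_
    obtain ⟨v, hv⟩ := w.2
    show f (w : ι → ℝ) = (w : ι → ℝ)
    rw [← hv]
    simp only [f, Matrix.toLin'_apply, mulVec_mulVec, hP]
  have hAB : Am * Bm = 1 := by
    rw [← LinearMap.toMatrix_comp, hfix, LinearMap.toMatrix_id]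
  have hn : Module.finrank ℝ (LinearMap.range f) = r := by
    have := Matrix.trace_mul_comm Bm Am
    rw [hBA, hAB, hr, trace_one, Fintype.card_fin] at this
    exact_mod_cast this.symm
  rw [← coeff_det_one_add_X_smul_eq_sum_minors P r,
    show (X : ℝ[X]) • P.map Polynomial.C =
        ((X : ℝ[X]) • Bm.map Polynomial.C) * Am.map Polynomial.C by
      rw [Matrix.smul_mul, ← Matrix.map_mul, hBA],
    det_one_add_mul_comm, Matrix.mul_smul, ← Matrix.map_mul, hAB,
    Matrix.map_one _ (map_zero _) (map_one _),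
    show (1 : Matrix (Fin _) (Fin _) ℝ[X]) + (X : ℝ[X]) • 1 = ((1 : ℝ[X]) + X) • 1 by
      rw [add_smul, one_smul],
    det_smul, det_one, mul_one, Fintype.card_fin, hn, add_comm, coeff_X_add_one_pow]
  simp

variable {ι : Type*} [Fintype ι] [DecidableEq ι] {p : ℕ} {M : Matrix ι ι ℤ}

/-- the Gram matrix of `z` and some unit vectors -/
def gram (M : Matrix ι ι ℤ) (z : ι → ℤ) (S : Finset ι) : Matrix (Unit ⊕ S) (Unit ⊕ S) ℤ :=
  (Matrix.of fun i => Sum.elim (fun _ : Unit => z i) fun s : S => (1 : Matrix ι ι ℤ) i s)ᵀ * M *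
    Matrix.of fun i => Sum.elim (fun _ : Unit => z i) fun s : S => (1 : Matrix ι ι ℤ) i s

theorem gram_minors (hmin : ∀ i j k m, (p : ℤ) ∣ M i j * M k m - M i m * M k j) (z : ι → ℤ)
    (S : Finset ι) (i j k m : Unit ⊕ S) :
    (p : ℤ) ∣ gram M z S i j * gram M z S k m - gram M z S i m * gram M z S k j := by
  set X : Matrix ι (Unit ⊕ S) ℤ :=
    Matrix.of fun i => Sum.elim (fun _ : Unit => z i) fun s : S => (1 : Matrix ι ι ℤ) i s
  have e : ∀ a b : Unit ⊕ S, gram M z S a b = ∑ v, ∑ u, X u a * M u v * X v b := fun a b => by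
    show (Xᵀ * M * X) a b = _
    simp [Matrix.mul_apply, Finset.sum_mul]
  simp only [e, Finset.sum_mul_sum, ← Finset.sum_sub_distrib]
  -- pair the terms with the same indices
  have key : ∀ v v' u u', (p : ℤ) ∣ (X u i * M u v * X v j) * (X u' k * M u' v' * X v' m) -
      (X u i * M u v' * X v' m) * (X u' k * M u' v * X v j) := fun v v' u u' => by
    rw [show (X u i * M u v * X v j) * (X u' k * M u' v' * X v' m) -
      (X u i * M u v' * X v' m) * (X u' k * M u' v * X v j) =
      (X u i * X v j * X u' k * X v' m) * (M u v * M u' v' - M u v' * M u' v) by ring]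
    exact dvd_mul_of_dvd_right (hmin _ _ _ _) _
  simp only [Finset.sum_sub_distrib]
  conv => arg 2; arg 2; rw [Finset.sum_comm]
  simp only [← Finset.sum_sub_distrib]
  exact Finset.dvd_sum fun v _ => Finset.dvd_sum fun v' _ => Finset.dvd_sum fun u _ =>
    Finset.dvd_sum fun u' _ => key v v' u u'

/-- the Gram matrix over the reals -/
theorem gram_map (hMs : M.IsSymm) (hMM : M * M = (p : ℤ) • M) (hp : p.Prime) (z : ι → ℤ)
    (S : Finset ι) :
    (gram M z S).map (Int.cast : ℤ → ℝ) = (p : ℝ)⁻¹ •
      (((M * Matrix.of fun i => Sum.elim (fun _ : Unit => z i) fun s : S => (1 : Matrix ι ι ℤ) i s).map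
          (Int.cast : ℤ → ℝ))ᴴ *
        (M * Matrix.of fun i => Sum.elim (fun _ : Unit => z i) fun s : S => (1 : Matrix ι ι ℤ) i s).map
          (Int.cast : ℤ → ℝ)) := by
  set X : Matrix ι (Unit ⊕ S) ℤ :=
    Matrix.of fun i => Sum.elim (fun _ : Unit => z i) fun s : S => (1 : Matrix ι ι ℤ) i s
  have e : (M * X)ᵀ * (M * X) = (p : ℤ) • gram M z S := by
    rw [Matrix.transpose_mul, hMs.eq, Matrix.mul_assoc, ← Matrix.mul_assoc M M X, hMM,
      Matrix.smul_mul, Matrix.mul_smul, ← Matrix.mul_assoc]
    rfl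
  have e' := congrArg (fun A : Matrix (Unit ⊕ S) (Unit ⊕ S) ℤ => A.map (Int.castRingHom ℝ)) e
  simp only [Matrix.map_mul, Matrix.transpose_map] at e'
  have hc : ((M * X).map (Int.cast : ℤ → ℝ))ᴴ = ((M * X).map (Int.cast : ℤ → ℝ))ᵀ :=
    Matrix.ext fun a b => by simp
  rw [hc]
  ext a b
  have e'' := congrFun (congrFun e' a) b
  rw [← Matrix.map_mul] at e''
  simp only [Matrix.map_apply, Matrix.smul_apply, smul_eq_mul, Int.coe_castRingHom,
    Int.cast_mul, Int.cast_natCast] at e'' ⊢
  rw [e'', inv_mul_cancel_left₀ (Nat.cast_ne_zero.2 hp.ne_zero)]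

theorem det_gram_nonneg (hMs : M.IsSymm) (hMM : M * M = (p : ℤ) • M) (hp : p.Prime) (z : ι → ℤ)
    (S : Finset ι) : 0 ≤ (gram M z S).det := by
  have h : (((gram M z S).det : ℤ) : ℝ) = ((gram M z S).map (Int.cast : ℤ → ℝ)).det :=
    (RingHom.map_det (Int.castRingHom ℝ) _)
  rw [← Int.cast_nonneg_iff (R := ℝ), h, gram_map hMs hMM hp, det_smul]
  exact mul_nonneg (pow_nonneg (inv_nonneg.2 (Nat.cast_nonneg p)) _)
    (Matrix.posSemidef_conjTranspose_mul_self _).det_nonneg

/-- The Gram determinant is positive when the images are independent. -/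
theorem pow_le_det_gram (hMs : M.IsSymm) (hMM : M * M = (p : ℤ) • M) (hp : p.Prime)
    (hmin : ∀ i j k m, (p : ℤ) ∣ M i j * M k m - M i m * M k j) (z : ι → ℤ) (S : Finset ι)
    (hindep : ∀ (a : ℝ) (c : ι → ℝ),
      (∀ i, a * (((M *ᵥ z) i : ℤ) : ℝ) + ∑ s ∈ S, c s * (M i s : ℝ) = 0) →
        a = 0 ∧ ∀ s ∈ S, c s = 0) :
    (p : ℤ) ^ S.card ≤ (gram M z S).det := by
  set Y := (M * Matrix.of fun i => Sum.elim (fun _ : Unit => z i)
    fun s : S => (1 : Matrix ι ι ℤ) i s).map (Int.cast : ℤ → ℝ) with hY
  have hinj : Function.Injective Y.mulVec := by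
    show Function.Injective Y.mulVecLin
    refine (injective_iff_map_eq_zero Y.mulVecLin).2 fun c hc => ?_
    obtain ⟨ha, hs⟩ := hindep (c (Sum.inl ())) (fun i => if h : i ∈ S then c (Sum.inr ⟨i, h⟩) else 0)
      fun i => by
        have := congrFun hc i
        simp only [Matrix.mulVecLin_apply, mulVec, dotProduct, Pi.zero_apply, hY, Matrix.map_apply,
          Fintype.sum_sum_type, Finset.univ_unique, Finset.sum_singleton] at this
        rw [← this, ← Finset.sum_coe_sort S]
        refine congrArg₂ _ ?_ (Finset.sum_congr rfl fun s _ => ?_)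
        · simp [Matrix.mul_apply, mulVec, dotProduct, mul_comm]
        · simp [Matrix.mul_apply, Matrix.one_apply, s.2, mul_comm]
    funext x
    rcases x with u | s
    · exact ha
    · simpa [s.2] using hs s s.2
  have hpd := Matrix.PosDef.conjTranspose_mul_self Y hinj
  have h : (((gram M z S).det : ℤ) : ℝ) = ((gram M z S).map (Int.cast : ℤ → ℝ)).det :=
    (RingHom.map_det (Int.castRingHom ℝ) _)
  have hpos : 0 < (gram M z S).det := by
    rw [← Int.cast_pos (R := ℝ), h, gram_map hMs hMM hp, ← hY, det_smul]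
    exact mul_pos (pow_pos (inv_pos.2 (Nat.cast_pos.2 hp.pos)) _) hpd.det_pos
  have hd := pow_dvd_det_of_minors hp (gram M z S) (gram_minors hmin z S)
  rw [Fintype.card_sum, Fintype.card_unit, Fintype.card_coe, Nat.add_sub_cancel_left] at hd
  exact Int.le_of_dvd hpos hd

theorem le_quadForm (hp : p.Prime) (hMs : M.IsSymm) (hMM : M * M = (p : ℤ) • M)
    (hmin : ∀ i j k m, (p : ℤ) ∣ M i j * M k m - M i m * M k j) {l : ℕ}
    (htr : M.trace = (p : ℤ) * l) (hdiag : ∀ i, M i i ≠ (p : ℤ)) (z : ι → ℤ)
    (hz : M *ᵥ z ≠ 0) : (l : ℤ) ≤ z ⬝ᵥ (M *ᵥ z) := by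
  classical
  set R : Matrix ι ι ℝ := M.map (Int.cast : ℤ → ℝ) with hR
  have hp0 : (p : ℝ) ≠ 0 := Nat.cast_ne_zero.2 hp.ne_zero
  have hRR : R * R = (p : ℝ) • R := by
    have := congrArg (fun A : Matrix ι ι ℤ => A.map (Int.castRingHom ℝ)) hMM
    simp only [Matrix.map_mul] at this
    refine this.trans (Matrix.ext fun i j => ?_)
    simp only [Matrix.map_apply, Matrix.smul_apply, smul_eq_mul, hR, Int.coe_castRingHom,
      Int.cast_mul, Int.cast_natCast]
  have hRs : ∀ i j, R i j = R j i := fun i j => by simp [hR, hMs.apply i j]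
  set u : ι → ℝ := fun i => (((M *ᵥ z) i : ℤ) : ℝ) with hu
  have hu0 : u ≠ 0 := fun h => hz (funext fun i => by simpa [hu] using congrFun h i)
  set q : ℝ := ((z ⬝ᵥ (M *ᵥ z) : ℤ) : ℝ) with hq
  have huu : ∑ i, u i * u i = (p : ℝ) * q := by
    have e : (M *ᵥ z) ⬝ᵥ (M *ᵥ z) = (p : ℤ) * (z ⬝ᵥ (M *ᵥ z)) := by
      conv_lhs => rw [dotProduct_comm, dotProduct_mulVec, ← mulVec_transpose, hMs.eq,
        mulVec_mulVec, hMM, smul_mulVec, smul_dotProduct, dotProduct_comm]
      rfl
    have e' := congrArg (fun n : ℤ => (n : ℝ)) e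
    simpa [dotProduct, hu, hq] using e'
  have hRu : R *ᵥ u = (p : ℝ) • u := by
    have e : M *ᵥ (M *ᵥ z) = (p : ℤ) • (M *ᵥ z) := by rw [mulVec_mulVec, hMM, smul_mulVec]
    funext i
    have e' := congrArg (fun n : ℤ => (n : ℝ)) (congrFun e i)
    simpa [mulVec, dotProduct, hR, hu] using e'
  have hqpos : 0 < q := by
    have h1 : 0 < ∑ i, u i * u i := by
      refine (Finset.sum_nonneg fun i _ => mul_self_nonneg (u i)).lt_of_ne fun h => hu0 ?_
      funext i
      exact mul_self_eq_zero.1
        ((Finset.sum_eq_zero_iff_of_nonneg fun i _ => mul_self_nonneg (u i)).1 h.symm i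
          (Finset.mem_univ i))
    rw [huu] at h1
    exact pos_of_mul_pos_right h1 (Nat.cast_nonneg p)
  -- a maximal independent set of columns
  obtain ⟨κ, t, htinj, hspan, hli⟩ := exists_linearIndependent' ℝ (fun j : ι => fun i => R i j)
  have : Fintype κ := Fintype.ofInjective t htinj
  have hcoord : ∀ j, ∃ D : κ → ℝ, ∀ i, R i j = ∑ k, D k * R i (t k) := fun j => by
    have hj : (fun i => R i j) ∈ Submodule.span ℝ
        (Set.range ((fun j : ι => fun i => R i j) ∘ t)) := by
      rw [hspan]; exact Submodule.subset_span ⟨j, rfl⟩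
    obtain ⟨D, hD⟩ := (Submodule.mem_span_range_iff_exists_fun ℝ).1 hj
    exact ⟨D, fun i => by have := congrFun hD i; simpa using this.symm⟩
  choose D hD using hcoord
  have huniq : ∀ c : κ → ℝ, (∀ i, ∑ k, c k * R i (t k) = 0) → c = 0 := fun c hc => by
    have := Fintype.linearIndependent_iff.1 hli c (funext fun i => by simpa using hc i)
    exact funext this
  have hDt : ∀ k k', D (t k) k' = if k' = k then 1 else 0 := fun k k' => by
    have := huniq (fun k' => D (t k) k' - if k' = k then 1 else 0) fun i => by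
      simp only [sub_mul, Finset.sum_sub_distrib, ← hD (t k) i, ite_mul, one_mul, zero_mul,
        Finset.sum_ite_eq', Finset.mem_univ, if_true, sub_self]
    exact sub_eq_zero.1 (congrFun this k')
  -- the coordinates of `u`
  set cz : κ → ℝ := fun k => ∑ j, (z j : ℝ) * D j k with hcz
  have hucoord : ∀ i, u i = ∑ k, cz k * R i (t k) := fun i => by
    simp only [hu, hcz, mulVec, dotProduct, Int.cast_sum, Int.cast_mul, Finset.sum_mul]
    rw [Finset.sum_comm]
    refine Finset.sum_congr rfl fun j _ => ?_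
    rw [show ((M i j : ℤ) : ℝ) = R i j from rfl, hD j i, Finset.sum_mul]
    exact Finset.sum_congr rfl fun k _ => by ring
  obtain ⟨k₀, hk₀⟩ : ∃ k₀, cz k₀ ≠ 0 := by
    by_contra! h
    exact hu0 (funext fun i => by simp [hucoord i, h])
  -- an element exchanging with each one
  have hex : ∀ k, ∃ j, (∀ k', j ≠ t k') ∧ D j k ≠ 0 := fun k => by
    by_contra! h
    refine hdiag (t k) ?_
    have h1 := huniq (fun k' => ∑ j, R j (t k) * D j k' - (p : ℝ) * if k' = k then 1 else 0)
      fun i => by
        simp only [sub_mul, Finset.sum_sub_distrib, Finset.sum_mul, mul_assoc]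
        rw [Finset.sum_comm, ← Finset.mul_sum]
        simp only [← Finset.mul_sum, ← hD, ite_mul, one_mul, zero_mul, Finset.sum_ite_eq',
          Finset.mem_univ, if_true]
        have e := congrFun (congrFun hRR i) (t k)
        rw [Matrix.mul_apply, Matrix.smul_apply, smul_eq_mul] at e
        rw [← e, Finset.sum_congr rfl fun j _ => mul_comm (R j (t k)) (R i j), sub_self]
    have h2 := congrFun h1 k
    simp only [Pi.zero_apply, if_true, mul_one] at h2
    rw [Finset.sum_eq_single (t k) (fun j _ hj => by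
      by_cases hjt : ∃ k', j = t k'
      · obtain ⟨k', rfl⟩ := hjt
        rw [hDt, if_neg fun e => hj (by rw [e]), mul_zero]
      · push Not at hjt
        rw [h j hjt, mul_zero]) (by simp), hDt, if_pos rfl, mul_one, sub_eq_zero] at h2
    simp only [hR, Matrix.map_apply] at h2
    exact_mod_cast h2
  choose J hJ hJD using hex
  set T : Finset ι := Finset.univ.image t with hT
  let Sf : κ → Finset ι := fun k =>
    if cz k ≠ 0 then T.erase (t k) else insert (J k) ((T.erase (t k)).erase (t k₀))
  have hTt : ∀ k, t k ∈ T := fun k => Finset.mem_image_of_mem t (Finset.mem_univ k)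
  have hJT : ∀ k, J k ∉ T := fun k h => by
    obtain ⟨k', -, e⟩ := Finset.mem_image.1 h
    exact hJ k k' e.symm
  have hcardT : T.card = Fintype.card κ := by
    rw [hT, Finset.card_image_of_injective _ htinj, Finset.card_univ]
  have hScard : ∀ k, (Sf k).card = Fintype.card κ - 1 := fun k => by
    simp only [Sf]
    split_ifs with h
    · rw [Finset.card_erase_of_mem (hTt k), hcardT]
    · rw [Finset.card_insert_of_notMem (fun h' => hJT k (Finset.mem_of_mem_erase
        (Finset.mem_of_mem_erase h'))), Finset.card_erase_of_mem (Finset.mem_erase.2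
          ⟨fun e => h (by rw [← htinj e]; exact hk₀), hTt k₀⟩), Finset.card_erase_of_mem (hTt k), hcardT]
      have h2 : k ≠ k₀ := fun e => h (e ▸ hk₀)
      have h3 : 1 < Fintype.card κ := Fintype.one_lt_card_iff.2 ⟨k, k₀, h2⟩
      omega
  have hSinj : Function.Injective Sf := fun k k' e => by
    simp only [Sf] at e
    split_ifs at e with h h' h'
    · by_contra hne
      exact Finset.notMem_erase (t k) T
        (e ▸ Finset.mem_erase.2 ⟨fun e' => hne (htinj e'), hTt k⟩)
    · exact absurd (e.symm ▸ Finset.mem_insert_self (J k') _ : J k' ∈ T.erase (t k))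
        fun h'' => hJT k' (Finset.mem_of_mem_erase h'')
    · exact absurd (e ▸ Finset.mem_insert_self (J k) _ : J k ∈ T.erase (t k'))
        fun h'' => hJT k (Finset.mem_of_mem_erase h'')
    · by_contra hne
      have hmem : t k ∈ insert (J k') ((T.erase (t k')).erase (t k₀)) := by
        refine Finset.mem_insert_of_mem (Finset.mem_erase.2 ⟨fun e' => ?_,
          Finset.mem_erase.2 ⟨fun e' => hne (htinj e'), hTt k⟩⟩)
        exact h (htinj e' ▸ hk₀)
      rw [← e] at hmem
      rcases Finset.mem_insert.1 hmem with h'' | h''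
      · exact hJ k k h''.symm
      · exact Finset.notMem_erase (t k) T (Finset.mem_of_mem_erase h'')
  -- each of these sets is independent with `u`
  have hindep : ∀ k (a : ℝ) (c : ι → ℝ), (∀ i, a * u i + ∑ s ∈ Sf k, c s * R i s = 0) →
      a = 0 ∧ ∀ s ∈ Sf k, c s = 0 := by
    intro k a c hc
    have h1 := huniq (fun k' => a * cz k' + ∑ s ∈ Sf k, c s * D s k') fun i => by
      rw [← hc i, hucoord i]
      simp only [add_mul, Finset.sum_add_distrib, Finset.sum_mul, Finset.mul_sum]
      congr 1
      · exact Finset.sum_congr rfl fun k' _ => by ring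
      · rw [Finset.sum_comm]
        refine Finset.sum_congr rfl fun s _ => ?_
        rw [hD s i, Finset.mul_sum]
        exact Finset.sum_congr rfl fun k' _ => by ring
    have hat : ∀ (s : ι) (k' : κ), s ∈ T → s ≠ t k' → D s k' = 0 := fun s k' hs hne => by
      obtain ⟨k'', -, rfl⟩ := Finset.mem_image.1 hs
      rw [hDt, if_neg fun e => hne (by rw [e])]
    have hk := congrFun h1 k
    by_cases hck : cz k ≠ 0
    · have hS : Sf k = T.erase (t k) := if_pos hck
      rw [hS] at h1 hk ⊢
      rw [Pi.zero_apply, Finset.sum_eq_zero (fun s hs => by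
        rw [hat s k (Finset.mem_of_mem_erase hs) (Finset.ne_of_mem_erase hs), mul_zero]),
        add_zero, mul_eq_zero, or_iff_left hck] at hk
      refine ⟨hk, fun s hs => ?_⟩
      obtain ⟨k', -, rfl⟩ := Finset.mem_image.1 (Finset.mem_of_mem_erase hs)
      have := congrFun h1 k'
      rw [hk, zero_mul, zero_add, Pi.zero_apply, Finset.sum_eq_single (t k') (fun s' hs' hne => by
        rw [hat s' k' (Finset.mem_of_mem_erase hs') hne, mul_zero]) (fun h => absurd hs h),
        hDt, if_pos rfl, mul_one] at this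
      exact this
    · have hS : Sf k = insert (J k) ((T.erase (t k)).erase (t k₀)) := if_neg hck
      rw [hS] at h1 hk ⊢
      push Not at hck
      have hJn : J k ∉ (T.erase (t k)).erase (t k₀) := fun h' =>
        hJT k (Finset.mem_of_mem_erase (Finset.mem_of_mem_erase h'))
      simp only [Finset.sum_insert hJn] at h1 hk
      rw [Pi.zero_apply, hck, mul_zero, zero_add, Finset.sum_eq_zero (fun s hs => by
        rw [hat s k (Finset.mem_of_mem_erase (Finset.mem_of_mem_erase hs))
          (Finset.ne_of_mem_erase (Finset.mem_of_mem_erase hs)), mul_zero]),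
        add_zero, mul_eq_zero, or_iff_left (hJD k)] at hk
      have hk0 := congrFun h1 k₀
      rw [hk, zero_mul, zero_add, Pi.zero_apply, Finset.sum_eq_zero (fun s hs => by
        rw [hat s k₀ (Finset.mem_of_mem_erase (Finset.mem_of_mem_erase hs))
          (Finset.ne_of_mem_erase hs), mul_zero]), add_zero, mul_eq_zero,
        or_iff_left hk₀] at hk0
      refine ⟨hk0, fun s hs => ?_⟩
      rcases Finset.mem_insert.1 hs with rfl | hs
      · exact hk
      obtain ⟨k', -, rfl⟩ := Finset.mem_image.1
        (Finset.mem_of_mem_erase (Finset.mem_of_mem_erase hs))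
      have := congrFun h1 k'
      rw [hk0, zero_mul, zero_add, hk, zero_mul, zero_add, Pi.zero_apply,
        Finset.sum_eq_single (t k') (fun s' hs' hne => by
          rw [hat s' k' (Finset.mem_of_mem_erase (Finset.mem_of_mem_erase hs')) hne, mul_zero])
          (fun h => absurd hs h), hDt, if_pos rfl, mul_one] at this
      exact this
  -- the number of columns in the independent set is `l`
  have hl : Fintype.card κ = l := by
    have h1 : ∀ k, ∑ j, R j (t k) * D j k = (p : ℝ) := fun k => by
      have := huniq (fun k' => ∑ j, R j (t k) * D j k' - (p : ℝ) * if k' = k then 1 else 0)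
        fun i => by
          simp only [sub_mul, Finset.sum_sub_distrib, Finset.sum_mul, mul_assoc]
          rw [Finset.sum_comm, ← Finset.mul_sum]
          simp only [← Finset.mul_sum, ← hD, ite_mul, one_mul, zero_mul, Finset.sum_ite_eq',
            Finset.mem_univ, if_true]
          have e := congrFun (congrFun hRR i) (t k)
          rw [Matrix.mul_apply, Matrix.smul_apply, smul_eq_mul] at e
          rw [← e, Finset.sum_congr rfl fun j _ => mul_comm (R j (t k)) (R i j), sub_self]
      have h2 := congrFun this k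
      simp only [Pi.zero_apply, if_true, mul_one, sub_eq_zero] at h2
      exact h2
    have h2 : ∑ j, R j j = ∑ k, ∑ j, R j (t k) * D j k := by
      rw [Finset.sum_comm]
      refine Finset.sum_congr rfl fun j _ => ?_
      rw [hD j j]
      exact Finset.sum_congr rfl fun k _ => mul_comm _ _
    rw [Finset.sum_congr rfl fun k _ => h1 k, Finset.sum_const, Finset.card_univ, nsmul_eq_mul]
      at h2
    have h3 : ∑ j, R j j = (p : ℝ) * l := by
      have := congrArg (fun n : ℤ => (n : ℝ)) htr
      simpa [Matrix.trace, hR] using this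
    rw [h3, mul_comm] at h2
    exact_mod_cast (mul_right_cancel₀ hp0 h2).symm
  have hlpos : 0 < l := hl ▸ Fintype.card_pos_iff.2 ⟨k₀⟩
  -- the identity for the Gram determinants
  set P' : Matrix ι ι ℝ := (p : ℝ)⁻¹ • (R - q⁻¹ • Matrix.vecMulVec u u) with hP'
  have huR : u ᵥ* R = (p : ℝ) • u := by
    rw [← hRu]; funext j
    simp only [vecMul, mulVec, dotProduct]
    exact Finset.sum_congr rfl fun i _ => by rw [hRs i j]; ring
  have hP'idem : P' * P' = P' := by
    have h1 : vecMulVec u u * R = (p : ℝ) • vecMulVec u u := by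
      rw [vecMulVec_mul, huR, vecMulVec_smul]
    have h2 : R * vecMulVec u u = (p : ℝ) • vecMulVec u u := by
      rw [mul_vecMulVec, hRu, smul_vecMulVec]
    have h3 : vecMulVec u u * vecMulVec u u = ((p : ℝ) * q) • vecMulVec u u := by
      rw [vecMulVec_mul_vecMulVec, ← huu]
      ext i j; simp [vecMulVec_apply, dotProduct]; ring
    rw [hP']
    simp only [Matrix.smul_mul, Matrix.mul_smul, Matrix.sub_mul, Matrix.mul_sub, h1, h2, h3, hRR]
    ext i j
    simp only [Matrix.smul_apply, Matrix.sub_apply, smul_eq_mul]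
    field_simp
    ring
  have hP'tr : P'.trace = ((l - 1 : ℕ) : ℝ) := by
    have h3 : R.trace = (p : ℝ) * l := by
      have := congrArg (fun n : ℤ => (n : ℝ)) htr
      simpa [Matrix.trace, hR] using this
    rw [hP', trace_smul, trace_sub, trace_smul, h3, trace_vecMulVec,
      show u ⬝ᵥ u = ∑ i, u i * u i from rfl, huu, Nat.cast_sub hlpos]
    simp only [smul_eq_mul]
    field_simp
    simp
  have hschur : ∀ s : Finset ι, (((gram M z s).det : ℤ) : ℝ) =
      q * (p : ℝ) ^ s.card * (P'.submatrix (Subtype.val : s → ι) (Subtype.val : s → ι)).det := by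
    intro s
    have h : (((gram M z s).det : ℤ) : ℝ) = ((gram M z s).map (Int.cast : ℤ → ℝ)).det :=
      (RingHom.map_det (Int.castRingHom ℝ) _)
    let : Invertible (Matrix.of fun _ _ : Unit => q) :=
      ⟨Matrix.of fun _ _ => q⁻¹, by ext; simp [Matrix.mul_apply, hqpos.ne'],
        by ext; simp [Matrix.mul_apply, hqpos.ne']⟩
    have hblocks : (gram M z s).map (Int.cast : ℤ → ℝ) = fromBlocks (Matrix.of fun _ _ : Unit => q)
        (Matrix.of fun (_ : Unit) (b : s) => u b) (Matrix.of fun (a : s) (_ : Unit) => u a)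
        (R.submatrix (Subtype.val : s → ι) (Subtype.val : s → ι)) := by
      ext a b
      rcases a with a | a <;> rcases b with b | b <;>
        simp only [Matrix.map_apply, gram, fromBlocks_apply₁₁, fromBlocks_apply₁₂,
          fromBlocks_apply₂₁, fromBlocks_apply₂₂, Matrix.of_apply, Matrix.submatrix_apply,
          Matrix.mul_assoc]
      · simp [Matrix.mul_apply, hq, dotProduct, mulVec]
      · simp [Matrix.mul_apply, hu, mulVec, dotProduct, Matrix.one_apply, mul_comm, hMs.apply]
      · simp [Matrix.mul_apply, hu, mulVec, dotProduct, Matrix.one_apply]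
      · simp [Matrix.mul_apply, hR, Matrix.one_apply]
    rw [h, hblocks, det_fromBlocks₁₁, det_unique, Matrix.of_apply, mul_assoc]
    congr 1
    rw [show R.submatrix (Subtype.val : s → ι) (Subtype.val : s → ι) -
        (Matrix.of fun (a : s) (_ : Unit) => u a) * ⅟(Matrix.of fun _ _ : Unit => q) *
          (Matrix.of fun (_ : Unit) (b : s) => u b) =
        (p : ℝ) • P'.submatrix (Subtype.val : s → ι) (Subtype.val : s → ι) from ?_, det_smul,
      Fintype.card_coe]
    ext a b
    simp [hP', Matrix.mul_apply, vecMulVec_apply, Matrix.invOf_eq_nonsing_inv,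
      Matrix.inv_subsingleton]
    field_simp
  have hsum := sum_minors_of_idempotent hP'idem hP'tr
  have hle : ((Fintype.card κ : ℤ) * (p : ℤ) ^ (l - 1)) ≤
      ∑ s ∈ Finset.univ.powersetCard (l - 1), (gram M z s).det := by
    calc ((Fintype.card κ : ℤ) * (p : ℤ) ^ (l - 1))
        = ∑ s ∈ Finset.univ.image Sf, (p : ℤ) ^ (l - 1) := by
          rw [Finset.sum_const, Finset.card_image_of_injective _ hSinj, Finset.card_univ,
            nsmul_eq_mul]
      _ ≤ ∑ s ∈ Finset.univ.image Sf, (gram M z s).det := Finset.sum_le_sum fun s hs => by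
          obtain ⟨k, -, rfl⟩ := Finset.mem_image.1 hs
          rw [← hl, ← hScard k]
          exact pow_le_det_gram hMs hMM hp hmin z (Sf k) (hindep k)
      _ ≤ _ := Finset.sum_le_sum_of_subset_of_nonneg (fun s hs => by
          obtain ⟨k, -, rfl⟩ := Finset.mem_image.1 hs
          rw [Finset.mem_powersetCard, hScard k, hl]
          exact ⟨Finset.subset_univ _, rfl⟩) fun s _ _ => det_gram_nonneg hMs hMM hp z s
  have hreal : ((∑ s ∈ Finset.univ.powersetCard (l - 1), (gram M z s).det : ℤ) : ℝ) =
      q * (p : ℝ) ^ (l - 1) := by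
    rw [Int.cast_sum, Finset.sum_congr rfl fun s hs => (hschur s).trans (by
      rw [(Finset.mem_powersetCard.1 hs).2]), ← Finset.mul_sum, hsum, mul_one]
  rw [hl] at hle
  have hle' : ((l : ℝ) * (p : ℝ) ^ (l - 1)) ≤ q * (p : ℝ) ^ (l - 1) := by
    rw [← hreal]; exact_mod_cast hle
  have := le_of_mul_le_mul_right hle' (pow_pos (Nat.cast_pos.2 hp.pos) _)
  rw [hq] at this
  exact_mod_cast this

end Cfsg.Agent.BlockChar
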