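import Cfsg.Agent.BlockChar.PowerMean
import Cfsg.Agent.BlockChar.Galois
import Cfsg.Agent.Blocks.PPart

/-!
# Sums of character values over the p-regular elements

For a character `χ` the sum over the p-regular elements is a rational integer divisible by the
p'-part of the group order.
-/

namespace Cfsg.Agent.BlockChar

open Cfsg.Agent
open Cfsg.Agent.Blocks (pPartOf pPrimePartOf)

universe u

/-- the sum over the p-regular elements -/
noncomputable def regSum {G : Type u} [Group G] [Fintype G] (p : ℕ) (f : G → ℂ) : ℂ :=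
  open Classical in ∑ w : G, if Cfsg.IsPRegular p w then f w else 0

theorem regSum_eq_filter {G : Type u} [Group G] [Fintype G] (p : ℕ) (f : G → ℂ)
    [DecidablePred (Cfsg.IsPRegular (G := G) p)] :
    regSum p f = ∑ w ∈ Finset.univ.filter (Cfsg.IsPRegular p), f w := by
  rw [regSum, Finset.sum_filter]
  exact Finset.sum_congr rfl fun w _ => by congr

variable {G : Type u} [Group G] {p : ℕ}

theorem exists_primePartExp [Finite G] (hp : p.Prime) :
    ∃ e : ℕ, e ≠ 0 ∧ ∀ g : G, g ^ e = pPrimePartOf p g := by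
  set n := Nat.card G with hn
  have hn0 : n ≠ 0 := Nat.card_pos.ne'
  have hco : Nat.Coprime (p ^ n.factorization p) (n / p ^ n.factorization p) :=
    (Nat.coprime_ordCompl hp hn0).pow_left _
  obtain ⟨e, he1, he2⟩ := Nat.chineseRemainder hco 0 1
  refine ⟨e + n, by omega, fun g => ?_⟩
  set u := pPartOf p g with hu
  set s := pPrimePartOf p g with hs
  have hus : u * s = g := Blocks.pPartOf_mul_pPrimePartOf hp g
  have hc : Commute u s := Blocks.commute_pPartOf_pPrimePartOf g
  obtain ⟨k, hk⟩ := Blocks.orderOf_pPartOf hp g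
  have hdvd : ∀ x : G, orderOf x ∣ p ^ n.factorization p * (n / p ^ n.factorization p) := fun x => by
    rw [Nat.ordProj_mul_ordCompl_eq_self]; exact orderOf_dvd_natCard x
  have h1 : orderOf u ∣ p ^ n.factorization p := by
    refine Nat.Coprime.dvd_of_dvd_mul_right ?_ (hdvd u)
    rw [← hu] at hk
    rw [hk]
    exact (Nat.coprime_ordCompl hp hn0).pow_left _
  have h2 : orderOf s ∣ n / p ^ n.factorization p := by
    refine Nat.Coprime.dvd_of_dvd_mul_left ?_ (hdvd s)
    exact (((hp.coprime_iff_not_dvd).2 (Blocks.not_dvd_orderOf_pPrimePartOf hp g)).pow_left _).symm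
  have e1 : u ^ (e + n) = u ^ 0 := by
    rw [pow_add, hn, pow_card_eq_one', mul_one]
    exact pow_eq_pow_iff_modEq.2 (he1.of_dvd h1)
  have e2 : s ^ (e + n) = s ^ 1 := by
    rw [pow_add, hn, pow_card_eq_one', mul_one]
    exact pow_eq_pow_iff_modEq.2 (he2.of_dvd h2)
  conv_lhs => rw [← hus]
  rw [hc.mul_pow, e1, e2, pow_zero, pow_one, one_mul]

/-- the sum of `f` over the p-regular elements commuting with `u` -/
noncomputable def fibreSum [Fintype G] (p : ℕ) (f : G → ℂ) (u : G) : ℂ :=
  open Classical in ∑ w : G, if Cfsg.IsPRegular p w ∧ Commute u w then f w else 0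

theorem sum_primePart_eq [Fintype G] (hp : p.Prime) (f : G → ℂ)
    [DecidablePred fun u : G => ∃ k, orderOf u = p ^ k] :
    ∑ g : G, f (pPrimePartOf p g) =
      ∑ u ∈ Finset.univ.filter (fun u : G => ∃ k, orderOf u = p ^ k), fibreSum p f u := by
  classical
  rw [← Finset.sum_fiberwise_of_maps_to (g := pPartOf p)
    (t := Finset.univ.filter fun u : G => ∃ k, orderOf u = p ^ k)
    (fun g _ => Finset.mem_filter.2 ⟨Finset.mem_univ _, Blocks.orderOf_pPartOf hp g⟩)]
  refine Finset.sum_congr rfl fun u hu => ?_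
  have hu' := (Finset.mem_filter.1 hu).2
  rw [fibreSum, ← Finset.sum_filter]
  refine Finset.sum_nbij' (pPrimePartOf p) (u * ·) ?_ ?_ ?_ ?_ (fun _ _ => rfl)
  · intro g hg
    simp only [Finset.mem_coe, Finset.mem_filter, Finset.mem_univ, true_and] at hg ⊢
    exact ⟨Blocks.not_dvd_orderOf_pPrimePartOf hp g, hg ▸ Blocks.commute_pPartOf_pPrimePartOf g⟩
  · intro w hw
    simp only [Finset.mem_coe, Finset.mem_filter, Finset.mem_univ, true_and] at hw ⊢
    exact (Blocks.parts_mul hp hw.2 hu' hw.1).1
  · intro g hg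
    rw [← (Finset.mem_filter.1 hg).2]
    exact Blocks.pPartOf_mul_pPrimePartOf hp g
  · intro w hw
    obtain ⟨h1, h2⟩ := (Finset.mem_filter.1 hw).2
    exact (Blocks.parts_mul hp h2 hu' h1).2

theorem fibreSum_conj [Fintype G] {f : G → ℂ} (hf : Cfsg.IsClassFunction G f) (u k : G) :
    fibreSum p f (k * u * k⁻¹) = fibreSum p f u := by
  classical
  simp only [fibreSum]
  refine (Fintype.sum_equiv (MulAut.conj k).toEquiv _ _ fun w => ?_).symm
  simp only [MulEquiv.toEquiv_eq_coe, MulEquiv.coe_toEquiv, MulAut.conj_apply, hf w k]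
  refine if_congr ?_ rfl rfl
  have h1 : orderOf (k * w * k⁻¹) = orderOf w :=
    orderOf_injective (MulAut.conj k).toMonoidHom (MulAut.conj k).injective w
  refine and_congr (by rw [Cfsg.IsPRegular, Cfsg.IsPRegular, h1]) ?_
  exact (Commute.conj_iff k).symm

/-- `IsIntegral` multiples -/
def IntMul (m : ℕ) (z : ℂ) : Prop := ∃ c : ℂ, IsIntegral ℤ c ∧ z = (m : ℂ) * c

theorem IntMul.add {m : ℕ} {x y : ℂ} (hx : IntMul m x) (hy : IntMul m y) : IntMul m (x + y) := by
  obtain ⟨a, ha, rfl⟩ := hx
  obtain ⟨b, hb, rfl⟩ := hy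
  exact ⟨a + b, ha.add hb, by ring⟩

theorem IntMul.sum {ι : Type*} {m : ℕ} (s : Finset ι) {f : ι → ℂ} (h : ∀ i ∈ s, IntMul m (f i)) :
    IntMul m (∑ i ∈ s, f i) := by
  classical
  induction s using Finset.induction_on with
  | empty => exact ⟨0, isIntegral_zero, by simp⟩
  | insert i s hi ih =>
    rw [Finset.sum_insert hi]
    exact (h i (Finset.mem_insert_self i s)).add (ih fun j hj => h j (Finset.mem_insert_of_mem hj))

theorem IntMul.of_dvd {m n : ℕ} {x : ℂ} (h : IntMul n x) (hd : m ∣ n) : IntMul m x := by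
  obtain ⟨a, ha, rfl⟩ := h
  obtain ⟨c, rfl⟩ := hd
  exact ⟨(c : ℂ) * a, (isIntegral_algebraMap (x := (c : ℤ))).mul ha, by push_cast; ring⟩

private theorem intMul_regSum_aux (hp : p.Prime) : ∀ (n : ℕ) (G : Type u) [Group G] [Fintype G],
    Nat.card G = n → ∀ χ : G → ℂ, Cfsg.IsCharacter G χ →
      IntMul (n / p ^ n.factorization p) (regSum p χ) := by
  intro n
  induction n using Nat.strong_induction_on with
  | h n ih =>
    intro G _ _ hn χ hχ
    classical
    set m := n / p ^ n.factorization p with hm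
    set P := Finset.univ.filter fun u : G => ∃ k, orderOf u = p ^ k with hP
    obtain ⟨e, he0, he⟩ := exists_primePartExp (G := G) hp
    have htot : IntMul m (∑ u ∈ P, fibreSum p χ u) := by
      refine IntMul.of_dvd ?_ (Nat.ordCompl_dvd n p)
      rw [← sum_primePart_eq hp χ]
      refine ⟨_, isIntegral_mean_pow hχ he0, ?_⟩
      simp only [he, ← hn]
      rw [← mul_assoc, mul_inv_cancel₀ (Nat.cast_ne_zero.2 Nat.card_pos.ne'), one_mul]
    have hcl := Char.isClassFunction_of_isCharacter hχ
    have hrest : IntMul m (∑ u ∈ P.filter (fun u => u ∉ Subgroup.center G), fibreSum p χ u) := by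
      rw [← Finset.sum_fiberwise_of_maps_to (g := ConjClasses.mk)
        (t := (P.filter fun u => u ∉ Subgroup.center G).image ConjClasses.mk)
        (fun g hg => Finset.mem_image_of_mem _ hg)]
      refine IntMul.sum _ fun C hC => ?_
      obtain ⟨u, hu, rfl⟩ := Finset.mem_image.1 hC
      obtain ⟨huP, huc⟩ := Finset.mem_filter.1 hu
      have hset : (P.filter (fun u => u ∉ Subgroup.center G)).filter
          (fun g => ConjClasses.mk g = ConjClasses.mk u) =
          Finset.univ.filter fun g => IsConj u g := by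
        ext g
        simp only [Finset.mem_filter, Finset.mem_univ, true_and, hP,
          ConjClasses.mk_eq_mk_iff_isConj]
        refine ⟨fun h => h.2.symm, fun h => ⟨?_, h.symm⟩⟩
        obtain ⟨k, rfl⟩ := isConj_iff.1 h
        refine ⟨?_, fun hc => huc ?_⟩
        · obtain ⟨j, hj⟩ := (Finset.mem_filter.1 huP).2
          exact ⟨j, hj ▸ orderOf_injective (MulAut.conj k).toMonoidHom (MulAut.conj k).injective u⟩
        · have := (Subgroup.center G).mul_mem ((Subgroup.center G).mul_mem
            (Subgroup.Normal.conj_mem inferInstance _ hc k⁻¹) (Subgroup.center G).one_mem)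
            (Subgroup.center G).one_mem
          simpa [mul_assoc] using this
      rw [hset, Finset.sum_congr rfl (g := fun _ => fibreSum p χ u) (fun g hg => by
        obtain ⟨k, rfl⟩ := isConj_iff.1 (Finset.mem_filter.1 hg).2
        exact fibreSum_conj hcl u k), Finset.sum_const, nsmul_eq_mul, ← Fintype.card_subtype,
        ← Nat.card_eq_fintype_card, Char.card_isConj_eq_index]
      set H := Subgroup.centralizer ({u} : Set G) with hH
      have hlt : Nat.card H < n := by
        rw [← hn]
        refine lt_of_le_of_ne (Subgroup.card_le_card_group H) fun h => huc ?_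
        have htop : H = ⊤ := Subgroup.eq_top_of_card_eq H h
        rw [Subgroup.mem_center_iff]
        intro g
        have hg : g ∈ H := htop ▸ Subgroup.mem_top g
        exact ((Subgroup.mem_centralizer_iff.1 hg) u rfl).symm
      obtain ⟨c, hc, hce⟩ := ih _ hlt H rfl (fun w => χ w) (Char.isCharacter_res H hχ)
      have hF : fibreSum p χ u = regSum p (fun w : H => χ w) := by
        simp only [fibreSum, regSum, ← Finset.sum_filter]
        refine (Finset.sum_bij (fun (w : H) _ => (w : G)) ?_ (fun a _ b _ h => by exact Subtype.ext h) ?_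
          fun _ _ => rfl).symm
        · intro w hw
          simp only [Finset.mem_filter, Finset.mem_univ, true_and] at hw ⊢
          exact ⟨by rwa [Cfsg.IsPRegular, Subgroup.orderOf_coe],
            (Subgroup.mem_centralizer_iff.1 w.2) u rfl⟩
        · intro g hg
          simp only [Finset.mem_filter, Finset.mem_univ, true_and] at hg
          refine ⟨⟨g, Subgroup.mem_centralizer_iff.2 (fun h hh => by
            rw [Set.mem_singleton_iff.1 hh]; exact hg.2.eq)⟩, ?_, rfl⟩
          simp only [Finset.mem_filter, Finset.mem_univ, true_and]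
          rw [Cfsg.IsPRegular, ← Subgroup.orderOf_coe]
          exact hg.1
      refine IntMul.of_dvd (n := H.index * (Nat.card H / p ^ (Nat.card H).factorization p))
        ⟨c, hc, by rw [hF, hce]; push_cast; ring⟩ ?_
      rw [hm, ← hn, ← Subgroup.index_mul_card H, Nat.ordCompl_mul]
      exact Nat.mul_dvd_mul_right (Nat.ordCompl_dvd _ _) _
    set Z := P.filter (fun u => u ∈ Subgroup.center G) with hZ
    have hcentral : ∑ u ∈ Z, fibreSum p χ u = (Z.card : ℂ) * regSum p χ := by
      rw [Finset.sum_congr rfl (g := fun _ => regSum p χ), Finset.sum_const, nsmul_eq_mul]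
      intro u hu
      simp only [fibreSum, regSum]
      refine Finset.sum_congr rfl fun w _ => if_congr ?_ rfl rfl
      exact and_iff_left ((Subgroup.mem_center_iff.1 (Finset.mem_filter.1 hu).2) w).symm
    have hsum : (Z.card : ℂ) * regSum p χ + ∑ u ∈ P.filter (fun u => u ∉ Subgroup.center G),
        fibreSum p χ u = ∑ u ∈ P, fibreSum p χ u := by
      rw [← hcentral, hZ, Finset.sum_filter_add_sum_filter_not]
    obtain ⟨a, ha, hae⟩ := htot
    obtain ⟨b, hb, hbe⟩ := hrest
    have hreg : IsIntegral ℤ (regSum p χ) := by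
      refine IsIntegral.sum _ fun w _ => ?_
      split
      · exact Char.IsChar.isIntegral hχ w
      · exact isIntegral_zero
    have hcop : Nat.Coprime Z.card m := by
      let Zp : Subgroup G :=
        { carrier := {u | u ∈ Subgroup.center G ∧ ∃ k, orderOf u = p ^ k}
          one_mem' := ⟨one_mem _, 0, by simp⟩
          mul_mem' := by
            rintro x y ⟨hx, i, hi⟩ ⟨hy, j, hj⟩
            refine ⟨mul_mem hx hy, ?_⟩
            have hxy : Commute x y := ((Subgroup.mem_center_iff.1 hx) y).symm
            obtain ⟨k, -, hk⟩ := (Nat.dvd_prime_pow hp).1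
              ((hxy.orderOf_mul_dvd_mul_orderOf).trans (by rw [hi, hj, ← pow_add]))
            exact ⟨k, hk⟩
          inv_mem' := by
            rintro x ⟨hx, hk⟩
            exact ⟨inv_mem hx, by rwa [orderOf_inv]⟩ }
      have hZp : IsPGroup p Zp := fun x => by
        obtain ⟨k, hk⟩ := x.2.2
        exact ⟨k, by rw [← hk, Subgroup.orderOf_coe]; exact pow_orderOf_eq_one x⟩
      haveI := Fact.mk hp
      obtain ⟨k, hk⟩ := IsPGroup.iff_card.1 hZp
      have hcard : Z.card = Nat.card Zp := by
        rw [← Nat.card_eq_finsetCard]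
        exact Nat.card_congr (Equiv.subtypeEquivRight fun u => by simp [hZ, hP, Zp, and_comm])
      rw [hcard, hk, hm]
      exact (Nat.coprime_ordCompl hp (hn ▸ Nat.card_pos.ne')).pow_left _
    have hx : (Z.card : ℂ) * regSum p χ = (m : ℂ) * (a - b) := by
      rw [mul_sub, ← hae, ← hbe, ← hsum]; ring
    have hbez := Nat.gcd_eq_gcd_ab Z.card m
    rw [hcop] at hbez
    have hbez' : (1 : ℂ) = (Z.card : ℂ) * (Nat.gcdA Z.card m : ℂ) + (m : ℂ) * (Nat.gcdB Z.card m : ℂ) := by
      exact_mod_cast congrArg (fun z : ℤ => (z : ℂ)) hbez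
    refine ⟨(Nat.gcdA Z.card m : ℂ) * (a - b) + (Nat.gcdB Z.card m : ℂ) * regSum p χ,
      ((isIntegral_algebraMap (x := Nat.gcdA Z.card m)).mul (ha.sub hb)).add
        ((isIntegral_algebraMap (x := Nat.gcdB Z.card m)).mul hreg), ?_⟩
    calc regSum p χ = ((Z.card : ℂ) * (Nat.gcdA Z.card m : ℂ) +
          (m : ℂ) * (Nat.gcdB Z.card m : ℂ)) * regSum p χ := by rw [← hbez', one_mul]
      _ = (Nat.gcdA Z.card m : ℂ) * ((Z.card : ℂ) * regSum p χ) +
          (m : ℂ) * (Nat.gcdB Z.card m : ℂ) * regSum p χ := by ring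
      _ = _ := by rw [hx]; ring

/-- The sum of a character over the p-regular elements is a rational integer divisible by the
p'-part of the group order. -/
theorem exists_int_regSum [Fintype G] (hp : p.Prime) {χ : G → ℂ} (hχ : Cfsg.IsCharacter G χ) :
    ∃ k : ℤ, regSum p χ =
      ((Nat.card G / p ^ (Nat.card G).factorization p : ℕ) : ℂ) * (k : ℂ) := by
  classical
  obtain ⟨c, hc, he⟩ := intMul_regSum_aux hp _ G rfl χ hχ
  set m := Nat.card G / p ^ (Nat.card G).factorization p
  obtain ⟨k, hk⟩ := exists_int_of_galois_fixed hc fun ψ => by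
    obtain ⟨j, hj, hψ⟩ := exists_pow_galois (G := G) ψ
    have hm : (m : ℂ) ≠ 0 := Nat.cast_ne_zero.2 (Nat.ordCompl_pos p Nat.card_pos.ne').ne'
    have hcm : ∀ g : G, χ g ∈ QBar := fun g => mem_qBar_of_isIntegral (Char.IsChar.isIntegral hχ g)
    let v : G → QBar := fun g => if Cfsg.IsPRegular p g then ⟨χ g, hcm g⟩ else 0
    have e1 : (m : QBar) * ⟨c, mem_qBar_of_isIntegral hc⟩ = ∑ g, v g := by
      apply Subtype.ext
      push_cast
      rw [← he, regSum]
      refine Finset.sum_congr rfl fun g _ => ?_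
      simp only [v]
      split <;> simp
    apply mul_left_cancel₀ hm
    rw [← he, ← map_natCast ψ m, ← map_mul, e1, map_sum]
    simp only [regSum]
    refine Fintype.sum_equiv (powCoprime hj.symm) _ _ fun g => ?_
    have hreg : Cfsg.IsPRegular p (g ^ j) ↔ Cfsg.IsPRegular p g := by
      rw [Cfsg.IsPRegular, Cfsg.IsPRegular,
        Nat.Coprime.orderOf_pow (hj.coprime_dvd_right (orderOf_dvd_natCard g)).symm]
    simp only [v, powCoprime_apply]
    by_cases h : Cfsg.IsPRegular p g
    · rw [if_pos h, if_pos (hreg.2 h), hψ χ hχ]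
    · rw [if_neg h, if_neg (mt hreg.1 h), map_zero]
  exact ⟨k, by rw [he, hk]⟩

end Cfsg.Agent.BlockChar
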