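import Cfsg.Agent.BlockChar.CentralQuotient
import Cfsg.Agent.BlockChar.QuadForm
import Cfsg.Agent.BlockChar.PositiveHeight
import Cfsg.Agent.BlockThms.DefectCor
import Cfsg.Agent.Blocks.Principal

/-!
# The Brauer-Feit bound for the number of characters of a block

`k(B) ≤ p ^ d` for `d ≤ 2` and `k(B) ≤ p ^ (2 d - 2)` for `d ≥ 3`.  For `d = 2` and all heights
zero the form of a block of defect one of the quotient by a central element of order `p` is used
as a weight on the rows of a major subsection.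
-/

namespace Cfsg.Agent.BlockChar

open scoped ComplexConjugate
open Cfsg.Agent Cfsg.Agent.Blocks

universe u

variable {G : Type u} [Group G] {p : ℕ} {M : Ideal Cfsg.AlgInt}

/-- the bilinear form `regM` on integer vectors indexed by characters -/
noncomputable def regForm [Fintype G] (p : ℕ) (E : Set (Cfsg.IrrCharacter G))
    (x y : Cfsg.IrrCharacter G → ℤ) : ℂ :=
  ∑ η ∈ E.toFinite.toFinset, ∑ η' ∈ E.toFinite.toFinset,
    (x η : ℂ) * (y η' : ℂ) * regM p E η η'

theorem regForm_sub_self [Fintype G] (E : Set (Cfsg.IrrCharacter G))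
    (x y : Cfsg.IrrCharacter G → ℤ) :
    regForm p E (x - y) (x - y) =
      regForm p E x x + regForm p E y y - regForm p E x y - regForm p E y x := by
  simp only [regForm, ← Finset.sum_add_distrib, ← Finset.sum_sub_distrib, Pi.sub_apply,
    Int.cast_sub]
  exact Finset.sum_congr rfl fun η _ => Finset.sum_congr rfl fun η' _ => by ring

theorem regForm_eq [Fintype G] [DecidablePred fun w : G => ¬ p ∣ orderOf w]
    (E : Set (Cfsg.IrrCharacter G)) (x y : Cfsg.IrrCharacter G → ℤ) :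
    regForm p E x y = ((p ^ Cfsg.blockDefect p E : ℕ) : ℂ) / (Nat.card G : ℂ) *
      ∑ w ∈ Finset.univ.filter (fun w : G => ¬ p ∣ orderOf w),
        (∑ η ∈ E.toFinite.toFinset, (x η : ℂ) * (η : G → ℂ) w) *
          conj (∑ η ∈ E.toFinite.toFinset, (y η : ℂ) * (η : G → ℂ) w) := by
  classical
  have hreg : ∀ η η' : Cfsg.IrrCharacter G, regM p E η η' =
      ((p ^ Cfsg.blockDefect p E : ℕ) : ℂ) / (Nat.card G : ℂ) *
        ∑ w ∈ Finset.univ.filter (fun w : G => ¬ p ∣ orderOf w),
          (η : G → ℂ) w * conj ((η' : G → ℂ) w) := fun η η' => by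
    rw [regM, regSum_eq_filter]
    exact congrArg _ (Finset.sum_congr (Finset.ext fun w => by simp [Cfsg.IsPRegular])
      fun _ _ => rfl)
  simp only [regForm, hreg, map_sum, map_mul, map_intCast, Finset.sum_mul_sum]
  simp only [Finset.mul_sum]
  conv_rhs => rw [Finset.sum_comm]
  refine Finset.sum_congr rfl fun η _ => ?_
  conv_rhs => rw [Finset.sum_comm]
  exact Finset.sum_congr rfl fun η' _ => Finset.sum_congr rfl fun w _ => by ring

open scoped Classical in
theorem sum_regM_mul_regM [Fintype G] (hM : Cfsg.IsPModular p M) {E : Set (Cfsg.IrrCharacter G)}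
    (hE : Cfsg.IsPBlock M E) {χ φ : Cfsg.IrrCharacter G} (hχ : χ ∈ E) :
    ∑ ψ : Cfsg.IrrCharacter G, (if ψ ∈ E then regM p E χ ψ * regM p E ψ φ else 0) =
      ((p ^ Cfsg.blockDefect p E : ℕ) : ℂ) * regM p E χ φ := by
  set P : ℂ := ((p ^ Cfsg.blockDefect p E : ℕ) : ℂ)
  have e : ∀ ψ : Cfsg.IrrCharacter G, regM p E ψ φ = P / (Nat.card G : ℂ) *
      ∑ w ∈ Finset.univ.filter (fun w : G => Cfsg.IsPRegular p w),
        (ψ : G → ℂ) w * conj ((φ : G → ℂ) w) := fun ψ => by rw [regM, regSum_eq_filter]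
  rw [← Finset.sum_filter]
  conv_lhs => rw [Finset.sum_congr rfl fun ψ _ => by rw [e ψ, Finset.mul_sum, Finset.mul_sum]]
  rw [Finset.sum_comm, e χ, Finset.mul_sum, Finset.mul_sum]
  refine Finset.sum_congr rfl fun w hw => ?_
  have h := sum_regM_mul hM hE hχ w
  rw [if_pos (Finset.mem_filter.1 hw).2, ← Finset.sum_filter] at h
  have h' : P / (Nat.card G : ℂ) * (conj ((φ : G → ℂ) w) *
      ∑ ψ ∈ Finset.univ.filter (· ∈ E), regM p E χ ψ * (ψ : G → ℂ) w) =
      P / (Nat.card G : ℂ) * (conj ((φ : G → ℂ) w) * (P * (χ : G → ℂ) w)) := by rw [h]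
  rw [Finset.mul_sum, Finset.mul_sum] at h'
  calc ∑ ψ ∈ Finset.univ.filter (· ∈ E),
        regM p E χ ψ * (P / (Nat.card G : ℂ) * ((ψ : G → ℂ) w * conj ((φ : G → ℂ) w)))
      = ∑ ψ ∈ Finset.univ.filter (· ∈ E), P / (Nat.card G : ℂ) * (conj ((φ : G → ℂ) w) *
          (regM p E χ ψ * (ψ : G → ℂ) w)) := Finset.sum_congr rfl fun ψ _ => by ring
    _ = P / (Nat.card G : ℂ) * (conj ((φ : G → ℂ) w) * (P * (χ : G → ℂ) w)) := h'
    _ = _ := by ring

/-- In a block of defect one the form is at least the rank, off its radical. -/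
theorem blockRank_le_regForm [Fintype G] (hM : Cfsg.IsPModular p M)
    {E : Set (Cfsg.IrrCharacter G)} (hE : Cfsg.IsPBlock M E) (hd : Cfsg.blockDefect p E = 1)
    (z : Cfsg.IrrCharacter G → ℤ) {w : G} (hw : ¬ p ∣ orderOf w)
    (hz : ∑ η ∈ E.toFinite.toFinset, (z η : ℂ) * (η : G → ℂ) w ≠ 0) :
    ∃ Q : ℤ, regForm p E z z = (Q : ℂ) ∧ (Cfsg.blockRank p E : ℤ) ≤ Q := by
  classical
  let ι := {η : Cfsg.IrrCharacter G // η ∈ E}
  have hk : ∀ a b : ι, ∃ k : ℤ, regM p E a.1 b.1 = (k : ℂ) := fun a b => exists_int_regM hM a.2 b.1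
  choose k hk using hk
  set A : Matrix ι ι ℤ := Matrix.of k with hA
  have hAv : ∀ a b, (A a b : ℂ) = regM p E a.1 b.1 := fun a b => (hk a b).symm
  have hsum : ∀ f : Cfsg.IrrCharacter G → ℂ,
      ∑ a : ι, f a.1 = ∑ η : Cfsg.IrrCharacter G, if η ∈ E then f η else 0 := fun f => by
    rw [← Finset.sum_filter]
    exact (Finset.sum_subtype _ (fun x => by simp) f).symm
  have hsumT : ∀ f : Cfsg.IrrCharacter G → ℂ, ∑ η ∈ E.toFinite.toFinset, f η = ∑ a : ι, f a.1 :=
    fun f => Finset.sum_subtype _ (fun x => by simp) f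
  have hsymm : A.IsSymm := Matrix.IsSymm.ext fun a b => by
    have : ((A b a : ℤ) : ℂ) = ((A a b : ℤ) : ℂ) := by rw [hAv, hAv, regM_comm hM]
    exact_mod_cast this
  have hAA : A * A = (p : ℤ) • A := Matrix.ext fun a b => by
    have : (((A * A) a b : ℤ) : ℂ) = (((p : ℤ) • A) a b : ℤ) := by
      rw [Matrix.mul_apply, Matrix.smul_apply, smul_eq_mul, Int.cast_sum, Int.cast_mul,
        Int.cast_natCast]
      simp only [Int.cast_mul, hAv]
      rw [hsum fun η => regM p E a.1 η * regM p E η b.1, sum_regM_mul_regM hM hE a.2, hd, pow_one]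
    exact_mod_cast this
  have hht : ∀ η ∈ E, Cfsg.blockHeight p E ((η : Cfsg.IrrCharacter G) : G → ℂ) = 0 :=
    fun η hη => by
      by_contra h
      have := two_le_defect_of_height_pos hM hE hη (Nat.pos_of_ne_zero h)
      omega
  obtain ⟨φ0, hφ0, -⟩ := exists_height_zero (p := p) (IsPBlock.nonempty hM hE)
  set r0 : ℂ := (redDeg p E φ0 : ℂ) *
    ((Nat.card G / p ^ (Nat.card G).factorization p : ℕ) : ℂ) with hr0
  set W := omega (φ0 : G → ℂ) (regConj p (φ0 : G → ℂ))
  have hW := not_memLocalIdeal_omega_regConj hM hE hφ0 hφ0 (hht φ0 hφ0)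
  have hWR : Cfsg.MemLocalRing M W := memLocalRing_of_isIntegral hM (isIntegral_omega_regConj φ0 φ0)
  have hnr : ∀ η ∈ E, ¬ p ∣ redDeg p E η := fun η hη => (not_dvd_redDeg_iff hM.1 hη).2 (hht η hη)
  have hcong : ∀ a b : ι, Cfsg.MemLocalIdeal M
      (r0 * (A a b : ℂ) - (redDeg p E a.1 : ℂ) * (redDeg p E b.1 : ℂ) * W) := fun a b => by
    rw [hAv]; exact regM_congr_redDeg hM hE hφ0 a.2 b.2
  have hr0R : Cfsg.MemLocalRing M r0 :=
    (localRing hM).mul_mem (memLocalRing_natCast hM _) (memLocalRing_natCast hM _)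
  have hr0u : ¬ Cfsg.MemLocalIdeal M r0 := fun h =>
    (memLocalIdeal_of_mul hM (memLocalRing_natCast hM _) (memLocalRing_natCast hM _) h).elim
      (fun h => hnr φ0 hφ0 ((memLocalIdeal_natCast_iff hM _).1 h))
      (fun h => Nat.not_dvd_ordCompl hM.1 Nat.card_pos.ne' ((memLocalIdeal_natCast_iff hM _).1 h))
  have hAR : ∀ a b : ι, Cfsg.MemLocalRing M ((A a b : ℤ) : ℂ) := fun a b =>
    memLocalRing_of_isIntegral hM (Blocks.isIntegral_intCast _)
  have hmin : ∀ i j i' j', (p : ℤ) ∣ A i j * A i' j' - A i j' * A i' j := by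
    intro i j i' j'
    have hrR : ∀ a b : ι, Cfsg.MemLocalRing M
        ((redDeg p E a.1 : ℂ) * (redDeg p E b.1 : ℂ) * W) := fun a b => (localRing hM).mul_mem
      ((localRing hM).mul_mem (memLocalRing_natCast hM _) (memLocalRing_natCast hM _)) hWR
    have hpair : ∀ a b a' b' : ι, Cfsg.MemLocalIdeal M
        (r0 * (A a b : ℂ) * (r0 * (A a' b' : ℂ)) -
          (redDeg p E a.1 : ℂ) * (redDeg p E b.1 : ℂ) * W *
            ((redDeg p E a'.1 : ℂ) * (redDeg p E b'.1 : ℂ) * W)) := fun a b a' b' => by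
      convert memLocalIdeal_add hM
        (memLocalIdeal_mul_right hM (hcong a b) ((localRing hM).mul_mem hr0R (hAR a' b')))
        (memLocalIdeal_mul_left hM (hrR a b) (hcong a' b')) using 1
      ring
    have h : Cfsg.MemLocalIdeal M
        ((r0 * r0) * ((A i j * A i' j' - A i j' * A i' j : ℤ) : ℂ)) := by
      convert memLocalIdeal_sub hM (hpair i j i' j') (hpair i j' i' j) using 1
      push_cast
      ring
    rcases memLocalIdeal_of_mul hM ((localRing hM).mul_mem hr0R hr0R)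
      (memLocalRing_of_isIntegral hM (Blocks.isIntegral_intCast _)) h with h | h
    · exact absurd ((memLocalIdeal_of_mul hM hr0R hr0R h).elim id id) hr0u
    · exact (memLocalIdeal_intCast_iff hM _).1 h
  have hdiag : ∀ a, A a a ≠ (p : ℤ) := fun a e => by
    have h : Cfsg.MemLocalIdeal M ((redDeg p E a.1 : ℂ) * (redDeg p E a.1 : ℂ) * W) := by
      have h1 := hcong a a
      have h2 : Cfsg.MemLocalIdeal M (r0 * (A a a : ℂ)) := memLocalIdeal_mul_left hM hr0R
        ((memLocalIdeal_intCast_iff hM _).2 (e ▸ dvd_rfl))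
      simpa using memLocalIdeal_sub hM h2 h1
    have hrn := hnr a.1 a.2
    rcases memLocalIdeal_of_mul hM ((localRing hM).mul_mem (memLocalRing_natCast hM _)
      (memLocalRing_natCast hM _)) hWR h with h | h
    · exact hrn ((memLocalIdeal_natCast_iff hM _).1
        ((memLocalIdeal_of_mul hM (memLocalRing_natCast hM _) (memLocalRing_natCast hM _) h).elim
          id id))
    · exact hW h
  have htr : A.trace = (p : ℤ) * Cfsg.blockRank p E := by
    have : ((A.trace : ℤ) : ℂ) = (((p : ℤ) * Cfsg.blockRank p E : ℤ) : ℂ) := by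
      rw [Matrix.trace, Int.cast_sum]
      simp only [Matrix.diag_apply, hAv]
      have hreg : ∀ η : Cfsg.IrrCharacter G, regM p E η η = (p : ℂ) / (Nat.card G : ℂ) *
          ∑ x ∈ Finset.univ.filter (fun x : G => ¬ p ∣ orderOf x),
            (η : G → ℂ) x * conj ((η : G → ℂ) x) := fun η => by
        rw [regM, regSum_eq_filter, hd, pow_one]
        exact congrArg _ (Finset.sum_congr (Finset.ext fun w => by simp [Cfsg.IsPRegular])
          fun _ _ => rfl)
      simp only [hreg, ← Finset.mul_sum]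
      rw [Finset.sum_comm]
      rw [Finset.sum_congr rfl fun x _ =>
        (hsumT fun η => (η : G → ℂ) x * conj ((η : G → ℂ) x)).symm]
      have hrk : (Nat.card G : ℂ) * (Cfsg.blockRank p E : ℂ) =
          ∑ x ∈ Finset.univ.filter (fun x : G => ¬ p ∣ orderOf x),
            ∑ η ∈ E.toFinite.toFinset, (η : G → ℂ) x * conj ((η : G → ℂ) x) := by
        rw [Blocks.card_mul_blockRank hM hE, Finset.sum_filter]
        refine Finset.sum_congr rfl fun x _ => ?_
        rw [finsum_mem_eq_finite_toFinset_sum _ E.toFinite]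
        split_ifs <;> rfl
      rw [← hrk, ← mul_assoc,
        div_mul_cancel₀ _ (Nat.cast_ne_zero.2 Nat.card_pos.ne')]
      push_cast
      rfl
    exact_mod_cast this
  let zv : ι → ℤ := fun a => z a.1
  have hne : A.mulVec zv ≠ 0 := fun h0 => by
    have e1 : ∀ a : ι, ∑ b : ι, regM p E a.1 b.1 * (b.1 : G → ℂ) w =
        (p : ℂ) * (a.1 : G → ℂ) w := fun a => by
      have := sum_regM_mul hM hE a.2 w
      rw [if_pos (show Cfsg.IsPRegular p w from hw), hd, pow_one] at this
      rw [hsum fun η => regM p E a.1 η * (η : G → ℂ) w]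
      exact this
    have e2 : (p : ℂ) * ∑ a : ι, (zv a : ℂ) * (a.1 : G → ℂ) w = 0 := by
      rw [Finset.mul_sum, Finset.sum_congr rfl (g := fun a : ι => ∑ b : ι,
        ((A b a : ℤ) : ℂ) * (zv a : ℂ) * (b.1 : G → ℂ) w) (fun a _ => by
          rw [mul_left_comm, ← e1 a, Finset.mul_sum]
          exact Finset.sum_congr rfl fun b _ => by rw [hAv, regM_comm hM b.1]; ring),
        Finset.sum_comm]
      refine Finset.sum_eq_zero fun b _ => ?_
      have := congrArg (fun n : ℤ => (n : ℂ)) (congrFun h0 b)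
      simp only [Matrix.mulVec, dotProduct, Int.cast_sum, Int.cast_mul, Pi.zero_apply,
        Int.cast_zero] at this
      rw [← Finset.sum_mul, this, zero_mul]
    refine hz ?_
    rw [hsumT]
    exact (mul_eq_zero.1 e2).resolve_left (Nat.cast_ne_zero.2 hM.1.ne_zero)
  refine ⟨dotProduct zv (A.mulVec zv), ?_, le_quadForm hM.1 hsymm hAA hmin htr hdiag zv hne⟩
  rw [regForm]
  simp only [hsumT, dotProduct, Matrix.mulVec, Finset.mul_sum, Int.cast_sum, Int.cast_mul, hAv, zv]
  exact Finset.sum_congr rfl fun a _ => Finset.sum_congr rfl fun b _ => by ring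

/-- expanding a hermitian square -/
theorem mul_sum_conj_expand {ι κ : Type*} [Fintype ι] {c c' : ℂ} (h : c = c') (a : ι → ℂ)
    (v : ι → κ → ℂ) (S : Finset κ) :
    c * ∑ q ∈ S, (∑ i, a i * v i q) * conj (∑ i, a i * v i q) =
      ∑ i, ∑ i', a i * conj (a i') * (c' * ∑ q ∈ S, v i q * conj (v i' q)) := by
  subst h
  simp only [map_sum, map_mul, Finset.sum_mul_sum]
  simp only [Finset.mul_sum]
  rw [Finset.sum_comm]
  refine Finset.sum_congr rfl fun i _ => ?_
  rw [Finset.sum_comm]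
  exact Finset.sum_congr rfl fun i' _ => Finset.sum_congr rfl fun q _ => by ring

/-- a sum of powers of a primitive root of unity -/
theorem sum_pow_mul_conj {ζ : ℂ} (hζ : IsPrimitiveRoot ζ p) (hp : 1 < p) (i i' : Fin p) :
    ∑ j ∈ Finset.range p, (ζ ^ j) ^ (i : ℕ) * conj ((ζ ^ j) ^ (i' : ℕ)) =
      if i = i' then (p : ℂ) else 0 := by
  have h1 : ζ ^ p = 1 := hζ.pow_eq_one
  have hconj : conj ζ = ζ⁻¹ :=
    (Complex.inv_eq_conj (Complex.norm_eq_one_of_pow_eq_one h1 (by omega))).symm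
  have h0 : ζ ≠ 0 := hζ.ne_zero (by omega)
  set η := ζ ^ (i : ℕ) * (ζ ^ (i' : ℕ))⁻¹ with hη
  have e : ∀ j : ℕ, (ζ ^ j) ^ (i : ℕ) * conj ((ζ ^ j) ^ (i' : ℕ)) = η ^ j := fun j => by
    rw [map_pow, map_pow, hconj, hη, mul_pow, inv_pow, inv_pow, inv_pow, ← pow_mul, ← pow_mul,
      ← pow_mul, ← pow_mul, mul_comm j, mul_comm j]
  simp only [e]
  split_ifs with h
  · subst h
    rw [hη, mul_inv_cancel₀ (pow_ne_zero _ h0)]
    simp
  · refine (geom_sum_eq ?_ p).trans ?_
    · intro e1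
      refine h (Fin.ext (hζ.pow_inj i.2 i'.2 ?_))
      rwa [hη, mul_inv_eq_one₀ (pow_ne_zero _ h0)] at e1
    · rw [hη, mul_pow, ← pow_mul, inv_pow, ← pow_mul, mul_comm (i : ℕ), mul_comm (i' : ℕ),
        pow_mul, pow_mul, h1]
      simp

variable [Fintype G] {B : Set (Cfsg.IrrCharacter G)}

omit [Fintype G] in
/-- the scalar of a power is the power of the scalar -/
theorem subScalar_pow {C : Subgroup G} [Fintype C] {s : C} (hs : s ∈ Subgroup.center C)
    (φ : Cfsg.IrrCharacter C) (j : ℕ) : subScalar (s ^ j) φ = subScalar s φ ^ j := by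
  have hs' : s⁻¹ ∈ Subgroup.center C := inv_mem hs
  have h : ∀ m : ℕ, (φ : C → ℂ) (s⁻¹ ^ m) =
      Cfsg.centralChar (φ : C → ℂ) s⁻¹ ^ m * (φ : C → ℂ) 1 := by
    intro m
    induction m with
    | zero => simp
    | succ m ih => rw [pow_succ', irr_mul_central φ.2 hs', ih, pow_succ', mul_assoc]
  have h1 := irr_mul_central φ.2 (pow_mem hs' j) 1
  rw [mul_one, h j] at h1
  rw [subScalar, subScalar, ← map_pow, ← inv_pow,
    mul_right_cancel₀ (Char.IsIrr.one_ne_zero φ.2) h1]

open scoped Classical in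
/-- A block of defect two all of whose heights are zero has at most `p ^ 2` characters when a
central element of order `p` of a major subsection has a quotient block of defect one. -/
theorem card_le_sq_of_defect_two (hM : Cfsg.IsPModular p M) (hB : Cfsg.IsPBlock M B)
    (hd : Cfsg.blockDefect p B = 2) (hh : ∀ χ ∈ B, Cfsg.blockHeight p B (χ : G → ℂ) = 0)
    {y : G} (hy : orderOf y = p) {C : Subgroup G} [Fintype C]
    (hC : ∀ a : G, a ∈ C ↔ y * a = a * y) {b : Set (Cfsg.IrrCharacter C)}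
    (hind : Cfsg.IsInducedBlock M C b B) (hbd : Cfsg.blockDefect p b = 2) {s : C}
    (hsy : (s : G) = y) [(Subgroup.zpowers s).Normal] [Fintype (C ⧸ Subgroup.zpowers s)]
    {b' : Set (Cfsg.IrrCharacter (C ⧸ Subgroup.zpowers s))} (hb' : Cfsg.IsPBlock M b')
    (hiff : ∀ η, η ∈ b' ↔ inflIrr (Subgroup.zpowers s) η ∈ b)
    (hd' : Cfsg.blockDefect p b' = 1) : Nat.card B ≤ p ^ 2 := by
  have hp := hM.1
  have hb := hind.1
  have : NeZero p := ⟨hp.ne_zero⟩
  have := Fact.mk hp
  set N := Subgroup.zpowers s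
  have hso : orderOf s = p := by rw [← Subgroup.orderOf_coe, hsy, hy]
  have hNcard : Nat.card N = p := by rw [Nat.card_zpowers, hso]
  have hN : IsPGroup p N := IsPGroup.of_card (n := 1) (by rw [hNcard, pow_one])
  have hs : s ∈ Subgroup.center C := Subgroup.mem_center_iff.2 fun t => Subtype.ext (by
    rw [Subgroup.coe_mul, Subgroup.coe_mul, hsy]; exact ((hC t).1 t.2).symm)
  have hc : N ≤ Subgroup.center C := Subgroup.zpowers_le.2 hs
  set T := b.toFinite.toFinset
  set T' := b'.toFinite.toFinset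
  obtain ⟨ζ, hζ⟩ : ∃ ζ : ℂ, IsPrimitiveRoot ζ p := ⟨_, Complex.isPrimitiveRoot_exp p hp.ne_zero⟩
  have hsp : s ^ p = 1 := by rw [← hso]; exact pow_orderOf_eq_one s
  have hidx : ∀ φ : Cfsg.IrrCharacter C, ∃ i : Fin p, subScalar s φ = ζ ^ (i : ℕ) := fun φ => by
    obtain ⟨i, hi, h⟩ := hζ.eq_pow_of_pow_eq_one (subScalar_pow_eq_one hs hsp φ)
    exact ⟨⟨i, hi⟩, h.symm⟩
  choose ix hix using hidx
  have hlift : ∀ φ : Cfsg.IrrCharacter C, ∃ z : Cfsg.IrrCharacter (C ⧸ N) → ℤ, φ ∈ b →
      (∀ η, z η ≠ 0 → η ∈ b') ∧ ∀ w : C, ¬ p ∣ orderOf w → (φ : C → ℂ) w =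
        ∑ η ∈ T', (z η : ℂ) * (η : C ⧸ N → ℂ) (w : C ⧸ N) := fun φ => by
    by_cases hφ : φ ∈ b
    · obtain ⟨z, hz, hval⟩ := exists_int_lift N hM hN hc hb hiff hφ
      refine ⟨z, fun _ => ⟨hz, fun w hw => ?_⟩⟩
      rw [hval w hw, ← Finset.sum_subset (Finset.subset_univ T') fun η _ hη => ?_]
      rw [show z η = 0 from by_contra fun h => hη (b'.toFinite.mem_toFinset.2 (hz η h))]
      simp
    · exact ⟨0, fun h => absurd h hφ⟩
  choose zl hzl using hlift
  choose n hn using fun χ : Cfsg.IrrCharacter G => fun φ : Cfsg.IrrCharacter C =>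
    exists_nat_resMult C χ φ
  -- the integer coordinates
  let z : Cfsg.IrrCharacter G → Fin p → Cfsg.IrrCharacter (C ⧸ N) → ℤ := fun χ i η =>
    ∑ φ ∈ T, if ix φ = i then (n χ φ : ℤ) * zl φ η else 0
  have hsub : ∀ χ (j : ℕ) (w : C), ¬ p ∣ orderOf w →
      subPart ((s ^ j : C) : G) C b χ w = ∑ i : Fin p, (ζ ^ j) ^ (i : ℕ) *
        ∑ η ∈ T', (z χ i η : ℂ) * (η : C ⧸ N → ℂ) (w : C ⧸ N) := by
    intro χ j w hw
    simp only [subPart, z, Int.cast_sum, Finset.sum_mul, Finset.mul_sum]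
    rw [Finset.sum_congr rfl fun i _ => Finset.sum_comm, Finset.sum_comm]
    refine Finset.sum_congr rfl fun φ hφ => ?_
    rw [subMult_eq (pow_mem hs j) rfl, subScalar_pow hs, hix, hn,
      (hzl φ (b.toFinite.mem_toFinset.1 hφ)).2 w hw, Finset.mul_sum,
      Finset.sum_eq_single (ix φ)]
    · refine Finset.sum_congr rfl fun η _ => ?_
      rw [if_pos rfl, ← pow_mul, ← pow_mul, mul_comm j]
      push_cast
      ring
    · intro i _ hi
      simp [Ne.symm hi]
    · simp
  -- the diagonal contribution as a form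
  set F : Cfsg.IrrCharacter G → Fin p → Fin p → ℂ :=
    fun χ i i' => regForm p b' (z χ i) (z χ i')
  have hcard : (Nat.card C : ℂ) = (p : ℂ) * (Nat.card (C ⧸ N) : ℂ) := by
    rw [Subgroup.card_eq_card_quotient_mul_card_subgroup N, hNcard]; push_cast; ring
  have hcontrib : ∀ χ (j : ℕ), contrib p ((s ^ j : C) : G) C b χ χ =
      ∑ i : Fin p, ∑ i' : Fin p, (ζ ^ j) ^ (i : ℕ) * conj ((ζ ^ j) ^ (i' : ℕ)) * F χ i i' := by
    intro χ j
    rw [contrib_eq, Finset.sum_congr rfl (g := fun w : C => (fun q : C ⧸ N =>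
      (∑ i : Fin p, (ζ ^ j) ^ (i : ℕ) * ∑ η ∈ T', (z χ i η : ℂ) * (η : C ⧸ N → ℂ) q) *
        conj (∑ i : Fin p, (ζ ^ j) ^ (i : ℕ) * ∑ η ∈ T', (z χ i η : ℂ) * (η : C ⧸ N → ℂ) q))
        (w : C ⧸ N)) (fun w hw => by rw [hsub χ j w (Finset.mem_filter.1 hw).2]),
      sum_regular_quotient N hp hN hc (fun q : C ⧸ N =>
      (∑ i : Fin p, (ζ ^ j) ^ (i : ℕ) * ∑ η ∈ T', (z χ i η : ℂ) * (η : C ⧸ N → ℂ) q) *
        conj (∑ i : Fin p, (ζ ^ j) ^ (i : ℕ) * ∑ η ∈ T', (z χ i η : ℂ) * (η : C ⧸ N → ℂ) q)),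
      hbd, hcard]
    simp only [F, regForm_eq, hd']
    refine mul_sum_conj_expand ?_ (fun i : Fin p => (ζ ^ j) ^ (i : ℕ))
      (fun i (q : C ⧸ N) => ∑ η ∈ T', (z χ i η : ℂ) * (η : C ⧸ N → ℂ) q) _
    have : (p : ℂ) ≠ 0 := Nat.cast_ne_zero.2 hp.ne_zero
    push_cast
    field_simp
    rfl
  -- the hypotheses for the powers
  have hpow : ∀ j ∈ (Finset.range p).erase 0, (∃ k, orderOf ((s ^ j : C) : G) = p ^ k) ∧
      ∀ a : G, a ∈ C ↔ ((s ^ j : C) : G) * a = a * ((s ^ j : C) : G) := by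
    intro j hj
    obtain ⟨hj0, hjp⟩ := Finset.mem_erase.1 hj
    have hco : Nat.Coprime j p := ((hp.coprime_iff_not_dvd).2 fun h =>
      absurd (Nat.le_of_dvd (Nat.pos_of_ne_zero hj0) h) (not_le.2 (Finset.mem_range.1 hjp))).symm
    rw [Subgroup.coe_pow, hsy]
    refine ⟨⟨1, ?_⟩, fun a => ?_⟩
    · rw [pow_one, Nat.Coprime.orderOf_pow (hy.symm ▸ hco.symm), hy]
    · obtain ⟨t, ht⟩ := exists_pow_eq_self_of_coprime (n := j) (x := y) (hy.symm ▸ hco)
      rw [hC]
      exact ⟨fun h => (Commute.pow_left (show Commute y a from h) j).eq,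
        fun h => by rw [← ht]; exact (Commute.pow_left (show Commute (y ^ j) a from h) t).eq⟩
  -- the lower bound for each character
  have hlow : ∀ χ ∈ B.toFinite.toFinset, ∃ N : ℤ,
      ∑ j ∈ (Finset.range p).erase 0, contrib p ((s ^ j : C) : G) C b χ χ = (N : ℂ) ∧
      ((p : ℤ) - 1) * Cfsg.blockRank p b' ≤ N := by
    intro χ hχ
    have hχB := B.toFinite.mem_toFinset.1 hχ
    let L : Fin p → C → ℂ := fun i w => if p ∣ orderOf w then 0 else
      ∑ η ∈ T', (z χ i η : ℂ) * (η : C ⧸ N → ℂ) (w : C ⧸ N)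
    have hQ : ∀ i i', ∃ Q : ℤ, regForm p b' (z χ i) (z χ i') = (Q : ℂ) := fun i i' => by
      have hk : ∀ η η', ∃ k : ℤ, η ∈ b' → regM p b' η η' = (k : ℂ) := fun η η' => by
        by_cases h : η ∈ b'
        · obtain ⟨k, hk⟩ := exists_int_regM hM h η'
          exact ⟨k, fun _ => hk⟩
        · exact ⟨0, fun h' => absurd h' h⟩
      choose k hk using hk
      refine ⟨∑ η ∈ T', ∑ η' ∈ T', z χ i η * z χ i' η' * k η η', ?_⟩
      rw [regForm]
      push_cast
      exact Finset.sum_congr rfl fun η hη => Finset.sum_congr rfl fun η' _ => by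
        rw [hk η η' (b'.toFinite.mem_toFinset.1 hη)]
    choose Q hQ using hQ
    have hdiff : ∀ i i', L i ≠ L i' →
        (Cfsg.blockRank p b' : ℤ) ≤ Q i i + Q i' i' - Q i i' - Q i' i := by
      intro i i' hne
      obtain ⟨w, hw⟩ := Function.ne_iff.1 hne
      have hwr : ¬ p ∣ orderOf w := fun h => hw (by simp [L, h])
      have hne' : ∑ η ∈ T', ((z χ i - z χ i') η : ℂ) * (η : C ⧸ N → ℂ) (w : C ⧸ N) ≠ 0 := by
        simp only [L, if_neg hwr] at hw
        simp only [Pi.sub_apply, Int.cast_sub, sub_mul, Finset.sum_sub_distrib]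
        exact sub_ne_zero.2 hw
      obtain ⟨R, hR, hle⟩ :=
        blockRank_le_regForm hM hb' hd' (z χ i - z χ i') (isPRegular_mk N hwr) hne'
      rw [regForm_sub_self, hQ, hQ, hQ, hQ] at hR
      have hR' : Q i i + Q i' i' - Q i i' - Q i' i = R := by exact_mod_cast hR
      rw [hR']
      exact hle
    have hsame : ∀ i i', L i = L i' → 0 = Q i i + Q i' i' - Q i i' - Q i' i := by
      intro i i' he
      have h : regForm p b' (z χ i - z χ i') (z χ i - z χ i') = 0 := by
        rw [regForm_eq, Finset.sum_eq_zero fun q hq => ?_, mul_zero]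
        have hzero : ∑ η ∈ T', ((z χ i - z χ i') η : ℂ) * (η : C ⧸ N → ℂ) q = 0 := by
          obtain ⟨g, rfl⟩ := QuotientGroup.mk_surjective q
          have hmk : ((pPrimePartOf p g : C) : C ⧸ N) = (g : C ⧸ N) := by
            have h1 := sum_regular_quotient (A := ℕ) N hp hN hc
              (fun r => if r = (g : C ⧸ N) then 1 else 0)
            rw [Finset.sum_ite_eq', if_pos hq] at h1
            obtain ⟨w, hwm, hwne⟩ := Finset.exists_ne_zero_of_sum_ne_zero (h1 ▸ one_ne_zero)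
            have hwg : (w : C ⧸ N) = (g : C ⧸ N) := by_contra fun hn => hwne (if_neg hn)
            have hn : w⁻¹ * g ∈ N := QuotientGroup.eq.1 hwg
            have hcomm : Commute (w⁻¹ * g) w := (Subgroup.mem_center_iff.1 (hc hn) w).symm
            obtain ⟨k, hk⟩ := IsPGroup.iff_orderOf.1 hN ⟨_, hn⟩
            have h2 := (parts_mul hp hcomm ⟨k, (Subgroup.orderOf_coe (⟨_, hn⟩ : N)).trans hk⟩
              (Finset.mem_filter.1 hwm).2).2
            rw [show w⁻¹ * g * w = g by rw [hcomm.eq, mul_inv_cancel_left]] at h2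
            rw [h2, hwg]
          have h2 := congrFun he (pPrimePartOf p g)
          simp only [L, if_neg (not_dvd_orderOf_pPrimePartOf hp g), hmk] at h2
          simp only [Pi.sub_apply, Int.cast_sub, sub_mul, Finset.sum_sub_distrib]
          exact sub_eq_zero.2 h2
        rw [hzero, zero_mul]
      rw [regForm_sub_self, hQ, hQ, hQ, hQ] at h
      exact_mod_cast h.symm
    refine ⟨(p : ℤ) * ∑ i, Q i i - ∑ i, ∑ i', Q i i', ?_, ?_⟩
    · have hfull : ∑ j ∈ Finset.range p, contrib p ((s ^ j : C) : G) C b χ χ =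
          (p : ℂ) * ∑ i : Fin p, F χ i i := by
        simp only [hcontrib]
        rw [Finset.sum_comm, Finset.mul_sum]
        refine Finset.sum_congr rfl fun i _ => ?_
        rw [Finset.sum_comm]
        simp only [← Finset.sum_mul, sum_pow_mul_conj hζ hp.one_lt, ite_mul, zero_mul,
          Finset.sum_ite_eq, Finset.mem_univ, if_true]
      rw [Finset.sum_erase_eq_sub (Finset.mem_range.2 hp.pos), hfull, hcontrib χ 0]
      simp [F, hQ]
    · -- the values do not all agree
      obtain ⟨i0, i1, h01⟩ : ∃ i0 i1, L i0 ≠ L i1 := by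
        by_contra! hall
        have h1mem : 1 ∈ (Finset.range p).erase 0 := by simp [hp.one_lt]
        obtain ⟨hy1, hC1⟩ := hpow 1 h1mem
        refine contrib_ne_zero hM hB hy1 hC1 hind (hbd.trans hd.symm) hχB hχB (hh χ hχB)
          (hh χ hχB) ?_
        rw [contrib_eq, Finset.sum_eq_zero fun w hw => ?_, mul_zero]
        have hwr := (Finset.mem_filter.1 hw).2
        have hL : ∀ i, ∑ η ∈ T', (z χ i η : ℂ) * (η : C ⧸ N → ℂ) (w : C ⧸ N) =
            ∑ η ∈ T', (z χ 0 η : ℂ) * (η : C ⧸ N → ℂ) (w : C ⧸ N) := fun i => by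
          have := congrFun (hall i 0) w
          simpa [L, hwr] using this
        have hgeom : ∑ i : Fin p, (ζ ^ 1) ^ (i : ℕ) = 0 := by
          rw [Fin.sum_univ_eq_sum_range (fun i => (ζ ^ 1) ^ i), pow_one,
            hζ.geom_sum_eq_zero hp.one_lt]
        rw [hsub χ 1 w hwr]
        simp only [hL, ← Finset.sum_mul, hgeom, zero_mul]
      set l : ℤ := (Cfsg.blockRank p b' : ℤ)
      have hge : ∀ i i', (if L i ≠ L i' then l else 0) ≤ Q i i + Q i' i' - Q i i' - Q i' i := by
        intro i i'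
        split_ifs with h
        · exact hdiff i i' h
        · rw [not_not] at h; rw [← hsame i i' h]
      have hpairs : 2 * ((p : ℤ) - 1) * l ≤ ∑ i, ∑ i', if L i ≠ L i' then l else 0 := by
        have hl : 0 ≤ l := Int.natCast_nonneg _
        set S := Finset.univ.filter fun i => L i = L i0
        have h1 : 1 ≤ S.card := Finset.card_pos.2 ⟨i0, by simp [S]⟩
        have h2 : 1 ≤ Sᶜ.card := Finset.card_pos.2 ⟨i1, by simp [S, Ne.symm h01]⟩
        have h3 : S.card + Sᶜ.card = p := by rw [Finset.card_add_card_compl, Fintype.card_fin]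
        have h4 : ∀ i ∈ S, ∀ i' ∈ Sᶜ, L i ≠ L i' := fun i hi i' hi' e => by
          simp only [S, Finset.mem_compl, Finset.mem_filter, Finset.mem_univ, true_and] at hi hi'
          exact hi' (e ▸ hi)
        calc 2 * ((p : ℤ) - 1) * l ≤ 2 * ((S.card : ℤ) * (Sᶜ.card : ℤ)) * l := by
              refine mul_le_mul_of_nonneg_right (mul_le_mul_of_nonneg_left ?_ zero_le_two) hl
              have h1' : (1 : ℤ) ≤ S.card := by exact_mod_cast h1
              have h2' : (1 : ℤ) ≤ Sᶜ.card := by exact_mod_cast h2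
              have h3' : (S.card : ℤ) + Sᶜ.card = p := by exact_mod_cast h3
              nlinarith [mul_nonneg (sub_nonneg.2 h1') (sub_nonneg.2 h2')]
          _ = ∑ i ∈ S, ∑ i' ∈ Sᶜ, l + ∑ i ∈ Sᶜ, ∑ i' ∈ S, l := by
              simp only [Finset.sum_const, nsmul_eq_mul]; ring
          _ ≤ ∑ i ∈ S, ∑ i', (if L i ≠ L i' then l else 0) +
              ∑ i ∈ Sᶜ, ∑ i', (if L i ≠ L i' then l else 0) := by
              refine add_le_add (Finset.sum_le_sum fun i hi => ?_)
                (Finset.sum_le_sum fun i hi => ?_)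
              · calc ∑ i' ∈ Sᶜ, l = ∑ i' ∈ Sᶜ, (if L i ≠ L i' then l else 0) :=
                      Finset.sum_congr rfl fun i' hi' => by rw [if_pos (h4 i hi i' hi')]
                  _ ≤ _ := Finset.sum_le_univ_sum_of_nonneg fun i' => by split_ifs <;> omega
              · calc ∑ i' ∈ S, l = ∑ i' ∈ S, (if L i ≠ L i' then l else 0) :=
                      Finset.sum_congr rfl fun i' hi' => by rw [if_pos (h4 i' hi' i hi).symm]
                  _ ≤ _ := Finset.sum_le_univ_sum_of_nonneg fun i' => by split_ifs <;> omega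
          _ = _ := Finset.sum_add_sum_compl S _
      have h2 : ∑ i : Fin p, ∑ i' : Fin p, (Q i i + Q i' i' - Q i i' - Q i' i) =
          2 * ((p : ℤ) * ∑ i, Q i i - ∑ i, ∑ i', Q i i') := by
        simp only [Finset.sum_sub_distrib, Finset.sum_add_distrib, Finset.sum_const,
          Finset.card_univ, Fintype.card_fin, nsmul_eq_mul, ← Finset.mul_sum]
        rw [Finset.sum_comm (f := fun i i' => Q i' i)]
        ring
      have h3 := (hpairs.trans (Finset.sum_le_sum fun i _ =>
        Finset.sum_le_sum fun i' _ => hge i i')).trans_eq h2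
      linarith
  choose! Nv hNv hNle using hlow
  -- the total
  have htot : ((∑ χ ∈ B.toFinite.toFinset, Nv χ : ℤ) : ℂ) =
      ((((p : ℤ) - 1) * ((p : ℤ) ^ 2 * Cfsg.blockRank p b) : ℤ) : ℂ) := by
    rw [Int.cast_sum, Finset.sum_congr rfl fun χ hχ => (hNv χ hχ).symm, Finset.sum_comm,
      Finset.sum_congr rfl fun j hj => sum_contrib_self hM hB (hpow j hj).1 (hpow j hj).2 hind,
      Finset.sum_const, Finset.card_erase_of_mem (Finset.mem_range.2 hp.pos), Finset.card_range,
      nsmul_eq_mul, hbd, Nat.cast_sub hp.one_le]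
    push_cast
    ring
  have htot' : ∑ χ ∈ B.toFinite.toFinset, Nv χ =
      ((p : ℤ) - 1) * ((p : ℤ) ^ 2 * Cfsg.blockRank p b) := by exact_mod_cast htot
  have hsum := Finset.sum_le_sum fun χ hχ => hNle χ hχ
  rw [Finset.sum_const, nsmul_eq_mul, htot'] at hsum
  have hll : (Cfsg.blockRank p b : ℤ) ≤ Cfsg.blockRank p b' := by
    exact_mod_cast blockRank_le_quotient N hM hN hc hb hiff
  have hpos : 0 < Cfsg.blockRank p b' := by
    obtain ⟨η, hη⟩ := IsPBlock.nonempty hM hb'
    rw [Cfsg.blockRank, Module.finrank_pos_iff_exists_ne_zero]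
    refine ⟨⟨_, Submodule.subset_span ⟨η, hη, rfl⟩⟩, fun e => ?_⟩
    have := congrFun (congrArg Subtype.val e) 1
    simp only [ZeroMemClass.coe_zero, Pi.zero_apply, pRegularPart_apply, orderOf_one,
      Nat.dvd_one, hp.ne_one, if_false] at this
    exact Char.IsIrr.one_ne_zero η.2 this
  have hp1 : (0 : ℤ) < (p : ℤ) - 1 := by have := hp.two_le; omega
  have hfin : (B.toFinite.toFinset.card : ℤ) * (((p : ℤ) - 1) * Cfsg.blockRank p b') ≤
      (p : ℤ) ^ 2 * (((p : ℤ) - 1) * Cfsg.blockRank p b') := by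
    refine hsum.trans ?_
    rw [mul_left_comm]
    exact mul_le_mul_of_nonneg_left (mul_le_mul_of_nonneg_left hll hp1.le) (sq_nonneg _)
  have hc' := le_of_mul_le_mul_right hfin (mul_pos hp1 (by exact_mod_cast hpos))
  rw [Nat.card_coe_set_eq, Set.ncard_eq_toFinset_card B B.toFinite]
  exact_mod_cast hc'

omit [Fintype G] in
/-- A block of positive defect has a major subsection at an element of order `p`. -/
theorem exists_major_subsection [Finite G] (hM : Cfsg.IsPModular p M) (hB : Cfsg.IsPBlock M B)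
    (hd : 0 < Cfsg.blockDefect p B) :
    ∃ y : G, orderOf y = p ∧ ∃ b : Set (Cfsg.IrrCharacter (Subgroup.centralizer ({y} : Set G))),
      Cfsg.IsInducedBlock M (Subgroup.centralizer ({y} : Set G)) b B ∧
        Cfsg.blockDefect p b = Cfsg.blockDefect p B := by
  classical
  have := Fintype.ofFinite G
  have := Fact.mk hM.1
  obtain ⟨g, hg⟩ := exists_isDefectClass hM hB
  obtain ⟨D, hD⟩ := DefectThms.exists_isSylC p g
  have hBD : Cfsg.IsDefectGroup p M B D := DefectThms.isDefectGroup_iff.2 ⟨g, hg, hD⟩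
  have hcardD := card_defectGroup hM hB hBD
  have : Nontrivial D := Finite.one_lt_card_iff_nontrivial.1 (by
    rw [hcardD]; exact Nat.one_lt_pow hd.ne' hM.1.one_lt)
  have := hD.2.1.center_nontrivial
  obtain ⟨z, hz⟩ := exists_prime_orderOf_dvd_card' (G := Subgroup.center D) p (by
    obtain ⟨k, hk⟩ := IsPGroup.iff_card.1 (hD.2.1.to_subgroup (Subgroup.center D))
    have h1 := Finite.one_lt_card (α := Subgroup.center D)
    rw [hk] at h1 ⊢
    exact dvd_pow_self p fun e => by simp [e] at h1)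
  set y : G := ((z : D) : G) with hy
  have hyo : orderOf y = p := by rw [hy, Subgroup.orderOf_coe, Subgroup.orderOf_coe, hz]
  refine ⟨y, hyo, ?_⟩
  set C := Subgroup.centralizer ({y} : Set G) with hCdef
  have : Fintype C := Fintype.ofFinite _
  have hP : IsPGroup p (Subgroup.zpowers y) :=
    IsPGroup.of_card (n := 1) (by rw [Nat.card_zpowers, hyo, pow_one])
  have hH : ∀ a : G, a ∈ C ↔ ∀ u ∈ Subgroup.zpowers y, u * a = a * u := fun a => by
    rw [mem_centralizer_iff_comm]
    exact ⟨fun h u ⟨i, hi⟩ => hi ▸ ((show Commute y a from h).zpow_left i).eq,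
      fun h => h y (Subgroup.mem_zpowers y)⟩
  have hgC : g ∈ C := by
    rw [mem_centralizer_iff_comm]
    exact Subgroup.mem_centralizer_singleton_iff.1 (hD.1 (z : D).2)
  have hDC : D ≤ C := fun d hd => by
    rw [mem_centralizer_iff_comm]
    exact (congrArg Subtype.val (Subgroup.mem_center_iff.1 z.2 ⟨d, hd⟩)).symm
  set A := inducing M C B
  have hA : ¬ Cfsg.MemLocalIdeal M (Cfsg.blockCoeff A (⟨g, hgC⟩ : C)) := fun h => hg.2.1 (by
    simpa [A, C] using memLocalIdeal_add hM
      (memLocalIdeal_res_blockCoeff_sub hM hP hH hB ⟨g, hgC⟩) h)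
  obtain ⟨b, hb, hbA, hbg⟩ : ∃ b : Set (Cfsg.IrrCharacter C), Cfsg.IsPBlock M b ∧ b ⊆ A ∧
      ¬ Cfsg.MemLocalIdeal M (Cfsg.blockCoeff b (⟨g, hgC⟩ : C)) := by
    by_contra! hall
    apply hA
    rw [blockCoeff_eq_sum, ← Finset.sum_filter,
      ← Finset.sum_fiberwise_of_maps_to
        (g := fun χ : Cfsg.IrrCharacter C => Cfsg.blockOf M (χ : C → ℂ))
        (t := (Finset.univ.filter (· ∈ A)).image fun χ : Cfsg.IrrCharacter C =>
          Cfsg.blockOf M (χ : C → ℂ))
        (fun χ hχ => Finset.mem_image_of_mem _ hχ), Finset.mul_sum]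
    refine memLocalIdeal_sum hM _ fun b hb => ?_
    obtain ⟨ξ, hξ, rfl⟩ := Finset.mem_image.1 hb
    have hbb := isPBlock_blockOf (M := M) ξ
    have hsub : Cfsg.blockOf M (ξ : C → ℂ) ⊆ A := fun φ hφ =>
      mem_inducing_of_sameBlock hM hB (Finset.mem_filter.1 hξ).2 (mem_blockOf.1 hφ)
    have h := hall _ hbb hsub
    rw [blockCoeff_eq_sum, ← Finset.sum_filter] at h
    convert h using 3
    ext φ
    simp only [Finset.mem_filter, Finset.mem_univ, true_and]
    constructor
    · rintro ⟨-, e⟩; exact e ▸ mem_blockOf_self hM φ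
    · exact fun hφ => ⟨hsub hφ, (IsPBlock.eq_blockOf hM hbb hφ).symm⟩
  obtain ⟨ψ, hψ⟩ := IsPBlock.nonempty hM hb
  have hind := (mem_inducing_iff hM hP hH hB hb hψ).1 (hbA hψ)
  refine ⟨b, hind, le_antisymm ?_ ?_⟩
  · obtain ⟨E, hE⟩ := DefectThms.exists_defectGroup hM hb
    obtain ⟨E', hE', hle⟩ := DefectThms.exists_defectGroup_ge_of_induced hM _ hb hB hind hE
    have h := Subgroup.card_le_of_le hle
    rw [Subgroup.card_subtype, card_defectGroup hM hb hE, card_defectGroup hM hB hE'] at h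
    exact (Nat.pow_le_pow_iff_right hM.1.one_lt).1 h
  · obtain ⟨E, hE⟩ := DefectThms.exists_defectGroup hM hb
    obtain ⟨e, he, heE⟩ := DefectThms.isDefectGroup_iff.1 hE
    obtain ⟨S, hS, hDS⟩ := DefectThms.exists_le_isSylC (g := (⟨g, hgC⟩ : C))
      (R := D.subgroupOf C) (hD.2.1.comap_of_injective C.subtype C.subtype_injective) (by
        intro d hd
        rw [Subgroup.mem_centralizer_singleton_iff]
        exact Subtype.ext (Subgroup.mem_centralizer_singleton_iff.1
          (hD.1 (Subgroup.mem_subgroupOf.1 hd))))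
    obtain ⟨k, hk⟩ := DefectThms.exists_conj_le_of_unit_coeff hM hb he heE hbg hS
    refine (Nat.pow_le_pow_iff_right hM.1.one_lt).1 ?_
    rw [← hcardD, ← card_defectGroup hM hb hE,
      ← Nat.card_congr (Subgroup.subgroupOfEquivOfLe hDC).toEquiv]
    calc Nat.card (D.subgroupOf C) ≤ Nat.card S := Subgroup.card_le_of_le hDS
      _ = Nat.card (S.map (MulAut.conj k).toMonoidHom) := (DefectThms.card_map_conj S k).symm
      _ ≤ Nat.card E := Subgroup.card_le_of_le hk

omit [Fintype G] in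
/-- The bound on the number of characters in a block. -/
theorem card_le_pow_defect (hM : Cfsg.IsPModular p M) :
    ∀ d : ℕ, ∀ (G : Type u) [Group G] [Finite G] (B : Set (Cfsg.IrrCharacter G)),
      Cfsg.IsPBlock M B → Cfsg.blockDefect p B = d →
        (d ≤ 2 → Nat.card B ≤ p ^ d) ∧ (3 ≤ d → Nat.card B ≤ p ^ (2 * d - 2)) := by
  classical
  intro d
  induction d using Nat.strong_induction_on with
  | _ d ih =>
  intro G _ _ B hB hd
  have := Fintype.ofFinite G
  have hp := hM.1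
  have := Fact.mk hp
  by_cases hh : ∀ χ ∈ B, Cfsg.blockHeight p B ((χ : Cfsg.IrrCharacter G) : G → ℂ) = 0
  swap
  · push Not at hh
    obtain ⟨χ, hχ, hne⟩ := hh
    have hd2 := two_le_defect_of_height_pos hM hB hχ (Nat.pos_of_ne_zero hne)
    have h2 := two_mul_card_le hM hB hχ (Nat.pos_of_ne_zero hne)
    rw [hd] at hd2 h2
    refine ⟨fun h => ?_, fun _ => by omega⟩
    have : 2 * d - 2 = d := by omega
    rw [this] at h2
    omega
  rcases Nat.eq_zero_or_pos d with hd0 | hdpos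
  · -- defect zero
    refine ⟨fun _ => ?_, fun h => absurd h (by omega)⟩
    have : Fintype (Subgroup.centralizer ({(1 : G)} : Set G)) := Fintype.ofFinite _
    obtain ⟨χ, hχ⟩ := IsPBlock.nonempty hM hB
    have hbf := brauer_feit hM hB
    rw [hd, hd0, Nat.mul_zero, pow_zero] at hbf
    have hcard : Nat.card B ≤ ∑ χ : Cfsg.IrrCharacter G,
        if χ ∈ B then p ^ (2 * Cfsg.blockHeight p B (χ : G → ℂ)) else 0 := by
      rw [Nat.card_eq_fintype_card, Fintype.card_subtype, Finset.card_filter]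
      refine Finset.sum_le_sum fun φ _ => ?_
      by_cases h : φ ∈ B
      · rw [if_pos h, if_pos h]; exact Nat.one_le_pow _ _ hp.pos
      · rw [if_neg h, if_neg h]
    rw [hd0, pow_zero]
    omega
  obtain ⟨y, hy, hex⟩ := exists_major_subsection hM hB (by omega)
  let C := Subgroup.centralizer ({y} : Set G)
  obtain ⟨b, hind, hbd⟩ : ∃ b : Set (Cfsg.IrrCharacter C), Cfsg.IsInducedBlock M C b B ∧
    Cfsg.blockDefect p b = Cfsg.blockDefect p B := hex
  have : Fintype C := Fintype.ofFinite _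
  have hC : ∀ a : G, a ∈ C ↔ y * a = a * y := fun a => mem_centralizer_iff_comm y a
  let s : C := ⟨y, (hC y).2 rfl⟩
  set N := Subgroup.zpowers s
  have hNc : N ≤ Subgroup.center C := Subgroup.zpowers_le.2
    (Subgroup.mem_center_iff.2 fun t => Subtype.ext ((hC t).1 t.2).symm)
  have : N.Normal := ⟨fun n hn g => by
    rwa [Subgroup.mem_center_iff.1 (hNc hn) g, mul_inv_cancel_right]⟩
  have : Fintype (C ⧸ N) := Fintype.ofFinite _
  have hNcard : Nat.card N = p := by rw [Nat.card_zpowers, ← Subgroup.orderOf_coe]; exact hy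
  have hNp : IsPGroup p N := IsPGroup.of_card (n := 1) (by rw [hNcard, pow_one])
  obtain ⟨b', hb', hiff, -, hd'⟩ := exists_quotient_block N hM hNp hNc hind.1
  rw [hbd, hd, hNcard, hp.factorization_self] at hd'
  set d' := Cfsg.blockDefect p b'
  have hsq := card_sq_le_of_heights_zero hM hB ⟨1, by rw [hy, pow_one]⟩ hC hind hbd hh
  rw [hd] at hsq
  have hk' : Cfsg.blockRank p b ≤ Nat.card b' :=
    (blockRank_le_quotient N hM hNp hNc hind.1 hiff).trans (blockRank_le_card b')
  obtain ⟨ih1, ih2⟩ := ih d' (by omega) (C ⧸ N) b' hb' rfl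
  refine ⟨fun h2 => ?_, fun h3 => ?_⟩
  · by_cases hd2 : d = 2 ∧ d' = 1
    · rw [hd2.1]
      exact card_le_sq_of_defect_two hM hB (hd.trans hd2.1) hh hy hC hind
        ((hbd.trans hd).trans hd2.1) (s := s) rfl hb' hiff hd2.2
    · have hd'0 : d' = 0 := by omega
      have hk1 : Cfsg.blockRank p b ≤ 1 := hk'.trans (by
        have := ih1 (by omega)
        rwa [hd'0, pow_zero] at this)
      refine (Nat.pow_le_pow_iff_left (two_ne_zero)).1 ?_
      rw [← pow_mul, Nat.mul_comm]
      exact hsq.trans (by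
        calc p ^ (2 * d) * Cfsg.blockRank p b ≤ p ^ (2 * d) * 1 := Nat.mul_le_mul_left _ hk1
          _ = _ := mul_one _)
  · have hb'le : Nat.card b' ≤ p ^ (2 * d - 4) := by
      by_cases h : d' ≤ 2
      · exact (ih1 h).trans (Nat.pow_le_pow_right hp.pos (by omega))
      · exact (ih2 (by omega)).trans (Nat.pow_le_pow_right hp.pos (by omega))
    refine (Nat.pow_le_pow_iff_left (two_ne_zero)).1 (hsq.trans ?_)
    calc p ^ (2 * d) * Cfsg.blockRank p b ≤ p ^ (2 * d) * p ^ (2 * d - 4) :=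
          Nat.mul_le_mul_left _ (hk'.trans hb'le)
      _ = (p ^ (2 * d - 2)) ^ 2 := by rw [← pow_add, ← pow_mul]; congr 1; omega

end Cfsg.Agent.BlockChar
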