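import Cfsg.Agent.BlockChar.CardBound

/-!
# Blocks with a single irreducible Brauer character

Blocks with a central defect group have rank one; in a block of rank one the single Cartan
invariant is the order of a defect group.
-/

namespace Cfsg.Agent.BlockChar

open scoped ComplexConjugate
open Cfsg.Agent Cfsg.Agent.Blocks

universe u

variable {G : Type u} [Group G] {p : ℕ} {M : Ideal Cfsg.AlgInt}

theorem pRegularPart_ne_zero [Finite G] (hp : p.Prime) (χ : Cfsg.IrrCharacter G) :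
    Cfsg.pRegularPart p (χ : G → ℂ) ≠ 0 := fun e => by
  have h := congrFun e 1
  simp only [Pi.zero_apply, pRegularPart_apply, orderOf_one, Nat.dvd_one, hp.ne_one,
    if_false] at h
  exact Char.IsIrr.one_ne_zero χ.2 h

theorem blockRank_pos [Finite G] (hM : Cfsg.IsPModular p M) {B : Set (Cfsg.IrrCharacter G)}
    (hB : Cfsg.IsPBlock M B) : 0 < Cfsg.blockRank p B := by
  obtain ⟨η, hη⟩ := IsPBlock.nonempty hM hB
  rw [Cfsg.blockRank, Module.finrank_pos_iff_exists_ne_zero]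
  exact ⟨⟨_, Submodule.subset_span ⟨η, hη, rfl⟩⟩,
    fun e => pRegularPart_ne_zero hM.1 η (congrArg Subtype.val e)⟩

theorem blockRank_eq_one_of_central [Finite G] (hM : Cfsg.IsPModular p M)
    {B : Set (Cfsg.IrrCharacter G)} (hB : Cfsg.IsPBlock M B) {P : Subgroup G}
    (hD : Cfsg.IsDefectGroup p M B P) (hPZ : P ≤ Subgroup.center G) :
    Cfsg.blockRank p B = 1 := by
  have := Fintype.ofFinite G
  have := Fact.mk hM.1
  have hP : IsPGroup p P := DefectThms.isPGroup_of_isDefectGroup hD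
  have : P.Normal := ⟨fun n hn g => by
    rwa [Subgroup.mem_center_iff.1 (hPZ hn) g, mul_inv_cancel_right]⟩
  obtain ⟨b', hb', hiff, -, hd'⟩ := exists_quotient_block P hM hP hPZ hB
  rw [card_defectGroup hM hB hD, hM.1.factorization_pow, Finsupp.single_eq_same, Nat.sub_self,
    Nat.le_zero] at hd'
  have h1 := (card_le_pow_defect hM 0 (G ⧸ P) b' hb' hd').1 (Nat.zero_le 2)
  rw [pow_zero] at h1
  have h2 := (blockRank_le_quotient P hM hP hPZ hB hiff).trans
    ((blockRank_le_card b').trans h1)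
  have := blockRank_pos hM hB
  omega

/-- A generator of the degrees of a block as an integral combination of them. -/
theorem exists_degree_gcd [Finite G] {B : Set (Cfsg.IrrCharacter G)} (hne : B.Nonempty) :
    ∃ (g : ℕ) (n : Cfsg.IrrCharacter G → ℤ), 0 < g ∧
      (∀ χ ∈ B, g ∣ Cfsg.charDegree ((χ : Cfsg.IrrCharacter G) : G → ℂ)) ∧
      ∑ χ ∈ B.toFinite.toFinset,
        n χ * (Cfsg.charDegree ((χ : Cfsg.IrrCharacter G) : G → ℂ) : ℤ) = g := by
  classical
  set s := B.toFinite.toFinset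
  let f : s → ℤ := fun χ => (Cfsg.charDegree ((χ.1 : Cfsg.IrrCharacter G) : G → ℂ) : ℤ)
  obtain ⟨g, hg⟩ := (IsPrincipalIdealRing.principal (Submodule.span ℤ (Set.range f) : Ideal ℤ)).1
  have hdvd : ∀ χ : s, g ∣ f χ := fun χ => by
    have : f χ ∈ Submodule.span ℤ (Set.range f) := Submodule.subset_span ⟨χ, rfl⟩
    rw [hg] at this
    obtain ⟨t, ht⟩ := Submodule.mem_span_singleton.1 this
    exact ⟨t, by rw [← ht, smul_eq_mul, mul_comm]⟩
  have habs : (g.natAbs : ℤ) ∈ Submodule.span ℤ (Set.range f) := by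
    rw [hg]
    rcases Int.natAbs_eq g with h | h
    · rw [← h]; exact Submodule.mem_span_singleton_self g
    · rw [show (g.natAbs : ℤ) = -g by omega]
      exact neg_mem (Submodule.mem_span_singleton_self g)
  obtain ⟨c, hc⟩ := Submodule.mem_span_range_iff_exists_fun ℤ |>.1 habs
  obtain ⟨χ0, hχ0⟩ := hne
  have hg0 : g ≠ 0 := fun e => by
    have h := hdvd ⟨χ0, B.toFinite.mem_toFinset.2 hχ0⟩
    rw [e, zero_dvd_iff] at h
    exact (CharArith.irr_degree_spec χ0).2.ne' (Int.natCast_eq_zero.1 h)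
  refine ⟨g.natAbs, fun χ => if h : χ ∈ s then c ⟨χ, h⟩ else 0, Int.natAbs_pos.2 hg0,
    fun χ hχ => Int.natCast_dvd_natCast.1
      (Int.natAbs_dvd.2 (hdvd ⟨χ, B.toFinite.mem_toFinset.2 hχ⟩)), ?_⟩
  rw [← hc, ← Finset.sum_coe_sort]
  exact Finset.sum_congr rfl fun χ _ => by simp [f]

/-- The structure of a block of rank one. -/
theorem rank_one_cartan [Fintype G] (hM : Cfsg.IsPModular p M) {B : Set (Cfsg.IrrCharacter G)}
    (hB : Cfsg.IsPBlock M B) (hl : Cfsg.blockRank p B = 1) :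
    ∃ φ : G → ℂ, ∃ d : Cfsg.IrrCharacter G → ℕ,
      (∃ n : Cfsg.IrrCharacter G → ℤ, ∀ x : G, Cfsg.IsPRegular p x →
        φ x = ∑ᶠ ψ ∈ B, (n ψ : ℂ) * (ψ : G → ℂ) x) ∧
      (∀ χ ∈ B, ∀ x : G, Cfsg.IsPRegular p x → (χ : G → ℂ) x = (d χ : ℂ) * φ x) ∧
      ∑ᶠ χ ∈ B, d χ ^ 2 = p ^ Cfsg.blockDefect p B := by
  classical
  obtain ⟨χ0, hχ0, -⟩ := exists_height_zero (p := p) (IsPBlock.nonempty hM hB)
  obtain ⟨g, n, hg, hgdvd, hn⟩ := exists_degree_gcd ⟨χ0, hχ0⟩
  set s := B.toFinite.toFinset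
  have hdeg : ∀ χ : Cfsg.IrrCharacter G,
      (χ : G → ℂ) 1 = (Cfsg.charDegree (χ : G → ℂ) : ℂ) :=
    fun χ => (CharArith.irr_degree_spec χ).1
  have hd0 : (Cfsg.charDegree (χ0 : G → ℂ) : ℂ) ≠ 0 :=
    hdeg χ0 ▸ Char.IsIrr.one_ne_zero χ0.2
  -- proportionality on the regular elements
  have hprop : ∀ χ ∈ B, ∀ x : G, Cfsg.IsPRegular p x → (χ : G → ℂ) x =
      (Cfsg.charDegree (χ : G → ℂ) : ℂ) / (Cfsg.charDegree (χ0 : G → ℂ) : ℂ) *
        (χ0 : G → ℂ) x := by
    intro χ hχ x hx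
    set V := Submodule.span ℂ
      ((fun η : Cfsg.IrrCharacter G => Cfsg.pRegularPart p (η : G → ℂ)) '' B) with hV
    have hl' : Module.finrank ℂ V = 1 := hl
    let v : V := ⟨_, Submodule.subset_span ⟨χ0, hχ0, rfl⟩⟩
    have hv : v ≠ 0 := fun e => pRegularPart_ne_zero hM.1 χ0 (congrArg Subtype.val e)
    obtain ⟨c, hc⟩ := (finrank_eq_one_iff_of_nonzero' v hv).1 hl'
      ⟨_, Submodule.subset_span ⟨χ, hχ, rfl⟩⟩
    have hc' : c • Cfsg.pRegularPart p (χ0 : G → ℂ) = Cfsg.pRegularPart p (χ : G → ℂ) :=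
      congrArg Subtype.val hc
    have h1 := congrFun hc' 1
    have h2 := congrFun hc' x
    simp only [Pi.smul_apply, smul_eq_mul, pRegularPart_apply, orderOf_one, Nat.dvd_one,
      hM.1.ne_one, if_false, hdeg] at h1
    simp only [Pi.smul_apply, smul_eq_mul, pRegularPart_apply,
      if_neg (show ¬ p ∣ orderOf x from hx)] at h2
    rw [← h2, ← h1, mul_div_cancel_right₀ _ hd0]
  set φ : G → ℂ := fun x => ∑ ψ ∈ s, (n ψ : ℂ) * (ψ : G → ℂ) x with hφdef
  let d : Cfsg.IrrCharacter G → ℕ := fun χ => Cfsg.charDegree (χ : G → ℂ) / g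
  have hdg : ∀ χ ∈ B, Cfsg.charDegree ((χ : Cfsg.IrrCharacter G) : G → ℂ) = d χ * g :=
    fun χ hχ => (Nat.div_mul_cancel (hgdvd χ hχ)).symm
  have hφ : ∀ x : G, Cfsg.IsPRegular p x → φ x =
      (g : ℂ) / (Cfsg.charDegree (χ0 : G → ℂ) : ℂ) * (χ0 : G → ℂ) x := by
    intro x hx
    have hn' : (g : ℂ) = ∑ ψ ∈ s, (n ψ : ℂ) * (Cfsg.charDegree (ψ : G → ℂ) : ℂ) := by
      exact_mod_cast hn.symm
    rw [hn', Finset.sum_div, Finset.sum_mul]
    refine Finset.sum_congr rfl fun ψ hψ => ?_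
    rw [hprop ψ (B.toFinite.mem_toFinset.1 hψ) x hx]
    ring
  have hχφ : ∀ χ ∈ B, ∀ x : G, Cfsg.IsPRegular p x →
      ((χ : Cfsg.IrrCharacter G) : G → ℂ) x = (d χ : ℂ) * φ x := by
    intro χ hχ x hx
    rw [hprop χ hχ x hx, hφ x hx, hdg χ hχ]
    push_cast
    ring
  refine ⟨φ, d, ⟨n, fun x _ => by
    rw [finsum_mem_eq_finite_toFinset_sum _ B.toFinite]⟩, hχφ, ?_⟩
  -- the Cartan invariant
  set K : ℂ := ((p ^ Cfsg.blockDefect p B : ℕ) : ℂ) / (Nat.card G : ℂ) *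
    regSum p (fun w => φ w * conj (φ w))
  have hreg : ∀ χ ∈ B, ∀ ψ ∈ B, regM p B χ ψ = (d χ : ℂ) * (d ψ : ℂ) * K := by
    intro χ hχ ψ hψ
    simp only [regM, K, regSum_eq_filter, Finset.mul_sum]
    refine Finset.sum_congr rfl fun w hw => ?_
    rw [hχφ χ hχ w (Finset.mem_filter.1 hw).2, hχφ ψ hψ w (Finset.mem_filter.1 hw).2, map_mul,
      Complex.conj_natCast]
    ring
  have hsd : ∑ χ ∈ s, (n χ : ℂ) * (d χ : ℂ) = 1 := by
    have : ∑ χ ∈ s, n χ * (d χ : ℤ) = 1 := by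
      refine mul_right_cancel₀ (Int.natCast_ne_zero.2 hg.ne') ?_
      rw [one_mul, Finset.sum_mul]
      refine (Finset.sum_congr rfl fun χ hχ => ?_).trans hn
      rw [hdg χ (B.toFinite.mem_toFinset.1 hχ)]
      push_cast
      ring
    exact_mod_cast this
  obtain ⟨k, hk⟩ : ∃ k : ℤ, K = (k : ℂ) := by
    choose m hm using fun χ : s => fun ψ : s =>
      exists_int_regM (p := p) hM (B.toFinite.mem_toFinset.1 χ.2) ψ.1
    refine ⟨∑ χ : s, ∑ ψ : s, n χ.1 * n ψ.1 * m χ ψ, ?_⟩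
    calc K = (∑ χ ∈ s, (n χ : ℂ) * (d χ : ℂ)) * (∑ ψ ∈ s, (n ψ : ℂ) * (d ψ : ℂ)) * K := by
          rw [hsd]; ring
      _ = ∑ χ : s, ∑ ψ : s, (n χ.1 : ℂ) * (n ψ.1 : ℂ) * regM p B χ.1 ψ.1 := by
          rw [← Finset.sum_coe_sort s, Finset.sum_mul_sum, Finset.sum_mul]
          refine Finset.sum_congr rfl fun χ _ => ?_
          rw [Finset.sum_mul]
          refine Finset.sum_congr rfl fun ψ _ => ?_
          rw [hreg _ (B.toFinite.mem_toFinset.1 χ.2) _ (B.toFinite.mem_toFinset.1 ψ.2)]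
          ring
      _ = _ := by push_cast; simp only [hm]
  set S := ∑ χ ∈ s, d χ ^ 2 with hS
  have hKS : K * (S : ℂ) = ((p ^ Cfsg.blockDefect p B : ℕ) : ℂ) := by
    have h := sum_regM_mul hM hB hχ0 1
    rw [if_pos (show Cfsg.IsPRegular p (1 : G) by
      show ¬ p ∣ orderOf (1 : G)
      rw [orderOf_one, Nat.dvd_one]
      exact hM.1.ne_one), ← Finset.sum_filter,
      show Finset.univ.filter (· ∈ B) = s from Finset.ext fun x => by simp [s]] at h
    have hne : (d χ0 : ℂ) * (g : ℂ) ≠ 0 := by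
      rw [← Nat.cast_mul, ← hdg χ0 hχ0]; exact hd0
    refine mul_left_cancel₀ hne ?_
    rw [hdeg, hdg χ0 hχ0] at h
    push_cast at h ⊢
    rw [mul_comm ((p : ℂ) ^ _)] at h
    rw [← h, hS, Nat.cast_sum, Finset.mul_sum, Finset.mul_sum]
    refine Finset.sum_congr rfl fun ψ hψ => ?_
    rw [hreg χ0 hχ0 ψ (B.toFinite.mem_toFinset.1 hψ), hdeg,
      hdg ψ (B.toFinite.mem_toFinset.1 hψ)]
    push_cast
    ring
  have hpk : ¬ (p : ℤ) ∣ k := by
    intro hdiv
    obtain ⟨η, hη, hηv⟩ := exists_height_zero (p := p) ⟨χ0, hχ0⟩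
    have hη0 : Cfsg.blockHeight p B (η : G → ℂ) = 0 := by
      rw [blockHeight_eq, hηv, Nat.sub_self]
    have hr : ¬ p ∣ redDeg p B η := (not_dvd_redDeg_iff hM.1 hη).2 hη0
    have h1 := regM_congr_redDeg hM hB hη hη hη
    rw [hreg η hη η hη, hk] at h1
    set r0 := (redDeg p B η : ℂ) *
      ((Nat.card G / p ^ (Nat.card G).factorization p : ℕ) : ℂ)
    have h2 : Cfsg.MemLocalIdeal M (r0 * ((d η : ℂ) * (d η : ℂ) * (k : ℂ))) :=
      memLocalIdeal_mul_left hM
        ((localRing hM).mul_mem (memLocalRing_natCast hM _) (memLocalRing_natCast hM _))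
        (memLocalIdeal_mul_left hM
          ((localRing hM).mul_mem (memLocalRing_natCast hM _) (memLocalRing_natCast hM _))
          ((memLocalIdeal_intCast_iff hM _).2 hdiv))
    have h3 := memLocalIdeal_sub hM h2 h1
    simp only [sub_sub_cancel] at h3
    rcases memLocalIdeal_of_mul hM ((localRing hM).mul_mem (memLocalRing_natCast hM _)
      (memLocalRing_natCast hM _))
      (memLocalRing_of_isIntegral hM (isIntegral_omega_regConj η η)) h3 with h | h
    · exact hr ((memLocalIdeal_natCast_iff hM _).1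
        ((memLocalIdeal_of_mul hM (memLocalRing_natCast hM _) (memLocalRing_natCast hM _) h).elim
          id id))
    · exact not_memLocalIdeal_omega_regConj hM hB hη hη hη0 h
  have hkS : k * (S : ℤ) = ((p ^ Cfsg.blockDefect p B : ℕ) : ℤ) := by
    rw [hk] at hKS
    exact_mod_cast hKS
  have hkS' : k.natAbs * S = p ^ Cfsg.blockDefect p B := by
    have := congrArg Int.natAbs hkS
    rwa [Int.natAbs_mul, Int.natAbs_natCast, Int.natAbs_natCast] at this
  obtain ⟨j, -, hj⟩ := (Nat.dvd_prime_pow hM.1).1 (Dvd.intro _ hkS')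
  have hj0 : j = 0 := by
    by_contra h
    exact hpk (Int.natCast_dvd.2 (hj ▸ dvd_pow_self p h))
  rw [hj, hj0, pow_zero, one_mul] at hkS'
  rw [finsum_mem_eq_finite_toFinset_sum _ B.toFinite, ← hkS']

end Cfsg.Agent.BlockChar
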