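import Cfsg.Agent.BlockChar.SectionRank
import Cfsg.Agent.BlockChar.RankOne

/-!
# A block of positive defect has fewer regular dimensions than characters
-/

namespace Cfsg.Agent.BlockChar

open scoped ComplexConjugate
open Cfsg.Agent Cfsg.Agent.Blocks

universe u

variable {G : Type u} [Group G] {p : ℕ} {M : Ideal Cfsg.AlgInt}

/-- A character vanishing on the non-identity elements of a subgroup has degree divisible by its
order. -/
theorem card_dvd_of_vanish [Finite G] (χ : Cfsg.IrrCharacter G) (S : Subgroup G)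
    (h : ∀ s ∈ S, s ≠ 1 → (χ : G → ℂ) s = 0) :
    Nat.card S ∣ Cfsg.charDegree (χ : G → ℂ) := by
  classical
  have := Fintype.ofFinite S
  obtain ⟨k, hk⟩ := Char.classInner_isCharacter_eq_natCast
    (Char.isCharacter_res S (Char.IsIrr.isCharacter χ.2))
    (Char.isCharacter_one (G := S))
  rw [Cfsg.classInner, Finset.sum_eq_single (1 : S)] at hk
  · refine ⟨k, ?_⟩
    have hS : (Nat.card S : ℂ) ≠ 0 := Nat.cast_ne_zero.2 Nat.card_pos.ne'
    simp only [map_one, mul_one, OneMemClass.coe_one, (CharArith.irr_degree_spec χ).1] at hk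
    rw [inv_mul_eq_iff_eq_mul₀ hS] at hk
    exact_mod_cast hk
  · intro s _ hs
    rw [h s s.2 fun e => hs (Subtype.ext e), zero_mul]
  · simp

theorem blockRank_lt_card [Finite G] (hM : Cfsg.IsPModular p M) {B : Set (Cfsg.IrrCharacter G)}
    (hB : Cfsg.IsPBlock M B) (hd : 0 < Cfsg.blockDefect p B) :
    Cfsg.blockRank p B < Nat.card B := by
  classical
  have := Fintype.ofFinite G
  have := Fact.mk hM.1
  refine lt_of_le_of_ne (blockRank_le_card B) fun heq => ?_
  have htot := sum_all_norm B
  rw [← heq, card_mul_blockRank hM hB] at htot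
  simp only [finsum_mem_eq_finite_toFinset_sum _ B.toFinite] at htot
  set R : G → ℝ := fun g => ∑ χ ∈ B.toFinite.toFinset, Complex.normSq ((χ : G → ℂ) g) with hR
  have hRc : ∀ g : G, ∑ χ ∈ B.toFinite.toFinset, (χ : G → ℂ) g * conj ((χ : G → ℂ) g) =
      ((R g : ℝ) : ℂ) := fun g => by
    rw [hR, Complex.ofReal_sum]
    exact Finset.sum_congr rfl fun χ _ => Complex.mul_conj _
  simp only [hRc] at htot
  have h' : ∑ g, R g = ∑ g, if p ∣ orderOf g then (0 : ℝ) else R g := by
    have : ((∑ g, R g : ℝ) : ℂ) = ((∑ g, if p ∣ orderOf g then (0 : ℝ) else R g : ℝ) : ℂ) := by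
      push_cast
      rw [htot]
      exact Finset.sum_congr rfl fun g _ => by split_ifs <;> simp
    exact_mod_cast this
  have h0 : ∑ g, (if p ∣ orderOf g then R g else 0) = 0 := by
    have : ∑ g, R g = ∑ g, (if p ∣ orderOf g then (0 : ℝ) else R g) +
        ∑ g, (if p ∣ orderOf g then R g else 0) := by
      rw [← Finset.sum_add_distrib]
      exact Finset.sum_congr rfl fun g _ => by split_ifs <;> simp
    linarith
  rw [Finset.sum_eq_zero_iff_of_nonneg fun g _ => by
    split_ifs
    · exact Finset.sum_nonneg fun χ _ => Complex.normSq_nonneg _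
    · exact le_rfl] at h0
  obtain ⟨χ, hχ, hχv⟩ := exists_height_zero (p := p) (IsPBlock.nonempty hM hB)
  let P : Sylow p G := default
  have hdvd := card_dvd_of_vanish χ (P : Subgroup G) fun s hs hs1 => by
    have hsing : p ∣ orderOf s := by
      obtain ⟨k, hk⟩ := IsPGroup.iff_orderOf.1 P.2 ⟨s, hs⟩
      rw [Subgroup.orderOf_mk] at hk
      rcases Nat.eq_zero_or_pos k with h | h
      · exact absurd (orderOf_eq_one_iff.1 (by rw [hk, h, pow_zero])) hs1
      · exact hk ▸ dvd_pow_self p h.ne'
    have h1 := h0 s (Finset.mem_univ s)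
    rw [if_pos hsing, hR, Finset.sum_eq_zero_iff_of_nonneg fun χ _ => Complex.normSq_nonneg _] at h1
    exact Complex.normSq_eq_zero.1 (h1 χ (B.toFinite.mem_toFinset.2 hχ))
  rw [P.card_eq_multiplicity,
    hM.1.pow_dvd_iff_le_factorization (CharArith.irr_degree_spec χ).2.ne'] at hdvd
  rw [blockDefect_eq, ← hχv] at hd
  omega

theorem card_eq_two_of_defect_one_two [Finite G] {M : Ideal Cfsg.AlgInt}
    (hM : Cfsg.IsPModular 2 M) {B : Set (Cfsg.IrrCharacter G)} (hB : Cfsg.IsPBlock M B)
    (hd : Cfsg.blockDefect 2 B = 1) : Nat.card B = 2 ∧ Cfsg.blockRank 2 B = 1 := by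
  have h1 := (card_le_pow_defect hM 1 G B hB hd).1 (by omega)
  have h2 := blockRank_lt_card hM hB (by omega)
  have h3 := blockRank_pos hM hB
  omega

/-- A block of the centralizer of a central involution of defect at most two has rank one. -/
theorem blockRank_eq_one_of_central_two [Finite G] {M : Ideal Cfsg.AlgInt}
    (hM : Cfsg.IsPModular 2 M) {s : G} (hs : s ∈ Subgroup.center G) (hso : orderOf s = 2)
    {b : Set (Cfsg.IrrCharacter G)} (hb : Cfsg.IsPBlock M b) (hd : Cfsg.blockDefect 2 b ≤ 2) :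
    Cfsg.blockRank 2 b = 1 := by
  have := Fact.mk hM.1
  have hN : Subgroup.zpowers s ≤ Subgroup.center G := Subgroup.zpowers_le.2 hs
  have : (Subgroup.zpowers s).Normal := ⟨fun n hn g => by
    rwa [Subgroup.mem_center_iff.1 (hN hn) g, mul_inv_cancel_right]⟩
  have hP : IsPGroup 2 (Subgroup.zpowers s) :=
    IsPGroup.of_card (n := 1) (by rw [Nat.card_zpowers, hso, pow_one])
  obtain ⟨b', hb', hiff, -, hd'⟩ := exists_quotient_block _ hM hP hN hb
  rw [Nat.card_zpowers, hso, Nat.Prime.factorization_self Nat.prime_two] at hd'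
  have h1 := blockRank_le_quotient _ hM hP hN hb hiff
  have h2 := blockRank_pos hM hb
  rcases Nat.eq_zero_or_pos (Cfsg.blockDefect 2 b') with h0 | h0
  · have h3 := (card_le_pow_defect hM 0 _ b' hb' h0).1 (by omega)
    have := blockRank_le_card (p := 2) b'
    rw [pow_zero] at h3
    omega
  · have := (card_eq_two_of_defect_one_two hM hb' (by omega)).2
    omega

end Cfsg.Agent.BlockChar
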