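import Cfsg.Agent.BlockChar.ResidueBlock
import Cfsg.Agent.BlockChar.RankLtCard
import Cfsg.Agent.BlockChar.RankOne
import Cfsg.Agent.BlockThms.DefectZero

/-!
# Blocks with exactly two irreducible characters
-/

set_option autoImplicit false

namespace Cfsg.Agent.BlockChar

open scoped ComplexConjugate
open Cfsg.Agent Cfsg.Agent.Blocks

universe u

variable {G : Type u} [Group G] {p : ℕ} {M : Ideal Cfsg.AlgInt}

/-- A block of positive defect with exactly two irreducible characters has `p = 2` and defect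
one. -/
theorem eq_two_of_card_eq_two [Finite G] (hM : Cfsg.IsPModular p M)
    {B : Set (Cfsg.IrrCharacter G)} (hB : Cfsg.IsPBlock M B) (hk : Nat.card B = 2)
    (hd : 0 < Cfsg.blockDefect p B) : p = 2 ∧ Cfsg.blockDefect p B = 1 := by
  classical
  have := Fintype.ofFinite G
  have := Fact.mk hM.1
  have hl : Cfsg.blockRank p B = 1 := by
    have h1 := blockRank_lt_card hM hB hd
    have h2 := blockRank_pos hM hB
    omega
  obtain ⟨φ, d, ⟨n, hn⟩, hval, hsum⟩ := rank_one_cartan hM hB hl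
  have h1reg : Cfsg.IsPRegular p (1 : G) := by
    show ¬ p ∣ orderOf (1 : G)
    rw [orderOf_one, Nat.dvd_one]
    exact hM.1.ne_one
  set S := B.toFinite.toFinset with hS
  have hmem : ∀ χ, χ ∈ S ↔ χ ∈ B := fun χ => B.toFinite.mem_toFinset
  set g : ℤ := ∑ χ ∈ S, n χ * (Cfsg.charDegree (χ : G → ℂ) : ℤ) with hg
  have hφ : φ 1 = (g : ℂ) := by
    rw [hn 1 h1reg, finsum_mem_eq_finite_toFinset_sum _ B.toFinite, hg]
    push_cast
    exact Finset.sum_congr rfl fun χ _ => by rw [(CharArith.irr_degree_spec χ).1]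
  have hdeg : ∀ χ ∈ S, (Cfsg.charDegree ((χ : Cfsg.IrrCharacter G) : G → ℂ) : ℤ) = d χ * g :=
    fun χ hχ => by
      have h := hval χ ((hmem χ).1 hχ) 1 h1reg
      rw [(CharArith.irr_degree_spec χ).1, hφ] at h
      exact_mod_cast h
  obtain ⟨χ₀, hχ₀⟩ := IsPBlock.nonempty hM hB
  have hg0 : g ≠ 0 := fun h0 => by
    have h := hdeg χ₀ ((hmem χ₀).2 hχ₀)
    rw [h0, mul_zero, Int.natCast_eq_zero] at h
    exact Char.IsIrr.one_ne_zero χ₀.2 (by rw [(CharArith.irr_degree_spec χ₀).1, h, Nat.cast_zero])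
  have hnd : ∑ χ ∈ S, n χ * (d χ : ℤ) = 1 := by
    refine mul_right_cancel₀ hg0 ?_
    rw [one_mul, Finset.sum_mul]
    conv_rhs => rw [hg]
    exact Finset.sum_congr rfl fun χ hχ => by rw [hdeg χ hχ]; ring
  rw [finsum_mem_eq_finite_toFinset_sum _ B.toFinite, ← hS] at hsum
  obtain ⟨m, hm⟩ := ResidueBlock.exists_sum_sq_eq hM hB hk
  rw [← hS] at hm
  have heq : (p : ℤ) ^ Cfsg.blockDefect p B * g ^ 2 = 2 * (m : ℤ) ^ 2 := by
    rw [← Nat.cast_pow, ← hsum]
    have h : ((∑ χ ∈ S, Cfsg.charDegree ((χ : Cfsg.IrrCharacter G) : G → ℂ) ^ 2 : ℕ) : ℤ) =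
        ((2 * m ^ 2 : ℕ) : ℤ) := by rw [hm]
    push_cast at h ⊢
    rw [Finset.sum_mul, ← h]
    exact Finset.sum_congr rfl fun χ hχ => by rw [hdeg χ hχ, mul_pow]
  have hnat : p ^ Cfsg.blockDefect p B * g.natAbs ^ 2 = 2 * m ^ 2 := by
    have := congrArg Int.natAbs heq
    simpa [Int.natAbs_mul, Int.natAbs_pow] using this
  have hm0 : m ≠ 0 := fun h0 => by
    rw [h0] at hnat
    simp [hM.1.ne_zero, hg0] at hnat
  have hfac := congrArg (fun x : ℕ => x.factorization 2) hnat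
  simp only [Nat.factorization_mul (pow_ne_zero _ hM.1.ne_zero)
      (pow_ne_zero _ (Int.natAbs_ne_zero.2 hg0)),
    Nat.factorization_mul two_ne_zero (pow_ne_zero _ hm0), Nat.factorization_pow,
    Finsupp.add_apply, Finsupp.smul_apply, smul_eq_mul, hM.1.factorization,
    Nat.prime_two.factorization, Finsupp.single_apply, if_true] at hfac
  have hp2 : p = 2 := by
    by_contra hne
    rw [if_neg hne] at hfac
    omega
  subst hp2
  rw [if_pos rfl] at hfac
  refine ⟨rfl, ?_⟩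
  by_contra hne
  have h3 : 3 ≤ Cfsg.blockDefect 2 B := by omega
  -- both multiplicities are odd
  have hScard : S.card = 2 := by
    rw [← hk, Nat.card_coe_set_eq, Set.ncard_eq_toFinset_card B B.toFinite]
  obtain ⟨a, b, hab, hSab⟩ := Finset.card_eq_two.1 hScard
  rw [hSab, Finset.sum_pair hab] at hsum hnd
  have h8 : 8 ∣ d a ^ 2 + d b ^ 2 := hsum ▸ Nat.pow_dvd_pow 2 h3
  have h8' : (d a ^ 2 + d b ^ 2) % 8 = 0 := Nat.mod_eq_zero_of_dvd h8
  rw [Nat.add_mod, Nat.pow_mod, Nat.pow_mod (d b)] at h8'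
  have hodd : ¬ (2 ∣ d a ∧ 2 ∣ d b) := by
    rintro ⟨⟨x, hx⟩, ⟨y, hy⟩⟩
    rw [hx, hy] at hnd
    push_cast at hnd
    have : (2 : ℤ) ∣ 1 := ⟨n a * x + n b * y, by linarith⟩
    omega
  rw [Nat.dvd_iff_mod_eq_zero, Nat.dvd_iff_mod_eq_zero] at hodd
  have ha := Nat.mod_lt (d a) (show 8 > 0 by norm_num)
  have hb := Nat.mod_lt (d b) (show 8 > 0 by norm_num)
  interval_cases hA : d a % 8 <;> interval_cases hB' : d b % 8 <;> first | omega | simp at h8'

end Cfsg.Agent.BlockChar
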