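import Cfsg.Agent.BlockChar.Contribution
import Cfsg.Agent.BlockThms.NormalCor
import Cfsg.Agent.Char.Brauer

/-!
# Blocks of a group and of its quotient by a central p-subgroup

The restriction of a character to the p-regular elements comes from a generalized character of
the quotient, supported in the corresponding block.
-/

namespace Cfsg.Agent.BlockChar

open scoped ComplexConjugate
open Cfsg.Agent Cfsg.Agent.Blocks

universe u

variable {G : Type u} [Group G] {p : ℕ} {M : Ideal Cfsg.AlgInt}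

/-- the character inflated from a quotient -/
noncomputable def inflIrr [Finite G] (N : Subgroup G) [N.Normal]
    (η : Cfsg.IrrCharacter (G ⧸ N)) : Cfsg.IrrCharacter G :=
  ⟨fun g => (η : G ⧸ N → ℂ) (g : G ⧸ N), Char.isIrrCharacter_mk N η.2⟩

theorem inflIrr_injective [Finite G] (N : Subgroup G) [N.Normal] :
    Function.Injective (inflIrr N) := fun η η' h => Subtype.ext (funext fun q => by
  obtain ⟨g, rfl⟩ := QuotientGroup.mk_surjective q
  exact congrFun (congrArg Subtype.val h) g)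

/-- On a nilpotent subgroup the p'-part is multiplicative. -/
theorem pow_mul_of_isNilpotent [Finite G] {E : Subgroup G} [Group.IsNilpotent E]
    {e : ℕ} (hp : p.Prime) (he : ∀ g : G, g ^ e = pPrimePartOf p g) (a b : E) :
    (a * b) ^ e = a ^ e * b ^ e := by
  obtain ⟨f⟩ := (Group.isNilpotent_of_finite_tfae (G := E)).out 0 4 rfl rfl |>.1
    inferInstance
  obtain ⟨u, rfl⟩ := f.surjective a
  obtain ⟨v, rfl⟩ := f.surjective b
  rw [← map_mul, ← map_pow, ← map_pow, ← map_pow, ← map_mul]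
  congr 1
  funext q P
  simp only [Pi.pow_apply, Pi.mul_apply]
  have := Fact.mk (Nat.prime_of_mem_primeFactors q.2)
  have key : ∀ x : (P : Subgroup E), x ^ e = if (q : ℕ) = p then 1 else x := by
    intro x
    obtain ⟨k, hk⟩ := IsPGroup.iff_orderOf.1 P.2 x
    have hk' : orderOf (((x : E) : G)) = (q : ℕ) ^ k := by
      rw [Subgroup.orderOf_coe, Subgroup.orderOf_coe, hk]
    have hval : (((x ^ e : (P : Subgroup E)) : E) : G) = pPrimePartOf p ((x : E) : G) := by
      rw [Subgroup.coe_pow, Subgroup.coe_pow, he]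
    split_ifs with hq
    · apply Subtype.ext; apply Subtype.ext
      rw [hval]
      have h := (parts_mul hp (Commute.one_right ((x : E) : G)) ⟨k, by rw [hk', hq]⟩
        (by simpa using hp.ne_one)).2
      simpa using h
    · apply Subtype.ext; apply Subtype.ext
      rw [hval]
      have h := (parts_mul hp (Commute.one_left ((x : E) : G)) ⟨0, by simp⟩ (by
        rw [hk']
        intro hd
        exact hq ((Nat.prime_dvd_prime_iff_eq hp (Nat.prime_of_mem_primeFactors q.2)).1
          (hp.dvd_of_dvd_pow hd)).symm)).2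
      simpa using h
  rw [key, key, key]
  split_ifs <;> simp

/-- The character value at the p'-part is a generalized character. -/
theorem isGeneralized_primePart [Finite G] (hp : p.Prime) {χ : G → ℂ}
    (hχ : Cfsg.IsCharacter G χ) :
    Cfsg.IsGeneralizedCharacter G (fun g => χ (pPrimePartOf p g)) := by
  obtain ⟨e, -, he⟩ := exists_primePartExp (G := G) hp
  simp only [← he]
  refine Char.isGeneralized_of_elementary (fun g k => ?_) fun E q hq hE => ?_
  · rw [conj_pow]
    exact Char.isClassFunction_of_isCharacter hχ _ k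
  · have := Char.IsElementary.isNilpotent hq hE
    let f : E →* E :=
      { toFun := fun a => a ^ e
        map_one' := one_pow e
        map_mul' := fun a b => pow_mul_of_isNilpotent hp he a b }
    have h := Char.isGeneralized_of_isCharacter
      (Char.isCharacter_comp f (Char.isCharacter_res E hχ))
    simpa [f] using h

variable (N : Subgroup G) [N.Normal]

theorem isPRegular_mk [Finite G] {w : G} (hw : ¬ p ∣ orderOf w) : ¬ p ∣ orderOf (w : G ⧸ N) :=
  fun h => hw (h.trans (orderOf_map_dvd (QuotientGroup.mk' N) w))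

/-- the p-regular elements of a group and of its quotient by a central p-subgroup correspond -/
theorem sum_regular_quotient [Fintype G] [Fintype (G ⧸ N)] {A : Type*} [AddCommMonoid A]
    (hp : p.Prime) (hN : IsPGroup p N) (hc : N ≤ Subgroup.center G) (f : G ⧸ N → A) :
    ∑ w ∈ Finset.univ.filter (fun w : G => ¬ p ∣ orderOf w), f (w : G ⧸ N) =
      ∑ q ∈ Finset.univ.filter (fun q : G ⧸ N => ¬ p ∣ orderOf q), f q := by
  have := Fact.mk hp
  refine Finset.sum_bij (fun w _ => (w : G ⧸ N))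
    (fun w hw => Finset.mem_filter.2 ⟨Finset.mem_univ _, isPRegular_mk N (Finset.mem_filter.1 hw).2⟩)
    (fun w hw w' hw' e => ?_) (fun q hq => ?_) fun _ _ => rfl
  · have hn : w⁻¹ * w' ∈ N := QuotientGroup.eq.1 e
    obtain ⟨k, hk⟩ := IsPGroup.iff_orderOf.1 hN ⟨_, hn⟩
    have hcomm : Commute (w⁻¹ * w') w := (Subgroup.mem_center_iff.1 (hc hn) w).symm
    have h1 := (parts_mul hp hcomm ⟨k, by rw [← hk, ← Subgroup.orderOf_coe]⟩
      (Finset.mem_filter.1 hw).2).2
    have h2 := (parts_mul hp (Commute.one_left w') ⟨0, by simp⟩ (Finset.mem_filter.1 hw').2).2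
    rw [show w⁻¹ * w' * w = w' by rw [hcomm.eq, mul_inv_cancel_left]] at h1
    rw [one_mul, h1] at h2
    exact h2
  · obtain ⟨g, rfl⟩ := QuotientGroup.mk_surjective q
    refine ⟨pPrimePartOf p g,
      Finset.mem_filter.2 ⟨Finset.mem_univ _, not_dvd_orderOf_pPrimePartOf hp g⟩, ?_⟩
    obtain ⟨k, hk⟩ := orderOf_pPartOf hp g
    have hu : orderOf ((pPartOf p g : G) : G ⧸ N) ∣ p ^ k :=
      hk ▸ orderOf_map_dvd (QuotientGroup.mk' N) _
    obtain ⟨j, -, hj⟩ := (Nat.dvd_prime_pow hp).1 hu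
    have h1 := (parts_mul hp ((commute_pPartOf_pPrimePartOf (p := p) g).map (QuotientGroup.mk' N))
      ⟨j, hj⟩ (isPRegular_mk N (not_dvd_orderOf_pPrimePartOf hp g))).2
    have h2 := (parts_mul hp (Commute.one_left (g : G ⧸ N)) ⟨0, by simp⟩
      (Finset.mem_filter.1 hq).2).2
    simp only [QuotientGroup.mk'_apply] at h1
    rw [← QuotientGroup.mk_mul, pPartOf_mul_pPrimePartOf hp] at h1
    rw [one_mul, h1] at h2
    exact h2

/-- A block has a counterpart in the quotient by a central p-subgroup. -/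
theorem exists_quotient_block [Finite G] (hM : Cfsg.IsPModular p M) (hN : IsPGroup p N)
    (hc : N ≤ Subgroup.center G) {b : Set (Cfsg.IrrCharacter G)} (hb : Cfsg.IsPBlock M b) :
    ∃ b' : Set (Cfsg.IrrCharacter (G ⧸ N)), Cfsg.IsPBlock M b' ∧
      (∀ η, η ∈ b' ↔ inflIrr N η ∈ b) ∧
      (∀ θ ∈ b, (∀ n ∈ N, (θ : G → ℂ) n = (θ : G → ℂ) 1) → ∃ η ∈ b', inflIrr N η = θ) ∧
      Cfsg.blockDefect p b' ≤ Cfsg.blockDefect p b - (Nat.card N).factorization p := by
  classical
  obtain ⟨θ, hθ, htriv⟩ := BlockThms.exists_mem_trivial_on N hM hN hb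
  have hq : ∀ θ : Cfsg.IrrCharacter G, (∀ n ∈ N, (θ : G → ℂ) n = (θ : G → ℂ) 1) →
      ∃ η, inflIrr N η = θ := fun θ h => by
    obtain ⟨φ, hφ, he⟩ := Char.IsIrr.exists_quotient N θ.2 h
    exact ⟨⟨φ, hφ⟩, Subtype.ext (funext fun g => (he g).symm)⟩
  obtain ⟨φ, rfl⟩ := hq θ htriv
  have hC : ∃ k : ℕ, (Subgroup.centralizer (N : Set G)).index = p ^ k := by
    refine ⟨0, ?_⟩
    rw [pow_zero, Subgroup.index_eq_one]
    exact Subgroup.centralizer_eq_top_iff_subset.2 hc
  set b' := Cfsg.blockOf M (φ : G ⧸ N → ℂ)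
  have hiff : ∀ η, η ∈ b' ↔ inflIrr N η ∈ b := fun η => by
    rw [mem_blockOf, BlockThms.sameBlock_quotient_iff N hM hN hC,
      IsPBlock.eq_blockOf hM hb hθ, mem_blockOf]
    rfl
  refine ⟨b', isPBlock_blockOf φ, hiff, fun θ' h' ht => ?_, ?_⟩
  · obtain ⟨η, rfl⟩ := hq θ' ht
    exact ⟨η, (hiff η).2 h', rfl⟩
  · obtain ⟨η, hη, hηv⟩ := exists_height_zero (p := p)
      (B := b') ⟨φ, mem_blockOf_self hM φ⟩
    have hdeg : Cfsg.charDegree (inflIrr N η : G → ℂ) = Cfsg.charDegree (η : G ⧸ N → ℂ) := rfl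
    have h1 := minVal_le (p := p) ((hiff η).1 hη)
    rw [hdeg] at h1
    have h2 := congrArg (fun n => n.factorization p) (Subgroup.card_eq_card_quotient_mul_card_subgroup N)
    rw [Nat.factorization_mul Nat.card_pos.ne' Nat.card_pos.ne', Finsupp.coe_add, Pi.add_apply] at h2
    rw [blockDefect_eq, blockDefect_eq, ← hηv]
    omega

/-- A commuting p-element does not change the p'-part. -/
theorem pPrimePartOf_mul_of_commute [Finite G] (hp : p.Prime) {u c : G}
    (hu : ∃ k, orderOf u = p ^ k) (h : Commute u c) :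
    pPrimePartOf p (u * c) = pPrimePartOf p c := by
  have := Fact.mk hp
  obtain ⟨e, -, he⟩ := exists_primePartExp (G := G) hp
  have hb : Commute u (pPrimePartOf p c) := he c ▸ h.pow_right e
  have ha : Commute u (pPartOf p c) := by
    rw [eq_mul_inv_of_mul_eq (pPartOf_mul_pPrimePartOf (p := p) hp c)]
    exact h.mul_right hb.inv_right
  obtain ⟨k, hk⟩ := hu
  obtain ⟨j, hj⟩ := orderOf_pPartOf hp c
  have hp' : ∃ i, orderOf (u * pPartOf p c) = p ^ i := by
    obtain ⟨i, -, hi⟩ := (Nat.dvd_prime_pow hp).1 (ha.orderOf_mul_dvd_lcm.trans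
      (Nat.lcm_dvd (dvd_of_eq hk |>.trans (pow_dvd_pow p (le_max_left k j)))
        (dvd_of_eq hj |>.trans (pow_dvd_pow p (le_max_right k j)))))
    exact ⟨i, hi⟩
  have h' := (parts_mul hp (hb.mul_left (commute_pPartOf_pPrimePartOf (p := p) c)) hp'
    (not_dvd_orderOf_pPrimePartOf hp c)).2
  rwa [mul_assoc, pPartOf_mul_pPrimePartOf hp] at h'

theorem sup_centralizer_of_le_center (hc : N ≤ Subgroup.center G) :
    N ⊔ Subgroup.centralizer (N : Set G) = ⊤ := by
  rw [Subgroup.centralizer_eq_top_iff_subset.2 hc, sup_top_eq]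

/-- The restriction of a member of a block to the p-regular elements is an integral combination
of the characters of the corresponding block of the quotient. -/
theorem exists_int_lift_of_sup [Fintype G] [Fintype (G ⧸ N)] (hM : Cfsg.IsPModular p M)
    (hN : IsPGroup p N) (hG : N ⊔ Subgroup.centralizer (N : Set G) = ⊤) {b : Set (Cfsg.IrrCharacter G)}
    (hb : Cfsg.IsPBlock M b) {b' : Set (Cfsg.IrrCharacter (G ⧸ N))}
    (hiff : ∀ η, η ∈ b' ↔ inflIrr N η ∈ b) {φ : Cfsg.IrrCharacter G} (hφ : φ ∈ b) :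
    ∃ z : Cfsg.IrrCharacter (G ⧸ N) → ℤ, (∀ η, z η ≠ 0 → η ∈ b') ∧
      ∀ w : G, ¬ p ∣ orderOf w →
        (φ : G → ℂ) w =
          ∑ η : Cfsg.IrrCharacter (G ⧸ N), (z η : ℂ) * (η : G ⧸ N → ℂ) (w : G ⧸ N) := by
  classical
  have := Fact.mk hM.1
  set θ : G → ℂ := fun g => (φ : G → ℂ) (pPrimePartOf p g) with hθ
  have hgen := isGeneralized_primePart hM.1 (Char.IsIrr.isCharacter φ.2)
  obtain ⟨m, hm, hexp, -⟩ := Char.IsGen.exists_mult hgen
  -- translation by `N` changes nothing
  have hinv : ∀ n ∈ N, ∀ g : G, θ (n * g) = θ g := by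
    intro n hn g
    show (φ : G → ℂ) _ = (φ : G → ℂ) _
    refine congrArg _ ?_
    obtain ⟨u, hu, c, hc, rfl⟩ :=
      Subgroup.mem_sup_of_normal_left.1 (show g ∈ N ⊔ Subgroup.centralizer (N : Set G) from
        hG.symm ▸ Subgroup.mem_top g)
    have hpart : ∀ v ∈ N, pPrimePartOf p (v * c) = pPrimePartOf p c := fun v hv => by
      obtain ⟨k, hk⟩ := IsPGroup.iff_orderOf.1 hN ⟨v, hv⟩
      exact pPrimePartOf_mul_of_commute hM.1 ⟨k, (Subgroup.orderOf_coe (⟨v, hv⟩ : N)).trans hk⟩
        (Subgroup.mem_centralizer_iff.1 hc v hv)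
    rw [← mul_assoc, hpart _ (mul_mem hn hu), hpart _ hu]
  have htriv : ∀ η : Cfsg.IrrCharacter G, m η ≠ 0 → η ∈ Set.range (inflIrr N) := by
    intro η hη
    by_contra hne
    refine hη (Int.cast_eq_zero.1 ((hm η).symm.trans ?_))
    -- the function on the quotient
    let θ' : G ⧸ N → ℂ := fun q => θ q.out
    have hθ' : ∀ g : G, θ' (g : G ⧸ N) = θ g := fun g => by
      obtain ⟨v, hv⟩ := QuotientGroup.mk_out_eq_mul N g
      have hv' : g * (v : G) * g⁻¹ ∈ N := Subgroup.Normal.conj_mem inferInstance _ v.2 g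
      show θ ((g : G ⧸ N).out) = θ g
      rw [hv, show g * (v : G) = g * v * g⁻¹ * g by group, hinv _ hv' g]
    have hcf : Cfsg.IsClassFunction (G ⧸ N) θ' := by
      intro x y
      obtain ⟨x, rfl⟩ := QuotientGroup.mk_surjective x
      obtain ⟨y, rfl⟩ := QuotientGroup.mk_surjective y
      rw [← QuotientGroup.mk_mul, ← QuotientGroup.mk_inv, ← QuotientGroup.mk_mul, hθ', hθ']
      exact Char.IsGen.isClassFunction hgen x y
    have e : θ = ∑ ψ : Cfsg.IrrCharacter (G ⧸ N),
        Cfsg.classInner θ' (ψ : G ⧸ N → ℂ) • (inflIrr N ψ : G → ℂ) := funext fun g => by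
      rw [← hθ', congrFun (Char.classFun_expansion hcf) (g : G ⧸ N), Finset.sum_apply,
        Finset.sum_apply]
      rfl
    show Cfsg.classInner θ (η : G → ℂ) = 0
    rw [e, Char.classInner_sum_left]
    refine Finset.sum_eq_zero fun ψ _ => ?_
    rw [Char.classInner_smul_left, Char.classInner_irrChar,
      if_neg fun h => hne ⟨ψ, h⟩, mul_zero]
  have hreg : ∀ w : G, ¬ p ∣ orderOf w → θ w = (φ : G → ℂ) w := by
    intro w hw
    show (φ : G → ℂ) _ = _
    have h := (parts_mul hM.1 (Commute.one_left w) ⟨0, by simp⟩ hw).2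
    rw [one_mul] at h
    rw [h]
  refine ⟨fun η => if η ∈ b' then m (inflIrr N η) else 0,
    fun η hη => by by_contra h; exact hη (if_neg h), fun w hw => ?_⟩
  -- the part outside the block does not matter on the regular elements
  have hφreg : Cfsg.pRegularPart p (φ : G → ℂ) =
      ∑ η : Cfsg.IrrCharacter G, (m η : ℂ) • Cfsg.pRegularPart p (η : G → ℂ) := by
    funext x
    simp only [Finset.sum_apply, Pi.smul_apply, smul_eq_mul, pRegularPart_apply]
    by_cases hx : p ∣ orderOf x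
    · simp [hx]
    · simp only [if_neg hx]
      rw [← hreg x hx]
      exact (congrFun hexp x).trans (by simp)
  have hblock : (φ : G → ℂ) w =
      ∑ η : Cfsg.IrrCharacter G, if η ∈ b then (m η : ℂ) * (η : G → ℂ) w else 0 := by
    have h1 := congrFun (pRegularPart_eq_sum hM hb hφ) w
    simp only [pRegularPart_apply p (φ : G → ℂ) w, if_neg hw, Finset.sum_apply, ite_apply,
      Pi.zero_apply, Pi.smul_apply, smul_eq_mul] at h1
    rw [hφreg] at h1
    simp only [Char.classInner_sum_left, Char.classInner_smul_left] at h1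
    rw [h1]
    have h2 : ∀ η : Cfsg.IrrCharacter G, η ∈ b → (η : G → ℂ) w =
        ∑ ψ : Cfsg.IrrCharacter G, if ψ ∈ b then
          Cfsg.classInner (Cfsg.pRegularPart p (η : G → ℂ)) (ψ : G → ℂ) * (ψ : G → ℂ) w else 0 :=
      fun η hη => by
        have h := congrFun (pRegularPart_eq_sum hM hb hη) w
        simpa only [pRegularPart_apply p (η : G → ℂ) w, if_neg hw, Finset.sum_apply, ite_apply,
          Pi.zero_apply, Pi.smul_apply, smul_eq_mul] using h
    rw [Finset.sum_congr rfl (g := fun ψ => ∑ η : Cfsg.IrrCharacter G, if ψ ∈ b ∧ η ∈ b then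
      (m η : ℂ) * (Cfsg.classInner (Cfsg.pRegularPart p (η : G → ℂ)) (ψ : G → ℂ) *
        (ψ : G → ℂ) w) else 0) fun ψ _ => ?_]
    · rw [Finset.sum_comm]
      refine Finset.sum_congr rfl fun η _ => ?_
      by_cases hη : η ∈ b
      · rw [if_pos hη, h2 η hη, Finset.mul_sum]
        refine Finset.sum_congr rfl fun ψ _ => ?_
        by_cases hψ : ψ ∈ b
        · rw [if_pos hψ, if_pos ⟨hψ, hη⟩]
        · rw [if_neg hψ, if_neg fun h => hψ h.1, mul_zero]
      · simp [hη]
    · by_cases hψ : ψ ∈ b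
      · rw [if_pos hψ, Finset.sum_mul]
        refine Finset.sum_congr rfl fun η _ => ?_
        by_cases hη : η ∈ b
        · rw [if_pos ⟨hψ, hη⟩]; ring
        · rw [if_neg fun h => hη h.2]
          have : Cfsg.classInner (Cfsg.pRegularPart p (η : G → ℂ)) (ψ : G → ℂ) = 0 :=
            classInner_pRegularPart_eq_zero hM (isPBlock_blockOf η) (mem_blockOf_self hM η)
              fun h => hη (IsPBlock.mem_of_sameBlock hM hb hψ
                (sameBlock_symm (mem_blockOf.1 h)))
          rw [this]; ring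
      · simp [hψ]
  rw [hblock]
  refine (Fintype.sum_of_injective (inflIrr N) (inflIrr_injective N) _ _ (fun θ' hθ' => ?_)
    fun η => ?_).symm
  · split_ifs with h
    · by_cases h0 : m θ' = 0
      · simp [h0]
      · exact absurd (htriv θ' h0) hθ'
    · rfl
  · show (((if η ∈ b' then m (inflIrr N η) else 0 : ℤ) : ℂ) * _) = _
    by_cases h : η ∈ b'
    · rw [if_pos h, if_pos ((hiff η).1 h)]; rfl
    · rw [if_neg h, if_neg (mt (hiff η).2 h)]; simp

theorem exists_int_lift [Fintype G] [Fintype (G ⧸ N)] (hM : Cfsg.IsPModular p M)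
    (hN : IsPGroup p N) (hc : N ≤ Subgroup.center G) {b : Set (Cfsg.IrrCharacter G)}
    (hb : Cfsg.IsPBlock M b) {b' : Set (Cfsg.IrrCharacter (G ⧸ N))}
    (hiff : ∀ η, η ∈ b' ↔ inflIrr N η ∈ b) {φ : Cfsg.IrrCharacter G} (hφ : φ ∈ b) :
    ∃ z : Cfsg.IrrCharacter (G ⧸ N) → ℤ, (∀ η, z η ≠ 0 → η ∈ b') ∧
      ∀ w : G, ¬ p ∣ orderOf w →
        (φ : G → ℂ) w =
          ∑ η : Cfsg.IrrCharacter (G ⧸ N), (z η : ℂ) * (η : G ⧸ N → ℂ) (w : G ⧸ N) :=
  exists_int_lift_of_sup N hM hN (sup_centralizer_of_le_center N hc) hb hiff hφ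

/-- The rank of a block is at most that of its counterpart in the quotient. -/
theorem blockRank_le_quotient_of_sup [Finite G] (hM : Cfsg.IsPModular p M)
    (hN : IsPGroup p N) (hG : N ⊔ Subgroup.centralizer (N : Set G) = ⊤) {b : Set (Cfsg.IrrCharacter G)}
    (hb : Cfsg.IsPBlock M b) {b' : Set (Cfsg.IrrCharacter (G ⧸ N))}
    (hiff : ∀ η, η ∈ b' ↔ inflIrr N η ∈ b) :
    Cfsg.blockRank p b ≤ Cfsg.blockRank p b' := by
  classical
  have := Fintype.ofFinite G
  have := Fintype.ofFinite (G ⧸ N)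
  let L : (G ⧸ N → ℂ) →ₗ[ℂ] (G → ℂ) :=
    { toFun := fun f w => if p ∣ orderOf w then 0 else f (w : G ⧸ N)
      map_add' := fun f g => funext fun w => by simp only [Pi.add_apply]; split_ifs <;> simp
      map_smul' := fun c f => funext fun w => by
        simp only [Pi.smul_apply, smul_eq_mul, RingHom.id_apply]; split_ifs <;> simp }
  set V := Submodule.span ℂ
    ((fun η : Cfsg.IrrCharacter (G ⧸ N) => Cfsg.pRegularPart p (η : G ⧸ N → ℂ)) '' b') with hV
  rw [Cfsg.blockRank, Cfsg.blockRank, ← hV]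
  refine (Submodule.finrank_mono (t := V.map L) ?_).trans (Submodule.finrank_map_le L V)
  rw [Submodule.span_le]
  rintro _ ⟨φ, hφ, rfl⟩
  obtain ⟨z, hz, hval⟩ := exists_int_lift_of_sup N hM hN hG hb hiff hφ
  refine ⟨∑ η : Cfsg.IrrCharacter (G ⧸ N), (z η : ℂ) • Cfsg.pRegularPart p (η : G ⧸ N → ℂ),
    V.sum_mem fun η _ => ?_, ?_⟩
  · by_cases h : z η = 0
    · simp [h]
    · exact V.smul_mem _ (Submodule.subset_span ⟨η, hz η h, rfl⟩)
  · funext w
    show (if p ∣ orderOf w then (0 : ℂ) else _) = Cfsg.pRegularPart p (φ : G → ℂ) w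
    rw [pRegularPart_apply]
    by_cases hw : p ∣ orderOf w
    · simp [hw]
    · simp only [if_neg hw, hval w hw, Finset.sum_apply, Pi.smul_apply, smul_eq_mul,
        pRegularPart_apply, if_neg (isPRegular_mk N hw)]

/-- The rank of a block is at most that of its counterpart in the quotient by a central
p-subgroup. -/
theorem blockRank_le_quotient [Finite G] (hM : Cfsg.IsPModular p M)
    (hN : IsPGroup p N) (hc : N ≤ Subgroup.center G) {b : Set (Cfsg.IrrCharacter G)}
    (hb : Cfsg.IsPBlock M b) {b' : Set (Cfsg.IrrCharacter (G ⧸ N))}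
    (hiff : ∀ η, η ∈ b' ↔ inflIrr N η ∈ b) :
    Cfsg.blockRank p b ≤ Cfsg.blockRank p b' :=
  blockRank_le_quotient_of_sup N hM hN (sup_centralizer_of_le_center N hc) hb hiff

/-- Every p-regular element of a quotient lifts to one of the group. -/
theorem exists_regular_lift [Finite G] (hp : p.Prime) {q : G ⧸ N} (hq : ¬ p ∣ orderOf q) :
    ∃ w : G, ¬ p ∣ orderOf w ∧ (w : G ⧸ N) = q := by
  have := Fact.mk hp
  obtain ⟨g, rfl⟩ := QuotientGroup.mk_surjective q
  refine ⟨pPrimePartOf p g, not_dvd_orderOf_pPrimePartOf hp g, ?_⟩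
  obtain ⟨k, hk⟩ := orderOf_pPartOf hp g
  have hu : orderOf ((pPartOf p g : G) : G ⧸ N) ∣ p ^ k :=
    hk ▸ orderOf_map_dvd (QuotientGroup.mk' N) _
  obtain ⟨j, -, hj⟩ := (Nat.dvd_prime_pow hp).1 hu
  have h1 := (parts_mul hp ((commute_pPartOf_pPrimePartOf (p := p) g).map (QuotientGroup.mk' N))
    ⟨j, hj⟩ (isPRegular_mk N (not_dvd_orderOf_pPrimePartOf hp g))).2
  have h2 := (parts_mul hp (Commute.one_left (g : G ⧸ N)) ⟨0, by simp⟩ hq).2
  simp only [QuotientGroup.mk'_apply] at h1
  rw [← QuotientGroup.mk_mul, pPartOf_mul_pPrimePartOf hp] at h1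
  rw [one_mul, h1] at h2
  exact h2

/-- A set of characters of a quotient has rank at most that of a set containing its inflation. -/
theorem blockRank_quotient_le [Finite G] (hp : p.Prime) {b : Set (Cfsg.IrrCharacter G)}
    {b' : Set (Cfsg.IrrCharacter (G ⧸ N))} (h : ∀ η ∈ b', inflIrr N η ∈ b) :
    Cfsg.blockRank p b' ≤ Cfsg.blockRank p b := by
  classical
  let L : (G → ℂ) →ₗ[ℂ] (G ⧸ N → ℂ) :=
    { toFun := fun f q => if hq : ¬ p ∣ orderOf q then f (exists_regular_lift N hp hq).choose else 0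
      map_add' := fun f g => funext fun q => by simp only [Pi.add_apply]; split_ifs <;> simp
      map_smul' := fun c f => funext fun q => by
        simp only [Pi.smul_apply, smul_eq_mul, RingHom.id_apply]; split_ifs <;> simp }
  set V := Submodule.span ℂ
    ((fun χ : Cfsg.IrrCharacter G => Cfsg.pRegularPart p (χ : G → ℂ)) '' b) with hV
  rw [Cfsg.blockRank, Cfsg.blockRank, ← hV]
  refine (Submodule.finrank_mono (t := V.map L) ?_).trans (Submodule.finrank_map_le L V)
  rw [Submodule.span_le]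
  rintro _ ⟨η, hη, rfl⟩
  refine ⟨_, Submodule.subset_span ⟨inflIrr N η, h η hη, rfl⟩, ?_⟩
  funext q
  show (if hq : ¬ p ∣ orderOf q then _ else (0 : ℂ)) = Cfsg.pRegularPart p (η : G ⧸ N → ℂ) q
  rw [pRegularPart_apply]
  by_cases hq : p ∣ orderOf q
  · simp [hq]
  · obtain ⟨h1, h2⟩ := (exists_regular_lift N hp hq).choose_spec
    rw [dif_pos hq, if_neg hq, pRegularPart_apply, if_neg h1]
    exact congrArg (η : G ⧸ N → ℂ) h2

theorem blockRank_le_card [Finite G] (B : Set (Cfsg.IrrCharacter G)) :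
    Cfsg.blockRank p B ≤ Nat.card B := by
  classical
  have := Fintype.ofFinite B
  rw [Cfsg.blockRank, Nat.card_eq_fintype_card, Set.image_eq_range]
  exact finrank_range_le_card _

end Cfsg.Agent.BlockChar
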