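import Mathlib
import Cfsg.Agent.Char.Gen
import Cfsg.Agent.Char.Glauberman.Relative
import Cfsg.Agent.SelfNormNonAb.Basic
import Cfsg.Prelude.Def_Blocks

/-!
# Every solvable group is a subgroup of a central quotient of a group of central type

The inductive step is a tensor power followed by a clock-and-shift pair.
-/

set_option autoImplicit false

namespace Cfsg.Agent.BlockChar.CentralTypeEmbed

open Matrix
open scoped ComplexConjugate

/-- A faithful matrix group of central type with scalars of order `n`. -/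
structure Setup (n : ℕ) where
  H : Type
  [grp : Group H]
  [fin : Finite H]
  ι : Type
  [fι : Fintype ι]
  [dι : DecidableEq ι]
  ρ : H →* Matrix ι ι ℂ
  inj : Function.Injective ρ
  Z : Subgroup H
  hscalar : ∀ h, h ∈ Z ↔ ∃ c : ℂ, ρ h = c • (1 : Matrix ι ι ℂ)
  htrace : ∀ h, h ∉ Z → trace (ρ h) = 0
  hcardZ : Nat.card Z = n
  hcard : Nat.card H = n * Fintype.card ι ^ 2
  hdim : ∀ q : ℕ, q.Prime → q ∣ Fintype.card ι → q ∣ n

attribute [instance] Setup.grp Setup.fin Setup.fι Setup.dι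

variable {n : ℕ}

theorem Setup.nonempty (S : Setup n) : Nonempty S.ι := by
  rcases isEmpty_or_nonempty S.ι with he | he
  · exfalso
    have h := S.hcard
    rw [Fintype.card_eq_zero, zero_pow two_ne_zero, mul_zero] at h
    exact Nat.card_pos.ne' h
  · exact he

theorem Setup.exists_omega (S : Setup n) :
    ∃ ω : S.H → ℂ, ∀ z ∈ S.Z, S.ρ z = ω z • (1 : Matrix S.ι S.ι ℂ) ∧ ω z ^ n = 1 := by
  classical
  have := S.nonempty
  refine ⟨fun z => if h : z ∈ S.Z then ((S.hscalar z).1 h).choose else 0, fun z hz => ?_⟩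
  simp only [dif_pos hz]
  have h1 : (⟨z, hz⟩ : S.Z) ^ n = 1 := by
    have h := pow_card_eq_one' (G := S.Z) (x := ⟨z, hz⟩)
    rwa [S.hcardZ] at h
  have h2 := congrArg (fun w : S.Z => S.ρ w.1) h1
  simp only [SubmonoidClass.coe_pow, map_pow, OneMemClass.coe_one, map_one] at h2
  have hsp := ((S.hscalar z).1 hz).choose_spec
  generalize ((S.hscalar z).1 hz).choose = c at hsp ⊢
  refine ⟨hsp, ?_⟩
  rw [hsp] at h2
  obtain ⟨i⟩ := S.nonempty
  rw [smul_pow, one_pow] at h2
  have h3 := congrFun (congrFun h2 i) i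
  rwa [Matrix.smul_apply, Matrix.one_apply_eq, smul_eq_mul, mul_one] at h3

/-- `G` embeds into `H / Z`. -/
def Good (G : Type*) [Group G] (n : ℕ) : Prop :=
  ∃ S : Setup n, ∃ e : G → S.H, (∀ a b : G, (e (a * b))⁻¹ * (e a * e b) ∈ S.Z) ∧
    ∀ g, e g ∈ S.Z → g = 1

/-- The scalar group. -/
noncomputable def base (n : ℕ) [NeZero n] : Setup n where
  H := rootsOfUnity n ℂ
  ι := Unit
  ρ :=
    { toFun := fun c => ((c : ℂˣ) : ℂ) • (1 : Matrix Unit Unit ℂ)
      map_one' := by simp
      map_mul' := fun a b => by simp [smul_smul, mul_comm] }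
  inj := fun a b e => by
    have h := congrFun (congrFun e ()) ()
    simp at h
    exact Subtype.ext (Units.ext h)
  Z := ⊤
  hscalar := fun h => ⟨fun _ => ⟨_, rfl⟩, fun _ => Subgroup.mem_top h⟩
  htrace := fun h hh => absurd (Subgroup.mem_top h) hh
  hcardZ := by rw [Subgroup.card_top, Complex.card_rootsOfUnity]
  hcard := by rw [Fintype.card_unit, one_pow, mul_one, Complex.card_rootsOfUnity]
  hdim := fun q hq hd => absurd (Nat.dvd_one.1 (by simpa using hd)) hq.ne_one

section Step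

variable (S : Setup n) (p : ℕ) [NeZero p]

local notation "X" => ((ZMod p → S.ι) × ZMod p)

/-- A tensor product of operators times a shift, a clock and a scalar. -/
noncomputable def opM (b : ZMod p → S.H) (i j : ZMod p) (c : ℂ) : Matrix X X ℂ :=
  Matrix.of fun x y => if y.2 = x.2 + i then
    c * ZMod.stdAddChar (j * x.2) * ∏ k, S.ρ (b k) (x.1 k) (y.1 (k + i)) else 0

theorem opM_mul (b b' : ZMod p → S.H) (i i' j j' : ZMod p) (c c' : ℂ) :
    opM S p b i j c * opM S p b' i' j' c' =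
      opM S p (fun k => b k * b' (k + i)) (i + i') (j + j')
        (c * c' * ZMod.stdAddChar (j' * i)) := by
  ext ⟨f, a⟩ ⟨h, e⟩
  simp only [Matrix.mul_apply, opM, Matrix.of_apply, Fintype.sum_prod_type, ite_mul, zero_mul,
    Finset.sum_ite_eq', Finset.mem_univ, if_true]
  by_cases he : e = a + (i + i')
  · rw [if_pos he]
    have he' : e = a + i + i' := by rw [he, add_assoc]
    simp only [if_pos he']
    have key : ∀ g : ZMod p → S.ι,
        (∏ k, S.ρ (b k) (f k) (g (k + i))) * ∏ k, S.ρ (b' k) (g k) (h (k + i')) =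
        ∏ k, S.ρ (b k) (f k) (g (k + i)) * S.ρ (b' (k + i)) (g (k + i)) (h (k + (i + i'))) := by
      intro g
      rw [Finset.prod_mul_distrib]
      congr 1
      refine (Fintype.prod_equiv (Equiv.addRight i) _ _ fun k => ?_).symm
      simp [add_assoc]
    have hsum : ∑ g : ZMod p → S.ι,
        ∏ k, S.ρ (b k) (f k) (g (k + i)) * S.ρ (b' (k + i)) (g (k + i)) (h (k + (i + i'))) =
        ∏ k, S.ρ (b k * b' (k + i)) (f k) (h (k + (i + i'))) := by
      simp only [map_mul, Matrix.mul_apply, Fintype.prod_sum]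
      refine Fintype.sum_equiv (Equiv.arrowCongr (Equiv.addRight (-i)) (Equiv.refl _)) _ _ fun g => ?_
      simp
    have hc : ZMod.stdAddChar (j * a) * ZMod.stdAddChar (j' * (a + i)) =
        (ZMod.stdAddChar ((j + j') * a) * ZMod.stdAddChar (j' * i) : ℂ) := by
      rw [← AddChar.map_add_eq_mul, ← AddChar.map_add_eq_mul]
      congr 1
      ring
    calc _ = ∑ g : ZMod p → S.ι, c * c' *
          (ZMod.stdAddChar (j * a) * ZMod.stdAddChar (j' * (a + i))) *
          ((∏ k, S.ρ (b k) (f k) (g (k + i))) * ∏ k, S.ρ (b' k) (g k) (h (k + i'))) :=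
            Finset.sum_congr rfl fun g _ => by ring
      _ = _ := by
        rw [← Finset.mul_sum, Finset.sum_congr rfl fun g _ => key g, hsum, hc]
        ring
  · rw [if_neg he]
    refine Finset.sum_eq_zero fun g _ => ?_
    rw [if_neg (fun h' => he (by rw [h', add_assoc])), mul_zero]

theorem opM_one : opM S p 1 0 0 1 = 1 := by
  ext ⟨f, a⟩ ⟨h, e⟩
  simp only [opM, Matrix.of_apply, add_zero, zero_mul, AddChar.map_zero_eq_one, one_mul,
    Pi.one_apply, map_one, Matrix.one_apply, Fintype.prod_boole]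
  by_cases h1 : e = a
  · subst h1
    simp [funext_iff]
  · rw [if_neg h1, if_neg fun e' => h1 (congrArg Prod.snd e').symm]

theorem trace_opM (hp : p ≠ 0) (b : ZMod p → S.H) (i j : ZMod p) (c : ℂ) :
    trace (opM S p b i j c) =
      if i = 0 ∧ j = 0 then c * p * ∏ k, trace (S.ρ (b k)) else 0 := by
  simp only [Matrix.trace, Matrix.diag, opM, Matrix.of_apply, Fintype.sum_prod_type]
  by_cases hi : i = 0
  · subst hi
    simp only [add_zero, if_true, true_and]
    rw [Finset.sum_comm]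
    simp only [← Finset.mul_sum, ← Finset.sum_mul, Fintype.prod_sum]
    rw [Finset.sum_congr rfl fun x (_ : x ∈ Finset.univ) => by rw [mul_comm j x],
      AddChar.sum_mulShift j (ZMod.isPrimitive_stdAddChar p), ZMod.card]
    split_ifs <;> simp
  · rw [if_neg fun h => hi h.1]
    refine Finset.sum_eq_zero fun f _ => Finset.sum_eq_zero fun a _ => if_neg fun h => hi ?_
    exact left_eq_add.1 h

theorem opM_smul (b : ZMod p → S.H) (i j : ZMod p) (c s : ℂ) :
    s • opM S p b i j c = opM S p b i j (s * c) := by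
  ext x y
  simp only [Matrix.smul_apply, opM, Matrix.of_apply, smul_eq_mul]
  split_ifs
  · ring
  · ring

variable {ω : S.H → ℂ} (hω : ∀ z ∈ S.Z, S.ρ z = ω z • (1 : Matrix S.ι S.ι ℂ) ∧ ω z ^ n = 1)

include hω in
theorem opM_mul_central (b z : ZMod p → S.H) (hz : ∀ k, z k ∈ S.Z) (i j : ZMod p) (c : ℂ) :
    opM S p (b * z) i j c = (∏ k, ω (z k)) • opM S p b i j c := by
  ext x y
  simp only [Matrix.smul_apply, opM, Matrix.of_apply, smul_eq_mul]
  split_ifs
  · have h1 : ∀ k, S.ρ ((b * z) k) = ω (z k) • S.ρ (b k) := fun k => by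
      rw [Pi.mul_apply, map_mul, (hω _ (hz k)).1, mul_smul_comm, mul_one]
    simp only [h1, Matrix.smul_apply, smul_eq_mul, Finset.prod_mul_distrib]
    ring
  · rw [mul_zero]

include hω in
theorem opM_scalar (z : ZMod p → S.H) (hz : ∀ k, z k ∈ S.Z) (c : ℂ) :
    opM S p z 0 0 c = (c * ∏ k, ω (z k)) • (1 : Matrix X X ℂ) := by
  rw [← opM_one S p, opM_smul, ← one_mul z, opM_mul_central S p hω 1 z hz, opM_smul]
  congr 1
  simp [mul_comm]

theorem of_eq_smul_one {b : ZMod p → S.H} {i j : ZMod p} {c s : ℂ} (hs : s ≠ 0)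
    (h : opM S p b i j c = s • (1 : Matrix X X ℂ)) : i = 0 ∧ j = 0 ∧ ∀ k, b k ∈ S.Z := by
  have := S.nonempty
  have ht := congrArg trace h
  rw [trace_opM S p (NeZero.ne p), Matrix.trace_smul, Matrix.trace_one, smul_eq_mul] at ht
  have hne : s * (Fintype.card X : ℂ) ≠ 0 :=
    mul_ne_zero hs (Nat.cast_ne_zero.2 Fintype.card_ne_zero)
  split_ifs at ht with hij
  · refine ⟨hij.1, hij.2, fun k => ?_⟩
    by_contra hk
    exact hne (by rw [← ht, Finset.prod_eq_zero (Finset.mem_univ k) (S.htrace _ hk), mul_zero])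
  · exact absurd ht.symm hne

theorem opM_mul_inv (b : ZMod p → S.H) (i j : ZMod p) {c : ℂ} (hc : c ≠ 0) :
    opM S p b i j c * opM S p (fun k => (b (k - i))⁻¹) (-i) (-j) (c⁻¹ * ZMod.stdAddChar (j * i)) =
      1 := by
  rw [opM_mul, ← opM_one S p]
  congr 1
  · funext k; simp
  · simp
  · simp
  · rw [mul_assoc, mul_assoc, ← AddChar.map_add_eq_mul, neg_mul, add_neg_cancel,
      AddChar.map_zero_eq_one, mul_one, mul_inv_cancel₀ hc]

theorem stdAddChar_pow (hpn : p ∣ n) (x : ZMod p) : (ZMod.stdAddChar x : ℂ) ^ n = 1 := by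
  rw [← AddChar.map_nsmul_eq_pow]
  obtain ⟨m, rfl⟩ := hpn
  simp

/-- The new group, inside the unit group. -/
noncomputable def newH (hn : n ≠ 0) (hpn : p ∣ n) : Subgroup (Matrix X X ℂ)ˣ where
  carrier := {u | ∃ b i j c, c ^ n = 1 ∧ (u : Matrix X X ℂ) = opM S p b i j c}
  one_mem' := ⟨1, 0, 0, 1, one_pow n, (opM_one S p).symm⟩
  mul_mem' := by
    rintro u v ⟨b, i, j, c, hc, hu⟩ ⟨b', i', j', c', hc', hv⟩
    refine ⟨_, _, _, _, ?_, by rw [Units.val_mul, hu, hv, opM_mul]⟩
    rw [mul_pow, mul_pow, hc, hc', stdAddChar_pow p hpn, one_mul, one_mul]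
  inv_mem' := by
    rintro u ⟨b, i, j, c, hc, hu⟩
    have hc0 : c ≠ 0 := fun e => by rw [e, zero_pow hn] at hc; exact zero_ne_one hc
    refine ⟨_, _, _, c⁻¹ * ZMod.stdAddChar (j * i), ?_,
      Units.inv_eq_of_mul_eq_one_right (hu.symm ▸ opM_mul_inv S p b i j hc0)⟩
    rw [mul_pow, inv_pow, hc, stdAddChar_pow p hpn, inv_one, one_mul]

theorem finite_newH (hn : n ≠ 0) (hpn : p ∣ n) : Finite (newH S p hn hpn) := by
  have : NeZero n := ⟨hn⟩
  have hfin : (Set.range fun q : (ZMod p → S.H) × ZMod p × ZMod p × rootsOfUnity n ℂ =>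
      opM S p q.1 q.2.1 q.2.2.1 ((q.2.2.2 : ℂˣ) : ℂ)).Finite := Set.finite_range _
  have := hfin.to_subtype
  refine Finite.of_injective (fun u : newH S p hn hpn => (⟨((u : (Matrix X X ℂ)ˣ) : Matrix X X ℂ), ?_⟩ :
    Set.range fun q : (ZMod p → S.H) × ZMod p × ZMod p × rootsOfUnity n ℂ =>
      opM S p q.1 q.2.1 q.2.2.1 ((q.2.2.2 : ℂˣ) : ℂ))) ?_
  · obtain ⟨b, i, j, c, hc, hu⟩ := u.2
    exact ⟨⟨b, i, j, rootsOfUnity.mkOfPowEq c hc⟩, by simpa using hu.symm⟩
  · intro a b e
    exact Subtype.ext (Units.ext (congrArg (fun w => w.1) e))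

noncomputable def mkU (hn : n ≠ 0) (hpn : p ∣ n) (b : ZMod p → S.H) (i j : ZMod p) (c : ℂ)
    (hc : c ^ n = 1) : newH S p hn hpn :=
  ⟨⟨opM S p b i j c,
    opM S p (fun k => (b (k - i))⁻¹) (-i) (-j) (c⁻¹ * ZMod.stdAddChar (j * i)),
    opM_mul_inv S p b i j (fun e => by rw [e, zero_pow hn] at hc; exact zero_ne_one hc),
    mul_eq_one_comm.1 (opM_mul_inv S p b i j
      (fun e => by rw [e, zero_pow hn] at hc; exact zero_ne_one hc))⟩, b, i, j, c, hc, rfl⟩

include hω in
theorem exists_step (hn : n ≠ 0) (hpn : p ∣ n) (hp : p.Prime) :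
    ∃ S' : Setup n, ∃ E : (ZMod p → S.H) × ZMod p → S'.H,
      (∀ b i b' i', ∀ z : ZMod p → S.H, (∀ k, z k ∈ S.Z) → ∀ b'' : ZMod p → S.H,
        (fun k => b k * b' (k + i)) = b'' * z →
        (E (b'', i + i'))⁻¹ * (E (b, i) * E (b', i')) ∈ S'.Z) ∧
      ∀ b i, E (b, i) ∈ S'.Z → i = 0 ∧ ∀ k, b k ∈ S.Z := by
  classical
  have : NeZero n := ⟨hn⟩
  have := S.nonempty
  have := finite_newH S p hn hpn
  let H' := newH S p hn hpn
  let ρ' : H' →* Matrix X X ℂ := (Units.coeHom _).comp H'.subtype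
  have hρinj : Function.Injective ρ' := fun a b e => Subtype.ext (Units.ext e)
  have hne : ∀ (u : H') (c : ℂ), ρ' u = c • (1 : Matrix X X ℂ) → c ≠ 0 := by
    intro u c hu e
    have h1 : ρ' u * ρ' u⁻¹ = 1 := by rw [← map_mul, mul_inv_cancel, map_one]
    rw [hu, e, zero_smul, zero_mul] at h1
    exact zero_ne_one h1
  let Z' : Subgroup H' :=
    { carrier := {u | ∃ c : ℂ, ρ' u = c • (1 : Matrix X X ℂ)}
      one_mem' := ⟨1, by rw [map_one, one_smul]⟩
      mul_mem' := by
        rintro u v ⟨c, hc⟩ ⟨d, hd⟩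
        exact ⟨c * d, by rw [map_mul, hc, hd, smul_mul_smul_comm, mul_one]⟩
      inv_mem' := by
        rintro u ⟨c, hc⟩
        refine ⟨c⁻¹, ?_⟩
        have h1 : ρ' u * ρ' u⁻¹ = 1 := by rw [← map_mul, mul_inv_cancel, map_one]
        rw [hc, smul_mul_assoc, one_mul] at h1
        rw [← h1, smul_smul, inv_mul_cancel₀ (hne u c hc), one_smul] }
  -- scalars are `n`-th roots of unity
  have hZroot : ∀ u : H', ∀ c : ℂ, ρ' u = c • (1 : Matrix X X ℂ) → c ^ n = 1 := by
    intro u c hc
    obtain ⟨b, i, j, s, hs, hu⟩ := u.2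
    have hc0 := hne u c hc
    have hu' : opM S p b i j s = c • (1 : Matrix X X ℂ) := hu.symm.trans hc
    obtain ⟨rfl, rfl, hb⟩ := of_eq_smul_one S p hc0 hu'
    rw [opM_scalar S p hω b hb] at hu'
    have h1 := congrFun (congrFun hu' (Classical.arbitrary X)) (Classical.arbitrary X)
    simp only [Matrix.smul_apply, Matrix.one_apply_eq, smul_eq_mul, mul_one] at h1
    rw [← h1, mul_pow, hs, one_mul, ← Finset.prod_pow]
    exact Finset.prod_eq_one fun k _ => (hω _ (hb k)).2
  have hcardZ : Nat.card Z' = n := by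
    refine Eq.trans ?_ (Complex.card_rootsOfUnity n)
    have hm : ∀ c : rootsOfUnity n ℂ, mkU S p hn hpn 1 0 0 ((c : ℂˣ) : ℂ)
        (by rw [← Units.val_pow_eq_pow_val, c.2, Units.val_one]) ∈ Z' := fun c => by
      refine ⟨((c : ℂˣ) : ℂ), ?_⟩
      show opM S p 1 0 0 _ = _
      rw [← opM_one S p, opM_smul, mul_one]
    refine (Nat.card_eq_of_bijective (fun c => (⟨_, hm c⟩ : Z')) ⟨?_, ?_⟩).symm
    · intro a b e
      have h := congrArg (fun w : Z' => trace (ρ' w.1)) e
      simp only [ρ', mkU] at h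
      change trace (opM S p 1 0 0 _) = trace (opM S p 1 0 0 _) at h
      rw [trace_opM S p hp.ne_zero, trace_opM S p hp.ne_zero, if_pos ⟨rfl, rfl⟩, if_pos ⟨rfl, rfl⟩]
        at h
      refine Subtype.ext (Units.ext (mul_right_cancel₀ ?_ (mul_right_cancel₀ ?_ h)))
      · exact Nat.cast_ne_zero.2 hp.ne_zero
      · simp [Finset.prod_const, Matrix.trace_one]
    · rintro ⟨u, c, hc⟩
      refine ⟨rootsOfUnity.mkOfPowEq c (hZroot u c hc), Subtype.ext (hρinj ?_)⟩
      show opM S p 1 0 0 _ = _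
      rw [hc, ← opM_one S p, opM_smul, mul_one]
      simp
  -- the trace vanishes outside the scalars
  have htrace : ∀ u : H', u ∉ Z' → trace (ρ' u) = 0 := by
    intro u hu
    obtain ⟨b, i, j, s, hs, hu'⟩ := u.2
    rw [show ρ' u = opM S p b i j s from hu', trace_opM S p hp.ne_zero]
    split_ifs with hij
    · obtain ⟨rfl, rfl⟩ := hij
      by_cases hb : ∀ k, b k ∈ S.Z
      · exact absurd ⟨_, (show ρ' u = _ from hu').trans (opM_scalar S p hω b hb s)⟩ hu
      · push Not at hb
        obtain ⟨k, hk⟩ := hb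
        rw [Finset.prod_eq_zero (Finset.mem_univ k) (S.htrace _ hk), mul_zero]
    · rfl
  -- the order
  have hrel : ∀ (u v : H') (s : ℂ), ρ' v = s • ρ' u → u⁻¹ * v ∈ Z' := fun u v s h =>
    ⟨s, by rw [map_mul, h, mul_smul_comm, ← map_mul, inv_mul_cancel, map_one]⟩
  let Φ : (ZMod p → S.H ⧸ S.Z) × ZMod p × ZMod p → H' ⧸ Z' := fun q =>
    QuotientGroup.mk (mkU S p hn hpn (fun k => (q.1 k).out) q.2.1 q.2.2 1 (one_pow n))
  have hΦ : Function.Bijective Φ := by
    constructor
    · rintro ⟨x, i, j⟩ ⟨x', i', j'⟩ e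
      obtain ⟨s, hs⟩ := QuotientGroup.eq.1 e
      have hs0 := hne _ s hs
      have hs' : opM S p (fun k => (x' k).out) i' j' 1 =
          s • opM S p (fun k => (x k).out) i j 1 := by
        have h2 := congrArg (fun w => ρ' (mkU S p hn hpn (fun k => (x k).out) i j 1 (one_pow n)) * w) hs
        simp only at h2
        rw [← map_mul, mul_inv_cancel_left, mul_smul_comm, mul_one] at h2
        exact h2
      rw [opM_smul, mul_one] at hs'
      have h3 := congrArg (fun w => w * opM S p (fun k => ((x (k - i)).out)⁻¹) (-i) (-j)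
        (s⁻¹ * ZMod.stdAddChar (j * i))) hs'
      rw [opM_mul_inv S p (fun k => (x k).out) i j hs0, opM_mul,
        ← one_smul ℂ (1 : Matrix X X ℂ)] at h3
      obtain ⟨hi, hj, hb⟩ := of_eq_smul_one S p one_ne_zero h3
      have hi' : i' = i := eq_of_sub_eq_zero (by rw [sub_eq_add_neg]; exact hi)
      have hj' : j' = j := eq_of_sub_eq_zero (by rw [sub_eq_add_neg]; exact hj)
      subst hi' hj'
      refine Prod.ext (funext fun k => ?_) rfl
      have h4 := hb k
      simp only [add_sub_cancel_right] at h4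
      have hn' : S.Z.Normal := ⟨fun z hz g => (S.hscalar _).2 ⟨ω z, by
        rw [map_mul, map_mul, (hω z hz).1, mul_smul_comm, mul_one, smul_mul_assoc, ← map_mul,
          mul_inv_cancel, map_one]⟩⟩
      show x k = x' k
      rw [← QuotientGroup.out_eq' (x k), ← QuotientGroup.out_eq' (x' k)]
      exact QuotientGroup.eq.2 (hn'.mem_comm h4)
    · intro q
      obtain ⟨u, rfl⟩ := QuotientGroup.mk_surjective q
      obtain ⟨b, i, j, c, hc, hu⟩ := u.2
      refine ⟨⟨fun k => QuotientGroup.mk (b k), i, j⟩, ?_⟩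
      refine (QuotientGroup.eq.2 ?_).symm
      choose z hz using fun k => QuotientGroup.mk_out_eq_mul S.Z (b k)
      refine hrel _ _ (c⁻¹ * ∏ k, ω (z k)) ?_
      show opM S p (fun k => (QuotientGroup.mk (b k) : S.H ⧸ S.Z).out) i j 1 = _
      rw [show ρ' u = opM S p b i j c from hu, show (fun k => (QuotientGroup.mk (b k) :
        S.H ⧸ S.Z).out) = b * (fun k => (z k : S.H)) from funext hz,
        opM_mul_central S p hω _ _ (fun k => (z k).2), opM_smul, opM_smul]
      have hc0 : c ≠ 0 := fun e => by rw [e, zero_pow hn] at hc; exact zero_ne_one hc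
      congr 1
      field_simp
  have hcard : Nat.card H' = n * Fintype.card X ^ 2 := by
    have h1 : S.Z.index = Fintype.card S.ι ^ 2 := by
      have h := S.Z.card_mul_index
      rw [S.hcardZ, S.hcard] at h
      exact Nat.eq_of_mul_eq_mul_left (Nat.pos_of_ne_zero hn) h
    rw [← Z'.card_mul_index, hcardZ, Subgroup.index_eq_card, ← Nat.card_eq_of_bijective Φ hΦ,
      Nat.card_prod, Nat.card_prod, Nat.card_fun, Nat.card_zmod, ← Subgroup.index_eq_card, h1,
      Fintype.card_prod, Fintype.card_fun, ZMod.card]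
    ring
  refine ⟨{ H := H', ι := X, ρ := ρ', inj := hρinj, Z := Z', hscalar := fun _ => Iff.rfl,
            htrace := htrace, hcardZ := hcardZ, hcard := hcard, hdim := ?_ },
    fun q => mkU S p hn hpn q.1 q.2 0 1 (one_pow n), ?_, ?_⟩
  · intro q hq hd
    rw [Fintype.card_prod, Fintype.card_fun, ZMod.card] at hd
    rcases hq.dvd_mul.1 hd with h | h
    · exact S.hdim q hq (hq.dvd_of_dvd_pow h)
    · exact ((Nat.prime_dvd_prime_iff_eq hq hp).1 h).symm ▸ hpn
  · intro b i b' i' z hz b'' hb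
    refine hrel _ _ (∏ k, ω (z k)) ?_
    rw [map_mul]
    show opM S p b i 0 1 * opM S p b' i' 0 1 = _ • opM S p b'' (i + i') 0 1
    rw [opM_mul, hb, opM_mul_central S p hω _ _ hz, zero_mul, AddChar.map_zero_eq_one, one_mul,
      one_mul, add_zero]
  · rintro b i ⟨c, hc⟩
    have h := of_eq_smul_one S p (hne _ c hc) (show opM S p b i 0 1 = _ from hc)
    exact ⟨h.1, h.2.2⟩

end Step

/-- Induction along a normal subgroup of prime index. -/
theorem good_of_solvable {n : ℕ} (hn : n ≠ 0) : ∀ (m : ℕ) (G : Type*) [Group G] [Finite G],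
    Nat.card G = m → Group.IsSolvable G → (∀ q : ℕ, q.Prime → q ∣ Nat.card G → q ∣ n) →
      Good G n := by
  intro m
  induction m using Nat.strong_induction_on with
  | _ m ih =>
  intro G _ _ hm hsol hq
  classical
  rcases subsingleton_or_nontrivial G with hG | hG
  · have : NeZero n := ⟨hn⟩
    exact ⟨base n, fun _ => 1, fun _ _ => Subgroup.mem_top _, fun g _ => Subsingleton.elim g 1⟩
  obtain ⟨N, hN, hp⟩ := SelfNormNonAb.exists_normal_prime_index (G := G)
  set p := N.index with hpdef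
  have := Fact.mk hp
  have : NeZero p := ⟨hp.ne_zero⟩
  have hlt : Nat.card N < m := by
    rw [← hm, ← N.card_mul_index]
    exact lt_mul_of_one_lt_right Nat.card_pos hp.one_lt
  obtain ⟨S, e, hmul, hker⟩ := ih _ hlt N rfl inferInstance
    (fun q h1 h2 => hq q h1 (h2.trans N.card_subgroup_dvd_card))
  obtain ⟨ω, hω⟩ := S.exists_omega
  obtain ⟨S', E, hE, hEker⟩ := exists_step S p hω hn (hq p hp N.index_dvd_card) hp
  -- coordinates of `G` in the wreath product
  have hcyc : IsCyclic (G ⧸ N) := isCyclic_of_prime_card (p := p) rfl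
  let ε : G ⧸ N ≃* Multiplicative (ZMod p) :=
    (zmodCyclicMulEquiv hcyc).symm.trans (AddEquiv.toMultiplicative
      (ZMod.ringEquivCongr (rfl : Nat.card (G ⧸ N) = p)).toAddEquiv)
  let φ : G →* Multiplicative (ZMod p) := ε.toMonoidHom.comp (QuotientGroup.mk' N)
  have hφsurj : Function.Surjective φ := ε.surjective.comp (QuotientGroup.mk'_surjective N)
  have hφker : ∀ g, φ g = 1 ↔ g ∈ N := fun g => by
    show ε (QuotientGroup.mk' N g) = 1 ↔ _
    rw [EmbeddingLike.map_eq_one_iff]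
    exact QuotientGroup.eq_one_iff g
  choose t ht using fun k : ZMod p => hφsurj (Multiplicative.ofAdd k)
  have hmem : ∀ g k, t k * g * (t (k + Multiplicative.toAdd (φ g)))⁻¹ ∈ N := fun g k => by
    rw [← hφker, map_mul, map_mul, map_inv, ht, ht, ofAdd_add, ofAdd_toAdd, mul_inv_cancel]
  let β : G → ZMod p → N := fun g k => ⟨_, hmem g k⟩
  refine ⟨S', fun g => E (fun k => e (β g k), Multiplicative.toAdd (φ g)), fun a b => ?_,
    fun g hg => ?_⟩
  · have hadd : Multiplicative.toAdd (φ (a * b)) =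
        Multiplicative.toAdd (φ a) + Multiplicative.toAdd (φ b) := by rw [map_mul, toAdd_mul]
    have hβ : ∀ k, β a k * β b (k + Multiplicative.toAdd (φ a)) = β (a * b) k := fun k => by
      apply Subtype.ext
      show t k * a * (t (k + _))⁻¹ * (t (k + _) * b * (t (k + _ + _))⁻¹) = t k * (a * b) * _
      rw [hadd, add_assoc]
      group
    simp only [hadd]
    refine hE _ _ _ _ (fun k => (e (β (a * b) k))⁻¹ *
      (e (β a k) * e (β b (k + Multiplicative.toAdd (φ a))))) (fun k => ?_) _ ?_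
    · rw [← hβ k]
      exact hmul _ _
    · funext k
      simp
  · obtain ⟨h1, h2⟩ := hEker _ _ hg
    have hgN : g ∈ N := (hφker g).1 (toAdd_eq_zero.1 h1)
    have h3 := congrArg Subtype.val (hker _ (h2 0))
    simp only [β, h1, add_zero, OneMemClass.coe_one] at h3
    rw [mul_inv_eq_one, mul_eq_left] at h3
    exact h3

theorem exists_centralType.{u} {G : Type u} [Group G] [Finite G] (hsolv : Group.IsSolvable G) :
    ∃ (H : Type u) (_ : Group H) (_ : Finite H) (χ : Cfsg.IrrCharacter H),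
      (∀ h : H, (χ : H → ℂ) h = (χ : H → ℂ) 1 → h = 1) ∧
      (Cfsg.charDegree (χ : H → ℂ)) ^ 2 = (Subgroup.center H).index ∧
      (∃ f : G →* H ⧸ Subgroup.center H, Function.Injective f) ∧
      (∀ p : ℕ, p.Prime → ((p ∣ Nat.card H ↔ p ∣ Nat.card G) ∧
        (p ∣ Nat.card (Subgroup.center H) ↔ p ∣ Nat.card G))) ∧
      Squarefree (Nat.card (Subgroup.center H)) := by
  classical
  set n := ∏ q ∈ (Nat.card G).primeFactors, q with hndef
  have hn : n ≠ 0 := Finset.prod_ne_zero_iff.2 fun q hq => (Nat.prime_of_mem_primeFactors hq).ne_zero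
  have hqn : ∀ q : ℕ, q.Prime → (q ∣ n ↔ q ∣ Nat.card G) := by
    intro q hq
    refine ⟨fun h => h.trans (Nat.prod_primeFactors_dvd _), fun h => ?_⟩
    exact Finset.dvd_prod_of_mem _ (Nat.mem_primeFactors.2 ⟨hq, h, Nat.card_pos.ne'⟩)
  have hsq : Squarefree n := Finset.squarefree_prod_of_pairwise_isCoprime
    (fun a ha b hb hab => by
      simp only [Function.onFun, Nat.coprime_iff_isRelPrime.symm]
      exact (Nat.coprime_primes (Nat.prime_of_mem_primeFactors ha)
        (Nat.prime_of_mem_primeFactors hb)).2 hab)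
    fun q hq => (Nat.prime_of_mem_primeFactors hq).squarefree
  obtain ⟨S, e, hmul, hker⟩ := good_of_solvable hn _ G rfl hsolv fun q h1 h2 => (hqn q h1).2 h2
  obtain ⟨ω, hω⟩ := S.exists_omega
  have := S.nonempty
  let H := ULift.{u} S.H
  have : Fintype S.H := Fintype.ofFinite _
  let π : H →* S.H := (MulEquiv.ulift : H ≃* S.H).toMonoidHom
  have hπ : Function.Bijective π := (MulEquiv.ulift : H ≃* S.H).bijective
  let ρ₀ : Representation ℂ S.H (S.ι → ℂ) :=
    (Matrix.toLinAlgEquiv'.toRingEquiv.toMonoidHom).comp S.ρ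
  let χ₀ : S.H → ℂ := ρ₀.character
  have hχ₀ : ∀ h, χ₀ h = trace (S.ρ h) := fun h => by
    show LinearMap.trace ℂ _ (Matrix.toLinAlgEquiv' (S.ρ h)) = _
    rw [LinearMap.trace_eq_matrix_trace ℂ (Pi.basisFun ℂ S.ι)]
    congr 1
    rw [LinearMap.toMatrix_eq_toMatrix']
    exact LinearMap.toMatrix'_toLin' _
  have h1 : χ₀ 1 = (Fintype.card S.ι : ℂ) := by rw [hχ₀, map_one, Matrix.trace_one]
  have hZval : ∀ z ∈ S.Z, χ₀ z = ω z * Fintype.card S.ι := fun z hz => by
    rw [hχ₀, (hω z hz).1, Matrix.trace_smul, Matrix.trace_one, smul_eq_mul]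
  have hirr : Cfsg.IsIrrCharacter S.H χ₀ := by
    rw [Char.isIrr_iff_norm_one (Char.isCharacter_of_rep ρ₀), Cfsg.classInner]
    have hsum : ∑ h : S.H, χ₀ h * conj (χ₀ h) = ((n * Fintype.card S.ι ^ 2 : ℕ) : ℂ) := by
      rw [← Finset.sum_subset (Finset.subset_univ (Finset.univ.filter (· ∈ S.Z)))
        (fun h _ hh => by
          rw [hχ₀ h, S.htrace h (fun h' => hh (Finset.mem_filter.2 ⟨Finset.mem_univ h, h'⟩)),
            zero_mul])]
      rw [Finset.sum_congr rfl (g := fun _ => ((Fintype.card S.ι : ℂ)) ^ 2) fun z hz => ?_,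
        Finset.sum_const, nsmul_eq_mul, ← Fintype.card_subtype, ← Nat.card_eq_fintype_card,
        show Nat.card {h // h ∈ S.Z} = n from S.hcardZ]
      · push_cast; rfl
      · have hz' := (Finset.mem_filter.1 hz).2
        rw [hZval z hz', map_mul, map_natCast]
        have hu : ω z * conj (ω z) = 1 := by
          rw [Complex.mul_conj, Complex.normSq_eq_norm_sq,
            Complex.norm_eq_one_of_pow_eq_one (hω z hz').2 hn]
          norm_num
        linear_combination ((Fintype.card S.ι : ℂ)) ^ 2 * hu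
    rw [hsum, ← S.hcard]
    exact inv_mul_cancel₀ Char.card_ne_zero
  have hfaith₀ : ∀ h, χ₀ h = χ₀ 1 → h = 1 := by
    intro h hh
    have hhZ : h ∈ S.Z := by
      by_contra hh'
      rw [hχ₀ h, S.htrace h hh', h1] at hh
      exact Nat.cast_ne_zero.2 Fintype.card_ne_zero hh.symm
    rw [hZval h hhZ, h1] at hh
    refine S.inj ?_
    rw [(hω h hhZ).1, (mul_eq_right₀ (Nat.cast_ne_zero.2 Fintype.card_ne_zero)).1 hh, one_smul,
      map_one]
  have hcent : Subgroup.center S.H = S.Z := by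
    refine le_antisymm (fun z hz => ?_) fun z hz => ?_
    · by_contra hz'
      have h2 := Char.Glauberman.mul_central hirr z
        (fun x => (Subgroup.mem_center_iff.1 hz x).symm) z⁻¹
      rw [inv_mul_cancel, hχ₀ z, S.htrace z hz', zero_mul, h1, mul_eq_zero, or_self] at h2
      exact Nat.cast_ne_zero.2 Fintype.card_ne_zero h2
    · refine Subgroup.mem_center_iff.2 fun g => S.inj ?_
      rw [map_mul, map_mul, (hω z hz).1, mul_smul_comm, mul_one, smul_mul_assoc, one_mul]
  have hcH : Nat.card (Subgroup.center H) = n := by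
    refine Eq.trans ?_ S.hcardZ
    rw [← hcent]
    exact Nat.card_congr (Subgroup.centerCongr MulEquiv.ulift).toEquiv
  have hH : Nat.card H = n * Fintype.card S.ι ^ 2 := by
    exact (Nat.card_congr Equiv.ulift).trans S.hcard
  refine ⟨H, inferInstance, inferInstance, ⟨fun h => χ₀ (π h),
    Char.isIrrCharacter_comp π hπ.2 hirr⟩, ?_, ?_, ?_, ?_, ?_⟩
  · intro h hh
    exact hπ.1 ((hfaith₀ _ (by simpa using hh)).trans (map_one π).symm)
  · have hdeg : Cfsg.charDegree (fun h => χ₀ (π h)) = Fintype.card S.ι := by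
      simp [Cfsg.charDegree, h1]
    show Cfsg.charDegree (fun h => χ₀ (π h)) ^ 2 = _
    have := (Subgroup.center H).card_mul_index
    rw [hcH, hH] at this
    rw [hdeg]
    exact (Nat.eq_of_mul_eq_mul_left (Nat.pos_of_ne_zero hn) this).symm
  · have hmem : ∀ x : H, x ∈ Subgroup.center H ↔ π x ∈ S.Z := fun x => by
      rw [← hcent]
      simp only [Subgroup.mem_center_iff]
      exact ⟨fun h y => by
          obtain ⟨y, rfl⟩ := hπ.2 y
          rw [← map_mul, ← map_mul, h y],
        fun h y => hπ.1 (by rw [map_mul, map_mul, h (π y)])⟩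
    let f : G →* H ⧸ Subgroup.center H := MonoidHom.mk' (fun g => QuotientGroup.mk (ULift.up (e g)))
      fun a b => by
        rw [← QuotientGroup.mk_mul]
        refine QuotientGroup.eq.2 ((hmem _).2 ?_)
        exact hmul a b
    refine ⟨f, (injective_iff_map_eq_one f).2 fun g hg => hker g ?_⟩
    exact (hmem _).1 ((QuotientGroup.eq_one_iff _).1 hg)
  · intro q hq
    refine ⟨?_, by rw [hcH]; exact hqn q hq⟩
    rw [hH, ← hqn q hq]
    exact ⟨fun h => (hq.dvd_mul.1 h).elim id fun h' => S.hdim q hq (hq.dvd_of_dvd_pow h'),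
      fun h => h.mul_right _⟩
  · rw [hcH]; exact hsq

end Cfsg.Agent.BlockChar.CentralTypeEmbed
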