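import Cfsg.Agent.BlockChar.ThirdMain
import Cfsg.Agent.Embedded.RankCore
import Cfsg.Prelude.Def_BlockFusion

/-!
# The Brauer pairs of the principal block below a p-subgroup
-/

namespace Cfsg.Agent.BlockChar

open Cfsg.Agent Cfsg.Agent.Blocks

universe u v

variable {G : Type u} [Group G] [Finite G] {p : ℕ} {M : Ideal Cfsg.AlgInt}

/-- An isomorphism carries the principal block to the principal block. -/
theorem comp_mem_principalBlock {H K : Type u} [Group H] [Group K] [Finite H] [Finite K]
    (φ : H ≃* K) {χ : Cfsg.IrrCharacter K} (hχ : χ ∈ Cfsg.principalBlock M K) :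
    (⟨fun h => (χ : K → ℂ) (φ h), (Char.isIrrCharacter_comp_equiv φ).2 χ.2⟩ :
      Cfsg.IrrCharacter H) ∈ Cfsg.principalBlock M H := by
  intro c
  have h1 := hχ (φ c)
  have hidx : (Subgroup.centralizer ({φ c} : Set K)).index =
      (Subgroup.centralizer ({c} : Set H)).index := by
    rw [← Char.card_isConj_eq_index, ← Char.card_isConj_eq_index]
    refine (Nat.card_congr (φ.toEquiv.subtypeEquiv fun d => ?_)).symm
    exact ⟨fun hd => φ.toMonoidHom.map_isConj hd, fun hd => by
      simpa using φ.symm.toMonoidHom.map_isConj hd⟩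
  simpa [Cfsg.centralChar, hidx] using h1

/-- Conjugation by `g` from `K` to `L`. -/
def conjIso (K L : Subgroup G) (g : G) (h : ∀ y, y ∈ K ↔ g * y * g⁻¹ ∈ L) : K ≃* L where
  toFun k := ⟨g * k * g⁻¹, (h k).1 k.2⟩
  invFun l := ⟨g⁻¹ * l * g, (h _).2 (by simp [mul_assoc])⟩
  left_inv k := Subtype.ext (by simp [mul_assoc])
  right_inv l := Subtype.ext (by simp [mul_assoc])
  map_mul' a b := Subtype.ext (by simp [mul_assoc])

omit [Finite G] in
theorem mem_centralizer_iff_conj {Q R : Subgroup G} {g : G}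
    (h : Q.map (MulAut.conj g).toMonoidHom = R) (y : G) :
    y ∈ Subgroup.centralizer (Q : Set G) ↔
      g * y * g⁻¹ ∈ Subgroup.centralizer (R : Set G) := by
  subst h
  constructor
  · intro hy
    refine Subgroup.mem_centralizer_iff.2 fun r hr => ?_
    obtain ⟨q, hq, rfl⟩ := Subgroup.mem_map.1 hr
    have := Subgroup.mem_centralizer_iff.1 hy q hq
    simp only [MulEquiv.coe_toMonoidHom, MulAut.conj_apply]
    calc g * q * g⁻¹ * (g * y * g⁻¹) = g * (q * y) * g⁻¹ := by group
      _ = g * (y * q) * g⁻¹ := by rw [this]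
      _ = g * y * g⁻¹ * (g * q * g⁻¹) := by group
  · intro hy
    refine Subgroup.mem_centralizer_iff.2 fun q hq => ?_
    have := Subgroup.mem_centralizer_iff.1 hy (g * q * g⁻¹) ⟨q, hq, rfl⟩
    calc q * y = g⁻¹ * (g * q * g⁻¹ * (g * y * g⁻¹)) * g := by group
      _ = g⁻¹ * (g * y * g⁻¹ * (g * q * g⁻¹)) * g := by rw [this]
      _ = y * q := by group

theorem conjBlock_principal (Q : Subgroup G) (g : G) :
    Cfsg.conjBlock Q g (Cfsg.principalBlock M ↥(Subgroup.centralizer (Q : Set G))) =
      Cfsg.principalBlock M ↥(Subgroup.centralizer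
        ((Q.map (MulAut.conj g).toMonoidHom : Subgroup G) : Set G)) := by
  let φ := conjIso (Subgroup.centralizer (Q : Set G)) (Subgroup.centralizer
    ((Q.map (MulAut.conj g).toMonoidHom : Subgroup G) : Set G)) g (mem_centralizer_iff_conj rfl)
  ext ξ'
  constructor
  · rintro ⟨ξ, hξ, h⟩
    have := comp_mem_principalBlock φ.symm hξ
    refine (?_ : ξ' = _) ▸ this
    refine Subtype.ext (funext fun c' => ?_)
    exact h (φ.symm c') c' (congrArg Subtype.val (φ.apply_symm_apply c')).symm
  · intro hξ'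
    refine ⟨_, comp_mem_principalBlock φ hξ', fun c c' hc => ?_⟩
    show (ξ' : _ → ℂ) c' = (ξ' : _ → ℂ) (φ c)
    exact congrArg _ (Subtype.ext hc)

theorem stabilizesBlock_principal {Q : Subgroup G} {x : G}
    (hx : x ∈ Subgroup.normalizer (Q : Set G)) :
    Cfsg.StabilizesBlock (Subgroup.centralizer (Q : Set G))
      (Cfsg.principalBlock M ↥(Subgroup.centralizer (Q : Set G))) x := by
  have hmap : ∀ z ∈ Subgroup.normalizer (Q : Set G), Q.map (MulAut.conj z).toMonoidHom = Q :=
    fun z hz => Subgroup.ext fun r => ⟨by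
      rintro ⟨q, hq, rfl⟩
      exact (Subgroup.mem_normalizer_iff.1 hz q).1 hq, fun hr =>
      ⟨z⁻¹ * r * z, (Subgroup.mem_normalizer_iff.1 hz _).2 (by simpa [mul_assoc] using hr), by
        simp [mul_assoc]⟩⟩
  refine ⟨Subgroup.mem_normalizer_iff.2 (mem_centralizer_iff_conj (hmap x hx)), fun χ hχ => ?_⟩
  refine ⟨_, comp_mem_principalBlock (conjIso _ _ x⁻¹
    (mem_centralizer_iff_conj (hmap _ (Subgroup.inv_mem _ hx)))) hχ, fun k k' hk => ?_⟩
  refine congrArg (χ : Subgroup.centralizer (Q : Set G) → ℂ) (Subtype.ext ?_)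
  show x⁻¹ * (k' : G) * x⁻¹⁻¹ = k
  rw [hk]
  group

/-- The Brauer map at `R` of a function congruent to a block idempotent of the centralizer. -/
theorem memLocalIdeal_brauerOmega_sub (hM : Cfsg.IsPModular p M) (R : Subgroup G) (β : G → ℂ)
    (E : Set (Cfsg.IrrCharacter (Subgroup.centralizer (R : Set G))))
    (hcl : Cfsg.IsClassFunction (Subgroup.centralizer (R : Set G)) fun x => β x)
    (hcong : ∀ c : Subgroup.centralizer (R : Set G),
      Cfsg.MemLocalIdeal M (β c - Cfsg.blockCoeff E c))
    (ξ : Cfsg.IrrCharacter (Subgroup.centralizer (R : Set G))) [Decidable (ξ ∈ E)] :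
    Cfsg.MemLocalIdeal M
      (Cfsg.brauerOmega R β (ξ : Subgroup.centralizer (R : Set G) → ℂ) -
        if ξ ∈ E then 1 else 0) := by
  classical
  have := Fintype.ofFinite G
  haveI : Fintype (Subgroup.centralizer (R : Set G)) := Fintype.ofFinite _
  let f : ↥(Subgroup.centralizer (R : Set G)) → ℂ := fun x => β x - Cfsg.blockCoeff E x
  have hfcl : Cfsg.IsClassFunction ↥(Subgroup.centralizer (R : Set G)) f := fun x k => by
    show β ↑(k * x * k⁻¹) - Cfsg.blockCoeff E (k * x * k⁻¹) = β x - Cfsg.blockCoeff E x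
    exact congrArg₂ (· - ·) (hcl x k) (isClassFunction_blockCoeff E x k)
  have h1 : Cfsg.MemLocalIdeal M (omega (ξ : ↥(Subgroup.centralizer (R : Set G)) → ℂ) f) := by
    have : Finite (ConjClasses (Subgroup.centralizer (R : Set G))) := Quotient.finite _
    letI := Fintype.ofFinite (ConjClasses (Subgroup.centralizer (R : Set G)))
    rw [omega_eq_sum_classes (Char.isClassFunction_of_isIrr ξ.2) hfcl]
    exact memLocalIdeal_sum hM _ fun D _ => memLocalIdeal_mul_right hM
      (hcong D.out) (memLocalRing_centralChar hM ξ.2 _)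
  have h2 : Cfsg.brauerOmega R β (ξ : ↥(Subgroup.centralizer (R : Set G)) → ℂ) =
      omega (ξ : ↥(Subgroup.centralizer (R : Set G)) → ℂ) f + omega (ξ : ↥(Subgroup.centralizer (R : Set G)) → ℂ) (Cfsg.blockCoeff E) := by
    rw [← omega_add, Cfsg.brauerOmega, finsum_eq_sum_of_fintype, omega, Finset.sum_div]
    exact Finset.sum_congr rfl fun x _ => by simp [f]
  rw [h2, omega_blockCoeff]
  convert h1 using 1
  split_ifs <;> ring

/-- A normal step between principal pairs. -/
theorem isNormalSubpair_principal (hM : Cfsg.IsPModular p M) {Q R : Subgroup G} (hQR : Q ≤ R)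
    (hR : IsPGroup p R) (hRN : R ≤ Subgroup.normalizer (Q : Set G)) :
    Cfsg.IsNormalSubpair p M Q (Cfsg.principalBlock M ↥(Subgroup.centralizer (Q : Set G))) R
      (Cfsg.principalBlock M ↥(Subgroup.centralizer (R : Set G))) := by
  classical
  have hle : Subgroup.centralizer (R : Set G) ≤ Subgroup.centralizer (Q : Set G) :=
    Subgroup.centralizer_le hQR
  have hQ : IsPGroup p Q := hR.to_le hQR
  refine ⟨⟨hQ, isPBlock_principalBlock M⟩, ⟨hR, isPBlock_principalBlock M⟩, hQR, hRN,
    fun x hx => stabilizesBlock_principal (hRN hx), fun ξ hξ => ?_⟩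
  have hval : ∀ c : Subgroup.centralizer (R : Set G),
      Cfsg.subgroupBlockCoeff (Subgroup.centralizer (Q : Set G))
        (Cfsg.principalBlock M ↥(Subgroup.centralizer (Q : Set G))) (c : G) =
      Cfsg.blockCoeff (Cfsg.principalBlock M ↥(Subgroup.centralizer (Q : Set G)))
        ⟨c, hle c.2⟩ := fun c => by
    rw [Cfsg.subgroupBlockCoeff]
    exact dif_pos (hle c.2)
  have h := memLocalIdeal_brauerOmega_sub hM R
    (Cfsg.subgroupBlockCoeff (Subgroup.centralizer (Q : Set G))
      (Cfsg.principalBlock M ↥(Subgroup.centralizer (Q : Set G))))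
    (Cfsg.principalBlock M ↥(Subgroup.centralizer (R : Set G)))
    (fun x k => by
      show Cfsg.subgroupBlockCoeff _ _ _ = Cfsg.subgroupBlockCoeff _ _ _
      rw [hval, hval]
      exact isClassFunction_blockCoeff _ (⟨x, hle x.2⟩ : Subgroup.centralizer (Q : Set G))
        ⟨k, hle k.2⟩)
    (fun c => by
      rw [hval]
      have h1 := blockCoeff_principal_congr hM Q hQ ⟨(c : G), hle c.2⟩
      have h2 := blockCoeff_principal_congr hM R hR c
      have := memLocalIdeal_sub hM h2 h1
      convert this using 1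
      ring) ξ
  rwa [if_pos hξ] at h

/-- The principal pairs below a p-subgroup form a chain of inclusions. -/
theorem subpairLE_principal (hM : Cfsg.IsPModular p M) {S : Subgroup G} (hS : IsPGroup p S)
    {Q : Subgroup G} (hQS : Q ≤ S) :
    Cfsg.SubpairLE p M Q (Cfsg.principalBlock M ↥(Subgroup.centralizer (Q : Set G))) S
      (Cfsg.principalBlock M ↥(Subgroup.centralizer (S : Set G))) := by
  haveI := Fact.mk hM.1
  induction Q using WellFoundedGT.induction with
  | _ Q ih =>
    by_cases hQ : Q = S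
    · subst hQ; exact Relation.ReflTransGen.refl
    · set R := S ⊓ Subgroup.normalizer (Q : Set G)
      have hQR : Q ≤ R := le_inf hQS Subgroup.le_normalizer
      have hlt : Q < R := lt_of_le_of_ne hQR fun e =>
        hQ (Embedded.eq_of_normalizer_inf_le hS hQS e.ge)
      exact Relation.ReflTransGen.head
        (show Cfsg.NormalSubpairRel p M
            ⟨Q, Cfsg.principalBlock M ↥(Subgroup.centralizer (Q : Set G))⟩
            ⟨R, Cfsg.principalBlock M ↥(Subgroup.centralizer (R : Set G))⟩ from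
          isNormalSubpair_principal hM hQR (hS.to_le inf_le_left) inf_le_right)
        (ih R hlt inf_le_left)

omit [Finite G] in
theorem le_of_subpairLE {Q R : Subgroup G}
    {f : Set (Cfsg.IrrCharacter (Subgroup.centralizer (Q : Set G)))}
    {g : Set (Cfsg.IrrCharacter (Subgroup.centralizer (R : Set G)))}
    (h : Cfsg.SubpairLE p M Q f R g) : Q ≤ R := by
  suffices ∀ a b : Cfsg.BrauerPairIdx G,
      Relation.ReflTransGen (Cfsg.NormalSubpairRel p M) a b → a.1 ≤ b.1 from this _ _ h
  intro a b hab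
  induction hab with
  | refl => rfl
  | tail _ hbc ih => exact ih.trans hbc.2.2.1

theorem isMaximalBrauerPair_principal (hM : Cfsg.IsPModular p M) (S : Sylow p G) :
    Cfsg.IsMaximalBrauerPair p M (Cfsg.principalBlock M G) (S : Subgroup G)
      (Cfsg.principalBlock M ↥(Subgroup.centralizer ((S : Subgroup G) : Set G))) :=
  ⟨(isBrauerPairOf_principal_iff hM _ S.isPGroup' (isPBlock_principalBlock M)).2 rfl,
    fun _ _ hR hle => S.3 hR.1.1 (le_of_subpairLE hle)⟩

theorem homSet_eq_of_isBlockFusionSystemOn (hM : Cfsg.IsPModular p M) (S : Sylow p G)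
    {F : Cfsg.FusionSystem (S : Subgroup G)}
    (hF : Cfsg.IsBlockFusionSystemOn p M (Cfsg.principalBlock M G) (S : Subgroup G)
      (Cfsg.principalBlock M ↥(Subgroup.centralizer ((S : Subgroup G) : Set G))) F)
    (Q : Subgroup G) : F.Hom Q = (Cfsg.groupFusionSystem (S : Subgroup G)).Hom Q := by
  ext φ
  rw [hF.2]
  constructor
  · rintro ⟨hQ, g, hg, hmap, -⟩
    exact ⟨hQ, fun x => (hg x).symm ▸ hmap ⟨x, x.2, rfl⟩, g, hg⟩
  · rintro ⟨hQ, hS, g, hg⟩
    have hmap : Q.map (MulAut.conj g).toMonoidHom ≤ (S : Subgroup G) := by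
      rintro _ ⟨q, hq, rfl⟩
      have := hS ⟨q, hq⟩
      rwa [hg] at this
    refine ⟨hQ, g, hg, hmap, _, subpairLE_principal hM S.isPGroup' hQ, ?_⟩
    rw [conjBlock_principal]
    exact subpairLE_principal hM S.isPGroup' hmap

end Cfsg.Agent.BlockChar
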