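import Cfsg.Agent.Blocks.Rank
import Cfsg.Agent.Blocks.Principal

/-!
# Blocks with a single singular section

If the characters of a block vanish off the p-regular elements and one section, the number of
characters is the sum of the two ranks.
-/

namespace Cfsg.Agent.BlockChar

open scoped ComplexConjugate
open Cfsg.Agent Cfsg.Agent.Blocks

universe u

variable {G : Type u} [Group G] {p : ℕ} {M : Ideal Cfsg.AlgInt}

open scoped Classical in
theorem sum_all_norm [Fintype G] (B : Set (Cfsg.IrrCharacter G)) :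
    ∑ g : G, ∑ᶠ χ ∈ B, (χ : G → ℂ) g * conj ((χ : G → ℂ) g) =
      (Nat.card G : ℂ) * (Nat.card B : ℂ) := by
  simp only [finsum_mem_eq_finite_toFinset_sum _ B.toFinite]
  rw [Finset.sum_comm, Nat.card_coe_set_eq, Set.ncard_eq_toFinset_card B B.toFinite,
    Finset.cast_card, Finset.mul_sum]
  refine Finset.sum_congr rfl fun χ _ => ?_
  have h := (Char.classInner_irrChar χ χ).trans (if_pos rfl)
  rw [Cfsg.classInner, inv_mul_eq_iff_eq_mul₀ (Nat.cast_ne_zero.2 Nat.card_pos.ne'), mul_one] at h
  rw [h, mul_one]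

/-- The number of characters when there is a single singular section. -/
theorem card_eq_rank_add [Finite G] (hM : Cfsg.IsPModular p M) {B : Set (Cfsg.IrrCharacter G)}
    (hB : Cfsg.IsPBlock M B) {x : G} (hx : ∃ k, orderOf x = p ^ k) (hx1 : x ≠ 1) {C : Subgroup G}
    [Fintype C] (hC : ∀ a : G, a ∈ C ↔ x * a = a * x)
    (hsing : ∀ g : G, p ∣ orderOf g →
      (∀ χ ∈ B, ((χ : Cfsg.IrrCharacter G) : G → ℂ) g = 0) ∨ IsConj x (pPartOf p g))
    {b : Set (Cfsg.IrrCharacter C)} (hb : Cfsg.IsPBlock M b) (hind : inducing M C B = b) :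
    Nat.card B = Cfsg.blockRank p B + Cfsg.blockRank p b := by
  classical
  have := Fintype.ofFinite G
  have hp := hM.1
  have hCx : C = Subgroup.centralizer ({x} : Set G) := Subgroup.ext fun a =>
    (hC a).trans (mem_centralizer_iff_comm x a).symm
  subst hCx
  set F : G → ℂ := fun g =>
    if p ∣ orderOf g then ∑ᶠ χ ∈ B, (χ : G → ℂ) g * conj ((χ : G → ℂ) g) else 0 with hF
  have hFc : Cfsg.IsClassFunction G F := fun g c => by
    have ho : orderOf (c * g * c⁻¹) = orderOf g := MulEquiv.orderOf_eq (MulAut.conj c) g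
    simp only [hF, ho]
    refine if_congr Iff.rfl (finsum_congr fun χ => finsum_congr fun _ => ?_) rfl
    rw [Char.isClassFunction_of_isIrr χ.2 g c]
  set Φ : G → ℂ := fun u => ∑ g ∈ Finset.univ.filter (fun g => pPartOf p g = u), F g with hΦ
  have hxo : p ∣ orderOf x := by
    obtain ⟨k, hk⟩ := hx
    rcases Nat.eq_zero_or_pos k with h0 | h0
    · exact absurd (orderOf_eq_one_iff.1 (by rw [hk, h0, pow_zero])) hx1
    · exact hk ▸ dvd_pow_self p h0.ne'
  -- only the class of `x` contributes
  have hzero : ∀ u, ¬ IsConj x u → Φ u = 0 := fun u hu => Finset.sum_eq_zero fun g hg => by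
    simp only [hF]
    split_ifs with hgs
    · rcases hsing g hgs with h | h
      · rw [finsum_mem_eq_finite_toFinset_sum _ B.toFinite]
        exact Finset.sum_eq_zero fun χ hχ => by
          rw [h χ (B.toFinite.mem_toFinset.1 hχ), zero_mul]
      · exact absurd ((Finset.mem_filter.1 hg).2 ▸ h) hu
    · rfl
  have hconst : ∀ u, IsConj x u → Φ u = Φ x := by
    intro u hu
    obtain ⟨c, rfl⟩ := isConj_iff.1 hu
    refine (Finset.sum_equiv (MulAut.conj c).toEquiv (fun g => ?_) (fun g _ => ?_)).symm
    · simp only [Finset.mem_filter, Finset.mem_univ, true_and, MulEquiv.toEquiv_eq_coe,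
        MulEquiv.coe_toEquiv, MulAut.conj_apply, pPartOf_conj, mul_left_inj, mul_right_inj]
    · exact (hFc g c).symm
  have hΦx : Φ x = (Nat.card (Subgroup.centralizer ({x} : Set G)) : ℂ) * (Cfsg.blockRank p b : ℂ) := by
    rw [hΦ]
    simp only []
    rw [sum_pPart_fiber hp hx, card_mul_blockRank hM hb]
    refine Finset.sum_congr (Finset.ext fun _ => by simp) fun s _ => ?_
    by_cases hs : p ∣ orderOf s
    · rw [if_pos hs, if_pos hs]
    · rw [if_neg hs, if_neg hs]
      have hcomm : Commute x (s : G) := (mem_centralizer_iff_comm x _).1 s.2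
      have hreg : ¬ p ∣ orderOf (s : G) := by rwa [Subgroup.orderOf_coe]
      have hsing' : p ∣ orderOf (x * (s : G)) := by
        obtain ⟨k, hk⟩ := hx
        rw [hcomm.orderOf_mul_eq_mul_orderOf_of_coprime
          (hk ▸ Nat.Coprime.pow_left k (hp.coprime_iff_not_dvd.2 hreg))]
        exact hxo.mul_right _
      simp only [hF]
      rw [if_pos hsing', section_identity (H := Subgroup.centralizer ({x} : Set G)) hM hx
        (fun a => mem_centralizer_iff_comm x a) hB hs hs, hind]
  have hsum : ∑ g, F g = (Nat.card G : ℂ) * (Cfsg.blockRank p b : ℂ) := by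
    rw [← Finset.sum_fiberwise Finset.univ (pPartOf p) F]
    show ∑ u, Φ u = _
    rw [← Finset.sum_filter_add_sum_filter_not Finset.univ (fun u => IsConj x u),
      Finset.sum_eq_zero (s := Finset.univ.filter fun u => ¬ IsConj x u)
        (fun u hu => hzero u (Finset.mem_filter.1 hu).2), add_zero,
      Finset.sum_congr rfl (fun u hu => hconst u (Finset.mem_filter.1 hu).2), Finset.sum_const,
      nsmul_eq_mul, hΦx, ← mul_assoc]
    congr 1
    rw [← Fintype.card_subtype, ← Nat.card_eq_fintype_card, Char.card_isConj_eq_index,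
      ← Nat.cast_mul, Subgroup.index_mul_card]
  have htot := sum_all_norm B
  have hreg := card_mul_blockRank hM hB
  have hsplit : ∑ g : G, ∑ᶠ χ ∈ B, (χ : G → ℂ) g * conj ((χ : G → ℂ) g) =
      (∑ g : G, if p ∣ orderOf g then (0 : ℂ) else
        ∑ᶠ χ ∈ B, (χ : G → ℂ) g * conj ((χ : G → ℂ) g)) + ∑ g, F g := by
    rw [← Finset.sum_add_distrib]
    refine Finset.sum_congr rfl fun g _ => ?_
    simp only [hF]
    split_ifs <;> simp
  rw [htot, ← hreg, hsum, ← mul_add] at hsplit
  exact_mod_cast mul_left_cancel₀ (Nat.cast_ne_zero.2 Nat.card_pos.ne') hsplit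

end Cfsg.Agent.BlockChar
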