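import Cfsg.Agent.BlockChar.ResidueRank
import Cfsg.Agent.BlockChar.RankOne
import Cfsg.Agent.BlockChar.RankLtCard
import Cfsg.Agent.BlockChar.SectionRank
import Cfsg.Agent.BlockChar.PrincipalPairs
import Cfsg.Agent.Blocks.SectionVanish
import Cfsg.Agent.BrauerPairs.Maximal
import Cfsg.Agent.BrauerPairs.Saturation
import Cfsg.Agent.BrauerPairs.Nilpotent

/-!
# Blocks of rank one with at most four characters are nilpotent
-/

set_option autoImplicit false

namespace Cfsg.Agent.BlockChar

open scoped ComplexConjugate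
open Cfsg.Agent Cfsg.Agent.Blocks Cfsg.Agent.BrauerPairs

universe u

variable {G : Type u} [Group G] {p : ℕ} {M : Ideal Cfsg.AlgInt}

/-- In a block of rank one and positive defect with at most four characters the defect group has
as many elements as the block has characters. -/
theorem pow_defect_eq_card [Finite G] (hM : Cfsg.IsPModular p M)
    {B : Set (Cfsg.IrrCharacter G)} (hB : Cfsg.IsPBlock M B) (hl : Cfsg.blockRank p B = 1)
    (hk : Nat.card B ≤ 4) (hd : 0 < Cfsg.blockDefect p B) :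
    p ^ Cfsg.blockDefect p B = Nat.card B ∧ (p = 2 ∨ p = 3) := by
  classical
  have := Fintype.ofFinite G
  have := Fact.mk hM.1
  obtain ⟨φ, d, ⟨n, hn⟩, hval, hsum⟩ := rank_one_cartan hM hB hl
  have h1reg : Cfsg.IsPRegular p (1 : G) := by
    show ¬ p ∣ orderOf (1 : G)
    rw [orderOf_one, Nat.dvd_one]
    exact hM.1.ne_one
  set S := B.toFinite.toFinset with hS
  have hmem : ∀ χ, χ ∈ S ↔ χ ∈ B := fun χ => B.toFinite.mem_toFinset
  set g : ℤ := ∑ χ ∈ S, n χ * (Cfsg.charDegree (χ : G → ℂ) : ℤ) with hg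
  have hφ : φ 1 = (g : ℂ) := by
    rw [hn 1 h1reg, finsum_mem_eq_finite_toFinset_sum _ B.toFinite, hg]
    push_cast
    exact Finset.sum_congr rfl fun χ _ => by rw [(CharArith.irr_degree_spec χ).1]
  have hdeg : ∀ χ ∈ S, (Cfsg.charDegree ((χ : Cfsg.IrrCharacter G) : G → ℂ) : ℤ) = d χ * g :=
    fun χ hχ => by
      have h := hval χ ((hmem χ).1 hχ) 1 h1reg
      rw [(CharArith.irr_degree_spec χ).1, hφ] at h
      exact_mod_cast h
  obtain ⟨χ₀, hχ₀, hv₀⟩ := exists_height_zero (p := p) (IsPBlock.nonempty hM hB)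
  have hd0 := hdeg χ₀ ((hmem χ₀).2 hχ₀)
  set g' := g.natAbs with hg'
  have hdeg' : Cfsg.charDegree (χ₀ : G → ℂ) = d χ₀ * g' := by
    have := congrArg Int.natAbs hd0
    simpa [Int.natAbs_mul] using this
  have hpos : 0 < Cfsg.charDegree (χ₀ : G → ℂ) := (CharArith.irr_degree_spec χ₀).2
  have hg0 : g' ≠ 0 := fun h0 => by rw [h0, mul_zero] at hdeg'; omega
  obtain ⟨m, hm, hdvd⟩ := ResidueBlock.exists_degree_structure hM hB hl hk
  rw [finsum_mem_eq_finite_toFinset_sum _ B.toFinite, ← hS] at hsum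
  rw [← hS] at hm
  have heq : p ^ Cfsg.blockDefect p B * g' ^ 2 = m ^ 2 * Nat.card B := by
    rw [← hm, ← hsum, Finset.sum_mul]
    refine Finset.sum_congr rfl fun χ hχ => ?_
    have := congrArg Int.natAbs (hdeg χ hχ)
    rw [← mul_pow]
    congr 1
    simpa [Int.natAbs_mul] using this.symm
  have hB0 : 0 < Nat.card B := by
    have := (IsPBlock.nonempty hM hB).to_subtype
    exact Nat.card_pos
  have hm0 : m ≠ 0 := fun h0 => by
    rw [h0] at heq
    simp [hM.1.ne_zero, hg0] at heq
  -- the p-parts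
  set a := (Nat.card G).factorization p
  have hdef : Cfsg.blockDefect p B = a - minVal p B := blockDefect_eq
  have hle := degree_val_le (p := p) χ₀
  have hvg : g'.factorization p ≤ minVal p B := by
    rw [← hv₀]
    refine (Nat.factorization_le_iff_dvd hg0 hpos.ne').2 ?_ p
    exact Dvd.intro_left _ hdeg'.symm
  have hva : a ≤ (m * Nat.card B).factorization p :=
    (hM.1.pow_dvd_iff_le_factorization (Nat.mul_ne_zero hm0 hB0.ne')).1 hdvd
  rw [Nat.factorization_mul hm0 hB0.ne', Finsupp.add_apply] at hva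
  have hf := congrArg (fun x : ℕ => x.factorization p) heq
  simp only [Nat.factorization_mul (pow_ne_zero _ hM.1.ne_zero) (pow_ne_zero _ hg0),
    Nat.factorization_mul (pow_ne_zero _ hm0) hB0.ne', Nat.factorization_pow, Finsupp.add_apply,
    Finsupp.smul_apply, smul_eq_mul, hM.1.factorization_self, mul_one] at hf
  have hpd : p ^ Cfsg.blockDefect p B ∣ Nat.card B :=
    (hM.1.pow_dvd_iff_le_factorization hB0.ne').2 (by omega)
  obtain ⟨q, hq⟩ := hpd
  have hp2 : 2 ≤ p ^ Cfsg.blockDefect p B :=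
    hM.1.two_le.trans (Nat.le_self_pow hd.ne' p)
  have hq2 : q ≤ 2 := by nlinarith
  have hq0 : q ≠ 0 := fun h0 => by rw [h0, mul_zero] at hq; omega
  have hgq : g' ^ 2 = m ^ 2 * q := by
    rw [hq, mul_comm (p ^ _) q, ← mul_assoc, mul_comm (m ^ 2 * q)] at heq
    exact Nat.eq_of_mul_eq_mul_left (by omega) heq
  have hq1 : q = 1 := by
    by_contra hne
    obtain rfl : q = 2 := by omega
    have h2 := congrArg (fun x : ℕ => x.factorization 2) hgq
    simp only [Nat.factorization_mul (pow_ne_zero _ hm0) two_ne_zero, Nat.factorization_pow,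
      Finsupp.add_apply, Finsupp.smul_apply, smul_eq_mul, Nat.prime_two.factorization_self] at h2
    omega
  rw [hq1, mul_one] at hq
  refine ⟨hq.symm, ?_⟩
  have h4 : p ≤ 4 := (Nat.le_self_pow hd.ne' p).trans (hq ▸ hk)
  have := hM.1.two_le
  by_contra hne
  push Not at hne
  obtain rfl : p = 4 := by omega
  exact absurd hM.1 (by norm_num)

variable [Finite G]

local notation "CG[" Q "]" => Subgroup.centralizer (SetLike.coe Q)

/-- A Brauer pair of `B` lies, up to conjugation, in a defect group. -/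
theorem exists_conj_le_of_pair (hM : Cfsg.IsPModular p M) {B : Set (Cfsg.IrrCharacter G)}
    {Q : Subgroup G} {e : Set (Cfsg.IrrCharacter CG[Q])} (h : Cfsg.IsBrauerPairOf p M B Q e)
    {D : Subgroup G} (hD : Cfsg.IsDefectGroup p M B D) :
    ∃ k, Q.map (MulAut.conj k).toMonoidHom ≤ D := by
  classical
  have := Fact.mk hM.1
  have := Fintype.ofFinite G
  letI := Fintype.ofFinite CG[Q]
  obtain ⟨ξ, hξ⟩ := IsPBlock.nonempty hM h.1.2
  have hω := h.2.2 ξ hξ
  rw [brauerOmega_eq] at hω
  have hnot : ¬ Cfsg.MemLocalIdeal M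
      (omega (ξ : CG[Q] → ℂ) fun a : CG[Q] => Cfsg.blockCoeff B (a : G)) := fun hd => by
    have := memLocalIdeal_sub hM hd hω
    exact not_memLocalIdeal_one hM (by simpa using this)
  obtain ⟨c, hc⟩ := exists_apply_not_mem_of_omega hM
    (isClassFunction_res CG[Q] (isClassFunction_blockCoeff B)) hnot
  refine exists_conj_le_of_centralizer hM h.2.1 hD hc h.1.1 fun u hu => ?_
  exact Subgroup.mem_centralizer_singleton_iff.2 (Subgroup.mem_centralizer_iff.1 c.2 u hu)

/-- A block with a pair on its defect group whose stabiliser is transitive on the non-identity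
elements, of order `p`, has one character more than its rank. -/
theorem card_eq_rank_add_one_of_transitive (hM : Cfsg.IsPModular p M) {B : Set (Cfsg.IrrCharacter G)}
    {D : Subgroup G} (hD : Cfsg.IsDefectGroup p M B D)
    (hsmall : p = 2 ∧ Nat.card D ≤ 4 ∨ Nat.card D = p) {Q : Subgroup G}
    {e : Set (Cfsg.IrrCharacter CG[Q])} (hQ : Cfsg.IsBrauerPairOf p M B Q e)
    (hcard : Nat.card Q = Nat.card D) {x : G} (hx : conjPair x ⟨Q, e⟩ = ⟨Q, e⟩) {s : G}
    (hsQ : s ∈ Q) (hso : orderOf s = p)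
    (htrans : ∀ t ∈ Q, t ≠ 1 → ∃ j : ℕ, x ^ j * s * (x ^ j)⁻¹ = t) :
    Nat.card B = Cfsg.blockRank p B + 1 := by
  classical
  have := Fact.mk hM.1
  have := Fintype.ofFinite G
  have hB : Cfsg.IsPBlock M B := hQ.2.1
  have hmax : Cfsg.IsMaximalBrauerPair p M B Q e := by
    refine ⟨hQ, fun R g hR hle => ?_⟩
    obtain ⟨k, hk⟩ := exists_conj_le_of_pair hM hR hD
    refine (Subgroup.eq_of_le_of_card_ge (le_of_subpairLE hle) ?_).symm
    rw [hcard, ← DefectThms.card_map_conj R k]
    exact Subgroup.card_le_of_le hk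
  obtain ⟨k₀, hk₀⟩ := exists_conj_le_of_pair hM hQ hD
  have hDeq : Q.map (MulAut.conj k₀).toMonoidHom = D :=
    Subgroup.eq_of_le_of_card_ge hk₀ (by rw [DefectThms.card_map_conj, hcard])
  set Z := Subgroup.zpowers s with hZ
  have hZp : IsPGroup p Z := IsPGroup.of_card (n := 1) (by rw [Nat.card_zpowers, hso, pow_one])
  set C := CG[Z] with hCdef
  letI := Fintype.ofFinite C
  have hCP : ∀ a : G, a ∈ C ↔ ∀ u ∈ Z, u * a = a * u := fun a => Subgroup.mem_centralizer_iff
  have hC : ∀ a : G, a ∈ C ↔ s * a = a * s := fun a => by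
    refine (hCP a).trans ⟨fun h => h s (Subgroup.mem_zpowers s), fun h u hu => ?_⟩
    obtain ⟨i, rfl⟩ := hu
    exact ((show Commute s a from h).zpow_left i).eq
  have hs1 : s ≠ 1 := fun e' => by
    rw [e', orderOf_one] at hso; exact hM.1.ne_one hso.symm
  have hsing : ∀ g : G, p ∣ orderOf g →
      (∀ χ ∈ B, ((χ : Cfsg.IrrCharacter G) : G → ℂ) g = 0) ∨ IsConj s (pPartOf p g) := by
    intro g hg
    by_cases hno : ∀ k : G, k * pPartOf p g * k⁻¹ ∉ D
    · exact Or.inl fun χ hχ => eq_zero_of_pPart_notMem hM hB hD hχ hno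
    push Not at hno
    obtain ⟨k, hk⟩ := hno
    rw [← hDeq] at hk
    obtain ⟨t, ht, hte⟩ := hk
    have ht1 : t ≠ 1 := fun e' => by
      rw [e', map_one] at hte
      have : pPartOf p g = 1 := by
        calc pPartOf p g = k⁻¹ * (k * pPartOf p g * k⁻¹) * k := by group
          _ = 1 := by rw [← hte]; group
      exact (pPartOf_eq_one_iff hM.1 g).1 this hg
    obtain ⟨j, hj⟩ := htrans t ht ht1
    refine Or.inr ((isConj_iff.2 ⟨x ^ j, hj⟩).trans (isConj_iff.2 ⟨k⁻¹ * k₀, ?_⟩))
    simp only [MulEquiv.coe_toMonoidHom, MulAut.conj_apply] at hte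
    calc k⁻¹ * k₀ * t * (k⁻¹ * k₀)⁻¹ = k⁻¹ * (k₀ * t * k₀⁻¹) * k := by group
      _ = pPartOf p g := by rw [hte]; group
  -- the block of the centralizer
  obtain ⟨f, hf, -⟩ := existsUnique_subpairLE hM hQ.1 (show Z ≤ Q from Subgroup.zpowers_le.2 hsQ)
  have hfB : Cfsg.IsBrauerPairOf p M B Z f := (isBrauerPairOf_iff_of_subpairLE hM hf B).1 hQ
  have huniq : ∀ a b : Cfsg.BrauerPairIdx G, a.1 = b.1 →
      Relation.ReflTransGen (Cfsg.NormalSubpairRel p M) a ⟨Q, e⟩ →
      Relation.ReflTransGen (Cfsg.NormalSubpairRel p M) b ⟨Q, e⟩ → a = b := by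
    rintro ⟨R, r⟩ ⟨R', r'⟩ hRR ha hb
    dsimp only at hRR
    subst hRR
    exact congrArg (Sigma.mk R) ((existsUnique_subpairLE hM hQ.1 (le_of_subpairLE ha)).unique ha hb)
  have hA : inducing M C B = f := by
    refine Set.Subset.antisymm (fun ψ hψ => ?_) (fun ψ hψ hd => ?_)
    · set b' := Cfsg.blockOf M (ψ : C → ℂ)
      have hb' : Cfsg.IsPBlock M b' := isPBlock_blockOf ψ
      have hpair : Cfsg.IsBrauerPairOf p M B Z b' := by
        refine memLocalIdeal_brauerOmega_block hM hZp hb' hB (mem_blockOf_self hM ψ) ?_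
        rw [brauerOmega_eq]
        have h := memLocalIdeal_omega_res_blockCoeff_sub hM hZp hCP hB ψ
        rwa [if_pos hψ] at h
      obtain ⟨x₀, hx₀⟩ := exists_conj_subpairLE hM hmax hpair
      have hs' : x₀ * s * x₀⁻¹ ∈ Q := le_of_subpairLE hx₀ ⟨s, Subgroup.mem_zpowers s, rfl⟩
      obtain ⟨j, hj⟩ := htrans _ hs' fun e' => hs1 (conj_eq_one_iff.1 e')
      have h1 := le_conjPair hM (a := ⟨Z, f⟩) (b := ⟨Q, e⟩) hf (x ^ j)
      rw [conjPair_pow_fixed hx j] at h1
      have hmap : Z.map (MulAut.conj (x ^ j)).toMonoidHom = Z.map (MulAut.conj x₀).toMonoidHom := by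
        rw [hZ, MonoidHom.map_zpowers, MonoidHom.map_zpowers]
        simp only [MulEquiv.coe_toMonoidHom, MulAut.conj_apply, hj]
      have h2 := huniq (conjPair (x ^ j) ⟨Z, f⟩) (conjPair x₀ ⟨Z, b'⟩) hmap h1 hx₀
      have h3 := congrArg (conjPair x₀⁻¹) h2
      rw [conjPair_conjPair, conjPair_conjPair, inv_mul_cancel, conjPair_one] at h3
      have hh : x₀⁻¹ * x ^ j ∈ C := (hC _).2 (by
        calc s * (x₀⁻¹ * x ^ j) = x₀⁻¹ * (x₀ * s * x₀⁻¹) * x ^ j := by group
          _ = x₀⁻¹ * (x ^ j * s * (x ^ j)⁻¹) * x ^ j := by rw [hj]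
          _ = x₀⁻¹ * x ^ j * s := by group)
      rw [conjPair_self (Subgroup.centralizer_le_normalizer _ hh)
        (fun y => isInv_sbc f _ hh y)] at h3
      have h4 : f = b' := eq_of_heq (Sigma.mk.inj_iff.1 h3).2
      rw [h4]
      exact mem_blockOf_self hM ψ
    · have h := hfB.2.2 ψ hψ
      rw [brauerOmega_eq] at h
      refine not_memLocalIdeal_one hM ?_
      convert memLocalIdeal_sub hM hd h using 1
      rw [eq_comm, sub_eq_iff_eq_add, add_comm, sub_add_cancel]
  have hcardB := card_eq_rank_add hM hB ⟨1, by rw [hso, pow_one]⟩ hs1 hC hsing hfB.1.2 hA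
  -- its rank
  obtain ⟨E, hE⟩ := DefectThms.exists_defectGroup hM hfB.1.2
  obtain ⟨k, hk⟩ := exists_conj_sup_le_of_inducing hM hB hD hZp hCP hfB.1.2 hA.ge hE
  have hsC : (⟨s, (hC s).2 rfl⟩ : C) ∈ Subgroup.center C :=
    Subgroup.mem_center_iff.2 fun t => Subtype.ext ((hC t).1 t.2).symm
  have hcardE : Nat.card (Z ⊔ E.map C.subtype : Subgroup G) ≤ Nat.card D :=
    (DefectThms.card_map_conj _ k).symm.le.trans (Subgroup.card_le_of_le hk)
  have hb1 : Cfsg.blockRank p f = 1 := by
    rcases hsmall with ⟨hp2, h4⟩ | hDp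
    · subst hp2
      refine blockRank_eq_one_of_central_two hM hsC (by rw [Subgroup.orderOf_mk, hso]) hfB.1.2 ?_
      have h1 := card_defectGroup hM hfB.1.2 hE
      have h2 : Nat.card E ≤ 2 ^ 2 := by
        rw [← Subgroup.card_map_of_injective (K := E) C.subtype_injective]
        exact (Subgroup.card_le_of_le le_sup_right).trans (hcardE.trans h4)
      rw [h1] at h2
      exact (Nat.pow_le_pow_iff_right (by norm_num)).1 h2
    · refine blockRank_eq_one_of_central hM hfB.1.2 hE fun u hu => ?_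
      have hZeq : Z ⊔ E.map C.subtype = Z := (Subgroup.eq_of_le_of_card_ge le_sup_left (by
        rw [Nat.card_zpowers, hso, ← hDp]; exact hcardE)).symm
      have huZ : (u : G) ∈ Z := hZeq.le (Subgroup.mem_sup_right ⟨u, hu, rfl⟩)
      refine Subgroup.mem_center_iff.2 fun t => Subtype.ext ?_
      exact ((hCP t).1 t.2 u huZ).symm
  omega

/-- A block with a pair on its defect group whose stabiliser is transitive on the non-identity
elements, of order `p`, has two characters when its rank is one. -/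
theorem card_eq_two_of_transitive (hM : Cfsg.IsPModular p M) {B : Set (Cfsg.IrrCharacter G)}
    (hl : Cfsg.blockRank p B = 1) {D : Subgroup G} (hD : Cfsg.IsDefectGroup p M B D)
    (hsmall : p = 2 ∧ Nat.card D ≤ 4 ∨ Nat.card D = p) {Q : Subgroup G}
    {e : Set (Cfsg.IrrCharacter CG[Q])} (hQ : Cfsg.IsBrauerPairOf p M B Q e)
    (hcard : Nat.card Q = Nat.card D) {x : G} (hx : conjPair x ⟨Q, e⟩ = ⟨Q, e⟩) {s : G}
    (hsQ : s ∈ Q) (hso : orderOf s = p)
    (htrans : ∀ t ∈ Q, t ≠ 1 → ∃ j : ℕ, x ^ j * s * (x ^ j)⁻¹ = t) :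
    Nat.card B = 2 := by
  rw [card_eq_rank_add_one_of_transitive hM hD hsmall hQ hcard hx hsQ hso htrans, hl]

/-- Blocks of rank one and positive defect with at most four characters are nilpotent. -/
theorem isNilpotentBlock_of_rank_one_few (hM : Cfsg.IsPModular p M)
    {B : Set (Cfsg.IrrCharacter G)} (hB : Cfsg.IsPBlock M B) (hl : Cfsg.blockRank p B = 1)
    (hk : Nat.card B ≤ 4) (hd : 0 < Cfsg.blockDefect p B) : Cfsg.IsNilpotentBlock p M B := by
  classical
  have hp := hM.1
  have := Fact.mk hp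
  obtain ⟨hDk, hp23⟩ := pow_defect_eq_card hM hB hl hk hd
  have := Fintype.ofFinite G
  obtain ⟨D, hD⟩ := DefectThms.exists_defectGroup hM hB
  have hDcard : Nat.card D = Nat.card B := (card_defectGroup hM hB hD).trans hDk
  refine ⟨hB, fun Q e hQe x hxN hst hxr => ?_⟩
  by_contra hxC
  set α : G → G := fun q => x * q * x⁻¹ with hα
  have hαQ : ∀ q ∈ Q, α q ∈ Q := fun q hq => (Subgroup.mem_normalizer_iff.1 hxN q).1 hq
  have hα1 : ∀ q, α q = 1 → q = 1 := fun q h => conj_eq_one_iff.1 h
  have hαinj : Function.Injective α := fun a b h => (MulAut.conj x).injective h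
  have hnot : ∃ q ∈ Q, α q ≠ q := by
    by_contra hall
    push Not at hall
    refine hxC (Subgroup.mem_centralizer_iff.2 fun q hq => ?_)
    calc q * x = α q * x := by rw [hall q hq]
      _ = x * q := by simp [hα]
  obtain ⟨k₀, hk₀⟩ := exists_conj_le_of_pair hM hQe hD
  have hdvd : Nat.card Q ∣ Nat.card D := by
    rw [← DefectThms.card_map_conj Q k₀]; exact Subgroup.card_dvd_of_le hk₀
  have hQle : Nat.card Q ≤ Nat.card D := Nat.le_of_dvd Nat.card_pos hdvd
  set F : Finset G := Finset.univ.filter (· ∈ Q) with hFdef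
  have hF : F.card = Nat.card Q := by
    rw [Nat.card_eq_fintype_card, hFdef, Fintype.card_subtype]
  have hFm : ∀ q, q ∈ F ↔ q ∈ Q := fun q => by simp [hFdef]
  -- no nontrivial element is fixed
  have hnofix : ∀ q ∈ Q, q ≠ 1 → α q ≠ q := by
    intro s hs hs1 hfix
    have hsq : ∀ t ∈ Q, α (α t) = t := by
      intro t ht
      by_cases hts : α t = t
      · rw [hts, hts]
      have ht1 : t ≠ 1 := fun h => hts (by rw [h]; simp [hα])
      have hts' : t ≠ s := fun h => hts (h ▸ hfix)
      have hat1 : α t ≠ 1 := fun h => ht1 (hα1 t h)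
      have hats : α t ≠ s := fun h => hts' (hαinj (h.trans hfix.symm))
      have hsub : ({1, s, t, α t} : Finset G) ⊆ F := by
        intro q hq
        simp only [Finset.mem_insert, Finset.mem_singleton] at hq
        rw [hFm]
        rcases hq with rfl | rfl | rfl | rfl
        exacts [Q.one_mem, hs, ht, hαQ t ht]
      have hc4 : ({1, s, t, α t} : Finset G).card = 4 := by
        simp [hs1.symm, ht1.symm, hat1.symm, hts'.symm, hats.symm, (Ne.symm hts : t ≠ α t)]
      have hFeq : ({1, s, t, α t} : Finset G) = F :=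
        Finset.eq_of_subset_of_card_le hsub (by omega)
      have hmem : α (α t) ∈ ({1, s, t, α t} : Finset G) := hFeq ▸ (hFm _).2 (hαQ _ (hαQ t ht))
      simp only [Finset.mem_insert, Finset.mem_singleton] at hmem
      rcases hmem with h | h | h | h
      · exact absurd (hα1 _ h) hat1
      · exact absurd (hαinj (h.trans hfix.symm)) hats
      · exact h
      · exact absurd (hαinj h) hts
    obtain ⟨q, hq, hqne⟩ := hnot
    have hq1 : q ≠ 1 := fun h => hqne (by rw [h]; simp [hα])
    have hqs : q ≠ s := fun h => hqne (h ▸ hfix)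
    have haq1 : α q ≠ 1 := fun h => hq1 (hα1 q h)
    have haqs : α q ≠ s := fun h => hqs (hαinj (h.trans hfix.symm))
    have hsub : ({1, s, q, α q} : Finset G) ⊆ F := by
      intro r hr
      simp only [Finset.mem_insert, Finset.mem_singleton] at hr
      rw [hFm]
      rcases hr with rfl | rfl | rfl | rfl
      exacts [Q.one_mem, hs, hq, hαQ q hq]
    have hc4 : ({1, s, q, α q} : Finset G).card = 4 := by
      simp [hs1.symm, hq1.symm, haq1.symm, hqs.symm, haqs.symm,
        (Ne.symm hqne : q ≠ α q)]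
    have hge := Finset.card_le_card hsub
    have hp2 : p = 2 := by
      refine hp23.resolve_right fun h3 => ?_
      have : 3 ∣ Nat.card D := by
        have h' := dvd_pow_self p hd.ne'
        rw [hDk, ← hDcard] at h'
        exact h3 ▸ h'
      omega
    -- the square of `x` centralizes
    have hx2 : x ^ 2 ∈ CG[Q] := Subgroup.mem_centralizer_iff.2 fun t ht => by
      conv_lhs => rw [← hsq t ht]
      simp [hα, sq, mul_assoc]
    obtain ⟨m, hm⟩ : ∃ m, orderOf x = 2 * m + 1 := by
      refine ⟨orderOf x / 2, ?_⟩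
      have hodd : ¬ 2 ∣ orderOf x := hp2 ▸ hxr
      omega
    refine hxC ?_
    have e : x = (x ^ 2) ^ (m + 1) := by
      rw [← pow_mul, show 2 * (m + 1) = orderOf x + 1 by omega, pow_succ, pow_orderOf_eq_one, one_mul]
    rw [e]
    exact Subgroup.pow_mem _ hx2 _
  obtain ⟨s, hsQ, hsne⟩ := hnot
  have hs1 : s ≠ 1 := fun h => hsne (by rw [h]; simp [hα])
  have has1 : α s ≠ 1 := fun h => hs1 (hα1 s h)
  have hsub3 : ({1, s, α s} : Finset G) ⊆ F := by
    intro r hr
    simp only [Finset.mem_insert, Finset.mem_singleton] at hr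
    rw [hFm]
    rcases hr with rfl | rfl | rfl
    exacts [Q.one_mem, hsQ, hαQ s hsQ]
  have hc3 : ({1, s, α s} : Finset G).card = 3 := by
    simp [hs1.symm, has1.symm, hsne.symm]
  have h3 := Finset.card_le_card hsub3
  have htrans : ∀ t ∈ Q, t ≠ 1 → ∃ j : ℕ, x ^ j * s * (x ^ j)⁻¹ = t := by
    intro t ht ht1
    by_cases hts : t = s
    · exact ⟨0, by simp [hts]⟩
    by_cases hta : t = α s
    · exact ⟨1, by rw [hta, pow_one]⟩
    refine ⟨2, ?_⟩
    have hsub : ({1, s, α s, t} : Finset G) ⊆ F := by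
      intro r hr
      simp only [Finset.mem_insert, Finset.mem_singleton] at hr
      rw [hFm]
      rcases hr with rfl | rfl | rfl | rfl
      exacts [Q.one_mem, hsQ, hαQ s hsQ, ht]
    have hc4 : ({1, s, α s, t} : Finset G).card = 4 := by
      simp [hs1.symm, has1.symm, hsne.symm, Ne.symm ht1, Ne.symm hts, Ne.symm hta]
    have hFeq : ({1, s, α s, t} : Finset G) = F :=
      Finset.eq_of_subset_of_card_le hsub (by omega)
    have hmem : α (α s) ∈ ({1, s, α s, t} : Finset G) := hFeq ▸ (hFm _).2 (hαQ _ (hαQ s hsQ))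
    simp only [Finset.mem_insert, Finset.mem_singleton] at hmem
    rcases hmem with h | h | h | h
    · exact absurd (hα1 _ h) has1
    · exfalso
      have hat : α t ∈ ({1, s, α s, t} : Finset G) := hFeq ▸ (hFm _).2 (hαQ t ht)
      simp only [Finset.mem_insert, Finset.mem_singleton] at hat
      rcases hat with h' | h' | h' | h'
      · exact ht1 (hα1 t h')
      · exact hta (hαinj (h'.trans h.symm))
      · exact hts (hαinj h')
      · exact hnofix t ht ht1 h'
    · exact absurd (hαinj h) hsne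
    · rw [← h]; simp [hα, sq, mul_assoc]
  have hQp : IsPGroup p Q := hQe.1.1
  obtain ⟨n, hn⟩ := (IsPGroup.iff_card).1 hQp
  have hQD : Nat.card Q = Nat.card D := by
    obtain ⟨c, hc⟩ := hdvd
    have hc2 : c = 1 := by
      rcases Nat.lt_or_ge c 2 with h | h
      · rcases Nat.eq_zero_or_pos c with h0 | h0
        · rw [h0, mul_zero] at hc; exact absurd hc Nat.card_pos.ne'
        · omega
      · have := Nat.mul_le_mul_left (Nat.card Q) h
        omega
    rw [hc, hc2, mul_one]
  have hso : orderOf s = p := by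
    obtain ⟨r, hr⟩ := exists_prime_orderOf_dvd_card' (G := Q) p (by
      rw [hQD, hDcard, ← hDk]; exact dvd_pow_self p hd.ne')
    have hr1 : (r : G) ≠ 1 := fun h => by
      rw [← Subgroup.orderOf_coe, h, orderOf_one] at hr; exact hp.ne_one hr.symm
    obtain ⟨j, hj⟩ := htrans r r.2 hr1
    rw [← Subgroup.orderOf_coe, ← hj] at hr
    rw [← hr]
    exact (MulEquiv.orderOf_eq (MulAut.conj (x ^ j)) s).symm
  have hsmall : p = 2 ∧ Nat.card D ≤ 4 ∨ Nat.card D = p := by
    rcases hp23 with h2 | h3'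
    · exact Or.inl ⟨h2, by omega⟩
    · refine Or.inr ?_
      subst h3'
      have hlt : (3 : ℕ) ^ Cfsg.blockDefect 3 B < 3 ^ 2 := by norm_num; omega
      have := (Nat.pow_lt_pow_iff_right (by norm_num : 1 < 3)).1 hlt
      rw [hDcard, ← hDk, show Cfsg.blockDefect 3 B = 1 by omega, pow_one]
  have h2 := card_eq_two_of_transitive hM hl hD hsmall hQe hQD
    ((conjPair_eq_iff hM hQe.1.2 x).2 ⟨hxN, hst⟩) hsQ hso htrans
  omega

end Cfsg.Agent.BlockChar
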