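import Mathlib

/-!
# Direct summands of the regular module have dimension divisible by the order of a p-subgroup

For an idempotent `e` of `kG` in characteristic `p`, the left ideal `kG e` is projective, so free
over `kP` for a p-subgroup `P`; here this is seen through the norm element of `P`.
-/

set_option autoImplicit false

namespace Cfsg.Agent.BlockChar.SylowFree

open Module

universe u v w

variable {k : Type u} [Field k] {p : ℕ}

/-- In characteristic `p` a nonzero stable subspace of a representation of a p-group has a nonzero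
fixed vector. -/
theorem exists_fixed [Fact p.Prime] [CharP k p] {P : Type v} [Group P] [Fintype P]
    (hP : IsPGroup p P) {V : Type w} [AddCommGroup V] [Module k V] (act : P →* Module.End k V)
    {K : Submodule k V} (hK : ∀ u : P, ∀ x ∈ K, act u x ∈ K) {v : V} (hvK : v ∈ K) (hv : v ≠ 0) :
    ∃ w ∈ K, w ≠ 0 ∧ ∀ u, act u w = w := by
  classical
  have hp : p.Prime := Fact.out
  have hchar : ∀ x : V, (zmultiplesHom V x) (p : ℤ) = 0 := fun x => by
    rw [zmultiplesHom_apply, natCast_zsmul, ← Nat.cast_smul_eq_nsmul k, CharP.cast_eq_zero,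
      zero_smul]
  let ψ : (P → ZMod p) →+ V :=
    ∑ u : P, (ZMod.lift p ⟨zmultiplesHom V (act u v), hchar _⟩).comp
      (Pi.evalAddMonoidHom (fun _ : P => ZMod p) u)
  have hψ : ∀ n, ψ n = ∑ u : P, (n u).val • act u v := fun n => by
    simp only [ψ, AddMonoidHom.finsetSum_apply, AddMonoidHom.comp_apply]
    refine Finset.sum_congr rfl fun u _ => ?_
    show ZMod.lift p _ (n u) = _
    conv_lhs => rw [← ZMod.natCast_zmod_val (n u)]
    rw [← Int.cast_natCast (R := ZMod p), ZMod.lift_coe]
    exact natCast_zsmul _ _
  set S := ψ.range with hS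
  have hmem : ∀ u : P, ∀ x ∈ S, act u x ∈ S := by
    rintro u _ ⟨n, rfl⟩
    refine ⟨fun t => n (u⁻¹ * t), ?_⟩
    rw [hψ, hψ, map_sum]
    refine (Fintype.sum_equiv (Equiv.mulLeft u) _ _ fun t => ?_).symm
    simp [map_nsmul, map_mul]
  have hSK : ∀ x ∈ S, x ∈ K := by
    rintro _ ⟨n, rfl⟩
    rw [hψ]
    exact K.sum_mem fun u _ => K.toAddSubgroup.nsmul_mem (hK u v hvK) _
  have hvS : v ∈ S := by
    refine ⟨Pi.single 1 1, ?_⟩
    rw [hψ, Finset.sum_eq_single 1]
    · rw [Pi.single_eq_same, map_one]
      show (1 : ZMod p).val • v = v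
      rw [ZMod.val_one, one_smul]
    · intro t _ ht; simp [Pi.single_eq_of_ne ht]
    · simp
  have : Finite S := Set.Finite.to_subtype (Set.finite_range ψ)
  have hcard : p ∣ Nat.card S := by
    have h1 : Nat.card S ∣ Nat.card (P → ZMod p) :=
      AddSubgroup.card_dvd_of_surjective ψ.rangeRestrict ψ.rangeRestrict_surjective
    rw [Nat.card_fun, Nat.card_zmod] at h1
    obtain ⟨j, -, hj⟩ := (Nat.dvd_prime_pow hp).1 h1
    rw [hj]
    refine dvd_pow_self p fun h0 => hv ?_
    rw [h0, pow_zero, Nat.card_eq_one_iff_unique] at hj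
    exact congrArg Subtype.val (hj.1.elim ⟨v, hvS⟩ 0)
  letI : MulAction P S :=
    { smul := fun u x => ⟨act u x, hmem u x x.2⟩
      one_smul := fun x => Subtype.ext (by show act 1 (x : V) = x; rw [map_one]; rfl)
      mul_smul := fun a b x => Subtype.ext (by
        show act (a * b) (x : V) = act a (act b (x : V)); rw [map_mul]; rfl) }
  obtain ⟨b, hb, hb0⟩ := hP.exists_fixed_point_of_prime_dvd_card_of_fixed_point S hcard
    (a := 0) (fun u => Subtype.ext (map_zero (act u)))
  exact ⟨b, hSK b b.2, fun h => hb0 (Subtype.ext h.symm), fun u => congrArg Subtype.val (hb u)⟩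

variable {G : Type v} [Group G] [Fintype G]

/-- The order of a p-subgroup divides the dimension of a left ideal generated by an idempotent. -/
theorem card_dvd_finrank [Fact p.Prime] [CharP k p] (P : Subgroup G) (hP : IsPGroup p P)
    {e : MonoidAlgebra k G} (he : IsIdempotentElem e) :
    Nat.card P ∣ finrank k (LinearMap.range (LinearMap.mulRight k e)) := by
  classical
  set T := LinearMap.mulRight k e with hT
  set U : MonoidAlgebra k G := ∑ u : P, MonoidAlgebra.of k G (u : G) with hU
  set L := LinearMap.mulLeft k U with hL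
  have hUu : ∀ u : P, U * MonoidAlgebra.of k G (u : G) = U := fun u => by
    rw [hU, Finset.sum_mul]
    exact Fintype.sum_equiv (Equiv.mulRight u) _ _ fun t => by simp [MonoidAlgebra.of_apply]
  have hact : ∀ (W : Submodule k (MonoidAlgebra k G)),
      (∀ u : P, ∀ x ∈ W, MonoidAlgebra.of k G (u : G) * x ∈ W) →
        Nat.card P * finrank k (W.map L) ≤ finrank k W := by
    intro W hW
    let b := Module.finBasis k (W.map L)
    have hb : ∀ i, ∃ x ∈ W, L x = (b i : MonoidAlgebra k G) := fun i => (b i).2
    choose x hxW hx using hb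
    let Φ : (Fin (finrank k (W.map L)) → P → k) →ₗ[k] W :=
      { toFun := fun c => ⟨∑ i, ∑ u : P, c i u • (MonoidAlgebra.of k G (u : G) * x i),
          W.sum_mem fun i _ => W.sum_mem fun u _ => W.smul_mem _ (hW u _ (hxW i))⟩
        map_add' := fun c c' => Subtype.ext (by
          simp [add_smul, Finset.sum_add_distrib])
        map_smul' := fun r c => Subtype.ext (by simp [Finset.smul_sum, smul_smul]) }
    have hΦ : ∀ c, (Φ c : MonoidAlgebra k G) =
        ∑ i, ∑ u : P, c i u • (MonoidAlgebra.of k G (u : G) * x i) := fun c => rfl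
    let act : P →* Module.End k (Fin (finrank k (W.map L)) → P → k) :=
      { toFun := fun t => { toFun := fun c i u => c i (t⁻¹ * u)
                            map_add' := fun _ _ => rfl
                            map_smul' := fun _ _ => rfl }
        map_one' := by ext; simp
        map_mul' := fun s t => by ext; simp [mul_assoc] }
    have hinj : Function.Injective Φ := by
      rw [← LinearMap.ker_eq_bot]
      by_contra hne
      obtain ⟨c, hc, hc0⟩ := (Submodule.ne_bot_iff _).1 hne
      have hK : ∀ t : P, ∀ c ∈ LinearMap.ker Φ, act t c ∈ LinearMap.ker Φ := by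
        intro t c hc
        have hc' : (∑ i, ∑ u : P, c i u • (MonoidAlgebra.of k G (u : G) * x i)) = 0 := by
          rw [← hΦ, LinearMap.mem_ker.1 hc]; rfl
        refine LinearMap.mem_ker.2 (Subtype.ext ?_)
        rw [hΦ]
        have h := congrArg (MonoidAlgebra.of k G (t : G) * ·) hc'
        simp only [mul_zero, Finset.mul_sum, mul_smul_comm, ← mul_assoc, ← map_mul] at h
        refine (Finset.sum_congr rfl fun i _ => ?_).trans h
        refine (Fintype.sum_equiv (Equiv.mulLeft t) _ _ fun u => ?_).symm
        simp [act]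
      obtain ⟨w, hw, hw0, hfix⟩ := exists_fixed hP act hK hc hc0
      apply hw0
      have hconst : ∀ i u, w i u = w i 1 := fun i u => by
        have := congrFun (congrFun (hfix u⁻¹) i) 1
        simpa [act] using this
      have h := congrArg Subtype.val (LinearMap.mem_ker.1 hw)
      rw [hΦ] at h
      simp only [fun i u => hconst i u, ← Finset.smul_sum, ← Finset.sum_mul, ← hU,
        ZeroMemClass.coe_zero] at h
      have h' : ∑ i, w i 1 • b i = 0 := Subtype.ext (by
        simp only [AddSubmonoidClass.coe_finsetSum, SetLike.val_smul, ZeroMemClass.coe_zero, ← hx,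
          hL, LinearMap.mulLeft_apply]
        exact h)
      funext i u
      rw [hconst]
      exact Fintype.linearIndependent_iff.1 b.linearIndependent _ h' i
    have := LinearMap.finrank_le_finrank_of_injective hinj
    simpa [Module.finrank_pi_fintype, Fintype.card_fin, Nat.card_fin, ← Nat.card_eq_fintype_card,
      mul_comm] using this
  -- the two summands
  have hTT : ∀ x, T (T x) = T x := fun x => by simp [hT, mul_assoc, he.eq]
  have hproj : LinearMap.IsProj (LinearMap.range T) T :=
    ⟨fun x => ⟨x, rfl⟩, fun x ⟨y, hy⟩ => by rw [← hy, hTT]⟩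
  have hr := hact (LinearMap.range T) fun u x ⟨y, hy⟩ =>
    ⟨MonoidAlgebra.of k G (u : G) * y, by simp only [hT, LinearMap.mulRight_apply] at hy ⊢; rw [mul_assoc, hy]⟩
  have hk := hact (LinearMap.ker T) fun u x hx => by
    simp only [LinearMap.mem_ker, hT, LinearMap.mulRight_apply] at hx ⊢
    rw [mul_assoc, hx, mul_zero]
  have hsum : LinearMap.range L ≤
      (LinearMap.range T).map L ⊔ (LinearMap.ker T).map L := by
    rintro _ ⟨x, rfl⟩
    refine Submodule.mem_sup.2 ⟨L (T x), ⟨T x, ⟨x, rfl⟩, rfl⟩, L (x - T x), ⟨x - T x, ?_, rfl⟩, ?_⟩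
    · show x - T x ∈ LinearMap.ker T
      rw [LinearMap.mem_ker, map_sub, hTT, sub_self]
    · rw [← map_add, add_sub_cancel]
  have hrange : Fintype.card G ≤ Nat.card P * finrank k (LinearMap.range L) := by
    let Q := Quotient (QuotientGroup.rightRel P)
    have : Fintype Q := Fintype.ofFinite Q
    let F : Q → LinearMap.range L := fun q => ⟨_, MonoidAlgebra.of k G q.out, rfl⟩
    have hF : LinearIndependent k F := by
      refine Fintype.linearIndependent_iff.2 fun c hc q => ?_
      have h := congrArg (fun z : LinearMap.range L => (z : MonoidAlgebra k G).coeff q.out) hc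
      simp only [AddSubmonoidClass.coe_finsetSum, SetLike.val_smul, MonoidAlgebra.coeff_sum,
        Finsupp.finsetSum_apply, MonoidAlgebra.coeff_smul_apply, F, hL, LinearMap.mulLeft_apply,
        hU, Finset.sum_mul, MonoidAlgebra.of_apply, MonoidAlgebra.single_mul_single, mul_one,
        MonoidAlgebra.coeff_single_apply, smul_eq_mul, ZeroMemClass.coe_zero,
        MonoidAlgebra.coeff_zero, Finsupp.zero_apply] at h
      rw [Finset.sum_eq_single q] at h
      · rw [Finset.sum_eq_single (1 : P)] at h
        · simpa using h
        · intro u _ hu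
          rw [if_neg fun e => hu (Subtype.ext ?_)]
          simpa using e
        · simp
      · intro q' _ hq'
        rw [Finset.sum_eq_zero fun u _ => if_neg fun e => hq' ?_, mul_zero]
        rw [← Quotient.out_eq q', ← Quotient.out_eq q]
        refine Quotient.sound (QuotientGroup.rightRel_apply.2 ?_)
        rw [← e, mul_inv_cancel_right]
        exact u.2
      · simp
    have h1 := hF.fintype_card_le_finrank
    have h2 : Nat.card Q * Nat.card P = Nat.card G := by
      rw [Nat.card_congr (QuotientGroup.quotientRightRelEquivQuotientLeftRel P)]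
      exact (Subgroup.card_eq_card_quotient_mul_card_subgroup P).symm
    rw [← Nat.card_eq_fintype_card, ← h2, mul_comm]
    rw [← Nat.card_eq_fintype_card] at h1
    exact Nat.mul_le_mul_left _ h1
  have hdim : finrank k (MonoidAlgebra k G) = Fintype.card G :=
    Module.finrank_eq_card_basis (Finsupp.basisSingleOne.map
      (MonoidAlgebra.coeffLinearEquiv _).symm)
  have h1 := LinearMap.finrank_range_add_finrank_ker T
  have h2 := (Submodule.finrank_mono hsum).trans
    (Submodule.finrank_add_le_finrank_add_finrank _ _)
  have h3 := Nat.mul_le_mul_left (Nat.card P) h2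
  rw [Nat.mul_add] at h3
  exact ⟨finrank k ((LinearMap.range T).map L), by omega⟩

end Cfsg.Agent.BlockChar.SylowFree
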