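import Cfsg.Agent.BlockChar.Parity
import Cfsg.Agent.Char.Perm

/-!
# Complex conjugation on blocks
-/

namespace Cfsg.Agent.BlockChar

open scoped ComplexConjugate
open Cfsg.Agent Cfsg.Agent.Blocks

universe u

variable {G : Type u} [Group G] [Finite G] {p : ℕ} {M : Ideal Cfsg.AlgInt}

theorem conjIrr_eq_inv (χ : Cfsg.IrrCharacter G) (g : G) :
    (Char.conjIrr χ : G → ℂ) g = (χ : G → ℂ) g⁻¹ := by
  rw [Char.conjIrr_apply, Char.IsChar.inv_eq_conj (Char.IsIrr.isCharacter χ.2)]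

theorem centralChar_conjIrr (χ : Cfsg.IrrCharacter G) (g : G) :
    Cfsg.centralChar (Char.conjIrr χ : G → ℂ) g = Cfsg.centralChar (χ : G → ℂ) g⁻¹ := by
  rw [Cfsg.centralChar, Cfsg.centralChar, conjIrr_eq_inv, conjIrr_eq_inv, inv_one,
    index_centralizer_inv]

/-- A block containing a real character is stable under complex conjugation. -/
theorem conjIrr_mem_of_real (hM : Cfsg.IsPModular p M) {B : Set (Cfsg.IrrCharacter G)}
    (hB : Cfsg.IsPBlock M B) {χ : Cfsg.IrrCharacter G} (hχ : χ ∈ B) (hreal : Char.conjIrr χ = χ)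
    {ψ : Cfsg.IrrCharacter G} (hψ : ψ ∈ B) : Char.conjIrr ψ ∈ B := by
  refine IsPBlock.mem_of_sameBlock hM hB hχ fun g => ?_
  have h := IsPBlock.sameBlock hM hB hχ hψ g⁻¹
  rwa [← centralChar_conjIrr, hreal, ← centralChar_conjIrr] at h

/-- A 2-block with an odd degree character that is stable under conjugation is principal. -/
theorem eq_principalBlock_of_conj_stable (hM : Cfsg.IsPModular 2 M)
    {B : Set (Cfsg.IrrCharacter G)} (hB : Cfsg.IsPBlock M B) {χ : Cfsg.IrrCharacter G}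
    (hχ : χ ∈ B) (hodd : Odd (Cfsg.charDegree (χ : G → ℂ)))
    (hst : ∀ ψ ∈ B, Char.conjIrr ψ ∈ B) : B = Cfsg.principalBlock M G :=
  eq_principalBlock_of_perm hM hB hχ hodd Char.conjIrr hst
    (fun a _ b _ h => by rw [← Char.conjIrr_conjIrr a, h, Char.conjIrr_conjIrr])
    (fun ψ _ => by rw [conjIrr_eq_inv, inv_one]) (fun ψ _ g _ => conjIrr_eq_inv ψ g)

end Cfsg.Agent.BlockChar
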