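import Cfsg.Agent.BlockChar.Defect
import Cfsg.Agent.BlockChar.RegularSum

/-!
# The matrix `p ^ d [χ°, ψ°]` of a block

It is a symmetric integer matrix, `p ^ d` times a projection, congruent modulo `M` to a multiple
of the reduced degrees; for `ψ` of height zero its entry at `χ` has exponent of `p` exactly the
height of `χ`.  The Brauer-Feit bound follows.
-/

namespace Cfsg.Agent.BlockChar

open scoped ComplexConjugate
open Cfsg.Agent Cfsg.Agent.Blocks

universe u

variable {G : Type u} [Group G] [Fintype G] {p : ℕ} {M : Ideal Cfsg.AlgInt}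
  {B : Set (Cfsg.IrrCharacter G)}

/-- `conj ψ` on the p-regular elements, zero elsewhere -/
noncomputable def regConj (p : ℕ) (ψ : G → ℂ) : G → ℂ :=
  open Classical in fun w => if Cfsg.IsPRegular p w then conj (ψ w) else 0

omit [Fintype G] in
theorem isClassFunction_regConj {ψ : G → ℂ} (hψ : Cfsg.IsClassFunction G ψ) :
    Cfsg.IsClassFunction G (regConj p ψ) := by
  classical
  intro g k
  simp only [regConj, hψ g k]
  exact if_congr ⟨isPRegular_of_isConj (isConj_iff.2 ⟨k, rfl⟩ : IsConj g (k * g * k⁻¹)).symm,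
    isPRegular_of_isConj (isConj_iff.2 ⟨k, rfl⟩)⟩ rfl rfl

/-- `p ^ d [χ°, ψ°]` -/
noncomputable def regM (p : ℕ) (B : Set (Cfsg.IrrCharacter G)) (χ ψ : Cfsg.IrrCharacter G) : ℂ :=
  ((p ^ Cfsg.blockDefect p B : ℕ) : ℂ) / (Nat.card G : ℂ) *
    regSum p (fun w => (χ : G → ℂ) w * conj ((ψ : G → ℂ) w))

/-- the degree divided by `p ^ (a - d)` -/
noncomputable def redDeg (p : ℕ) (B : Set (Cfsg.IrrCharacter G)) (χ : Cfsg.IrrCharacter G) : ℕ :=
  Cfsg.charDegree (χ : G → ℂ) / p ^ minVal p B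

/-- The rows of `regM` reproduce `p ^ d χ` on the p-regular elements and vanish elsewhere. -/
theorem sum_regM_mul (hM : Cfsg.IsPModular p M) [DecidablePred (· ∈ B)] (hB : Cfsg.IsPBlock M B)
    {χ : Cfsg.IrrCharacter G} (hχ : χ ∈ B) (x : G) [Decidable (Cfsg.IsPRegular p x)] :
    ∑ ψ : Cfsg.IrrCharacter G, (if ψ ∈ B then regM p B χ ψ * (ψ : G → ℂ) x else 0) =
      if Cfsg.IsPRegular p x then ((p ^ Cfsg.blockDefect p B : ℕ) : ℂ) * (χ : G → ℂ) x else 0 := by
  classical
  set K : ℂ := ((p ^ Cfsg.blockDefect p B : ℕ) : ℂ) / (Nat.card G : ℂ) with hK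
  let S : G → ℂ := fun w => ∑ ψ : Cfsg.IrrCharacter G,
    if ψ ∈ B then (ψ : G → ℂ) x * conj ((ψ : G → ℂ) w) else 0
  have h1 : ∑ ψ : Cfsg.IrrCharacter G, (if ψ ∈ B then regM p B χ ψ * (ψ : G → ℂ) x else 0) =
      K * ∑ w : G, if Cfsg.IsPRegular p w then (χ : G → ℂ) w * S w else 0 := by
    simp only [S, regM, regSum, Finset.mul_sum, Finset.sum_mul]
    have hterm : ∀ ψ : Cfsg.IrrCharacter G,
        (if ψ ∈ B then ∑ w : G, K * (if Cfsg.IsPRegular p w then
          (χ : G → ℂ) w * conj ((ψ : G → ℂ) w) else 0) * (ψ : G → ℂ) x else 0) =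
        ∑ w : G, K * (if Cfsg.IsPRegular p w then (χ : G → ℂ) w *
          (if ψ ∈ B then (ψ : G → ℂ) x * conj ((ψ : G → ℂ) w) else 0) else 0) := by
      intro ψ
      split_ifs with h
      · refine Finset.sum_congr rfl fun w _ => ?_
        split_ifs <;> ring
      · simp
    rw [Finset.sum_congr rfl fun ψ _ => hterm ψ, Finset.sum_comm]
    refine Finset.sum_congr rfl fun w _ => ?_
    rw [← Finset.mul_sum]
    congr 1
    split_ifs
    · rfl
    · simp
  rw [h1]
  by_cases hx : Cfsg.IsPRegular p x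
  · rw [if_pos hx]
    have h2 : ∑ w : G, (if Cfsg.IsPRegular p w then (χ : G → ℂ) w * S w else 0) =
        ∑ w : G, (χ : G → ℂ) w * S w := by
      refine Finset.sum_congr rfl fun w _ => ?_
      split_ifs with hw
      · rfl
      · simp only [S]
        rw [sum_block_eq_zero hM hB hx hw, mul_zero]
    rw [h2]
    have h3 : ∑ w : G, (χ : G → ℂ) w * S w = (Nat.card G : ℂ) * (χ : G → ℂ) x := by
      simp only [S, Finset.mul_sum]
      rw [Finset.sum_comm, Finset.sum_eq_single χ]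
      · simp only [if_pos hχ]
        have := (Char.classInner_irrChar χ χ).trans (if_pos rfl)
        rw [Cfsg.classInner, inv_mul_eq_iff_eq_mul₀ (Nat.cast_ne_zero.2 Nat.card_pos.ne'), mul_one,
          Nat.card_eq_fintype_card] at this
        rw [Nat.card_eq_fintype_card, ← this, Finset.sum_mul]
        exact Finset.sum_congr rfl fun w _ => by ring
      · intro ψ _ hψ
        have h0 := (Char.classInner_irrChar χ ψ).trans (if_neg (Ne.symm hψ))
        rw [Cfsg.classInner, mul_eq_zero, inv_eq_zero] at h0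
        split_ifs with h
        · rw [Finset.sum_congr rfl (g := fun w : G =>
            ((χ : G → ℂ) w * conj ((ψ : G → ℂ) w)) * (ψ : G → ℂ) x) (fun w _ => by ring),
            ← Finset.sum_mul, h0.resolve_left (Nat.cast_ne_zero.2 Nat.card_pos.ne'), zero_mul]
        · simp
      · simp
    rw [h3, hK, ← mul_assoc, div_mul_cancel₀ _ (Nat.cast_ne_zero.2 Nat.card_pos.ne')]
  · rw [if_neg hx, Finset.sum_eq_zero, mul_zero]
    intro w _
    split_ifs with hw
    · refine mul_eq_zero_of_right _ ?_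
      exact sum_block_eq_zero' hM hB hw hx
    · rfl

theorem exists_int_regSum_mul (hM : Cfsg.IsPModular p M) (χ ψ : Cfsg.IrrCharacter G) :
    ∃ k : ℤ, regSum p (fun w => (χ : G → ℂ) w * conj ((ψ : G → ℂ) w)) =
      ((Nat.card G / p ^ (Nat.card G).factorization p : ℕ) : ℂ) * (k : ℂ) :=
  exists_int_regSum hM.1 (Char.isCharacter_mul (Char.IsIrr.isCharacter χ.2)
    (Char.isCharacter_conj (Char.IsIrr.isCharacter ψ.2)))

theorem regSum_eq_omega {χ : G → ℂ} (hχ : Cfsg.IsIrrCharacter G χ) (ψ : G → ℂ) :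
    regSum p (fun w => χ w * conj (ψ w)) = χ 1 * omega χ (regConj p ψ) := by
  classical
  rw [omega, mul_div_cancel₀ _ (Char.IsIrr.one_ne_zero hχ), regSum]
  refine Finset.sum_congr rfl fun w _ => ?_
  simp only [regConj]
  split_ifs <;> ring

theorem isIntegral_omega_regConj (χ ψ : Cfsg.IrrCharacter G) :
    IsIntegral ℤ (omega (χ : G → ℂ) (regConj p (ψ : G → ℂ))) := by
  classical
  have : Finite (ConjClasses G) := Quotient.finite _
  letI := Fintype.ofFinite (ConjClasses G)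
  rw [omega_eq_sum_classes (Char.isClassFunction_of_isIrr χ.2)
    (isClassFunction_regConj (Char.isClassFunction_of_isIrr ψ.2))]
  refine IsIntegral.sum _ fun C _ => IsIntegral.mul ?_ (isIntegral_centralChar χ.2 _)
  simp only [regConj]
  split_ifs
  · exact Char.IsChar.isIntegral (Char.isCharacter_conj (Char.IsIrr.isCharacter ψ.2)) _
  · exact isIntegral_zero

theorem regConj_memLocalRing (hM : Cfsg.IsPModular p M) (ψ : Cfsg.IrrCharacter G) (w : G) :
    Cfsg.MemLocalRing M (regConj p (ψ : G → ℂ) w) := by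
  simp only [regConj]
  split_ifs
  · exact memLocalRing_char hM (Char.isCharacter_conj (Char.IsIrr.isCharacter ψ.2)) w
  · exact (localRing hM).zero_mem

theorem redDeg_mul (hp : p.Prime) {χ : Cfsg.IrrCharacter G} (hχ : χ ∈ B) :
    Cfsg.charDegree (χ : G → ℂ) = p ^ minVal p B * redDeg p B χ ∧
      (redDeg p B χ).factorization p = Cfsg.blockHeight p B (χ : G → ℂ) ∧ 0 < redDeg p B χ := by
  have h1 := (Nat.mul_div_cancel' (pow_minVal_dvd (p := p) hχ)).symm
  have hpos : 0 < redDeg p B χ := Nat.pos_of_ne_zero fun e => by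
    rw [redDeg] at e
    rw [e, mul_zero] at h1
    exact (CharArith.irr_degree_spec χ).2.ne' h1
  refine ⟨h1, ?_, hpos⟩
  rw [blockHeight_eq, redDeg, Nat.factorization_div (pow_minVal_dvd hχ), Finsupp.tsub_apply,
    hp.factorization_pow, Finsupp.single_eq_same]

/-- `m₀ * regM χ ψ = b_χ * W` -/
theorem regM_eq (hp : p.Prime) {χ : Cfsg.IrrCharacter G} (hχ : χ ∈ B) (ψ : Cfsg.IrrCharacter G) :
    ((Nat.card G / p ^ (Nat.card G).factorization p : ℕ) : ℂ) * regM p B χ ψ =
      (redDeg p B χ : ℂ) * omega (χ : G → ℂ) (regConj p (ψ : G → ℂ)) := by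
  rw [regM, regSum_eq_omega χ.2, (CharArith.irr_degree_spec χ).1, (redDeg_mul hp hχ).1]
  set a := (Nat.card G).factorization p with ha
  set m := Nat.card G / p ^ a
  have hd : Cfsg.blockDefect p B + minVal p B = a := by
    have h1 := (minVal_le (p := p) hχ).trans (degree_val_le χ)
    rw [blockDefect_eq, ← ha]
    omega
  have hG : (Nat.card G : ℂ) = (p : ℂ) ^ a * (m : ℂ) := by
    exact_mod_cast (Nat.ordProj_mul_ordCompl_eq_self (Nat.card G) p).symm
  have hm : (m : ℂ) ≠ 0 := Nat.cast_ne_zero.2 (Nat.ordCompl_pos p Nat.card_pos.ne').ne'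
  have hp0 : (p : ℂ) ≠ 0 := Nat.cast_ne_zero.2 hp.ne_zero
  rw [hG, ← hd]
  push_cast
  field_simp
  ring

/-- The entries are integers. -/
theorem exists_int_regM (hM : Cfsg.IsPModular p M) {χ : Cfsg.IrrCharacter G} (hχ : χ ∈ B)
    (ψ : Cfsg.IrrCharacter G) : ∃ k : ℤ, regM p B χ ψ = (k : ℂ) := by
  obtain ⟨k', hk'⟩ := exists_int_regSum_mul hM χ ψ
  have he := regM_eq hM.1 hχ ψ
  set a := (Nat.card G).factorization p with ha
  set m := Nat.card G / p ^ a with hm
  have hd : Cfsg.blockDefect p B + minVal p B = a := by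
    have h1 := (minVal_le (p := p) hχ).trans (degree_val_le χ)
    rw [blockDefect_eq, ← ha]
    omega
  have hm0 : (m : ℂ) ≠ 0 := Nat.cast_ne_zero.2 (Nat.ordCompl_pos p Nat.card_pos.ne').ne'
  have hG : (Nat.card G : ℂ) = (p : ℂ) ^ a * (m : ℂ) := by
    exact_mod_cast (Nat.ordProj_mul_ordCompl_eq_self (Nat.card G) p).symm
  have hp0 : (p : ℂ) ≠ 0 := Nat.cast_ne_zero.2 hM.1.ne_zero
  have hMe : (p : ℂ) ^ minVal p B * regM p B χ ψ = (k' : ℂ) := by
    rw [regM, hk', hG, ← hd]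
    push_cast
    field_simp
    ring
  have hint : IsIntegral ℤ ((m : ℂ) * regM p B χ ψ) :=
    he ▸ (Blocks.isIntegral_natCast _).mul (isIntegral_omega_regConj χ ψ)
  have hrat : (m : ℂ) * regM p B χ ψ = (((m : ℚ) * k' / (p : ℚ) ^ minVal p B : ℚ) : ℂ) := by
    push_cast
    rw [eq_div_iff (pow_ne_zero _ hp0), ← hMe]
    ring
  obtain ⟨n, hn⟩ := Blocks.exists_int_of_isIntegral_rat hint _ hrat
  have hdvd : (p : ℤ) ^ minVal p B ∣ (m : ℤ) * k' := by
    refine ⟨n, ?_⟩
    have : ((m : ℂ) * k') = (p : ℂ) ^ minVal p B * n := by rw [← hn, ← hMe]; ring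
    exact_mod_cast this
  have hco : IsCoprime ((p : ℤ) ^ minVal p B) (m : ℤ) :=
    (Int.isCoprime_iff_gcd_eq_one.2 (by
      rw [Int.gcd_natCast_natCast]; exact Nat.coprime_ordCompl hM.1 Nat.card_pos.ne')).pow_left
  obtain ⟨k, hk⟩ := hco.dvd_of_dvd_mul_left hdvd
  refine ⟨k, mul_left_cancel₀ (pow_ne_zero (minVal p B) hp0) ?_⟩
  rw [hMe, hk]
  push_cast
  rfl

theorem regM_comm (hM : Cfsg.IsPModular p M) (χ ψ : Cfsg.IrrCharacter G) :
    regM p B ψ χ = regM p B χ ψ := by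
  obtain ⟨k, hk⟩ := exists_int_regSum_mul hM χ ψ
  have : regSum p (fun w => (ψ : G → ℂ) w * conj ((χ : G → ℂ) w)) =
      conj (regSum p (fun w => (χ : G → ℂ) w * conj ((ψ : G → ℂ) w))) := by
    simp only [regSum, map_sum]
    refine Finset.sum_congr rfl fun w _ => ?_
    split_ifs <;> simp [mul_comm]
  rw [regM, regM, this, hk]
  simp

/-- `m₀ * m = b * W`, read modulo `M`: an entry lies in the ideal iff `b` or `W` does. -/
theorem regM_memLocalIdeal_iff (hM : Cfsg.IsPModular p M) {χ : Cfsg.IrrCharacter G} (hχ : χ ∈ B)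
    (ψ : Cfsg.IrrCharacter G) :
    Cfsg.MemLocalIdeal M (regM p B χ ψ) ↔ p ∣ redDeg p B χ ∨
      Cfsg.MemLocalIdeal M (omega (χ : G → ℂ) (regConj p (ψ : G → ℂ))) := by
  obtain ⟨k, hk⟩ := exists_int_regM hM hχ ψ
  have hm : ¬ p ∣ Nat.card G / p ^ (Nat.card G).factorization p :=
    Nat.not_dvd_ordCompl hM.1 Nat.card_pos.ne'
  have hW := memLocalRing_of_isIntegral hM (isIntegral_omega_regConj (p := p) χ ψ)
  have e := regM_eq hM.1 hχ ψ
  constructor
  · intro h
    have h' := memLocalIdeal_mul_left hM (memLocalRing_natCast hM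
      (Nat.card G / p ^ (Nat.card G).factorization p)) h
    rw [e] at h'
    exact (memLocalIdeal_of_mul hM (memLocalRing_natCast hM _) hW h').imp_left
      (memLocalIdeal_natCast_iff hM _).1
  · intro h
    have h' : Cfsg.MemLocalIdeal M
        ((redDeg p B χ : ℂ) * omega (χ : G → ℂ) (regConj p (ψ : G → ℂ))) :=
      h.elim (fun h => memLocalIdeal_mul_right hM ((memLocalIdeal_natCast_iff hM _).2 h) hW)
        (fun h => memLocalIdeal_mul_left hM (memLocalRing_natCast hM _) h)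
    rw [← e] at h'
    exact (memLocalIdeal_of_mul hM (memLocalRing_natCast hM _)
      (hk ▸ memLocalRing_of_isIntegral hM (Blocks.isIntegral_intCast k)) h').resolve_left
      (mt (memLocalIdeal_natCast_iff hM _).1 hm)

theorem omega_regConj_congr (hM : Cfsg.IsPModular p M) (hB : Cfsg.IsPBlock M B)
    {χ χ' : Cfsg.IrrCharacter G} (hχ : χ ∈ B) (hχ' : χ' ∈ B) (ψ : Cfsg.IrrCharacter G)
    (h : Cfsg.MemLocalIdeal M (omega (χ : G → ℂ) (regConj p (ψ : G → ℂ)))) :
    Cfsg.MemLocalIdeal M (omega (χ' : G → ℂ) (regConj p (ψ : G → ℂ))) := by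
  have h1 := memLocalIdeal_omega_sub hM χ'.2 χ.2
    (isClassFunction_regConj (Char.isClassFunction_of_isIrr ψ.2))
    (regConj_memLocalRing hM ψ) (IsPBlock.sameBlock hM hB hχ' hχ)
  simpa using memLocalIdeal_add hM h1 h

/-- A row at a character of height zero is not zero modulo `M`. -/
theorem exists_unit_entry (hM : Cfsg.IsPModular p M) (hB : Cfsg.IsPBlock M B)
    {χ : Cfsg.IrrCharacter G} (hχ : χ ∈ B) (hh : Cfsg.blockHeight p B (χ : G → ℂ) = 0) :
    ∃ ψ ∈ B, ¬ Cfsg.MemLocalIdeal M (regM p B χ ψ) := by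
  classical
  haveI := Fact.mk hM.1
  obtain ⟨g, hg⟩ := exists_isDefectClass hM hB
  obtain ⟨hc, hreg⟩ := factorization_centralizer_eq hM hB hg
  set H := Subgroup.centralizer ({g} : Set G) with hH
  let P : Sylow p H := default
  let D : Subgroup G := (P : Subgroup H).map H.subtype
  have hDcard : Nat.card D = p ^ Cfsg.blockDefect p B := by
    rw [← hc, ← Nat.card_congr ((P : Subgroup H).equivMapOfInjective H.subtype
      H.subtype_injective).toEquiv]
    exact P.card_eq_multiplicity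
  have hDg : ∀ u ∈ D, Commute g u := fun u hu => by
    obtain ⟨v, -, rfl⟩ := Subgroup.mem_map.1 hu
    exact (Subgroup.mem_centralizer_iff.1 v.2) g rfl
  by_contra hne
  simp only [not_exists, not_and, not_not] at hne
  have hsing : ∀ u : D, u ≠ 1 → ¬ Cfsg.IsPRegular p (g * (u : G)) := by
    intro u hu
    obtain ⟨k, hk⟩ := IsPGroup.iff_orderOf.1 (P.2.map H.subtype) u
    have hk0 : k ≠ 0 := by
      rintro rfl
      exact hu (orderOf_eq_one_iff.1 (by simpa using hk))
    have hk' : orderOf (u : G) = p ^ k := by rw [Subgroup.orderOf_coe]; exact hk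
    intro hr
    refine hr ?_
    rw [(hDg u u.2).orderOf_mul_eq_mul_orderOf_of_coprime (by
      rw [hk']; exact ((hM.1.coprime_iff_not_dvd.2 hreg).pow_left k).symm), hk']
    exact Dvd.dvd.mul_left (dvd_pow_self p hk0) _
  let z : Cfsg.IrrCharacter G → ℂ := fun ψ =>
    (Nat.card D : ℂ)⁻¹ * ∑ u : D, (ψ : G → ℂ) (g * (u : G))
  have key : ∑ ψ : Cfsg.IrrCharacter G, (if ψ ∈ B then regM p B χ ψ * z ψ else 0) =
      (χ : G → ℂ) g := by
    have h1 : ∑ ψ : Cfsg.IrrCharacter G, (if ψ ∈ B then regM p B χ ψ * z ψ else 0) =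
        (Nat.card D : ℂ)⁻¹ * ∑ u : D, ∑ ψ : Cfsg.IrrCharacter G,
          (if ψ ∈ B then regM p B χ ψ * (ψ : G → ℂ) (g * (u : G)) else 0) := by
      rw [Finset.sum_comm, Finset.mul_sum]
      refine Finset.sum_congr rfl fun ψ _ => ?_
      simp only [z]
      split_ifs
      · simp only [Finset.mul_sum]
        exact Finset.sum_congr rfl fun u _ => by ring
      · simp
    rw [h1]
    simp only [sum_regM_mul hM hB hχ]
    rw [Finset.sum_eq_single (1 : D)]
    · rw [Subgroup.coe_one, mul_one, if_pos hreg, hDcard, ← mul_assoc, inv_mul_cancel₀, one_mul]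
      exact Nat.cast_ne_zero.2 (pow_ne_zero _ hM.1.ne_zero)
    · exact fun u _ hu => if_neg (hsing u hu)
    · simp
  have hgmem : Cfsg.MemLocalIdeal M ((χ : G → ℂ) g) := by
    rw [← key]
    refine memLocalIdeal_sum hM _ fun ψ _ => ?_
    split_ifs with h
    · exact memLocalIdeal_mul_right hM (hne ψ h) (memLocalRing_of_isIntegral hM
        (isIntegral_mean_centralized (Char.IsIrr.isCharacter ψ.2) g D hDg))
    · exact memLocalIdeal_zero hM
  -- hence the central character at the defect class is in the ideal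
  refine hg.2.2 χ hχ ?_
  obtain ⟨hdeg, hv, hb0⟩ := redDeg_mul (B := B) hM.1 hχ
  have hnb : ¬ p ∣ redDeg p B χ := fun hd => by
    have := Nat.Prime.factorization_pos_of_dvd hM.1 hb0.ne' hd
    omega
  have hidx : p ^ minVal p B ∣ H.index := by
    have e := congrArg (fun n => n.factorization p) (Subgroup.index_mul_card H)
    rw [Nat.factorization_mul Subgroup.index_ne_zero_of_finite Nat.card_pos.ne'] at e
    simp only [Finsupp.coe_add, Pi.add_apply] at e
    rw [hc, blockDefect_eq] at e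
    have h3 := (minVal_le (p := p) hχ).trans (degree_val_le χ)
    exact (Nat.pow_dvd_pow p (by omega)).trans (Nat.ordProj_dvd H.index p)
  obtain ⟨t, ht⟩ := hidx
  have e : Cfsg.centralChar (χ : G → ℂ) g =
      (χ : G → ℂ) g * ((t : ℂ) * (redDeg p B χ : ℂ)⁻¹) := by
    have hp0 : (p : ℂ) ≠ 0 := Nat.cast_ne_zero.2 hM.1.ne_zero
    have hb : (redDeg p B χ : ℂ) ≠ 0 := Nat.cast_ne_zero.2 hb0.ne'
    rw [Cfsg.centralChar, ← hH, (CharArith.irr_degree_spec χ).1, hdeg, ht]
    push_cast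
    field_simp
  rw [e]
  exact memLocalIdeal_mul_right hM hgmem
    ((localRing hM).mul_mem (memLocalRing_natCast hM t) (memLocalRing_natCast_inv hM hnb))

omit [Fintype G] in
theorem not_dvd_redDeg_iff [Finite G] (hp : p.Prime) {χ : Cfsg.IrrCharacter G} (hχ : χ ∈ B) :
    ¬ p ∣ redDeg p B χ ↔ Cfsg.blockHeight p B (χ : G → ℂ) = 0 := by
  have := Fintype.ofFinite G
  obtain ⟨-, hv, hb⟩ := redDeg_mul (B := B) hp hχ
  rw [← hv, Nat.factorization_eq_zero_iff]
  simp [hp, hb.ne']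

/-- At a column of height zero the central part is a unit for every row. -/
theorem not_memLocalIdeal_omega_regConj (hM : Cfsg.IsPModular p M) (hB : Cfsg.IsPBlock M B)
    {χ ψ : Cfsg.IrrCharacter G} (hχ : χ ∈ B) (hψ : ψ ∈ B)
    (hh : Cfsg.blockHeight p B (ψ : G → ℂ) = 0) :
    ¬ Cfsg.MemLocalIdeal M (omega (χ : G → ℂ) (regConj p (ψ : G → ℂ))) := by
  obtain ⟨φ, hφ, hφu⟩ := exists_unit_entry hM hB hψ hh
  rw [← regM_comm hM, regM_memLocalIdeal_iff hM hφ, not_or] at hφu
  exact fun h => hφu.2 (omega_regConj_congr hM hB hχ hφ ψ h)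

/-- The entry at a height zero column has exponent of `p` exactly the height of the row. -/
theorem le_sq_regM (hM : Cfsg.IsPModular p M) (hB : Cfsg.IsPBlock M B)
    {χ ψ : Cfsg.IrrCharacter G} (hχ : χ ∈ B) (hψ : ψ ∈ B)
    (hh : Cfsg.blockHeight p B (ψ : G → ℂ) = 0) {k : ℤ} (hk : regM p B χ ψ = (k : ℂ)) :
    ((p ^ (2 * Cfsg.blockHeight p B (χ : G → ℂ)) : ℕ) : ℤ) ≤ k ^ 2 := by
  set W := omega (χ : G → ℂ) (regConj p (ψ : G → ℂ)) with hW
  have hWu := not_memLocalIdeal_omega_regConj hM hB hχ hψ hh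
  set m := Nat.card G / p ^ (Nat.card G).factorization p with hm
  obtain ⟨-, hv, hb0⟩ := redDeg_mul (B := B) hM.1 hχ
  set ht := Cfsg.blockHeight p B (χ : G → ℂ)
  have hdvd : p ^ ht ∣ redDeg p B χ := hv ▸ Nat.ordProj_dvd _ _
  have e := regM_eq hM.1 hχ ψ
  rw [hk, ← hm, ← hW] at e
  have hk0 : k ≠ 0 := by
    rintro rfl
    rw [Int.cast_zero, mul_zero, eq_comm, mul_eq_zero, Nat.cast_eq_zero] at e
    refine e.elim hb0.ne' fun h => hWu ?_
    rw [← hW, h]
    exact memLocalIdeal_zero hM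
  obtain ⟨b', hb'⟩ := hdvd
  rw [hb'] at e
  have hd : (p : ℤ) ^ ht ∣ (m : ℤ) * k := by
    have hp0 : (p : ℂ) ≠ 0 := Nat.cast_ne_zero.2 hM.1.ne_zero
    have h2 : IsIntegral ℤ ((((m : ℚ) * k / (p : ℚ) ^ ht : ℚ)) : ℂ) := by
      have : ((((m : ℚ) * k / (p : ℚ) ^ ht : ℚ)) : ℂ) = (b' : ℂ) * W := by
        push_cast
        rw [div_eq_iff (pow_ne_zero _ hp0)]
        push_cast at e
        linear_combination e
      rw [this]
      exact (Blocks.isIntegral_natCast _).mul (isIntegral_omega_regConj χ ψ)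
    obtain ⟨n, hn⟩ := Char.exists_int_of_isIntegral_rat h2
    refine ⟨n, ?_⟩
    have hp0' : (p : ℚ) ≠ 0 := Nat.cast_ne_zero.2 hM.1.ne_zero
    have : ((m : ℚ) * k) = (p : ℚ) ^ ht * n := by
      rw [hn]; field_simp
    exact_mod_cast this
  have hco : IsCoprime ((p : ℤ) ^ ht) (m : ℤ) :=
    (Int.isCoprime_iff_gcd_eq_one.2 (by
      rw [Int.gcd_natCast_natCast]; exact Nat.coprime_ordCompl hM.1 Nat.card_pos.ne')).pow_left
  have h3 := Int.le_of_dvd (pow_pos (abs_pos.2 hk0) 2)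
    (pow_dvd_pow_of_dvd ((dvd_abs _ _).2 (hco.dvd_of_dvd_mul_left hd)) 2)
  rw [sq_abs] at h3
  rw [Nat.mul_comm 2 ht, pow_mul]
  exact_mod_cast h3

/-- `M ^ 2 = p ^ d M` on the diagonal. -/
theorem sum_regM_mul_self (hM : Cfsg.IsPModular p M) [DecidablePred (· ∈ B)]
    (hB : Cfsg.IsPBlock M B) {ψ : Cfsg.IrrCharacter G} (hψ : ψ ∈ B) :
    ((p ^ Cfsg.blockDefect p B : ℕ) : ℂ) * regM p B ψ ψ =
      ∑ χ : Cfsg.IrrCharacter G, if χ ∈ B then regM p B ψ χ * regM p B χ ψ else 0 := by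
  classical
  have h1 : ∀ w : G, (if Cfsg.IsPRegular p w then ((p ^ Cfsg.blockDefect p B : ℕ) : ℂ) *
        ((ψ : G → ℂ) w * conj ((ψ : G → ℂ) w)) else 0) =
      ∑ χ : Cfsg.IrrCharacter G, if χ ∈ B then regM p B ψ χ *
        (if Cfsg.IsPRegular p w then (χ : G → ℂ) w * conj ((ψ : G → ℂ) w) else 0) else 0 := by
    intro w
    by_cases hw : Cfsg.IsPRegular p w
    · simp only [if_pos hw]
      rw [← mul_assoc]
      have := sum_regM_mul hM hB hψ w
      rw [if_pos hw] at this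
      rw [← this, Finset.sum_mul]
      refine Finset.sum_congr rfl fun χ _ => ?_
      split_ifs <;> ring
    · simp [if_neg hw]
  have h2 : ((p ^ Cfsg.blockDefect p B : ℕ) : ℂ) * regM p B ψ ψ =
      ∑ χ : Cfsg.IrrCharacter G, if χ ∈ B then regM p B ψ χ * regM p B χ ψ else 0 := by
    set P' : ℂ := ((p ^ Cfsg.blockDefect p B : ℕ) : ℂ) with hP'
    set K : ℂ := P' / (Nat.card G : ℂ) with hK
    have e0 : ∀ φ : Cfsg.IrrCharacter G, regM p B φ ψ =
        K * ∑ w : G, if Cfsg.IsPRegular p w then (φ : G → ℂ) w * conj ((ψ : G → ℂ) w) else 0 := by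
      intro φ
      rw [regM, regSum]
    rw [e0 ψ, mul_left_comm, Finset.mul_sum]
    simp only [mul_ite, mul_zero, h1]
    rw [Finset.sum_comm, Finset.mul_sum]
    refine Finset.sum_congr rfl fun χ _ => ?_
    split_ifs
    · rw [e0 χ, mul_left_comm (regM p B ψ χ), Finset.mul_sum (a := regM p B ψ χ)]
      congr 1
      exact Finset.sum_congr rfl fun w _ => by split_ifs <;> ring
    · simp
  exact h2

omit [Fintype G] in
/-- The Brauer-Feit inequality. -/
theorem brauer_feit [Finite G] (hM : Cfsg.IsPModular p M) (hB : Cfsg.IsPBlock M B)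
    [DecidablePred (· ∈ B)] :
    4 * ∑ χ : Cfsg.IrrCharacter G, (if χ ∈ B then p ^ (2 * Cfsg.blockHeight p B (χ : G → ℂ)) else 0)
      ≤ p ^ (2 * Cfsg.blockDefect p B) + 4 := by
  classical
  have := Fintype.ofFinite G
  obtain ⟨ψ, hψ, hψh⟩ := exists_height_zero (p := p) (IsPBlock.nonempty hM hB)
  have hh : Cfsg.blockHeight p B (ψ : G → ℂ) = 0 := by rw [blockHeight_eq, hψh, Nat.sub_self]
  have hk : ∀ χ : Cfsg.IrrCharacter G, ∃ k : ℤ, χ ∈ B → regM p B χ ψ = (k : ℂ) := fun χ => by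
    by_cases h : χ ∈ B
    · obtain ⟨k, hk⟩ := exists_int_regM hM h ψ
      exact ⟨k, fun _ => hk⟩
    · exact ⟨0, fun h' => absurd h' h⟩
  choose k hk using hk
  set P : ℤ := ((p ^ Cfsg.blockDefect p B : ℕ) : ℤ) with hP
  have hid : (∑ χ : Cfsg.IrrCharacter G, if χ ∈ B then k χ ^ 2 else 0) = P * k ψ := by
    -- apply the row identity and integrate against `conj ψ` over the p-regular elements
    apply Int.cast_injective (α := ℂ)
    push_cast
    rw [← hk ψ hψ, hP, Int.cast_natCast, sum_regM_mul_self hM hB hψ]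
    refine Finset.sum_congr rfl fun χ _ => ?_
    split_ifs with h
    · rw [regM_comm hM χ ψ, hk χ h]
      push_cast
      ring
    · simp
  set T : ℕ := ∑ χ ∈ Finset.univ.erase ψ,
    if χ ∈ B then p ^ (2 * Cfsg.blockHeight p B (χ : G → ℂ)) else 0 with hT
  have hS : ∑ χ : Cfsg.IrrCharacter G, (if χ ∈ B then p ^ (2 * Cfsg.blockHeight p B (χ : G → ℂ))
      else 0) = T + 1 := by
    rw [← Finset.sum_erase_add _ _ (Finset.mem_univ ψ), if_pos hψ, hh, ← hT]
    simp
  have hTle : (T : ℤ) + k ψ ^ 2 ≤ P * k ψ := by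
    rw [← hid, ← Finset.sum_erase_add _ _ (Finset.mem_univ ψ), if_pos hψ, hT, Nat.cast_sum]
    refine add_le_add (Finset.sum_le_sum fun χ _ => ?_) le_rfl
    split_ifs with h
    · exact le_sq_regM hM hB h hψ hh (hk χ h)
    · simp
  rw [hS]
  have h4 : ((4 * (T + 1) : ℕ) : ℤ) ≤ ((p ^ (2 * Cfsg.blockDefect p B) + 4 : ℕ) : ℤ) := by
    have hPP : ((p ^ (2 * Cfsg.blockDefect p B) : ℕ) : ℤ) = P ^ 2 := by
      rw [hP]; push_cast; rw [← pow_mul, Nat.mul_comm]
    rw [Nat.cast_add (R := ℤ) _ 4, hPP]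
    push_cast
    nlinarith [sq_nonneg (P - 2 * k ψ)]
  exact_mod_cast h4

end Cfsg.Agent.BlockChar
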