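import Cfsg.Agent.BrauerPairs.FirstMain
import Cfsg.Agent.BlockChar.RegInner
import Cfsg.Agent.Blocks.SectionVanish

/-!
# The part of a height zero character in a major subsection

For a `p`-element `y` and a block `b` of its centralizer inducing `B` with the same defect, the
degree of the `b`-part of the restriction of a height zero character of `B` has the least possible
exponent of `p`.
-/

namespace Cfsg.Agent.BlockChar

open scoped ComplexConjugate
open Cfsg.Agent Cfsg.Agent.Blocks Cfsg.Agent.BrauerPairs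

universe u

variable {G : Type u} [Group G] [Fintype G] {p : ℕ} {M : Ideal Cfsg.AlgInt}
  {B : Set (Cfsg.IrrCharacter G)}

local notation "CG[" Q "]" => Subgroup.centralizer (SetLike.coe Q)
local notation "sbc" => Cfsg.subgroupBlockCoeff

/-- convolution with a block idempotent projects to the block -/
theorem omega_conv_blockCoeff {K : Type u} [Group K] [Fintype K] (A : Set (Cfsg.IrrCharacter K))
    [DecidablePred (· ∈ A)] {f : K → ℂ} (hf : Cfsg.IsClassFunction K f)
    (ψ : Cfsg.IrrCharacter K) :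
    omega (ψ : K → ℂ) (conv (Cfsg.blockCoeff A) f) =
      if ψ ∈ A then omega (ψ : K → ℂ) f else 0 := by
  rw [omega_conv ψ.2 (isClassFunction_blockCoeff A) hf, omega_blockCoeff]
  split_ifs <;> simp

/-- the coefficient function of a character's conjugate -/
theorem omega_conj_char {K : Type u} [Group K] [Fintype K] (ψ φ : Cfsg.IrrCharacter K)
    [Decidable (ψ = φ)] :
    omega (ψ : K → ℂ) (fun g => conj ((φ : K → ℂ) g)) =
      if ψ = φ then (Nat.card K : ℂ) / (ψ : K → ℂ) 1 else 0 := by
  classical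
  rw [omega, sum_conj_mul_eq φ ψ]
  split_ifs <;> simp

theorem isClassFunction_conj_char {K : Type u} [Group K] (φ : Cfsg.IrrCharacter K) :
    Cfsg.IsClassFunction K (fun g => conj ((φ : K → ℂ) g)) := fun g k => by
  show conj ((φ : K → ℂ) _) = _
  rw [Char.isClassFunction_of_isIrr φ.2 g k]

theorem conj_apply_eq_inv {K : Type u} [Group K] [Finite K] (φ : Cfsg.IrrCharacter K) (g : K) :
    conj ((φ : K → ℂ) g) = (φ : K → ℂ) g⁻¹ :=
  (Char.IsChar.inv_eq_conj (Char.IsIrr.isCharacter φ.2) g).symm

/-- a block idempotent fixes the conjugate of a member -/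
theorem conv_blockCoeff_conj_char {χ : Cfsg.IrrCharacter G} (hχ : χ ∈ B) :
    conv (Cfsg.blockCoeff B) (fun g => conj ((χ : G → ℂ) g)) = fun g => conj ((χ : G → ℂ) g) := by
  classical
  refine classFun_ext_omega (isClassFunction_conv (isClassFunction_blockCoeff B)
    (isClassFunction_conj_char χ)) (isClassFunction_conj_char χ) fun ψ => ?_
  rw [omega_conv_blockCoeff B (isClassFunction_conj_char χ), omega_conj_char]
  by_cases h : ψ = χ
  · subst h; rw [if_pos hχ]
  · rw [if_neg h]; simp

/-- the multiplicity of `φ` in the restriction of `χ` -/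
noncomputable def resMult (C : Subgroup G) [Fintype C] (χ : Cfsg.IrrCharacter G)
    (φ : Cfsg.IrrCharacter C) : ℂ :=
  Cfsg.classInner (fun c : C => (χ : G → ℂ) (c : G)) (φ : C → ℂ)

omit [Fintype G] in
theorem exists_nat_resMult (C : Subgroup G) [Fintype C] (χ : Cfsg.IrrCharacter G)
    (φ : Cfsg.IrrCharacter C) : ∃ k : ℕ, resMult C χ φ = k :=
  Char.classInner_isCharacter_eq_natCast (Char.isCharacter_res C (Char.IsIrr.isCharacter χ.2))
    (Char.IsIrr.isCharacter φ.2)

theorem omega_res_conj_char (C : Subgroup G) [Fintype C] (χ : Cfsg.IrrCharacter G)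
    (φ : Cfsg.IrrCharacter C) :
    omega (φ : C → ℂ) (fun c : C => conj ((χ : G → ℂ) (c : G))) =
      (Nat.card C : ℂ) * resMult C χ φ / (φ : C → ℂ) 1 := by
  obtain ⟨k, hk⟩ := exists_nat_resMult C χ φ
  have h : conj (resMult C χ φ) = resMult C χ φ := by rw [hk]; simp
  rw [omega, ← h, resMult, Cfsg.classInner, map_mul, map_sum, map_inv₀, Complex.conj_natCast,
    ← mul_assoc, mul_inv_cancel₀ (Nat.cast_ne_zero.2 Nat.card_pos.ne'), one_mul]
  simp [map_mul]

/-- The reduced degree of the part in `b` of the restriction of a height zero character of `B`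
is prime to `p`. -/
theorem not_memLocalIdeal_subsection_degree (hM : Cfsg.IsPModular p M) (hB : Cfsg.IsPBlock M B)
    {y : G} (hy : ∃ k, orderOf y = p ^ k) {C : Subgroup G} [Fintype C]
    (hC : ∀ a : G, a ∈ C ↔ y * a = a * y) {b : Set (Cfsg.IrrCharacter C)} [DecidablePred (· ∈ b)]
    (hind : Cfsg.IsInducedBlock M C b B)
    (hd : Cfsg.blockDefect p b = Cfsg.blockDefect p B)
    {χ : Cfsg.IrrCharacter G} (hχ : χ ∈ B) (h0 : Cfsg.blockHeight p B (χ : G → ℂ) = 0) :
    ¬ Cfsg.MemLocalIdeal M
      (∑ φ : Cfsg.IrrCharacter C, if φ ∈ b then resMult C χ φ * (redDeg p b φ : ℂ) else 0) := by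
  classical
  have := Fact.mk hM.1
  intro hS
  have hb := hind.1
  -- a defect group of `b`, containing `y`
  obtain ⟨E', hE'⟩ := DefectThms.exists_defectGroup hM hb
  obtain ⟨E, hEC, rfl⟩ : ∃ E : Subgroup G, E ≤ C ∧ E.subgroupOf C = E' :=
    ⟨E'.map C.subtype, Subgroup.map_subtype_le _,
      Subgroup.comap_map_eq_self_of_injective C.subtype_injective E'⟩
  have hEp : IsPGroup p E :=
    (DefectThms.isPGroup_of_isDefectGroup hE').of_equiv (Subgroup.subgroupOfEquivOfLe hEC)
  have hEcard : Nat.card E = p ^ Cfsg.blockDefect p B := by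
    rw [← hd, ← card_defectGroup hM hb hE']
    exact Nat.card_congr (Subgroup.subgroupOfEquivOfLe hEC).toEquiv.symm
  obtain ⟨k, hk⟩ := hy
  have hyC : y ∈ C := (hC y).2 rfl
  have hP : IsPGroup p (Subgroup.zpowers y) :=
    IsPGroup.of_card (n := k) (by rw [Nat.card_zpowers, hk])
  have hH : ∀ a : G, a ∈ C ↔ ∀ u ∈ Subgroup.zpowers y, u * a = a * u := fun a => by
    rw [hC]
    exact ⟨fun h u ⟨i, hi⟩ => hi ▸ ((show Commute y a from h).zpow_left i).eq,
      fun h => h y (Subgroup.mem_zpowers y)⟩
  have hyE : y ∈ E := by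
    have : ((Subgroup.zpowers y).subgroupOf C).Normal := ⟨fun u hu g => by
      have e := (hH g).1 g.2 u hu
      rw [Subgroup.mem_subgroupOf] at hu ⊢
      rw [Subgroup.coe_mul, Subgroup.coe_mul, ← e, Subgroup.coe_inv, mul_inv_cancel_right]
      exact hu⟩
    have := DefectThms.le_defectGroup_of_normal hM hb hE' ((Subgroup.zpowers y).subgroupOf C)
      (hP.comap_of_injective _ C.subtype_injective)
      (show (⟨y, hyC⟩ : C) ∈ (Subgroup.zpowers y).subgroupOf C from Subgroup.mem_zpowers y)
    exact this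
  have hCE : CG[E] ≤ C := fun a ha => (hC a).2 (Subgroup.mem_centralizer_iff.1 ha y hyE)
  let : Fintype CG[E] := Fintype.ofFinite _
  -- a maximal pair of `b`, which is one of `B` as well
  obtain ⟨e', he'⟩ := exists_maximal_on hM hb hE'
  obtain ⟨f0, rfl⟩ : ∃ f0, resBlock hEC hCE f0 = e' :=
    ⟨upBlock hEC hCE e', resBlock_upBlock hEC hCE e'⟩
  have hf0 : Cfsg.IsPBlock M f0 := by
    have := isPBlock_upBlock (M := M) hEC hCE he'.1.1.2
    rwa [upBlock_resBlock] at this
  obtain ⟨η0, hη0⟩ := IsPBlock.nonempty hM hf0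
  have hclass := isClassFunction_blockCoeff B
  have hBR := memLocalRing_blockCoeff hM hB
  have hpairB : Cfsg.IsBrauerPairOf p M B E f0 := by
    refine memLocalIdeal_brauerOmega_block hM hEp hf0 hB hη0 ?_
    have hmem : compIrr (centIso hEC hCE) η0 ∈ resBlock hEC hCE f0 := by
      show compIrr (centIso hEC hCE).symm (compIrr (centIso hEC hCE) η0) ∈ f0
      rw [show compIrr (centIso hEC hCE).symm (compIrr (centIso hEC hCE) η0) = η0 from
        (compIrrEquiv (centIso hEC hCE)).symm_apply_apply η0]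
      exact hη0
    obtain ⟨φ, hφ⟩ := IsPBlock.nonempty hM hb
    let : Fintype CG[E.subgroupOf C] := Fintype.ofFinite _
    have h1 := omega_link (G := C) hM he'.1 hmem hφ
      (z := fun t : C => Cfsg.blockCoeff B (t : G)) (isClassFunction_res C hclass) (fun t => hBR _)
    rw [← brauerOmega_res hEC hCE]
    have h2 := memLocalIdeal_omega_res_blockCoeff_sub hM hP hH hB φ
    rw [if_pos ((mem_inducing_iff hM hP hH hB hb hφ).2 hind)] at h2
    simpa [compIrr] using memLocalIdeal_add hM h1 h2
  have hmax : Cfsg.IsMaximalBrauerPair p M B E f0 := by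
    refine ⟨hpairB, fun R r hR hle => ?_⟩
    obtain ⟨a, ha, hale⟩ := exists_maximal_above hM hR
    have h1 := card_defectGroup hM hB (isDefectGroup_of_maximal hM ha)
    exact (Subgroup.eq_of_le_of_card_ge (le_of_subpairLE hle) (by
      rw [hEcard, ← h1]; exact Subgroup.card_le_of_le (le_of_subpairLE hale))).symm
  -- the conjugate of `χ` and its projections on `C(E)`
  set z : G → ℂ := fun g => conj ((χ : G → ℂ) g) with hz
  have hzc : Cfsg.IsClassFunction G z := isClassFunction_conj_char χ
  have hzR : ∀ g, Cfsg.MemLocalRing M (z g) := fun g => by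
    rw [hz]
    simp only [conj_apply_eq_inv]
    exact memLocalRing_char hM (Char.IsIrr.isCharacter χ.2) _
  set zH : CG[E] → ℂ := fun a => z (a : G) with hzH
  have hzHc : Cfsg.IsClassFunction CG[E] zH := isClassFunction_res _ hzc
  -- some conjugate of `f0` sees `χ`
  obtain ⟨g, hg, hgE⟩ := DefectThms.isDefectGroup_iff.1 (isDefectGroup_of_maximal hM hmax)
  have hgH : g⁻¹ ∈ CG[E] := inv_mem (BlockThms.mem_centralizer_of_le hgE.1)
  set t0 : CG[E] := ⟨g⁻¹, hgH⟩ with ht0
  have hzu : ¬ Cfsg.MemLocalIdeal M (zH t0) := by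
    have h := not_memLocalIdeal_char_mul hM hB hg (x := 1) ⟨0, by simp⟩ (Commute.one_left g) hχ h0
    simpa [hzH, hz, ht0, conj_apply_eq_inv] using h
  have horb : Cfsg.MemLocalIdeal M
      (zH t0 - conv (fun a : CG[E] => orbitIdem M E f0 (a : G)) zH t0) := by
    have h1 := memLocalIdeal_conv_res_sub_of_isInv hM hEp (IsInv.of_isClassFunction hclass _)
      (IsInv.of_isClassFunction hzc _) hBR hzR t0
    rw [conv_blockCoeff_conj_char hχ] at h1
    have h2 : Cfsg.MemLocalIdeal M
        (conv (fun a : CG[E] => Cfsg.blockCoeff B (a : G)) zH t0 -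
          conv (fun a : CG[E] => orbitIdem M E f0 (a : G)) zH t0) := by
      simp only [conv, ← Finset.sum_sub_distrib, ← sub_mul]
      exact memLocalIdeal_sum hM _ fun a _ => memLocalIdeal_mul_right hM
        (memLocalIdeal_sub_orbitIdem hM hEp (IsInv.of_isClassFunction hclass _)
          (IsInv.of_isClassFunction hclass _) hBR (by convert blockCoeff_conv B) (pair_iff_inOrb hM hmax) a.2)
        (hzR _)
    simpa [hzH] using memLocalIdeal_add hM h1 h2
  obtain ⟨t, ht⟩ : ∃ t, ¬ Cfsg.MemLocalIdeal M (conv (Cfsg.blockCoeff f0) zH t) := by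
    by_contra! hall
    refine hzu ?_
    have h2 : Cfsg.MemLocalIdeal M (conv (fun a : CG[E] => orbitIdem M E f0 (a : G)) zH t0) := by
      simp only [conv, orbitIdem, Finset.sum_apply, Finset.sum_mul]
      rw [Finset.sum_comm]
      refine memLocalIdeal_sum hM _ fun f hf => ?_
      obtain ⟨n, hn, hnf⟩ := (Finset.mem_filter.1 hf).2
      have hnH := mem_centralizer_iff_of_mem_normalizer (Subgroup.inv_mem _ hn)
      have ht' : n⁻¹ * (t0 : G) * n ∈ CG[E] := by
        simpa using (hnH _).1 t0.2
      convert hall ⟨n⁻¹ * (t0 : G) * n, ht'⟩ using 1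
      simp only [conv]
      refine Fintype.sum_equiv (BlockChar.conjIso CG[E] CG[E] n⁻¹ hnH).toEquiv _ _ fun a => ?_
      have hca : ((BlockChar.conjIso CG[E] CG[E] n⁻¹ hnH a : CG[E]) : G) = n⁻¹ * (a : G) * n := by
        simp [BlockChar.conjIso]
      simp only [MulEquiv.toEquiv_eq_coe, MulEquiv.coe_toEquiv, hzH, Subgroup.coe_mul,
        Subgroup.coe_inv, hca]
      rw [← sbc_apply f0 (BlockChar.conjIso CG[E] CG[E] n⁻¹ hnH a), hca, hnf,
        ← hzc ((a : G)⁻¹ * (t0 : G)) n⁻¹]
      congr 2
      group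
    simpa using memLocalIdeal_add hM horb h2
  refine ht ?_
  -- the projection of `z` to `b` vanishes modulo `M` on `C(E)`
  set zC : C → ℂ := fun c => z (c : G) with hzC
  have hzCc : Cfsg.IsClassFunction C zC := isClassFunction_res _ hzc
  have hw : conv (Cfsg.blockCoeff b) zC = fun c => ∑ φ : Cfsg.IrrCharacter C,
      if φ ∈ b then resMult C χ φ * conj ((φ : C → ℂ) c) else 0 := by
    have hterm : ∀ φ : Cfsg.IrrCharacter C, (fun c => if φ ∈ b then
        resMult C χ φ * conj ((φ : C → ℂ) c) else 0) =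
        (if φ ∈ b then resMult C χ φ else 0) • fun c : C => conj ((φ : C → ℂ) c) := fun φ => by
      funext c; split_ifs <;> simp
    refine classFun_ext_omega (isClassFunction_conv (isClassFunction_blockCoeff b) hzCc)
      (fun c k => Finset.sum_congr rfl fun φ _ => by
        rw [Char.isClassFunction_of_isIrr φ.2 c k]) fun ψ => ?_
    rw [show (fun c => ∑ φ : Cfsg.IrrCharacter C,
        if φ ∈ b then resMult C χ φ * conj ((φ : C → ℂ) c) else 0) =
      ∑ φ : Cfsg.IrrCharacter C, (if φ ∈ b then resMult C χ φ else 0) •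
        fun c : C => conj ((φ : C → ℂ) c) from funext fun c => by
        rw [Finset.sum_apply]; exact Finset.sum_congr rfl fun φ _ => congrFun (hterm φ) c,
      omega_sum, omega_conv_blockCoeff b hzCc]
    simp only [omega_smul, omega_conj_char, hzC, hz, omega_res_conj_char]
    rw [Finset.sum_eq_single ψ (fun φ _ h => by rw [if_neg (Ne.symm h), mul_zero]) (by simp),
      if_pos rfl]
    split_ifs <;> ring
  have hwM : ∀ a : CG[E], Cfsg.MemLocalIdeal M
      (conv (Cfsg.blockCoeff b) zC ⟨(a : G), hCE a.2⟩) := by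
    intro a
    simp only [hw, conj_apply_eq_inv]
    set c : C := (⟨(a : G), hCE a.2⟩ : C)⁻¹
    set mv := minVal p b with hmv
    set i := (Subgroup.centralizer ({c} : Set C)).index with hi
    have hi0 : i ≠ 0 := Subgroup.index_ne_zero_of_finite
    have hiv : i.factorization p ≤ mv := by
      have hle : E.subgroupOf C ≤ Subgroup.centralizer ({c} : Set C) := fun u hu =>
        Subgroup.mem_centralizer_singleton_iff.2 (Subtype.ext
          (Subgroup.mem_centralizer_iff.1 (inv_mem a.2) (u : G) hu))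
      have h1 := Subgroup.card_dvd_of_le hle
      rw [card_defectGroup hM hb hE'] at h1
      have h2 := (hM.1.pow_dvd_iff_le_factorization Nat.card_pos.ne').1 h1
      have h3 := congrArg (fun n => n.factorization p)
        (Subgroup.index_mul_card (Subgroup.centralizer ({c} : Set C)))
      rw [Nat.factorization_mul hi0 Nat.card_pos.ne'] at h3
      simp only [Finsupp.coe_add, Pi.add_apply] at h3
      rw [blockDefect_eq, ← hmv] at h2
      omega
    set i' := i / p ^ i.factorization p
    obtain ⟨φ0, hφ0⟩ := IsPBlock.nonempty hM hb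
    set K : ℂ := ((p ^ (mv - i.factorization p) : ℕ) : ℂ) * (i' : ℂ)⁻¹ with hK
    have hKR : Cfsg.MemLocalRing M K := (localRing hM).mul_mem (memLocalRing_natCast hM _)
      (memLocalRing_natCast_inv hM (Nat.not_dvd_ordCompl hM.1 hi0))
    have hiC : (i : ℂ) = (p : ℂ) ^ i.factorization p * (i' : ℂ) := by
      exact_mod_cast (Nat.ordProj_mul_ordCompl_eq_self i p).symm
    have hi'0 : (i' : ℂ) ≠ 0 := Nat.cast_ne_zero.2 (Nat.ordCompl_pos p hi0).ne'
    have hval : ∀ φ ∈ b, ((φ : Cfsg.IrrCharacter C) : C → ℂ) c =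
        (redDeg p b φ : ℂ) * K * Cfsg.centralChar (φ : C → ℂ) c := by
      intro φ hφ
      obtain ⟨hdeg, -, hr⟩ := redDeg_mul (B := b) hM.1 hφ
      have hp0 : (p : ℂ) ≠ 0 := Nat.cast_ne_zero.2 hM.1.ne_zero
      have hr0 : (redDeg p b φ : ℂ) ≠ 0 := Nat.cast_ne_zero.2 hr.ne'
      rw [Cfsg.centralChar, ← hi, (CharArith.irr_degree_spec φ).1, hdeg, ← hmv, hK, hiC,
        show mv = mv - i.factorization p + i.factorization p by omega]
      push_cast
      rw [Nat.add_sub_cancel, pow_add]
      field_simp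
    have h0' : Cfsg.MemLocalIdeal M (Cfsg.centralChar (φ0 : C → ℂ) c * K *
        ∑ φ : Cfsg.IrrCharacter C, if φ ∈ b then resMult C χ φ * (redDeg p b φ : ℂ) else 0) :=
      memLocalIdeal_mul_left hM
        ((localRing hM).mul_mem (memLocalRing_centralChar hM φ0.2 c) hKR) hS
    have hdiff : Cfsg.MemLocalIdeal M ((∑ φ : Cfsg.IrrCharacter C,
        if φ ∈ b then resMult C χ φ * (φ : C → ℂ) c else 0) -
        Cfsg.centralChar (φ0 : C → ℂ) c * K *
        ∑ φ : Cfsg.IrrCharacter C, if φ ∈ b then resMult C χ φ * (redDeg p b φ : ℂ) else 0) := by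
      rw [Finset.mul_sum, ← Finset.sum_sub_distrib]
      refine memLocalIdeal_sum hM _ fun φ _ => ?_
      by_cases hφ : φ ∈ b
      · rw [if_pos hφ, if_pos hφ, hval φ hφ]
        obtain ⟨n, hn⟩ := exists_nat_resMult C χ φ
        have h := memLocalIdeal_mul_left hM ((localRing hM).mul_mem
          ((localRing hM).mul_mem (hn ▸ memLocalRing_natCast hM n : Cfsg.MemLocalRing M
            (resMult C χ φ)) (memLocalRing_natCast hM (redDeg p b φ))) hKR)
          (IsPBlock.sameBlock hM hb hφ hφ0 c)
        convert h using 1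
        ring
      · rw [if_neg hφ, if_neg hφ, mul_zero, sub_zero]
        exact memLocalIdeal_zero hM
    simpa using memLocalIdeal_add hM hdiff h0'
  set v : CG[E] → ℂ := fun a => sbc C b (a : G) with hv
  have hbP : IsInv (E : Set G) (sbc C b) := (isInv_sbc b).mono fun u hu => hEC hu
  have hbC : IsInv (CG[E] : Set G) (sbc C b) := (isInv_sbc b).mono fun u hu => hCE hu
  have hbR := memLocalRing_sbc (H := C) hM hb
  have hvz : ∀ a, Cfsg.MemLocalIdeal M (conv v zH a) := by
    intro a
    have h1 := memLocalIdeal_conv_res_sub_of_isInv hM hEp hbP (IsInv.of_isClassFunction hzc _)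
      hbR hzR a
    have h2 := conv_of_supported (f := sbc C b) (h := z) (fun x hx => sbc_of_notMem b hx)
      ⟨(a : G), hCE a.2⟩
    rw [show (fun c : C => sbc C b (c : G)) = Cfsg.blockCoeff b from funext (sbc_apply b)] at h2
    have h3 := hwM a
    rw [← h2] at h3
    simpa [hv, hzH] using memLocalIdeal_sub hM h3 h1
  have hvc : Cfsg.IsClassFunction CG[E] v := hbC.isClassFunction_res
  have hvidem : ∀ a, Cfsg.MemLocalIdeal M (conv v v a - v a) := fun a => by
    have h := memLocalIdeal_conv_res_sub_of_isInv hM hEp hbP hbP hbR hbR a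
    rw [conv_sbc_self b] at h
    simpa [hv] using memLocalIdeal_neg h
  set e0 := Cfsg.blockCoeff f0
  have he0c := isClassFunction_blockCoeff f0
  have he0R := memLocalRing_blockCoeff hM hf0
  have hec := isClassFunction_conv he0c hvc
  have hconvR : ∀ {f h : CG[E] → ℂ}, (∀ x, Cfsg.MemLocalRing M (f x)) →
      (∀ x, Cfsg.MemLocalRing M (h x)) → ∀ x, Cfsg.MemLocalRing M (conv f h x) :=
    fun hf hh x => (localRing hM).sum_mem fun a _ => (localRing hM).mul_mem (hf a) (hh _)
  have hassoc : ∀ {h : CG[E] → ℂ}, Cfsg.IsClassFunction CG[E] h →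
      conv (conv e0 v) h = conv e0 (conv v h) := fun {h} hh =>
    classFun_ext_omega (isClassFunction_conv hec hh)
      (isClassFunction_conv he0c (isClassFunction_conv hvc hh)) fun ψ => by
        rw [omega_conv ψ.2 hec hh, omega_conv ψ.2 he0c hvc,
          omega_conv ψ.2 he0c (isClassFunction_conv hvc hh), omega_conv ψ.2 hvc hh, mul_assoc]
  have hidem : ∀ x, Cfsg.MemLocalIdeal M (conv (conv e0 v) (conv e0 v) x - conv e0 v x) := by
    intro x
    have e : conv (conv e0 v) (conv e0 v) = conv e0 (conv v v) :=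
      classFun_ext_omega (isClassFunction_conv hec hec)
        (isClassFunction_conv he0c (isClassFunction_conv hvc hvc)) fun ψ => by
          rw [omega_conv ψ.2 hec hec, omega_conv ψ.2 he0c hvc,
            omega_conv ψ.2 he0c (isClassFunction_conv hvc hvc), omega_conv ψ.2 hvc hvc,
            omega_blockCoeff]
          split_ifs <;> ring
    rw [e]
    simp only [conv, ← Finset.sum_sub_distrib, ← mul_sub]
    exact memLocalIdeal_sum hM _ fun a _ => memLocalIdeal_mul_left hM (he0R a) (hvidem _)
  have hev : ∀ x, Cfsg.MemLocalIdeal M (conv e0 v x - e0 x) := by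
    refine memLocalIdeal_sub_blockCoeff hM hec (hconvR he0R fun a => hbR _) hidem he0R fun η => ?_
    rw [omega_conv_blockCoeff f0 hvc]
    by_cases hη : η ∈ f0
    · rw [if_pos hη, if_pos hη, hv, ← brauerOmega_eq]
      rw [pair_sbc_iff hM hEC hCE hEp hb, ← IsPBlock.eq_blockOf hM hf0 hη]
      exact he'.1
    · rw [if_neg hη, if_neg hη, sub_zero]
      exact memLocalIdeal_zero hM
  have h1 : Cfsg.MemLocalIdeal M (conv (conv e0 v) zH t) := by
    rw [hassoc hzHc]
    exact memLocalIdeal_sum hM _ fun a _ => memLocalIdeal_mul_left hM (he0R a) (hvz _)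
  have h2 : Cfsg.MemLocalIdeal M (conv (conv e0 v) zH t - conv e0 zH t) := by
    show Cfsg.MemLocalIdeal M (∑ a, conv e0 v a * zH (a⁻¹ * t) - ∑ a, e0 a * zH (a⁻¹ * t))
    simp only [← Finset.sum_sub_distrib, ← sub_mul]
    exact memLocalIdeal_sum hM _ fun a _ => memLocalIdeal_mul_right hM (hev a) (hzR _)
  simpa using memLocalIdeal_sub hM h1 h2

end Cfsg.Agent.BlockChar
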