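import Cfsg.Agent.BlockChar.NormBound
import Cfsg.Agent.BlockChar.SubsectionUnit
import Cfsg.Agent.Blocks.Rank
import Cfsg.Agent.Blocks.Sections
import Mathlib.RingTheory.RootsOfUnity.Complex

/-!
# Contributions of a major subsection

For a `p`-element `y` and a block `b` of its centralizer inducing `B` with the same defect `d`,
`p ^ d` times the matrix of contributions has entries in a cyclotomic field which are integers,
units at height zero rows and columns, and its square moduli add up to `p ^ (2 * d) * l(b)`.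
-/

namespace Cfsg.Agent.BlockChar

open scoped ComplexConjugate
open Cfsg.Agent Cfsg.Agent.Blocks

universe u

variable {G : Type u} [Group G] [Fintype G] {p : ℕ} {M : Ideal Cfsg.AlgInt}
  {B : Set (Cfsg.IrrCharacter G)}

/-- the scalar of a central element of finite order is a root of unity -/
theorem centralChar_pow_eq_one {K : Type u} [Group K] [Fintype K] (φ : Cfsg.IrrCharacter K)
    {s : K} (hs : s ∈ Subgroup.center K) {q : ℕ} (hq : s ^ q = 1) :
    Cfsg.centralChar (φ : K → ℂ) s ^ q = 1 := by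
  have h : ∀ m : ℕ, (φ : K → ℂ) (s ^ m) =
      Cfsg.centralChar (φ : K → ℂ) s ^ m * (φ : K → ℂ) 1 := by
    intro m
    induction m with
    | zero => simp
    | succ m ih => rw [pow_succ', irr_mul_central φ.2 hs, ih, pow_succ', mul_assoc]
  have := h q
  rw [hq] at this
  exact (mul_eq_right₀ (Char.IsIrr.one_ne_zero φ.2)).1 this.symm

/-- translating by a central element multiplies a multiplicity by its scalar -/
theorem classInner_translate {K : Type u} [Group K] [Fintype K] (f : K → ℂ)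
    (φ : Cfsg.IrrCharacter K) {s : K} (hs : s ∈ Subgroup.center K) :
    Cfsg.classInner (fun t => f (s * t)) (φ : K → ℂ) =
      conj (Cfsg.centralChar (φ : K → ℂ) s⁻¹) * Cfsg.classInner f (φ : K → ℂ) := by
  have h : ∑ t, f (s * t) * conj ((φ : K → ℂ) t) =
      ∑ u, f u * conj ((φ : K → ℂ) (s⁻¹ * u)) :=
    Fintype.sum_equiv (Equiv.mulLeft s) _ _ fun t => by
      rw [Equiv.coe_mulLeft, inv_mul_cancel_left]
  simp only [Cfsg.classInner]
  rw [h, Finset.sum_congr rfl fun u _ => by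
    rw [irr_mul_central φ.2 (inv_mem hs), map_mul, mul_left_comm], ← Finset.mul_sum]
  ring

/-- the kernel of a set of characters reproduces a smaller one -/
theorem sum_kernel_mul {K : Type u} [Group K] [Fintype K]
    {T U : Finset (Cfsg.IrrCharacter K)} (h : T ⊆ U) (w w' : K) :
    ∑ c, (∑ φ ∈ T, (φ : K → ℂ) w * conj ((φ : K → ℂ) c)) *
        (∑ ψ ∈ U, (ψ : K → ℂ) c * conj ((ψ : K → ℂ) w')) =
      (Nat.card K : ℂ) * ∑ φ ∈ T, (φ : K → ℂ) w * conj ((φ : K → ℂ) w') := by
  classical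
  simp only [Finset.sum_mul_sum]
  rw [Finset.sum_comm, Finset.mul_sum]
  refine Finset.sum_congr rfl fun φ hφ => ?_
  rw [Finset.sum_comm, Finset.sum_eq_single φ]
  · rw [Finset.sum_congr rfl (g := fun c : K => ((φ : K → ℂ) w * conj ((φ : K → ℂ) w')) *
      (conj ((φ : K → ℂ) c) * (φ : K → ℂ) c)) (fun c _ => by ring), ← Finset.mul_sum,
      sum_conj_mul_eq, if_pos rfl, mul_comm]
  · intro ψ _ hne
    rw [Finset.sum_congr rfl (g := fun c : K => ((φ : K → ℂ) w * conj ((ψ : K → ℂ) w')) *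
      (conj ((φ : K → ℂ) c) * (ψ : K → ℂ) c)) (fun c _ => by ring), ← Finset.mul_sum,
      sum_conj_mul_eq, if_neg hne, mul_zero]
  · exact fun hn => absurd (h hφ) hn

/-- The squares of the entries of a Gram matrix add up to those of the transposed one. -/
theorem sum_sq_gram {ι κ : Type*} (BS : Finset ι) (R : Finset κ) (f : ι → κ → ℂ) (K0 : ℂ)
    (hK0 : conj K0 = K0) :
    ∑ x ∈ BS ×ˢ BS, (K0 * ∑ w ∈ R, f x.1 w * conj (f x.2 w)) *
        conj (K0 * ∑ w ∈ R, f x.1 w * conj (f x.2 w)) =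
      K0 ^ 2 * ∑ w ∈ R, ∑ w' ∈ R, (∑ χ ∈ BS, f χ w * conj (f χ w')) *
        (∑ ψ ∈ BS, f ψ w' * conj (f ψ w)) := by
  have e : ∀ χ ψ, (K0 * ∑ w ∈ R, f χ w * conj (f ψ w)) *
      conj (K0 * ∑ w ∈ R, f χ w * conj (f ψ w)) = K0 ^ 2 * ∑ w ∈ R, ∑ w' ∈ R,
        f χ w * conj (f χ w') * (f ψ w' * conj (f ψ w)) := fun χ ψ => by
    rw [map_mul, hK0, map_sum, mul_mul_mul_comm, Finset.sum_mul_sum, ← pow_two]
    congr 1
    refine Finset.sum_congr rfl fun w _ => Finset.sum_congr rfl fun w' _ => ?_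
    rw [map_mul, Complex.conj_conj]
    ring
  simp only [Finset.sum_product, e, ← Finset.mul_sum]
  congr 1
  simp only [Finset.sum_mul_sum]
  rw [Finset.sum_congr rfl fun χ _ => Finset.sum_comm, Finset.sum_comm]
  refine Finset.sum_congr rfl fun w _ => ?_
  rw [Finset.sum_congr rfl fun χ _ => Finset.sum_comm, Finset.sum_comm]

/-- The products of two rows of `regM` are congruent to a product of reduced degrees. -/
theorem regM_congr_redDeg (hM : Cfsg.IsPModular p M) (hB : Cfsg.IsPBlock M B)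
    {φ0 φ φ' : Cfsg.IrrCharacter G} (h0 : φ0 ∈ B) (hφ : φ ∈ B) (hφ' : φ' ∈ B) :
    Cfsg.MemLocalIdeal M ((redDeg p B φ0 : ℂ) *
        ((Nat.card G / p ^ (Nat.card G).factorization p : ℕ) : ℂ) * regM p B φ φ' -
      (redDeg p B φ : ℂ) * (redDeg p B φ' : ℂ) *
        omega (φ0 : G → ℂ) (regConj p (φ0 : G → ℂ))) := by
  have e1 := regM_eq hM.1 hφ φ'
  have e2 := regM_eq hM.1 h0 φ'
  have e3 := regM_eq hM.1 hφ' φ0
  rw [regM_comm hM φ0 φ'] at e3
  have hcl : ∀ ψ : Cfsg.IrrCharacter G, Cfsg.IsClassFunction G (regConj p (ψ : G → ℂ)) :=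
    fun ψ => isClassFunction_regConj (Char.isClassFunction_of_isIrr ψ.2)
  have d1 := memLocalIdeal_omega_sub hM φ.2 φ0.2 (hcl φ') (regConj_memLocalRing hM φ')
    (IsPBlock.sameBlock hM hB hφ h0)
  have d2 := memLocalIdeal_omega_sub hM φ'.2 φ0.2 (hcl φ0) (regConj_memLocalRing hM φ0)
    (IsPBlock.sameBlock hM hB hφ' h0)
  have hr := fun ψ : Cfsg.IrrCharacter G => memLocalRing_natCast hM (redDeg p B ψ)
  convert memLocalIdeal_add hM
    (memLocalIdeal_mul_left hM ((localRing hM).mul_mem (hr φ0) (hr φ)) d1)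
    (memLocalIdeal_mul_left hM ((localRing hM).mul_mem (hr φ) (hr φ')) d2) using 1
  linear_combination (redDeg p B φ0 : ℂ) * e1 - (redDeg p B φ : ℂ) * e2 + (redDeg p B φ : ℂ) * e3

variable {y : G} {C : Subgroup G} [Fintype C] {b : Set (Cfsg.IrrCharacter C)}

omit [Fintype G] in
theorem classInner_res_translate (χ : Cfsg.IrrCharacter G) (φ : Cfsg.IrrCharacter C) (s : C)
    (hs : s ∈ Subgroup.center C) :
    Cfsg.classInner (fun t : C => (χ : G → ℂ) ((s : G) * (t : G))) (φ : C → ℂ) =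
      conj (Cfsg.centralChar (φ : C → ℂ) s⁻¹) * resMult C χ φ := by
  rw [resMult, ← classInner_translate (fun u : C => (χ : G → ℂ) (u : G)) φ hs]
  simp

/-- the multiplicities in the translate of `χ` by `y` -/
noncomputable def subMult (y : G) (C : Subgroup G) [Fintype C] (χ : Cfsg.IrrCharacter G)
    (φ : Cfsg.IrrCharacter C) : ℂ :=
  Cfsg.classInner (fun t : C => (χ : G → ℂ) (y * (t : G))) (φ : C → ℂ)

/-- the part in `b` of the translate of `χ` by `y` -/
noncomputable def subPart (y : G) (C : Subgroup G) [Fintype C] (b : Set (Cfsg.IrrCharacter C))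
    (χ : Cfsg.IrrCharacter G) (w : C) : ℂ :=
  ∑ φ ∈ b.toFinite.toFinset, subMult y C χ φ * (φ : C → ℂ) w

/-- `p ^ d` times the contribution of the subsection -/
noncomputable def contrib (p : ℕ) (y : G) (C : Subgroup G) [Fintype C]
    (b : Set (Cfsg.IrrCharacter C)) (χ ψ : Cfsg.IrrCharacter G) : ℂ :=
  ∑ φ ∈ b.toFinite.toFinset, ∑ φ' ∈ b.toFinite.toFinset,
    subMult y C χ φ * conj (subMult y C ψ φ') * regM p b φ φ'

/-- The parts of the characters of `B` reproduce the kernel of the block on the regular part. -/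
theorem sum_subPart_mul_conj (hM : Cfsg.IsPModular p M) (hB : Cfsg.IsPBlock M B)
    (hy : ∃ k, orderOf y = p ^ k) (hC : ∀ a : G, a ∈ C ↔ y * a = a * y)
    (hind : Cfsg.IsInducedBlock M C b B) {w w' : C} (hw : ¬ p ∣ orderOf w)
    (hw' : ¬ p ∣ orderOf w') :
    ∑ χ ∈ B.toFinite.toFinset, subPart y C b χ w * conj (subPart y C b χ w') =
      ∑ φ ∈ b.toFinite.toFinset, (φ : C → ℂ) w * conj ((φ : C → ℂ) w') := by
  classical
  have hy' := hy
  obtain ⟨k, hk⟩ := hy'
  have hb := hind.1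
  have hP : IsPGroup p (Subgroup.zpowers y) :=
    IsPGroup.of_card (n := k) (by rw [Nat.card_zpowers, hk])
  have hH : ∀ a : G, a ∈ C ↔ ∀ u ∈ Subgroup.zpowers y, u * a = a * u := fun a => by
    rw [hC]
    exact ⟨fun h u ⟨i, hi⟩ => hi ▸ ((show Commute y a from h).zpow_left i).eq,
      fun h => h y (Subgroup.mem_zpowers y)⟩
  set BS := B.toFinite.toFinset
  set T := b.toFinite.toFinset
  set U := (inducing M C B).toFinite.toFinset
  have hTU : T ⊆ U := fun ψ hψ => (inducing M C B).toFinite.mem_toFinset.2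
    ((mem_inducing_iff hM hP hH hB hb (b.toFinite.mem_toFinset.1 hψ)).2 hind)
  set KT : C → C → ℂ := fun w c => ∑ φ ∈ T, (φ : C → ℂ) w * conj ((φ : C → ℂ) c) with hKT
  have hKTconj : ∀ w c, conj (KT w c) = KT c w := fun w c => by
    simp only [hKT, map_sum, map_mul, Complex.conj_conj]
    exact Finset.sum_congr rfl fun φ _ => mul_comm _ _
  have hKT0 : ∀ {w c : C}, ¬ p ∣ orderOf w → p ∣ orderOf c → KT w c = 0 := fun {w c} hw hc => by
    have := weak_orthogonality hM hb hw hc
    rwa [finsum_mem_eq_finite_toFinset_sum _ b.toFinite] at this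
  have hbp : ∀ χ w, subPart y C b χ w =
      (Nat.card C : ℂ)⁻¹ * ∑ c : C, (χ : G → ℂ) (y * (c : G)) * KT w c := by
    intro χ w
    simp only [subPart, subMult, hKT, Cfsg.classInner, Finset.mul_sum, Finset.sum_mul]
    rw [Finset.sum_comm]
    exact Finset.sum_congr rfl fun c _ => Finset.sum_congr rfl fun φ _ => by ring
  have hcard : (Nat.card C : ℂ) ≠ 0 := Nat.cast_ne_zero.2 Nat.card_pos.ne'
  calc ∑ χ ∈ BS, subPart y C b χ w * conj (subPart y C b χ w')
      = (Nat.card C : ℂ)⁻¹ * (Nat.card C : ℂ)⁻¹ * ∑ c' : C, ∑ c : C, KT w c *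
          (∑ χ ∈ BS, (χ : G → ℂ) (y * (c : G)) * conj ((χ : G → ℂ) (y * (c' : G)))) *
            KT c' w' := by
        simp only [hbp, map_mul, map_inv₀, Complex.conj_natCast, map_sum, hKTconj,
          Finset.mul_sum, Finset.sum_mul]
        rw [Finset.sum_comm]
        refine Finset.sum_congr rfl fun c' _ => ?_
        rw [Finset.sum_comm]
        exact Finset.sum_congr rfl fun c _ => Finset.sum_congr rfl fun χ _ => by ring
    _ = (Nat.card C : ℂ)⁻¹ * (Nat.card C : ℂ)⁻¹ * ∑ c' : C, ∑ c : C, KT w c *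
          (∑ ψ ∈ U, (ψ : C → ℂ) c * conj ((ψ : C → ℂ) c')) * KT c' w' := by
        congr 1
        refine Finset.sum_congr rfl fun c' _ => Finset.sum_congr rfl fun c _ => ?_
        by_cases hc : p ∣ orderOf c
        · simp [hKT0 hw hc]
        by_cases hc' : p ∣ orderOf c'
        · simp [show KT c' w' = 0 by rw [← hKTconj, hKT0 hw' hc', map_zero]]
        have h := section_identity hM hy hC hB hc hc'
        rw [finsum_mem_eq_finite_toFinset_sum _ B.toFinite,
          finsum_mem_eq_finite_toFinset_sum _ (inducing M C B).toFinite] at h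
        rw [h]
    _ = (Nat.card C : ℂ)⁻¹ * (Nat.card C : ℂ)⁻¹ * ∑ c' : C,
          (Nat.card C : ℂ) * KT w c' * KT c' w' := by
        congr 1
        refine Finset.sum_congr rfl fun c' _ => ?_
        rw [← Finset.sum_mul, sum_kernel_mul hTU w c']
    _ = KT w w' := by
        simp only [mul_assoc]
        rw [← Finset.mul_sum, sum_kernel_mul subset_rfl w w']
        field_simp
        rfl

open scoped Classical in
theorem contrib_eq (χ ψ : Cfsg.IrrCharacter G) :
    contrib p y C b χ ψ = ((p ^ Cfsg.blockDefect p b : ℕ) : ℂ) / (Nat.card C : ℂ) *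
      ∑ w ∈ Finset.univ.filter (fun w : C => ¬ p ∣ orderOf w),
        subPart y C b χ w * conj (subPart y C b ψ w) := by
  set T := b.toFinite.toFinset
  set K0 : ℂ := ((p ^ Cfsg.blockDefect p b : ℕ) : ℂ) / (Nat.card C : ℂ) with hK0
  set R := Finset.univ.filter fun w : C => ¬ p ∣ orderOf w
  set a := subMult y C
  have hreg : ∀ φ φ' : Cfsg.IrrCharacter C,
      regM p b φ φ' = K0 * ∑ w ∈ R, (φ : C → ℂ) w * conj ((φ' : C → ℂ) w) := fun φ φ' => by
    rw [regM, regSum_eq_filter]
    exact congrArg (K0 * ·) (Finset.sum_congr (Finset.ext fun w => by simp [R, Cfsg.IsPRegular])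
      fun _ _ => rfl)
  have e : ∀ w : C, subPart y C b χ w * conj (subPart y C b ψ w) = ∑ φ ∈ T, ∑ φ' ∈ T,
      a χ φ * conj (a ψ φ') * ((φ : C → ℂ) w * conj ((φ' : C → ℂ) w)) := fun w => by
    simp only [subPart, map_sum, map_mul]
    rw [Finset.sum_mul_sum]
    exact Finset.sum_congr rfl fun φ _ => Finset.sum_congr rfl fun φ' _ => by ring
  rw [contrib]; simp only [e]
  conv_rhs => rw [Finset.sum_comm, Finset.mul_sum]
  refine Finset.sum_congr rfl fun φ _ => ?_
  conv_rhs => rw [Finset.sum_comm, Finset.mul_sum]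
  refine Finset.sum_congr rfl fun φ' _ => ?_
  rw [hreg, ← Finset.mul_sum]
  ring

open scoped Classical in
theorem card_mul_blockRank_filter (hM : Cfsg.IsPModular p M) (hb : Cfsg.IsPBlock M b) :
    (Nat.card C : ℂ) * (Cfsg.blockRank p b : ℂ) =
      ∑ w ∈ Finset.univ.filter (fun w : C => ¬ p ∣ orderOf w),
        ∑ φ ∈ b.toFinite.toFinset, (φ : C → ℂ) w * conj ((φ : C → ℂ) w) := by
  rw [card_mul_blockRank (G := C) hM hb, Finset.sum_filter]
  refine Finset.sum_congr rfl fun x _ => ?_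
  rw [finsum_mem_eq_finite_toFinset_sum _ b.toFinite]
  split_ifs <;> rfl

/-- The diagonal contributions add up to `p ^ d l(b)`. -/
theorem sum_contrib_self (hM : Cfsg.IsPModular p M) (hB : Cfsg.IsPBlock M B)
    (hy : ∃ k, orderOf y = p ^ k) (hC : ∀ a : G, a ∈ C ↔ y * a = a * y)
    (hind : Cfsg.IsInducedBlock M C b B) :
    ∑ χ ∈ B.toFinite.toFinset, contrib p y C b χ χ =
      ((p ^ Cfsg.blockDefect p b * Cfsg.blockRank p b : ℕ) : ℂ) := by
  classical
  simp only [contrib_eq, ← Finset.mul_sum]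
  rw [Finset.sum_comm, Finset.sum_congr rfl fun w hw => sum_subPart_mul_conj hM hB hy hC hind
    (Finset.mem_filter.1 hw).2 (Finset.mem_filter.1 hw).2,
    ← card_mul_blockRank_filter hM hind.1]
  have hcard : (Nat.card C : ℂ) ≠ 0 := Nat.cast_ne_zero.2 Nat.card_pos.ne'
  push_cast
  field_simp

/-- The squares of the contributions add up to `p ^ (2 d) l(b)`. -/
theorem sum_contrib_sq (hM : Cfsg.IsPModular p M) (hB : Cfsg.IsPBlock M B)
    (hy : ∃ k, orderOf y = p ^ k) (hC : ∀ a : G, a ∈ C ↔ y * a = a * y)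
    (hind : Cfsg.IsInducedBlock M C b B) :
    ∑ x ∈ B.toFinite.toFinset ×ˢ B.toFinite.toFinset,
        contrib p y C b x.1 x.2 * conj (contrib p y C b x.1 x.2) =
      (((p ^ (2 * Cfsg.blockDefect p b) * Cfsg.blockRank p b : ℕ) : ℚ) : ℂ) := by
  classical
  have hb := hind.1
  set BS := B.toFinite.toFinset
  set T := b.toFinite.toFinset
  set KT : C → C → ℂ := fun w c => ∑ φ ∈ T, (φ : C → ℂ) w * conj ((φ : C → ℂ) c) with hKT
  have hKTconj : ∀ w c, conj (KT w c) = KT c w := fun w c => by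
    simp only [hKT, map_sum, map_mul, Complex.conj_conj]
    exact Finset.sum_congr rfl fun φ _ => mul_comm _ _
  have hKT0 : ∀ {w c : C}, ¬ p ∣ orderOf w → p ∣ orderOf c → KT w c = 0 := fun {w c} hw hc => by
    have := weak_orthogonality hM hb hw hc
    rwa [finsum_mem_eq_finite_toFinset_sum _ b.toFinite] at this
  set K0 : ℂ := ((p ^ Cfsg.blockDefect p b : ℕ) : ℂ) / (Nat.card C : ℂ) with hK0
  set R := Finset.univ.filter fun w : C => ¬ p ∣ orderOf w
  have hK0c : conj K0 = K0 := by rw [hK0, map_div₀, Complex.conj_natCast, Complex.conj_natCast]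
  calc ∑ x ∈ BS ×ˢ BS, contrib p y C b x.1 x.2 * conj (contrib p y C b x.1 x.2)
      = K0 ^ 2 * ∑ w ∈ R, ∑ w' ∈ R, (∑ χ ∈ BS, subPart y C b χ w * conj (subPart y C b χ w')) *
          (∑ ψ ∈ BS, subPart y C b ψ w' * conj (subPart y C b ψ w)) := by
        simp only [contrib_eq]
        exact sum_sq_gram BS R (subPart y C b) K0 hK0c
    _ = K0 ^ 2 * ∑ w ∈ R, ∑ w' : C, KT w w' * KT w' w := by
        congr 1
        refine Finset.sum_congr rfl fun w hw => ?_
        have hwr : ¬ p ∣ orderOf w := (Finset.mem_filter.1 hw).2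
        rw [← Finset.sum_subset (Finset.subset_univ R) fun w' _ hn => by
          rw [hKT0 hwr (by simpa [R] using hn), zero_mul]]
        refine Finset.sum_congr rfl fun w' hw' => ?_
        rw [sum_subPart_mul_conj hM hB hy hC hind hwr (Finset.mem_filter.1 hw').2,
          sum_subPart_mul_conj hM hB hy hC hind (Finset.mem_filter.1 hw').2 hwr]
    _ = K0 ^ 2 * ((Nat.card C : ℂ) * ∑ w ∈ R, KT w w) := by
        congr 1
        rw [Finset.mul_sum]
        exact Finset.sum_congr rfl fun w _ => sum_kernel_mul subset_rfl w w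
    _ = _ := by
        rw [← card_mul_blockRank_filter hM hb, hK0]
        have hcard : (Nat.card C : ℂ) ≠ 0 := Nat.cast_ne_zero.2 Nat.card_pos.ne'
        push_cast
        field_simp
        ring

/-- the scalar by which `y` acts on the constituent `φ` -/
noncomputable def subScalar (s : C) (φ : Cfsg.IrrCharacter C) : ℂ :=
  conj (Cfsg.centralChar (φ : C → ℂ) s⁻¹)

omit [Fintype G] in
theorem subMult_eq {s : C} (hs : s ∈ Subgroup.center C) (hsy : (s : G) = y)
    (χ : Cfsg.IrrCharacter G) (φ : Cfsg.IrrCharacter C) :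
    subMult y C χ φ = subScalar s φ * resMult C χ φ := by
  subst hsy
  exact classInner_res_translate χ φ s hs

omit [Fintype G] in
theorem subScalar_pow_eq_one {s : C} (hs : s ∈ Subgroup.center C) {q : ℕ} (hq : s ^ q = 1)
    (φ : Cfsg.IrrCharacter C) : subScalar s φ ^ q = 1 := by
  rw [subScalar, ← map_pow, centralChar_pow_eq_one φ (inv_mem hs) (by rw [inv_pow, hq, inv_one]),
    map_one]

/-- The contributions of height zero characters are not zero. -/
theorem contrib_ne_zero (hM : Cfsg.IsPModular p M) (hB : Cfsg.IsPBlock M B)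
    (hy : ∃ k, orderOf y = p ^ k) (hC : ∀ a : G, a ∈ C ↔ y * a = a * y)
    (hind : Cfsg.IsInducedBlock M C b B)
    (hd : Cfsg.blockDefect p b = Cfsg.blockDefect p B) {χ ψ : Cfsg.IrrCharacter G}
    (hχB : χ ∈ B) (hψB : ψ ∈ B) (hχ0 : Cfsg.blockHeight p B (χ : G → ℂ) = 0)
    (hψ0 : Cfsg.blockHeight p B (ψ : G → ℂ) = 0) : contrib p y C b χ ψ ≠ 0 := by
  classical
  have hy' := hy
  obtain ⟨k, hk⟩ := hy'
  set q := p ^ k with hq
  have hq0 : q ≠ 0 := pow_ne_zero _ hM.1.ne_zero
  have hb := hind.1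
  let s : C := ⟨y, (hC y).2 rfl⟩
  have hs : s ∈ Subgroup.center C :=
    Subgroup.mem_center_iff.2 fun t => Subtype.ext ((hC t).1 t.2).symm
  have hsq : s ^ q = 1 := Subtype.ext (by simp [s, ← hk, pow_orderOf_eq_one])
  set T := b.toFinite.toFinset
  set ev := subScalar s
  have hev : ∀ φ, ev φ ^ q = 1 := subScalar_pow_eq_one hs hsq
  have ha : ∀ χ φ, subMult y C χ φ = ev φ * resMult C χ φ := subMult_eq hs rfl
  have hac : ∀ χ φ, conj (subMult y C χ φ) = conj (ev φ) * resMult C χ φ := fun χ φ => by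
    obtain ⟨n, hn⟩ := exists_nat_resMult C χ φ
    rw [ha, map_mul, hn, Complex.conj_natCast]
  set a := subMult y C
  have hone : ∀ {z : ℂ}, z ^ q = 1 → Cfsg.MemLocalIdeal M (z - 1) := fun {z} hz => by
    have h := (memLocalIdeal_coe_iff hM _).2
      (sub_one_mem_of_pow_prime_pow hM (z := ⟨z, isIntegral_of_pow_eq_one (Nat.pos_of_ne_zero hq0) hz⟩)
        (k := k) (Subtype.ext (by simpa using hz)))
    simpa using h
  have hcjev : ∀ φ, conj (ev φ) ^ q = 1 := fun φ => by rw [← map_pow, hev, map_one]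
  have hcong : ∀ (χ : Cfsg.IrrCharacter G) φ, Cfsg.MemLocalIdeal M (a χ φ - resMult C χ φ) ∧
      Cfsg.MemLocalIdeal M (conj (a χ φ) - resMult C χ φ) ∧
      Cfsg.MemLocalRing M (a χ φ) ∧ Cfsg.MemLocalRing M (resMult C χ φ) := by
    intro χ φ
    obtain ⟨n, hn⟩ := exists_nat_resMult C χ φ
    have hnR : Cfsg.MemLocalRing M (resMult C χ φ) := hn ▸ memLocalRing_natCast hM n
    refine ⟨?_, ?_, ?_, hnR⟩
    · have := memLocalIdeal_mul_right hM (hone (hev φ)) hnR
      rw [ha]; convert this using 1; ring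
    · have := memLocalIdeal_mul_right hM (hone (hcjev φ)) hnR
      rw [hac]; convert this using 1; ring
    · rw [ha]
      exact (localRing hM).mul_mem (memLocalRing_of_isIntegral hM
        (isIntegral_of_pow_eq_one (Nat.pos_of_ne_zero hq0) (hev φ))) hnR
  obtain ⟨φ0, hφ0, hφ0h⟩ := exists_height_zero (p := p) (IsPBlock.nonempty hM hb)
  have hh0 : Cfsg.blockHeight p b (φ0 : C → ℂ) = 0 := by
    rw [blockHeight_eq, hφ0h, Nat.sub_self]
  set W := omega (φ0 : C → ℂ) (regConj p (φ0 : C → ℂ))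
  have hW := not_memLocalIdeal_omega_regConj hM hb hφ0 hφ0 hh0
  let S : Cfsg.IrrCharacter G → ℂ := fun χ =>
    ∑ φ ∈ T, resMult C χ φ * (redDeg p b φ : ℂ)
  have hSR : ∀ χ, Cfsg.MemLocalRing M (S χ) := fun χ => (localRing hM).sum_mem fun φ _ =>
    (localRing hM).mul_mem (hcong χ φ).2.2.2 (memLocalRing_natCast hM _)
  have hS : ∀ χ ∈ B, Cfsg.blockHeight p B (χ : G → ℂ) = 0 →
      ¬ Cfsg.MemLocalIdeal M (S χ) := fun χ hχ' h0 => by
    have h := not_memLocalIdeal_subsection_degree hM hB hy hC hind hd hχ' h0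
    rwa [← Finset.sum_filter, show Finset.univ.filter (· ∈ b) = T by ext; simp [T]] at h
  intro he
  set r0 : ℂ := (redDeg p b φ0 : ℂ) *
    ((Nat.card C / p ^ (Nat.card C).factorization p : ℕ) : ℂ)
  have hkey : Cfsg.MemLocalIdeal M (r0 * contrib p y C b χ ψ - S χ * S ψ * W) := by
    have hWR : Cfsg.MemLocalRing M W :=
      memLocalRing_of_isIntegral hM (isIntegral_omega_regConj φ0 φ0)
    simp only [contrib, S, r0, T]
    rw [Finset.sum_mul_sum]
    simp only [Finset.mul_sum, Finset.sum_mul,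
      ← Finset.sum_sub_distrib]
    refine memLocalIdeal_sum hM _ fun φ hφ => memLocalIdeal_sum hM _ fun φ' hφ' => ?_
    obtain ⟨h1, -, h1R, hnR⟩ := hcong χ φ
    obtain ⟨-, h2, -, hn'R⟩ := hcong ψ φ'
    have h2R : Cfsg.MemLocalRing M (conj (a ψ φ')) := by
      have := (localRing hM).add_mem (memLocalRing_of_memLocalIdeal h2) hn'R
      rwa [sub_add_cancel] at this
    have h3 := regM_congr_redDeg hM hb hφ0 (b.toFinite.mem_toFinset.1 hφ)
      (b.toFinite.mem_toFinset.1 hφ')
    change Cfsg.MemLocalIdeal M (_ - _ * W) at h3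
    have hrR := (localRing hM).mul_mem ((localRing hM).mul_mem
      (memLocalRing_natCast hM (redDeg p b φ)) (memLocalRing_natCast hM (redDeg p b φ'))) hWR
    convert memLocalIdeal_add hM (memLocalIdeal_mul_left hM ((localRing hM).mul_mem h1R h2R) h3)
      (memLocalIdeal_mul_left hM hrR (memLocalIdeal_add hM (memLocalIdeal_mul_right hM h1 h2R)
        (memLocalIdeal_mul_left hM hnR h2))) using 1
    ring
  rw [he, mul_zero, zero_sub] at hkey
  have hkey' : Cfsg.MemLocalIdeal M (S χ * S ψ * W) := by simpa using memLocalIdeal_neg hkey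
  rcases memLocalIdeal_of_mul hM ((localRing hM).mul_mem (hSR χ) (hSR ψ))
    (memLocalRing_of_isIntegral hM (isIntegral_omega_regConj φ0 φ0)) hkey' with h | h
  · rcases memLocalIdeal_of_mul hM (hSR χ) (hSR ψ) h with h' | h'
    · exact hS χ hχB hχ0 h'
    · exact hS ψ hψB hψ0 h'
  · exact hW h

/-- A block all of whose heights are zero satisfies `k(B) ^ 2 ≤ p ^ (2 d) l(b)` for each major
subsection. -/
theorem card_sq_le_of_heights_zero (hM : Cfsg.IsPModular p M) (hB : Cfsg.IsPBlock M B)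
    (hy : ∃ k, orderOf y = p ^ k) (hC : ∀ a : G, a ∈ C ↔ y * a = a * y)
    (hind : Cfsg.IsInducedBlock M C b B)
    (hd : Cfsg.blockDefect p b = Cfsg.blockDefect p B)
    (hh : ∀ χ ∈ B, Cfsg.blockHeight p B (χ : G → ℂ) = 0) :
    Nat.card B ^ 2 ≤ p ^ (2 * Cfsg.blockDefect p B) * Cfsg.blockRank p b := by
  classical
  have hy' := hy
  obtain ⟨k, hk⟩ := hy'
  set q := p ^ k with hq
  have hq0 : q ≠ 0 := pow_ne_zero _ hM.1.ne_zero
  have hb := hind.1
  let s : C := ⟨y, (hC y).2 rfl⟩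
  have hs : s ∈ Subgroup.center C :=
    Subgroup.mem_center_iff.2 fun t => Subtype.ext ((hC t).1 t.2).symm
  have hsq : s ^ q = 1 := Subtype.ext (by simp [s, ← hk, pow_orderOf_eq_one])
  set BS := B.toFinite.toFinset
  obtain ⟨ζ, hζ⟩ : ∃ ζ : ℂ, IsPrimitiveRoot ζ q := ⟨_, Complex.isPrimitiveRoot_exp q hq0⟩
  have : NeZero q := ⟨hq0⟩
  set A := Algebra.adjoin ℤ ({ζ} : Set ℂ)
  have hroot : ∀ {z : ℂ}, z ^ q = 1 → z ∈ A := fun {z} hz => by
    obtain ⟨i, -, hi⟩ := hζ.eq_pow_of_pow_eq_one hz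
    rw [← hi]
    exact pow_mem (Algebra.subset_adjoin (Set.mem_singleton ζ)) i
  have hev := subScalar_pow_eq_one hs hsq
  have hmA : ∀ χ ψ, contrib p y C b χ ψ ∈ A := fun χ ψ => by
    refine sum_mem fun φ hφ => sum_mem fun φ' _ => ?_
    obtain ⟨n, hn⟩ := exists_nat_resMult C χ φ
    obtain ⟨n', hn'⟩ := exists_nat_resMult C ψ φ'
    obtain ⟨r, hr⟩ := exists_int_regM hM (b.toFinite.mem_toFinset.1 hφ) φ'
    rw [subMult_eq hs rfl, subMult_eq hs rfl, map_mul, hn, hn', hr, Complex.conj_natCast]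
    refine mul_mem (mul_mem (mul_mem (hroot (hev φ)) (natCast_mem A n))
      (mul_mem (hroot ?_) (natCast_mem A n'))) (intCast_mem A r)
    rw [← map_pow, hev, map_one]
  have := card_le_of_sum_conj_mul (BS ×ˢ BS) (fun x => contrib p y C b x.1 x.2) hq0 hζ.pow_eq_one
    (fun x _ => hmA x.1 x.2) (fun x hx => by
      obtain ⟨h1, h2⟩ := Finset.mem_product.1 hx
      rw [Set.Finite.mem_toFinset] at h1 h2
      exact contrib_ne_zero hM hB hy hC hind hd h1 h2 (hh _ h1) (hh _ h2))
    (sum_contrib_sq hM hB hy hC hind)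
  rw [Nat.cast_le, Finset.card_product, ← Set.ncard_eq_toFinset_card B B.toFinite, hd] at this
  rwa [Nat.card_coe_set_eq, pow_two]

end Cfsg.Agent.BlockChar
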