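import Cfsg.Agent.BlockChar.DefectOneTwo
import Cfsg.Agent.Blocks.SectionRank
import Cfsg.Agent.BrauerPairs.Maximal
import Cfsg.Agent.BrauerPairs.PIndex

/-!
# A lower bound for the number of characters of a block

Every class of subsections of a block contributes at least one to `k(B) - l(B)`.
-/

set_option autoImplicit false

namespace Cfsg.Agent.BlockChar

open scoped ComplexConjugate
open Cfsg.Agent Cfsg.Agent.Blocks Cfsg.Agent.BrauerPairs

universe u

variable {G : Type u} [Group G] {p : ℕ} {M : Ideal Cfsg.AlgInt}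

local notation "CG[" Q "]" => Subgroup.centralizer (SetLike.coe Q)
local notation "sbc" => Cfsg.subgroupBlockCoeff

/-- A family of blocks inside `over` bounds `overReg` from below. -/
theorem exists_overReg_ge [Finite G] (hM : Cfsg.IsPModular p M) {K : Type u} [Group K] [Fintype K]
    (φ : K →* G) (χ₀ : G → ℂ) (T : Finset (Set (Cfsg.IrrCharacter K)))
    (hT : ∀ β ∈ T, Cfsg.IsPBlock M β ∧ β ⊆ Blocks.over M φ χ₀) :
    ∃ r : ℝ, overReg p M φ χ₀ = (r : ℂ) ∧ (Nat.card K : ℝ) * (T.card : ℝ) ≤ r := by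
  classical
  set U := (Blocks.over M φ χ₀).toFinite.toFinset
  set N : K → Cfsg.IrrCharacter K → ℝ := fun a ψ => Complex.normSq ((ψ : K → ℂ) a) with hN
  refine ⟨∑ a ∈ Finset.univ.filter (fun a : K => ¬ p ∣ orderOf a), ∑ ψ ∈ U, N a ψ, ?_, ?_⟩
  · simp only [overReg, hN, Complex.ofReal_sum, Finset.sum_filter]
    refine Finset.sum_congr rfl fun a _ => ?_
    rw [finsum_mem_eq_finite_toFinset_sum _ (Blocks.over M φ χ₀).toFinite]
    split_ifs <;> simp_all [Complex.mul_conj, U]
  · have hdisj : (T : Set (Set (Cfsg.IrrCharacter K))).PairwiseDisjoint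
        fun β => β.toFinite.toFinset := fun β hβ β' hβ' hne => Finset.disjoint_left.2
      fun ψ h h' => hne ((IsPBlock.eq_blockOf hM (hT β hβ).1 (β.toFinite.mem_toFinset.1 h)).trans
        (IsPBlock.eq_blockOf hM (hT β' hβ').1 (β'.toFinite.mem_toFinset.1 h')).symm)
    calc (Nat.card K : ℝ) * (T.card : ℝ)
        ≤ ∑ β ∈ T, (Nat.card K : ℝ) * (Cfsg.blockRank p β : ℝ) := by
          rw [mul_comm, ← nsmul_eq_mul, ← Finset.sum_const]
          refine Finset.sum_le_sum fun β hβ => ?_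
          refine le_mul_of_one_le_right (Nat.cast_nonneg _) ?_
          exact_mod_cast blockRank_pos hM (hT β hβ).1
      _ = ∑ β ∈ T, ∑ a ∈ Finset.univ.filter (fun a : K => ¬ p ∣ orderOf a),
            ∑ ψ ∈ β.toFinite.toFinset, N a ψ :=
          Finset.sum_congr rfl fun β hβ => (sum_regular_normSq hM (hT β hβ).1).symm
      _ ≤ _ := by
          rw [Finset.sum_comm]
          refine Finset.sum_le_sum fun a _ => ?_
          rw [← Finset.sum_biUnion hdisj]
          refine Finset.sum_le_sum_of_subset_of_nonneg (fun ψ hψ => ?_)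
            fun ψ _ _ => Complex.normSq_nonneg _
          obtain ⟨β, hβ, hψβ⟩ := Finset.mem_biUnion.1 hψ
          exact (Set.Finite.mem_toFinset _).2 ((hT β hβ).2 (β.toFinite.mem_toFinset.1 hψβ))

/-- The block of a pair lies over its block. -/
theorem subset_over_of_pair [Fintype G] (hM : Cfsg.IsPModular p M) {B : Set (Cfsg.IrrCharacter G)}
    {χ₀ : Cfsg.IrrCharacter G} (hχ₀ : χ₀ ∈ B) {Q : Subgroup G} [Fintype CG[Q]]
    {e : Set (Cfsg.IrrCharacter CG[Q])} (h : Cfsg.IsBrauerPairOf p M B Q e) :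
    e ⊆ Blocks.over M CG[Q].subtype (χ₀ : G → ℂ) := by
  intro ξ hξ
  have hω := h.2.2 ξ hξ
  rw [brauerOmega_eq] at hω
  have hin : ξ ∈ inducing M CG[Q] B := fun hd => by
    refine not_memLocalIdeal_one hM ?_
    simpa using memLocalIdeal_sub hM hd hω
  exact (mem_over_subtype_iff hM CG[Q] h.2.1 hχ₀ ξ).2 ⟨e, hξ,
    (mem_inducing_iff hM h.1.1 (mem_centralizer_iff_forall Q) h.2.1 h.1.2 hξ).1 hin⟩

/-- Conjugation preserves lying over a block. -/
theorem mapBlock_subset_over [Fintype G] (χ₀ : G → ℂ) {K L : Subgroup G} [Fintype K]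
    [Fintype L] (g : G) (h : ∀ y, y ∈ K ↔ g * y * g⁻¹ ∈ L) {e : Set (Cfsg.IrrCharacter K)}
    (he : e ⊆ Blocks.over M K.subtype χ₀) :
    mapBlock (conjIso K L g h) e ⊆ Blocks.over M L.subtype χ₀ := by
  intro ψ hψ g0
  have h0 := he hψ g0
  rw [show (fun d : K => classInd g0 (K.subtype d)) =
      fun d => (fun a : L => classInd g0 (L.subtype a)) (conjIso K L g h d) from
    funext fun d => (isClassFunction_classInd g0 (d : G) g).symm] at h0
  have e1 := omega_compIrr (conjIso K L g h) ψ fun a : L => classInd g0 (L.subtype a)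
  simp only [] at e1 h0
  rwa [e1] at h0

theorem conj_div {g z h w : G} (e : g * z * g⁻¹ = h * w * h⁻¹) :
    h⁻¹ * g * z * (h⁻¹ * g)⁻¹ = w := by
  calc h⁻¹ * g * z * (h⁻¹ * g)⁻¹ = h⁻¹ * (g * z * g⁻¹) * h := by group
    _ = w := by rw [e]; group

theorem conj_div_comm {g z h x : G} (e : g * z * g⁻¹ = x) (e' : h * z * h⁻¹ = x) :
    x * (g * h⁻¹) = g * h⁻¹ * x := by
  calc x * (g * h⁻¹) = g * z * g⁻¹ * (g * h⁻¹) := by rw [e]
    _ = g * h⁻¹ * (h * z * h⁻¹) := by group
    _ = g * h⁻¹ * x := by rw [e']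

/-- Every class of subsections contributes at least one to `k - l`. -/
theorem blockRank_add_card_le [Finite G] (hM : Cfsg.IsPModular p M)
    {B : Set (Cfsg.IrrCharacter G)} (hB : Cfsg.IsPBlock M B) {ι : Type*} [Fintype ι] (s : ι → G)
    (hs1 : ∀ i, s i ≠ 1) (hsp : ∀ i, ∃ k, orderOf (s i) = p ^ k)
    (a : ∀ i, Set (Cfsg.IrrCharacter CG[Subgroup.zpowers (s i)]))
    (hpair : ∀ i, Cfsg.IsBrauerPairOf p M B (Subgroup.zpowers (s i)) (a i))
    (hsep : ∀ i j g, g * s i * g⁻¹ = s j →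
      conjPair g ⟨Subgroup.zpowers (s i), a i⟩ = ⟨Subgroup.zpowers (s j), a j⟩ → i = j) :
    Cfsg.blockRank p B + Fintype.card ι ≤ Nat.card B := by
  classical
  have := Fintype.ofFinite G
  obtain ⟨χ₀, hχ₀⟩ := IsPBlock.nonempty hM hB
  have hZ : ∀ i (y : G), y ∈ CG[Subgroup.zpowers (s i)] ↔ s i * y = y * s i := fun i y => by
    rw [Subgroup.mem_centralizer_iff]
    exact ⟨fun h => h _ (Subgroup.mem_zpowers _), fun h u ⟨n, hn⟩ =>
      hn ▸ ((show Commute (s i) y from h).zpow_left n).eq⟩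
  set S := Finset.univ.filter (fun x : G => x ≠ 1 ∧ ∃ k : ℕ, orderOf x = p ^ k) with hS
  set W : G → Finset (ι × G) :=
    fun x => Finset.univ.filter (fun t => t.2 * s t.1 * t.2⁻¹ = x) with hW
  have hsum : ∑ x ∈ S, (W x).card = Fintype.card ι * Nat.card G := by
    rw [Nat.card_eq_fintype_card, ← Fintype.card_prod, ← Finset.card_univ]
    refine (Finset.card_eq_sum_card_fiberwise (f := fun t : ι × G => t.2 * s t.1 * t.2⁻¹)
      (t := S) fun t _ => ?_).symm
    refine Finset.mem_filter.2 ⟨Finset.mem_univ _, fun e => hs1 t.1 (conj_eq_one_iff.1 e), ?_⟩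
    obtain ⟨k, hk⟩ := hsp t.1
    exact ⟨k, (MulEquiv.orderOf_eq (MulAut.conj t.2) (s t.1)).trans hk⟩
  have hkey : ∀ x ∈ S, ∃ r : ℝ, overReg p M ((MonoidHom.id G).comp
      (Subgroup.centralizer ({x} : Set G)).subtype) (χ₀ : G → ℂ) = (r : ℂ) ∧
      ((W x).card : ℝ) ≤ r := by
    intro x _
    set C := Subgroup.centralizer ({x} : Set G) with hCdef
    have hC : ∀ y : G, y ∈ C ↔ x * y = y * x := mem_centralizer_iff_comm x
    have hiso : ∀ t : W x, ∀ y : G, y ∈ CG[Subgroup.zpowers (s (t : ι × G).1)] ↔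
        (t : ι × G).2 * y * (t : ι × G).2⁻¹ ∈ C := fun t y => by
      have ht := (Finset.mem_filter.1 t.2).2
      rw [hZ, hC]
      generalize (t : ι × G).2 = g at ht ⊢
      generalize s (t : ι × G).1 = z at ht ⊢
      have hl : g * z * g⁻¹ * (g * y * g⁻¹) = g * (z * y) * g⁻¹ := by group
      have hr : g * y * g⁻¹ * (g * z * g⁻¹) = g * (y * z) * g⁻¹ := by group
      rw [ht] at hl hr
      rw [hl, hr, mul_left_inj, mul_right_inj]
    let β : W x → Set (Cfsg.IrrCharacter C) := fun t => mapBlock (conjIso _ C _ (hiso t)) (a _)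
    obtain ⟨r, hr, hle⟩ := exists_overReg_ge (p := p) hM C.subtype (χ₀ : G → ℂ)
      (Finset.univ.image β) fun b hb => by
        obtain ⟨t, -, rfl⟩ := Finset.mem_image.1 hb
        exact ⟨isPBlock_mapBlock _ (hpair _).1.2,
          mapBlock_subset_over _ _ (hiso t) (subset_over_of_pair hM hχ₀ (hpair _))⟩
    refine ⟨r, hr, le_trans ?_ hle⟩
    rw [← Fintype.card_coe, ← Finset.card_univ, ← Nat.cast_mul, Nat.cast_le]
    refine Finset.card_le_mul_card_image _ _ fun b hb => ?_
    obtain ⟨t₀, -, rfl⟩ := Finset.mem_image.1 hb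
    have hfib : ∀ t : W x, β t = β t₀ → (t : ι × G).1 = (t₀ : ι × G).1 := by
      intro t he
      have e1 := (Finset.mem_filter.1 t.2).2
      have e2 := (Finset.mem_filter.1 t₀.2).2
      have hconj : ((t₀ : ι × G).2⁻¹ * (t : ι × G).2) * s (t : ι × G).1 *
          ((t₀ : ι × G).2⁻¹ * (t : ι × G).2)⁻¹ = s (t₀ : ι × G).1 := by
        exact conj_div (e1.trans e2.symm)
      refine hsep _ _ _ hconj (idx_ext ?_ fun y => ?_)
      · show (Subgroup.zpowers (s (t : ι × G).1)).map _ = Subgroup.zpowers (s (t₀ : ι × G).1)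
        rw [MonoidHom.map_zpowers]
        exact congrArg Subgroup.zpowers hconj
      · rw [sbc_conjPair]
        have h := congrFun (congrArg (sbc C) he) ((t₀ : ι × G).2 * y * (t₀ : ι × G).2⁻¹)
        rw [sbc_mapBlock, sbc_mapBlock] at h
        convert h using 2 <;> group
    rw [Nat.card_eq_fintype_card, ← Finset.card_univ]
    refine Finset.card_le_card_of_injOn (fun t => if h : (t : ι × G).2 * (t₀ : ι × G).2⁻¹ ∈ C then
      (⟨_, h⟩ : C) else 1) (fun _ _ => Finset.mem_univ _) ?_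
    have hmemC : ∀ t : W x, β t = β t₀ → (t : ι × G).2 * (t₀ : ι × G).2⁻¹ ∈ C := fun t he => by
      have e1 := (Finset.mem_filter.1 t.2).2
      have e2 := (Finset.mem_filter.1 t₀.2).2
      rw [hfib t he] at e1
      exact (hC _).2 (conj_div_comm e1 e2)
    intro t ht t' ht' he
    have h1 := (Finset.mem_filter.1 ht).2
    have h2 := (Finset.mem_filter.1 ht').2
    simp only [dif_pos (hmemC t h1), dif_pos (hmemC t' h2), Subtype.mk.injEq, mul_left_inj] at he
    exact Subtype.ext (Prod.ext ((hfib t h1).trans (hfib t' h2).symm) he)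
  choose! r hr hle using hkey
  have h := card_mul_card_sub_blockRank hM (MonoidHom.id G) (χ₀ : G → ℂ)
  rw [over_id hM hB hχ₀] at h
  have h' : (Nat.card G : ℝ) * ((Nat.card B : ℝ) - (Cfsg.blockRank p B : ℝ)) = ∑ x ∈ S, r x := by
    refine Complex.ofReal_injective ?_
    push_cast
    rw [h, hS]
    refine Finset.sum_congr (Finset.ext fun _ => by simp) fun x hx => ?_
    exact hr x (by convert hx)
  have hge : (Nat.card G : ℝ) * (Fintype.card ι : ℝ) ≤
      (Nat.card G : ℝ) * ((Nat.card B : ℝ) - (Cfsg.blockRank p B : ℝ)) := by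
    rw [h', mul_comm, ← Nat.cast_mul, ← hsum, Nat.cast_sum]
    exact Finset.sum_le_sum hle
  have := le_of_mul_le_mul_left hge (Nat.cast_pos.2 Nat.card_pos)
  rw [le_sub_iff_add_le, add_comm] at this
  exact_mod_cast this

end Cfsg.Agent.BlockChar
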