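import Cfsg.Agent.BlockChar.RankOneFew
import Cfsg.Agent.BlockChar.SubsectionCount
import Cfsg.Agent.BlockChar.Contribution
import Cfsg.Agent.BlockChar.PositiveHeight
import Cfsg.Agent.BrauerPairs.AbelianDefect
import Cfsg.Agent.BrauerPairs.MaximalCriterion
import Mathlib.GroupTheory.SpecificGroups.KleinFour
import Mathlib.GroupTheory.Perm.Cycle.Type

/-!
# Blocks with a Klein four defect group
-/

set_option autoImplicit false

namespace Cfsg.Agent.BlockChar

open scoped ComplexConjugate
open Cfsg.Agent Cfsg.Agent.Blocks Cfsg.Agent.BrauerPairs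

universe u

variable {G : Type u} [Group G] {p : ℕ} {M : Ideal Cfsg.AlgInt}

local notation "CG[" Q "]" => Subgroup.centralizer (SetLike.coe Q)
local notation "sbc" => Cfsg.subgroupBlockCoeff

/-- A 2-block of defect two with a major subsection of rank one does not have exactly three
characters. -/
theorem card_ne_three [Fintype G] (hM : Cfsg.IsPModular 2 M) {B : Set (Cfsg.IrrCharacter G)}
    (hB : Cfsg.IsPBlock M B) (hd : Cfsg.blockDefect 2 B = 2) {y : G} (hy : orderOf y = 2)
    {C : Subgroup G} [Fintype C] (hC : ∀ a : G, a ∈ C ↔ y * a = a * y)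
    {b : Set (Cfsg.IrrCharacter C)} (hind : Cfsg.IsInducedBlock M C b B)
    (hdb : Cfsg.blockDefect 2 b = 2) (hb1 : Cfsg.blockRank 2 b = 1) : Nat.card B ≠ 3 := by
  classical
  intro hk
  have hyp : ∃ k, orderOf y = 2 ^ k := ⟨1, by rw [hy, pow_one]⟩
  let s : C := ⟨y, (hC y).2 rfl⟩
  have hs : s ∈ Subgroup.center C :=
    Subgroup.mem_center_iff.2 fun t => Subtype.ext ((hC t).1 t.2).symm
  have hsign : ∀ φ : Cfsg.IrrCharacter C, ∃ c : ℤ, subScalar s φ = (c : ℂ) := fun φ => by
    have hso : orderOf s = 2 := by rw [← Subgroup.orderOf_coe]; exact hy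
    rcases sq_eq_one_iff.1 (subScalar_pow_eq_one hs (hso ▸ pow_orderOf_eq_one s) φ) with h | h
    · exact ⟨1, by rw [h, Int.cast_one]⟩
    · exact ⟨-1, by rw [h, Int.cast_neg, Int.cast_one]⟩
  choose c hc using hsign
  have hint : ∀ x : Cfsg.IrrCharacter G × Cfsg.IrrCharacter G,
      ∃ n : ℤ, contrib 2 y C b x.1 x.2 = (n : ℂ) := by
    intro x
    have hmem : ∀ φ ∈ b.toFinite.toFinset, ∀ φ' : Cfsg.IrrCharacter C,
        subMult y C x.1 φ * conj (subMult y C x.2 φ') * regM 2 b φ φ' ∈
          (Int.castRingHom ℂ).range := fun φ hφ φ' => by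
      obtain ⟨m, hm⟩ := exists_nat_resMult C x.1 φ
      obtain ⟨m', hm'⟩ := exists_nat_resMult C x.2 φ'
      obtain ⟨r, hr⟩ := exists_int_regM hM (b.toFinite.mem_toFinset.1 hφ) φ'
      refine ⟨c φ * m * (c φ' * m') * r, ?_⟩
      rw [subMult_eq hs rfl, subMult_eq hs rfl, hc, hc, hm, hm', hr]
      simp
    obtain ⟨n, hn⟩ := sum_mem (t := b.toFinite.toFinset) fun φ hφ =>
      sum_mem (t := b.toFinite.toFinset) fun φ' _ => hmem φ hφ φ'
    exact ⟨n, hn.symm⟩
  choose n hn using hint
  set S := B.toFinite.toFinset with hS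
  have hh : ∀ χ ∈ B, Cfsg.blockHeight 2 B ((χ : Cfsg.IrrCharacter G) : G → ℂ) = 0 := fun χ hχ => by
    rcases height_le_defect_sub_two hM hB hχ with h | h
    · exact h
    · omega
  have hne : ∀ x ∈ S ×ˢ S, n x ≠ 0 := by
    intro x hx h0
    obtain ⟨h1, h2⟩ := Finset.mem_product.1 hx
    rw [Set.Finite.mem_toFinset] at h1 h2
    exact contrib_ne_zero hM hB hyp hC hind (hdb.trans hd.symm) h1 h2 (hh _ h1) (hh _ h2)
      (by rw [hn, h0, Int.cast_zero])
  have hsum : ∑ x ∈ S ×ˢ S, n x ^ 2 = 16 := by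
    have h := sum_contrib_sq hM hB hyp hC hind
    simp only [hn, map_intCast, hdb, hb1, ← sq] at h
    exact_mod_cast h
  have hcard : (S ×ˢ S).card = 9 := by
    rw [Finset.card_product, ← Set.ncard_eq_toFinset_card B B.toFinite, ← Nat.card_coe_set_eq, hk]
  have h1 : ∀ x ∈ S ×ˢ S, 1 ≤ n x ^ 2 := fun x hx => by
    have := sq_pos_of_ne_zero (hne x hx)
    omega
  have h3 : (3 : ℤ) ∣ ∑ x ∈ S ×ˢ S, (n x ^ 2 - 1) := Finset.dvd_sum fun x hx => by
    have h8 : ((8 : ℕ) : ℤ) ≤ ∑ z ∈ (S ×ˢ S).erase x, n z ^ 2 := by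
      have := Finset.card_nsmul_le_sum ((S ×ˢ S).erase x) (fun z => n z ^ 2) 1
        fun z hz => h1 z (Finset.mem_of_mem_erase hz)
      rw [Finset.card_erase_of_mem hx, hcard, nsmul_eq_mul, mul_one] at this
      exact this
    have h9 := Finset.add_sum_erase (S ×ˢ S) (fun z => n z ^ 2) hx
    have hle : n x ^ 2 ≤ 8 := by simp only [hsum] at h9; omega
    have hlo : -2 ≤ n x := by nlinarith
    have hhi : n x ≤ 2 := by nlinarith
    have h0 := hne x hx
    interval_cases h : n x <;> simp_all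
  rw [Finset.sum_sub_distrib, hsum, Finset.sum_const, hcard] at h3
  norm_num at h3

variable [Finite G]

/-- The defect of a block bounds a centralizing group of a pair above it. -/
theorem card_le_pow_defect_of_normalSubpair (hM : Cfsg.IsPModular p M) {Q P : Subgroup G}
    {f : Set (Cfsg.IrrCharacter CG[Q])} {e : Set (Cfsg.IrrCharacter CG[P])}
    (h : Cfsg.IsNormalSubpair p M Q f P e) (hPC : P ≤ CG[Q]) :
    Nat.card P ≤ p ^ Cfsg.blockDefect p f := by
  classical
  have := Fact.mk hM.1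
  have := Fintype.ofFinite G
  letI := Fintype.ofFinite CG[Q]
  letI := Fintype.ofFinite CG[P]
  have hmono : CG[P] ≤ CG[Q] := Subgroup.centralizer_le (SetLike.coe_subset_coe.2 h.2.2.1)
  obtain ⟨ξ, hξ⟩ := IsPBlock.nonempty hM h.2.1.2
  have hω := h.2.2.2.2.2 ξ hξ
  rw [brauerOmega_eq] at hω
  obtain ⟨z, hz⟩ := exists_apply_not_mem_of_omega hM
    (IsInv.isClassFunction_res ((isInv_sbc f).mono hmono))
    (χ := ξ) (fun hd => not_memLocalIdeal_one hM (by simpa using memLocalIdeal_sub hM hd hω))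
  rw [sbc_of_mem _ (hmono z.2)] at hz
  obtain ⟨E, hE⟩ := DefectThms.exists_defectGroup hM h.1.2
  obtain ⟨k, hk⟩ := exists_conj_le_of_centralizer hM h.1.2 hE hz (R := P.subgroupOf CG[Q])
    (h.2.1.1.comap_subtype) fun u hu => Subgroup.mem_centralizer_singleton_iff.2
      (Subtype.ext (Subgroup.mem_centralizer_iff.1 z.2 u hu))
  rw [← card_defectGroup hM h.1.2 hE]
  refine le_trans (le_of_eq ?_) (Subgroup.card_le_of_le hk)
  rw [DefectThms.card_map_conj, Nat.card_congr (Subgroup.subgroupOfEquivOfLe hPC).toEquiv]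

/-- The block of a pair induces its block. -/
theorem isInducedBlock_of_pair (hM : Cfsg.IsPModular p M) {B : Set (Cfsg.IrrCharacter G)}
    {Q : Subgroup G} {e : Set (Cfsg.IrrCharacter CG[Q])}
    (h : Cfsg.IsBrauerPairOf p M B Q e) : Cfsg.IsInducedBlock M CG[Q] e B := by
  classical
  have := Fintype.ofFinite G
  letI := Fintype.ofFinite CG[Q]
  obtain ⟨ξ, hξ⟩ := IsPBlock.nonempty hM h.1.2
  have hω := h.2.2 ξ hξ
  rw [brauerOmega_eq] at hω
  have hin : ξ ∈ inducing M CG[Q] B := fun hd => not_memLocalIdeal_one hM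
    (by simpa using memLocalIdeal_sub hM hd hω)
  exact (mem_inducing_iff hM h.1.1 (mem_centralizer_iff_forall Q) h.2.1 h.1.2 hξ).1 hin

/-- The inducing block of the centralizer gives a pair. -/
theorem pair_of_isInducedBlock (hM : Cfsg.IsPModular p M) {B : Set (Cfsg.IrrCharacter G)}
    {Q : Subgroup G} (hQ : IsPGroup p Q) {e : Set (Cfsg.IrrCharacter CG[Q])}
    (h : Cfsg.IsInducedBlock M CG[Q] e B) : Cfsg.IsBrauerPairOf p M B Q e := by
  classical
  have := Fintype.ofFinite G
  letI := Fintype.ofFinite CG[Q]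
  obtain ⟨ξ, hξ⟩ := IsPBlock.nonempty hM h.1
  refine memLocalIdeal_brauerOmega_block hM hQ h.1 h.2.1 hξ ?_
  rw [brauerOmega_eq]
  have h1 := memLocalIdeal_omega_res_blockCoeff_sub hM hQ (mem_centralizer_iff_forall Q) h.2.1 ξ
  rwa [if_pos ((mem_inducing_iff hM hQ (mem_centralizer_iff_forall Q) h.2.1 h.1 hξ).2 h)] at h1

open scoped Classical in
/-- A block with Klein four defect group. -/
theorem klein_four_block (hM : Cfsg.IsPModular 2 M) {B : Set (Cfsg.IrrCharacter G)}
    (hB : Cfsg.IsPBlock M B) {P : Subgroup G} (hPD : Cfsg.IsDefectGroup 2 M B P) (hV : IsKleinFour P)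
    {c : Set (Cfsg.IrrCharacter CG[P])} (hc : Cfsg.IsInducedBlock M CG[P] c B) {T : Subgroup G}
    (hT : ∀ g : G, g ∈ T ↔ g ∈ Subgroup.normalizer (P : Set G) ∧
      Cfsg.StabilizesBlock CG[P] c g) :
    ((CG[P]).relIndex T = 1 ∨ (CG[P]).relIndex T = 3) ∧ Nat.card B = 4 ∧
      Cfsg.blockRank 2 B = (CG[P]).relIndex T := by
  classical
  have := Fact.mk Nat.prime_two
  have := Fintype.ofFinite G
  have hP4 : Nat.card P = 4 := hV.card_four
  have hsq : ∀ x ∈ P, x * x = 1 := fun x hx => by
    have h := Monoid.pow_exponent_eq_one (⟨x, hx⟩ : P)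
    rw [hV.exponent_two, pow_two] at h
    exact congrArg Subtype.val h
  have hab : ∀ x ∈ P, ∀ y ∈ P, x * y = y * x := fun x hx y hy => by
    have hi : ∀ z ∈ P, z⁻¹ = z := fun z hz => inv_eq_of_mul_eq_one_left (hsq z hz)
    rw [← hi _ (P.mul_mem hx hy), mul_inv_rev, hi x hx, hi y hy]
  have hPC : P ≤ CG[P] := fun a ha => Subgroup.mem_centralizer_iff.2 fun b hb => hab b hb a ha
  have hd : Cfsg.blockDefect 2 B = 2 := by
    have h := card_defectGroup hM hB hPD
    rw [hP4, show 4 = 2 ^ 2 by norm_num] at h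
    exact (Nat.pow_right_injective le_rfl h).symm
  have hpair : Cfsg.IsBrauerPairOf 2 M B P c :=
    pair_of_isInducedBlock hM (DefectThms.isPGroup_of_isDefectGroup hPD) hc
  have hmax : Cfsg.IsMaximalBrauerPair 2 M B P c := by
    refine ⟨hpair, fun R g hR hle => ?_⟩
    obtain ⟨k, hk⟩ := exists_conj_le_of_pair hM hR hPD
    refine (Subgroup.eq_of_le_of_card_ge (le_of_subpairLE hle) ?_).symm
    rw [← DefectThms.card_map_conj R k]
    exact Subgroup.card_le_of_le hk
  -- the action on the three involutions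
  let X := {x : G // x ∈ P ∧ x ≠ 1}
  have hX : Fintype.card X = 3 := by
    have e : X ≃ {x : P // x ≠ 1} :=
      { toFun := fun x => ⟨⟨x.1, x.2.1⟩, fun h => x.2.2 (congrArg Subtype.val h)⟩
        invFun := fun x => ⟨x.1.1, x.1.2, fun h => x.2 (Subtype.ext h)⟩
        left_inv := fun _ => rfl
        right_inv := fun _ => rfl }
    rw [Fintype.card_congr e, Fintype.card_subtype_compl, Fintype.card_subtype_eq,
      ← Nat.card_eq_fintype_card, hP4]
  have hXo : ∀ x : X, orderOf (x : G) = 2 := fun x =>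
    orderOf_eq_prime (by rw [pow_two]; exact hsq _ x.2.1) x.2.2
  have hconjX : ∀ t : T, ∀ x : X, (t : G) * x * (t : G)⁻¹ ∈ P ∧ (t : G) * x * (t : G)⁻¹ ≠ 1 :=
    fun t x => ⟨(Subgroup.mem_normalizer_iff.1 ((hT t).1 t.2).1 x).1 x.2.1,
      fun h => x.2.2 (conj_eq_one_iff.1 h)⟩
  let σ : T → Equiv.Perm X := fun t =>
    { toFun := fun x => ⟨_, hconjX t x⟩
      invFun := fun x => ⟨_, hconjX t⁻¹ x⟩
      left_inv := fun x => Subtype.ext (by simp [mul_assoc])
      right_inv := fun x => Subtype.ext (by simp [mul_assoc]) }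
  let φ : T →* Equiv.Perm X :=
    { toFun := σ
      map_one' := Equiv.ext fun x => Subtype.ext (by simp [σ])
      map_mul' := fun a b => Equiv.ext fun x => Subtype.ext (by simp [σ, mul_assoc]) }
  have hker : φ.ker = (CG[P]).subgroupOf T := Subgroup.ext fun t => by
    rw [MonoidHom.mem_ker, Subgroup.mem_subgroupOf, Subgroup.mem_centralizer_iff]
    constructor
    · intro h u hu
      by_cases hu1 : u = 1
      · rw [hu1, one_mul, mul_one]
      · have := congrArg Subtype.val (Equiv.ext_iff.1 h ⟨u, hu, hu1⟩)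
        change (t : G) * u * (t : G)⁻¹ = u at this
        exact (mul_inv_eq_iff_eq_mul.1 this).symm
    · exact fun h => Equiv.ext fun x => Subtype.ext (by
        show (t : G) * x * (t : G)⁻¹ = x
        rw [← h x x.2.1, mul_inv_cancel_right])
  have he : (CG[P]).relIndex T = Nat.card φ.range := by
    rw [Subgroup.relIndex, ← hker, Subgroup.index_ker]
  have h6 : Nat.card φ.range ∣ 6 := by
    have h := Subgroup.card_subgroup_dvd_card φ.range
    rwa [Nat.card_perm, Nat.card_eq_fintype_card (α := X), hX] at h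
  have hodd : ¬ 2 ∣ Nat.card φ.range := by
    intro h2
    obtain ⟨⟨r, g, rfl⟩, hr⟩ := exists_prime_orderOf_dvd_card' (G := φ.range) 2 h2
    rw [← Subgroup.orderOf_coe] at hr
    change orderOf (φ g) = _ at hr
    set u := pPartOf 2 g with hu
    set w := pPrimePartOf 2 g with hw
    have hwr : φ w = 1 := by
      rw [← orderOf_eq_one_iff, ← Nat.dvd_one,
        ← (Nat.prime_two.coprime_iff_not_dvd.2 (not_dvd_orderOf_pPrimePartOf Nat.prime_two g))]
      refine Nat.dvd_gcd ?_ (orderOf_map_dvd φ w)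
      rw [← hr]
      show orderOf (φ (g ^ pPrimeExp 2 (orderOf g))) ∣ _
      rw [map_pow]
      exact orderOf_pow_dvd _
    have hgu : φ g = φ u := by
      conv_lhs => rw [← pPartOf_mul_pPrimePartOf Nat.prime_two g]
      rw [map_mul, ← hw, hwr, mul_one]
    obtain ⟨k, hk⟩ := orderOf_pPartOf Nat.prime_two g
    have h := mem_sup_of_maximal hM hmax ((hT _).1 u.2).1 ((hT _).1 u.2).2
      ⟨k, (Subgroup.orderOf_coe u).trans hk⟩
    rw [sup_of_le_right hPC] at h
    have hu1 : φ u = 1 := MonoidHom.mem_ker.1 (hker ▸ Subgroup.mem_subgroupOf.2 h)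
    rw [hgu, hu1, orderOf_one] at hr
    omega
  have hcases : Nat.card φ.range = 1 ∨ Nat.card φ.range = 3 := by
    have hle := Nat.le_of_dvd (by norm_num) h6
    interval_cases h : Nat.card φ.range <;> omega
  -- the pair below each involution
  have hsub : ∀ x : X, Subgroup.zpowers (x : G) ≤ P := fun x => Subgroup.zpowers_le.2 x.2.1
  have hPZ : ∀ x : X, P ≤ CG[Subgroup.zpowers (x : G)] := fun x =>
    hPC.trans (Subgroup.centralizer_le (SetLike.coe_subset_coe.2 (hsub x)))
  have hPN : ∀ x : X, P ≤ Subgroup.normalizer ((Subgroup.zpowers (x : G) : Subgroup G) : Set G) :=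
    fun x => (hPZ x).trans (Subgroup.centralizer_le_normalizer _)
  choose a ha _ using fun x : X => existsUnique_normalSubpair hM hpair.1 (hsub x) (hPN x)
  have hle : ∀ x : X, PairLE 2 M ⟨Subgroup.zpowers (x : G), a x⟩ ⟨P, c⟩ := fun x =>
    Relation.ReflTransGen.single (ha x)
  have hapair : ∀ x : X, Cfsg.IsBrauerPairOf 2 M B (Subgroup.zpowers (x : G)) (a x) := fun x =>
    (isBrauerPairOf_iff_of_subpairLE hM (hle x) B).1 hpair
  have hk4 : Nat.card B ≤ 4 := (card_le_pow_defect hM 2 G B hB hd).1 le_rfl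
  have hl1 := blockRank_pos hM hB
  rw [he]
  refine ⟨hcases, ?_⟩
  rcases hcases with h1 | h3
  · -- no fusion
    have hcount := blockRank_add_card_le hM hB (ι := X) (fun x => (x : G)) (fun x => x.2.2)
      (fun x => ⟨1, by rw [hXo x, pow_one]⟩) a hapair fun i j g hg hfix => by
        obtain ⟨y, hy, hyv⟩ := exists_fixing_extend hM hmax hab (hle i)
          (show PairLE 2 M (conjPair g ⟨Subgroup.zpowers (i : G), a i⟩) ⟨P, c⟩ by
            rw [hfix]; exact hle j)
        have hyT : y ∈ T := (hT y).2 ((conjPair_eq_iff hM hpair.1.2 y).1 hy)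
        have hyC : y ∈ CG[P] := Subgroup.relIndex_eq_one.1 (he.trans h1) hyT
        refine Subtype.ext ?_
        rw [← hg, ← hyv _ (Subgroup.mem_zpowers _),
          ← Subgroup.mem_centralizer_iff.1 hyC _ i.2.1, mul_inv_cancel_right]
    rw [hX] at hcount
    omega
  · -- transitive fusion
    obtain ⟨⟨r, g, rfl⟩, hr⟩ := exists_prime_orderOf_dvd_card' (G := φ.range) 3 (by rw [h3])
    rw [← Subgroup.orderOf_coe] at hr
    change orderOf (φ g) = _ at hr
    have hr3 : φ g ^ 3 ^ 1 = 1 := by rw [pow_one, ← hr, pow_orderOf_eq_one]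
    have hnofix : ∀ x : X, φ g x ≠ x := by
      intro x hx
      have := Fact.mk Nat.prime_three
      have hmod := Equiv.Perm.card_compl_support_modEq hr3
      have hpos : 0 < (φ g).supportᶜ.card :=
        Finset.card_pos.2 ⟨x, Finset.mem_compl.2 (Equiv.Perm.notMem_support.2 hx)⟩
      have hle' : (φ g).supportᶜ.card ≤ 3 := (Finset.card_le_univ _).trans_eq hX
      rw [hX, Nat.ModEq] at hmod
      have hzero : (φ g).support.card = 0 := by
        rw [Finset.card_compl, hX] at hpos hle' hmod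
        omega
      rw [Finset.card_eq_zero, Equiv.Perm.support_eq_empty_iff] at hzero
      rw [hzero, orderOf_one] at hr
      omega
    obtain ⟨s⟩ : Nonempty X := Fintype.card_pos_iff.1 (by omega)
    set s1 := φ g s with hs1
    set s2 := φ g s1 with hs2
    have h20 : s2 ≠ s := fun h => by
      have e : φ g (φ g (φ g s)) = s := by
        have := Equiv.ext_iff.1 hr3 s
        simpa [pow_succ] using this
      rw [← hs1, ← hs2, h] at e
      exact hnofix s e
    have huniv : ({s, s1, s2} : Finset X) = Finset.univ := Finset.eq_univ_of_card _ (by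
      rw [hX]
      have e1 : s ≠ s1 := (hnofix s).symm
      have e2 : s1 ≠ s2 := (hnofix s1).symm
      simp [e1, e2, h20.symm])
    have htrans : ∀ t ∈ P, t ≠ 1 → ∃ j : ℕ, (g : G) ^ j * (s : G) * ((g : G) ^ j)⁻¹ = t := by
      intro t ht ht1
      have hm : (⟨t, ht, ht1⟩ : X) ∈ ({s, s1, s2} : Finset X) := huniv ▸ Finset.mem_univ _
      simp only [Finset.mem_insert, Finset.mem_singleton] at hm
      rcases hm with h | h | h
      · exact ⟨0, by simpa using (congrArg Subtype.val h).symm⟩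
      · exact ⟨1, by simpa [hs1, φ, σ] using (congrArg Subtype.val h).symm⟩
      · exact ⟨2, by simpa [hs1, hs2, φ, σ, pow_two, mul_assoc] using
          (congrArg Subtype.val h).symm⟩
    have hkl := card_eq_rank_add_one_of_transitive hM hPD (Or.inl ⟨rfl, hP4.le⟩) hpair rfl
      ((conjPair_eq_iff hM hpair.1.2 _).2 ((hT g).1 g.2)) s.2.1 (hXo s) htrans
    have hne1 : Cfsg.blockRank 2 B ≠ 1 := fun h => by
      have := (pow_defect_eq_card hM hB h hk4 (by omega)).1
      rw [hd] at this
      omega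
    letI := Fintype.ofFinite CG[Subgroup.zpowers (s : G)]
    have hC : ∀ b : G, b ∈ CG[Subgroup.zpowers (s : G)] ↔ (s : G) * b = b * s := fun b => by
      rw [Subgroup.mem_centralizer_iff]
      exact ⟨fun h => h _ (Subgroup.mem_zpowers _), fun h u ⟨n, hn⟩ =>
        hn ▸ ((show Commute (s : G) b from h).zpow_left n).eq⟩
    obtain ⟨E, hE⟩ := DefectThms.exists_defectGroup hM (ha s).1.2
    have hdb : Cfsg.blockDefect 2 (a s) = 2 := by
      refine le_antisymm ?_ ?_
      · have hZ : IsPGroup 2 (Subgroup.zpowers (s : G)) := (ha s).1.1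
        obtain ⟨k, hk⟩ := exists_conj_sup_le_of_inducing hM hB hPD hZ
          (mem_centralizer_iff_forall _) (ha s).1.2 (fun ψ hψ =>
            (mem_inducing_iff hM hZ (mem_centralizer_iff_forall _) hB (ha s).1.2 hψ).2
              (isInducedBlock_of_pair hM (hapair s))) hE
        have h := (Subgroup.card_le_of_le
          (Subgroup.map_mono (f := (MulAut.conj k).toMonoidHom)
            (le_sup_right : E.map (Subgroup.subtype _) ≤ _))).trans (Subgroup.card_le_of_le hk)
        rw [DefectThms.card_map_conj, Subgroup.card_subtype, card_defectGroup hM (ha s).1.2 hE,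
          hP4] at h
        exact (Nat.pow_le_pow_iff_right (le_refl 2)).1 (h.trans (by norm_num))
      · have h := card_le_pow_defect_of_normalSubpair hM (ha s) (hPZ s)
        rw [hP4] at h
        exact (Nat.pow_le_pow_iff_right (le_refl 2)).1 (le_trans (by norm_num) h)
    have hb1 : Cfsg.blockRank 2 (a s) = 1 := blockRank_eq_one_of_central_two hM
      (s := (⟨s, (hC s).2 rfl⟩ : CG[Subgroup.zpowers (s : G)]))
      (Subgroup.mem_center_iff.2 fun t => Subtype.ext ((hC t).1 t.2).symm)
      (by rw [Subgroup.orderOf_mk]; exact hXo s) (ha s).1.2 hdb.le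
    have h3' := card_ne_three hM hB hd (hXo s) hC (isInducedBlock_of_pair hM (hapair s)) hdb hb1
    omega

end Cfsg.Agent.BlockChar
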