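import Cfsg.Agent.Blocks.Sections
import Cfsg.Agent.Blocks.Congr
import Cfsg.Agent.Char.Gen

/-!
# Characters separate p-regular classes modulo a prime over p

For a p-regular element `u` the averages of `conj (χ (u y))` over a Sylow subgroup of its
centralizer are integral and combine the characters into a function supported, on the p-regular
elements, at the class of `u`, with a value prime to `p`.
-/

namespace Cfsg.Agent.BlockChar

open scoped ComplexConjugate
open Cfsg.Agent Cfsg.Agent.Blocks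

universe u

variable {G : Type u} [Group G] [Finite G] {p : ℕ} {M : Ideal Cfsg.AlgInt}

/-- Characters separate p-regular classes modulo a prime over `p`. -/
theorem isConj_of_congr (hM : Cfsg.IsPModular p M) {u v : G} (hu : ¬ p ∣ orderOf u)
    (hv : ¬ p ∣ orderOf v)
    (h : ∀ χ : Cfsg.IrrCharacter G, Cfsg.MemLocalIdeal M ((χ : G → ℂ) u - (χ : G → ℂ) v)) :
    IsConj u v := by
  classical
  have := Fintype.ofFinite G
  have hp := hM.1
  have := Fact.mk hp
  set C := Subgroup.centralizer ({u} : Set G) with hC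
  have : Fintype C := Fintype.ofFinite C
  let P : Sylow p C := default
  let S : Subgroup C := (P : Subgroup C)
  have : Fintype S := Fintype.ofFinite S
  let s : C := ⟨u, Subgroup.mem_centralizer_singleton_iff.2 rfl⟩
  have hs : s ∈ Subgroup.center C := Subgroup.mem_center_iff.2 fun t =>
    Subtype.ext (Subgroup.mem_centralizer_singleton_iff.1 t.2)
  set c : Cfsg.IrrCharacter G → ℂ := fun χ =>
    (Nat.card S : ℂ)⁻¹ * ∑ y : S, conj ((χ : G → ℂ) (((s * (y : C) : C)) : G)) with hc
  -- the averages are algebraic integers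
  have hcint : ∀ χ : Cfsg.IrrCharacter G, IsIntegral ℤ (c χ) := by
    intro χ
    obtain ⟨m, -, hm, -⟩ :=
      Char.IsChar.exists_mult (Char.isCharacter_res C (Char.IsIrr.isCharacter χ.2))
    have e : ∀ t : C, (χ : G → ℂ) ((s * t : C) : G) =
        ∑ η : Cfsg.IrrCharacter C, (m η : ℂ) * (Cfsg.centralChar (η : C → ℂ) s * (η : C → ℂ) t) :=
      fun t => by
        refine (congrFun hm (s * t)).trans ?_
        simp only [Finset.sum_apply, Pi.smul_apply, smul_eq_mul]
        exact Finset.sum_congr rfl fun η _ => by rw [irr_mul_central η.2 hs]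
    have he : c χ = conj (∑ η : Cfsg.IrrCharacter C, (m η : ℂ) *
        (Cfsg.centralChar (η : C → ℂ) s *
          Cfsg.classInner (fun y : S => (η : C → ℂ) y) (fun _ => 1))) := by
      rw [hc]
      simp only [e, Cfsg.classInner, map_one, mul_one, map_sum, map_mul, map_natCast, map_inv₀,
        Finset.mul_sum]
      rw [Finset.sum_comm]
      exact Finset.sum_congr rfl fun η _ => Finset.sum_congr rfl fun y _ => by ring
    rw [he]
    refine IsIntegral.map (Complex.conjAe.toAlgHom.restrictScalars ℤ)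
      (IsIntegral.sum _ fun η _ => ?_)
    obtain ⟨k, hk⟩ := Char.classInner_isCharacter_eq_natCast
      (Char.isCharacter_res S (Char.IsIrr.isCharacter η.2)) (Char.IsIrr.isCharacter
        (Char.isIrrCharacter_one (G := S)))
    rw [hk]
    exact (Blocks.isIntegral_natCast _).mul
      ((isIntegral_centralChar η.2 s).mul (Blocks.isIntegral_natCast _))
  -- the combination is supported at the class of `u`
  have hval : ∀ w : G, ¬ p ∣ orderOf w → ∑ χ : Cfsg.IrrCharacter G, c χ * (χ : G → ℂ) w =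
      if IsConj w u then (Nat.card C : ℂ) / (Nat.card S : ℂ) else 0 := by
    intro w hw
    have hyp : ∀ y : S, IsConj w (((s * (y : C) : C)) : G) → y = 1 := by
      intro y hy
      obtain ⟨k, hk⟩ := IsPGroup.iff_orderOf.1 P.2 y
      have hk' : orderOf (((y : C) : G)) = p ^ k := by
        rw [Subgroup.orderOf_coe, Subgroup.orderOf_coe, hk]
      have hcomm : Commute (((y : C) : G)) u :=
        Subgroup.mem_centralizer_singleton_iff.1 (y : C).2
      have hord : orderOf (((y : C) : G) * u) = p ^ k * orderOf u := by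
        rw [hcomm.orderOf_mul_eq_mul_orderOf_of_coprime
          (hk' ▸ Nat.Coprime.pow_left k (hp.coprime_iff_not_dvd.2 hu)), hk']
      rcases Nat.eq_zero_or_pos k with h0 | h0
      · exact Subtype.ext (Subtype.ext (orderOf_eq_one_iff.1 (by rw [hk', h0, pow_zero])))
      · refine absurd ?_ hw
        obtain ⟨t, ht⟩ := isConj_iff.1 hy
        have : orderOf w = orderOf (((y : C) : G) * u) := by
          rw [hcomm.eq]
          refine (MulEquiv.orderOf_eq (MulAut.conj t) w).symm.trans (congrArg orderOf ?_)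
          simpa [s] using ht
        rw [this, hord]
        exact (dvd_pow_self p h0.ne').mul_right _
    simp only [c, Finset.mul_sum, Finset.sum_mul]
    rw [Finset.sum_comm, Finset.sum_eq_single (1 : S)]
    · rw [Finset.sum_congr rfl (g := fun χ : Cfsg.IrrCharacter G => (Nat.card S : ℂ)⁻¹ *
        ((χ : G → ℂ) w * conj ((χ : G → ℂ) u))) (fun χ _ => by simp [s]; ring),
        ← Finset.mul_sum, Char.second_orthogonality]
      by_cases hwu : IsConj w u
      · rw [if_pos hwu, if_pos hwu, inv_mul_eq_div]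
        congr 2
        have hidx : (Subgroup.centralizer ({w} : Set G)).index = C.index := by
          rw [← Char.card_isConj_eq_index, ← Char.card_isConj_eq_index]
          exact Nat.card_congr (Equiv.subtypeEquivRight fun x =>
            ⟨fun e => hwu.symm.trans e, fun e => hwu.trans e⟩)
        refine Nat.eq_of_mul_eq_mul_left
          (Nat.pos_of_ne_zero (Subgroup.index_ne_zero_of_finite (H := C))) ?_
        conv_lhs => rw [← hidx, Subgroup.index_mul_card]
        rw [Subgroup.index_mul_card]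
      · rw [if_neg hwu, if_neg hwu, mul_zero]
    · intro y _ hy
      rw [Finset.sum_congr rfl (g := fun χ : Cfsg.IrrCharacter G => (Nat.card S : ℂ)⁻¹ *
        ((χ : G → ℂ) w * conj ((χ : G → ℂ) (((s * (y : C) : C)) : G)))) (fun χ _ => by ring),
        ← Finset.mul_sum, Char.second_orthogonality, if_neg fun hc => hy (hyp y hc), mul_zero]
    · simp
  by_contra hne
  have hsum : Cfsg.MemLocalIdeal M
      (∑ χ : Cfsg.IrrCharacter G, c χ * ((χ : G → ℂ) u - (χ : G → ℂ) v)) :=
    memLocalIdeal_sum hM _ fun χ _ =>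
      memLocalIdeal_mul_left hM (memLocalRing_of_isIntegral hM (hcint χ)) (h χ)
  simp only [mul_sub, Finset.sum_sub_distrib, hval u hu, hval v hv, if_pos (IsConj.refl u),
    if_neg fun hc : IsConj v u => hne hc.symm, sub_zero] at hsum
  have hidx : (Nat.card C : ℂ) / (Nat.card S : ℂ) = (S.index : ℂ) := by
    rw [div_eq_iff (Nat.cast_ne_zero.2 Nat.card_pos.ne')]
    exact_mod_cast (Subgroup.index_mul_card S).symm
  rw [hidx] at hsum
  exact P.not_dvd_index ((memLocalIdeal_natCast_iff hM _).1 hsum)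

theorem exists_sum_pow_eq {ι : Type*} (hp : p.Prime) (k : ℕ) (s : Finset ι)
    (a : ι → Cfsg.AlgInt) :
    ∃ r : Cfsg.AlgInt,
      (∑ i ∈ s, a i) ^ p ^ k = ∑ i ∈ s, a i ^ p ^ k + (p : Cfsg.AlgInt) * r := by
  classical
  induction s using Finset.induction_on with
  | empty => exact ⟨0, by simp [hp.ne_zero]⟩
  | insert i s hi ih =>
    obtain ⟨r, hr⟩ := ih
    obtain ⟨r', hr'⟩ := exists_add_pow_prime_pow_eq hp (a i) (∑ j ∈ s, a j) k
    refine ⟨r + a i * (∑ j ∈ s, a j) * r', ?_⟩
    rw [Finset.sum_insert hi, Finset.sum_insert hi, hr', hr]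
    ring

/-- A character value raised to a power of `p` is congruent to the value at that power. -/
theorem exists_pow_char_eq (hp : p.Prime) {χ : G → ℂ} (hχ : Cfsg.IsCharacter G χ) (g : G)
    (k : ℕ) : ∃ γ : Cfsg.AlgInt, χ g ^ p ^ k - χ (g ^ p ^ k) = (p : ℂ) * (γ : ℂ) := by
  obtain ⟨n, ρ, rfl⟩ := hχ
  obtain ⟨μ, b, hb, hμ, hχ⟩ := Char.exists_eigenbasis ρ g
  have hbe : ∀ (m : ℕ) i, ρ (g ^ m) (b i) = μ i ^ m • b i := fun m => by
    induction m with
    | zero => intro i; simp
    | succ m ih =>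
      intro i
      rw [pow_succ', map_mul, Module.End.mul_apply, ih, map_smul, hb, smul_smul, pow_succ]
  rw [show ρ.character (g ^ p ^ k) = _ from Char.trace_eq_sum_of_eigenbasis _ b _ (hbe _), hχ]
  let a : Fin _ → Cfsg.AlgInt := fun i =>
    ⟨μ i, isIntegral_of_pow_eq_one (orderOf_pos g) (hμ i)⟩
  obtain ⟨r, hr⟩ := exists_sum_pow_eq hp k Finset.univ a
  refine ⟨r, ?_⟩
  have := congrArg (fun z : Cfsg.AlgInt => (z : ℂ)) hr
  push_cast at this
  rw [this]
  ring

theorem pRegular_parts_isConj_iff [Fact p.Prime] (x y x' y' : G)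
    (hx : (∃ k : ℕ, orderOf (x * x'⁻¹) = p ^ k) ∧ Commute (x * x'⁻¹) x' ∧ ¬ p ∣ orderOf x')
    (hy : (∃ k : ℕ, orderOf (y * y'⁻¹) = p ^ k) ∧ Commute (y * y'⁻¹) y' ∧ ¬ p ∣ orderOf y') :
    IsConj x' y' ↔ ∀ χ : Cfsg.IrrCharacter G, ∃ γ : Cfsg.AlgInt,
      (χ : G → ℂ) x ^ (p ^ (Nat.card G).factorization p) -
        (χ : G → ℂ) y ^ (p ^ (Nat.card G).factorization p) = (p : ℂ) * (γ : ℂ) := by
  have hp : p.Prime := Fact.out
  set a := (Nat.card G).factorization p
  have hpow : ∀ z z' : G, (∃ k : ℕ, orderOf (z * z'⁻¹) = p ^ k) → Commute (z * z'⁻¹) z' →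
      z ^ p ^ a = z' ^ p ^ a := by
    intro z z' ⟨k, hk⟩ hcomm
    have hka : k ≤ a := (hp.pow_dvd_iff_le_factorization Nat.card_pos.ne').1
      (hk ▸ orderOf_dvd_natCard _)
    have h1 : (z * z'⁻¹) ^ p ^ a = 1 :=
      orderOf_dvd_iff_pow_eq_one.1 (hk ▸ pow_dvd_pow p hka)
    calc z ^ p ^ a = (z * z'⁻¹ * z') ^ p ^ a := by rw [inv_mul_cancel_right]
      _ = z' ^ p ^ a := by rw [hcomm.mul_pow, h1, one_mul]
  have hX := hpow x x' hx.1 hx.2.1
  have hY := hpow y y' hy.1 hy.2.1
  constructor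
  · intro h χ
    obtain ⟨γ₁, h₁⟩ := exists_pow_char_eq hp (Char.IsIrr.isCharacter χ.2) x a
    obtain ⟨γ₂, h₂⟩ := exists_pow_char_eq hp (Char.IsIrr.isCharacter χ.2) y a
    refine ⟨γ₁ - γ₂, ?_⟩
    have e : (χ : G → ℂ) (x ^ p ^ a) = (χ : G → ℂ) (y ^ p ^ a) := by
      rw [hX, hY]
      exact Char.classFun_isConj (Char.isClassFunction_of_isIrr χ.2) (h.pow _)
    push_cast
    linear_combination h₁ - h₂ + e
  · intro h
    obtain ⟨M, hM⟩ := exists_isPModular p hp
    have hco : ∀ z : G, ¬ p ∣ orderOf z → (p ^ a).Coprime (orderOf z) := fun z hz =>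
      Nat.Coprime.pow_left a (hp.coprime_iff_not_dvd.2 hz)
    have hreg : ∀ z : G, ¬ p ∣ orderOf z → ¬ p ∣ orderOf (z ^ p ^ a) := fun z hz hd =>
      hz (hd.trans (orderOf_pow_dvd _))
    have hconj : IsConj (x' ^ p ^ a) (y' ^ p ^ a) := by
      refine isConj_of_congr hM (hreg _ hx.2.2) (hreg _ hy.2.2) fun χ => ?_
      obtain ⟨γ, hγ⟩ := h χ
      obtain ⟨γ₁, h₁⟩ := exists_pow_char_eq hp (Char.IsIrr.isCharacter χ.2) x a
      obtain ⟨γ₂, h₂⟩ := exists_pow_char_eq hp (Char.IsIrr.isCharacter χ.2) y a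
      rw [hX] at h₁
      rw [hY] at h₂
      have e : (χ : G → ℂ) (x' ^ p ^ a) - (χ : G → ℂ) (y' ^ p ^ a) =
          (p : ℂ) * ((γ - γ₁ + γ₂ : Cfsg.AlgInt) : ℂ) := by
        push_cast
        linear_combination hγ - h₁ + h₂
      rw [e]
      exact memLocalIdeal_mul_right hM ((memLocalIdeal_natCast_iff hM p).2 dvd_rfl)
        (memLocalRing_of_isIntegral hM (γ - γ₁ + γ₂).2)
    have hpair : (p ^ a).Coprime (orderOf (x', y')) := by
      refine Nat.Coprime.pow_left a (hp.coprime_iff_not_dvd.2 fun hd => ?_)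
      rw [Prod.orderOf] at hd
      rcases hp.dvd_mul.1 (hd.trans (Nat.lcm_dvd_mul _ _)) with hd | hd
      · exact hx.2.2 hd
      · exact hy.2.2 hd
    obtain ⟨m, hm⟩ := exists_pow_eq_self_of_coprime hpair
    simp only [Prod.pow_mk, Prod.mk.injEq] at hm
    rw [← hm.1, ← hm.2]
    exact hconj.pow m

end Cfsg.Agent.BlockChar
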