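import Cfsg.Agent.BlockChar.PrincipalOver
import Cfsg.Agent.BlockChar.PrincipalPairs
import Cfsg.Agent.Blocks.CoveringNormal
import Cfsg.Agent.CharArith.DegreeComponents
import Cfsg.Agent.Char.PResidualCount
import Cfsg.Agent.Char.FixedExt
import Mathlib.GroupTheory.SpecificGroups.Cyclic

/-!
Galois fixed characters of `p'`-degree in the principal block over a cyclic `p`-residual quotient
-/

namespace Cfsg.Agent.CyclicResidual

open Cfsg.Agent Cfsg.Agent.Char Cfsg.Agent.Blocks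
open scoped ComplexConjugate

universe u

variable {G : Type u} [Group G] [Finite G]

theorem detChar_pow {k : ℕ} {χ : G → ℂ} (hχ : Cfsg.IsCharacter G χ)
    (hχk : Cfsg.IsCharacter G fun g => χ (g ^ k)) (g : G) :
    Cfsg.detChar (fun y => χ (y ^ k)) g = Cfsg.detChar χ (g ^ k) := by
  let φ : Subgroup.zpowers g →* G :=
    { toFun := fun x => (x : G) ^ k
      map_one' := by simp
      map_mul' := fun x y => by
        obtain ⟨i, hi⟩ := Subgroup.mem_zpowers_iff.1 x.2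
        obtain ⟨j, hj⟩ := Subgroup.mem_zpowers_iff.1 y.2
        rw [Subgroup.coe_mul, ← hi, ← hj]
        exact ((Commute.refl g).zpow_zpow i j).mul_pow k }
  have h1 := congrFun (ProjExt.detChar_comp hχ φ) ⟨g, Subgroup.mem_zpowers g⟩
  have h2 := congrFun (ProjExt.detChar_comp hχk (Subgroup.zpowers g).subtype)
    ⟨g, Subgroup.mem_zpowers g⟩
  exact h2.symm.trans h1

theorem sameBlock_mul_hom {p : ℕ} {M : Ideal Cfsg.AlgInt} (hM : Cfsg.IsPModular p M)
    (χ : Cfsg.IrrCharacter G) (f : G →* ℂˣ) {a : ℕ} (hf : ∀ g, (f g : ℂ) ^ p ^ a = 1) :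
    Cfsg.SameBlock M (χ : G → ℂ) (fun g => (χ : G → ℂ) g * (f g : ℂ)) := by
  intro g
  letI := Fintype.ofFinite G
  have hz : IsIntegral ℤ (f g : ℂ) := isIntegral_of_pow_eq_one (pow_pos hM.1.pos a) (hf g)
  have h1 : (⟨(f g : ℂ), hz⟩ : Cfsg.AlgInt) - 1 ∈ M :=
    sub_one_mem_of_pow_prime_pow hM (k := a) (Subtype.ext (hf g))
  have h2 : Cfsg.MemLocalIdeal M ((f g : ℂ) - 1) := by
    have := (memLocalIdeal_coe_iff hM _).2 h1
    simpa using this
  have h3 := memLocalIdeal_neg (memLocalIdeal_mul_left hM (memLocalRing_centralChar hM χ.2 g) h2)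
  convert h3 using 1
  simp only [Cfsg.centralChar, map_one, Units.val_one, mul_one]
  ring

theorem card_hom_quotient (N : Subgroup G) [N.Normal] (hcyc : IsCyclic (G ⧸ N)) {p : ℕ}
    (hp : p.Prime) (hdvd : p ∣ N.index) :
    Nat.card {f : G →* ℂˣ // (∀ n ∈ N, f n = 1) ∧ f ^ p = 1} = p := by
  obtain ⟨c, hc⟩ := hcyc.exists_generator
  obtain ⟨g₀, rfl⟩ := QuotientGroup.mk_surjective c
  haveI : NeZero p := ⟨hp.ne_zero⟩
  have hord : orderOf (g₀ : G ⧸ N) = N.index := by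
    rw [orderOf_eq_card_of_forall_mem_zpowers hc, ← Subgroup.index_eq_card]
  refine (Nat.card_eq_of_bijective
    (fun f : {f : G →* ℂˣ // (∀ n ∈ N, f n = 1) ∧ f ^ p = 1} =>
      (⟨f.1 g₀, by rw [mem_rootsOfUnity, ← MonoidHom.pow_apply, f.2.2, MonoidHom.one_apply]⟩ :
        rootsOfUnity p ℂ)) ⟨?_, ?_⟩).trans ?_
  · intro f f' e
    have e' : f.1 g₀ = f'.1 g₀ := congrArg Subtype.val e
    refine Subtype.ext (MonoidHom.ext fun g => ?_)
    obtain ⟨i, hi⟩ := Subgroup.mem_zpowers_iff.1 (hc (g : G ⧸ N))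
    have hn : (g₀ ^ i)⁻¹ * g ∈ N := by
      rw [← QuotientGroup.eq]; simpa using hi
    rw [show g = g₀ ^ i * ((g₀ ^ i)⁻¹ * g) by group, map_mul f.1, map_mul f'.1, f.2.1 _ hn, f'.2.1 _ hn,
      map_zpow, map_zpow, e']
  · rintro ⟨z, hz⟩
    have hzo : orderOf z ∣ orderOf (g₀ : G ⧸ N) :=
      hord ▸ (orderOf_dvd_of_pow_eq_one ((mem_rootsOfUnity _ _).1 hz)).trans hdvd
    refine ⟨⟨(monoidHomOfForallMemZpowers hc hzo).comp (QuotientGroup.mk' N), fun n hn => ?_,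
      MonoidHom.ext fun g => ?_⟩, Subtype.ext ?_⟩
    · rw [MonoidHom.comp_apply, QuotientGroup.mk'_apply, (QuotientGroup.eq_one_iff n).2 hn, map_one]
    · rw [MonoidHom.pow_apply, MonoidHom.one_apply, MonoidHom.comp_apply, QuotientGroup.mk'_apply]
      obtain ⟨i, hi⟩ := Subgroup.mem_zpowers_iff.1 (hc (g : G ⧸ N))
      rw [← hi, map_zpow, monoidHomOfForallMemZpowers_apply_gen, ← zpow_natCast, ← zpow_mul,
        mul_comm, zpow_mul, zpow_natCast, (mem_rootsOfUnity _ _).1 hz, one_zpow]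
    · exact monoidHomOfForallMemZpowers_apply_gen hc hzo
  · exact Complex.card_rootsOfUnity p

set_option maxHeartbeats 1000000 in
theorem main (p : ℕ) [Fact p.Prime] (M : Ideal Cfsg.AlgInt) (hM : Cfsg.IsPModular p M)
    (P : Sylow p G) (N : Subgroup G) [hN : N.Normal] (hNres : N = Cfsg.pResidual p G)
    (hcyc : IsCyclic (G ⧸ N)) (hnt : N ≠ ⊤) (k : ℕ)
    (hk₁ : ∀ g : G, (∃ j : ℕ, orderOf g = p ^ j) → g ^ k = g ^ (1 + p))
    (hk₂ : ∀ g : G, Nat.Coprime (orderOf g) p → g ^ k = g) :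
    Nat.card {χ : Cfsg.IrrCharacter G // χ ∈ Cfsg.principalBlock M G ∧
        ¬ p ∣ Cfsg.charDegree (χ : G → ℂ) ∧ ∀ g : G, (χ : G → ℂ) (g ^ k) = (χ : G → ℂ) g} =
      p * Nat.card {θ : Cfsg.IrrCharacter ↥N // θ ∈ Cfsg.principalBlock M ↥N ∧
        ¬ p ∣ Cfsg.charDegree (θ : ↥N → ℂ) ∧
        (∀ x ∈ (P : Subgroup G), ∀ n : ↥N,
          (θ : ↥N → ℂ) ⟨x * n * x⁻¹, hN.conj_mem n n.2 x⟩ = (θ : ↥N → ℂ) n) ∧
        ∀ n : ↥N, (θ : ↥N → ℂ) (n ^ k) = (θ : ↥N → ℂ) n} := by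
  classical
  letI := Fintype.ofFinite G
  letI := Fintype.ofFinite N
  have hp : p.Prime := Fact.out
  obtain ⟨a, ha⟩ : ∃ a, N.index = p ^ a := hNres ▸ Fusion.index_pResidual_eq_pow
  have ha0 : a ≠ 0 := fun e => hnt (Subgroup.index_eq_one.1 (by rw [ha, e, pow_zero]))
  obtain ⟨A, m, hm, hcard⟩ : ∃ A m, ¬ p ∣ m ∧ Nat.card G = p ^ A * m :=
    ⟨_, _, Nat.not_dvd_ordCompl hp Nat.card_pos.ne',
      (Nat.ordProj_mul_ordCompl_eq_self (Nat.card G) p).symm⟩
  have hpm : Nat.Coprime p m := hp.coprime_iff_not_dvd.2 hm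
  have hout : ∀ y : G, y ∉ N → p ∣ orderOf y := fun y hy => by
    by_contra h
    exact hy (hNres ▸ Subgroup.subset_closure
      (show Nat.Coprime (orderOf y) p from (hp.coprime_iff_not_dvd.2 h).symm))
  have hkcop : Nat.Coprime k (Nat.card G) := by
    refine Nat.coprime_of_dvd fun q hq hqk hqG => ?_
    haveI := Fact.mk hq
    obtain ⟨g, hg⟩ := exists_prime_orderOf_dvd_card' q hqG
    have h1 : g ^ k = 1 := orderOf_dvd_iff_pow_eq_one.1 (hg ▸ hqk)
    have hg1 : g ≠ 1 := fun e => hq.one_lt.ne' (by rw [← hg, e, orderOf_one])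
    by_cases hqp : q = p
    · rw [hk₁ g ⟨1, by rw [hg, hqp, pow_one]⟩, pow_add, pow_one,
        orderOf_dvd_iff_pow_eq_one.1 (by rw [hg, hqp]), mul_one] at h1
      exact hg1 h1
    · rw [hk₂ g (hg ▸ (Nat.coprime_primes hq hp).2 hqp)] at h1
      exact hg1 h1
  -- powers of linear characters
  have hpow1 : ∀ (μ : G →* ℂˣ), ¬ p ∣ orderOf μ → ∀ g, μ (g ^ k) = μ g := by
    intro μ hμ g
    have hh : Nat.Coprime (orderOf (g ^ p ^ A)) p := by
      refine (hpm.symm.coprime_dvd_left ?_)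
      rw [orderOf_dvd_iff_pow_eq_one, ← pow_mul, ← hcard, pow_card_eq_one']
    have h1 := congrArg μ (hk₂ _ hh)
    rw [← pow_mul, map_pow, map_pow] at h1
    have h2 : (μ g ^ k / μ g) ^ p ^ A = 1 := by
      rw [div_pow, ← pow_mul, mul_comm, h1, div_self']
    have h3 : (μ g ^ k / μ g) ^ orderOf μ = 1 := by
      have : μ g ^ orderOf μ = 1 := by
        rw [← MonoidHom.pow_apply, pow_orderOf_eq_one, MonoidHom.one_apply]
      rw [div_pow, ← pow_mul, mul_comm, pow_mul, this, one_pow, div_self']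
    have h4 := pow_gcd_eq_one.2 ⟨h2, h3⟩
    rw [((hp.coprime_iff_not_dvd.2 hμ).pow_left A).gcd_eq_one, pow_one, div_eq_one] at h4
    rw [map_pow, h4]
  have hpow2 : ∀ (f : G →* ℂˣ), (∀ n ∈ N, f n = 1) → ∀ g, f (g ^ k) = f g ^ (1 + p) := by
    intro f hf g
    have hh : ∃ j, orderOf (g ^ m) = p ^ j := by
      obtain ⟨j, -, hj⟩ := (Nat.dvd_prime_pow hp).1 (show orderOf (g ^ m) ∣ p ^ A by
        rw [orderOf_dvd_iff_pow_eq_one, ← pow_mul, mul_comm, ← hcard, pow_card_eq_one'])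
      exact ⟨j, hj⟩
    have h1 := congrArg f (hk₁ _ hh)
    simp only [map_pow, ← pow_mul] at h1
    have h2 : (f g ^ k / f g ^ (1 + p)) ^ m = 1 := by
      rw [div_pow, ← pow_mul, ← pow_mul, mul_comm k, mul_comm (1 + p), h1, div_self']
    have h0 : f g ^ p ^ a = 1 := by
      rw [← ha, ← MonoidHom.pow_apply,
        ProjExt.hom_pow_index_eq_one N f (fun n => hf n n.2), MonoidHom.one_apply]
    have h3 : (f g ^ k / f g ^ (1 + p)) ^ p ^ a = 1 := by
      rw [div_pow, ← pow_mul, ← pow_mul, mul_comm k, mul_comm (1 + p), pow_mul, pow_mul, h0,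
        one_pow, one_pow, div_self']
    have h4 := pow_gcd_eq_one.2 ⟨h2, h3⟩
    rw [((hpm.pow_left a).symm).gcd_eq_one, pow_one, div_eq_one] at h4
    rw [map_pow, h4]
  -- canonical fixed extensions
  have hexN : ∀ θ : {θ : Cfsg.IrrCharacter ↥N // θ ∈ Cfsg.principalBlock M ↥N ∧
        ¬ p ∣ Cfsg.charDegree (θ : ↥N → ℂ) ∧
        (∀ x ∈ (P : Subgroup G), ∀ n : ↥N,
          (θ : ↥N → ℂ) ⟨x * n * x⁻¹, hN.conj_mem n n.2 x⟩ = (θ : ↥N → ℂ) n) ∧
        ∀ n : ↥N, (θ : ↥N → ℂ) (n ^ k) = (θ : ↥N → ℂ) n},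
      ∃ χ : Cfsg.IrrCharacter G, (∀ n : N, (χ : G → ℂ) n = (θ.1 : N → ℂ) n) ∧
        (∀ g, (χ : G → ℂ) (g ^ k) = (χ : G → ℂ) g) := by
    rintro ⟨θ, -, hdeg, hPinv, hfix⟩
    have hsup : N ⊔ (P : Subgroup G) = ⊤ := by
      rw [← Subgroup.index_eq_one]
      have h1 := Subgroup.index_dvd_of_le (le_sup_left : N ≤ N ⊔ (P : Subgroup G))
      rw [ha] at h1
      obtain ⟨i, -, hi⟩ := (Nat.dvd_prime_pow hp).1 h1
      cases i with
      | zero => rw [hi, pow_zero]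
      | succ i =>
        exact absurd ((hi ▸ dvd_pow_self p i.succ_ne_zero).trans
          (Subgroup.index_dvd_of_le (le_sup_right : (P : Subgroup G) ≤ N ⊔ P))) P.not_dvd_index
    have hinv : ∀ (g : G) (n : N), (θ : N → ℂ) ⟨g * n * g⁻¹, hN.conj_mem (n : G) n.2 g⟩ =
        (θ : N → ℂ) n := by
      have h1 : N ⊔ (P : Subgroup G) ≤ inertia (θ : N → ℂ) :=
        sup_le (le_inertia (isClassFunction_of_isIrr θ.2))
          fun x hx => mem_inertia.2 (funext fun n => hPinv x hx n)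
      rw [hsup] at h1
      exact fun g n => congrFun (mem_inertia.1 (h1 (Subgroup.mem_top g))) n
    obtain ⟨ν, hν⟩ := ProjExt.exists_detChar_hom (IsIrr.isCharacter θ.2)
    have hνinv : ∀ (g : G) (n : N), ν ⟨g * n * g⁻¹, hN.conj_mem (n : G) n.2 g⟩ = ν n := by
      intro g n
      refine Units.ext ?_
      have h1 := congrFun (ProjExt.detChar_comp (IsIrr.isCharacter θ.2)
        (MulAut.conjNormal g : MulAut N).toMonoidHom) n
      have h2 : (fun x : N => (θ : N → ℂ) ((MulAut.conjNormal g : MulAut N) x)) = θ :=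
        funext fun x => hinv g x
      simp only [MulEquiv.coe_toMonoidHom] at h1
      rw [h2] at h1
      rw [← congrFun hν n, ← congrFun hν, h1]
      rfl
    have hNgen : Cfsg.pResidual p N = ⊤ := by subst hNres; exact Fusion.pResidual_pResidual
    have hνo : ¬ p ∣ orderOf ν := not_dvd_orderOf_hom_of_pResidual_eq_top hp hNgen ν
    obtain ⟨μ, hμ, hμo, -⟩ := ProjExt.exists_ext_of_coprime N ν (ProjExt.orderOf_pos_hom _) hνinv
      (ha ▸ (hp.coprime_iff_not_dvd.2 hνo).pow_left a)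
    have hcop : Nat.Coprime N.index (Cfsg.charDegree (θ : N → ℂ)) :=
      ha ▸ (hp.coprime_iff_not_dvd.2 hdeg).pow_left a
    have hμdet : ∀ n : N, (μ n : ℂ) = Cfsg.detChar (θ : N → ℂ) n := fun n => by
      rw [hμ n, congrFun hν n]
    obtain ⟨η, hη, hηres⟩ := ProjExt.extends_of_det N θ.2 hinv
      (CharArith.irr_degree_spec θ).1 hcop μ hμdet
    obtain ⟨χ, ⟨hχ, hχres, hχdet⟩, huniq⟩ := ProjExt.exists_unique_det N θ.2
      (CharArith.irr_degree_spec θ).1 hcop (IsIrr.isCharacter hη) hηres μ hμdet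
    refine ⟨⟨χ, hχ⟩, hχres, fun g => ?_⟩
    have hσ := isIrr_comp_pow k hkcop hχ
    refine congrFun (huniq _ (IsIrr.isCharacter hσ) (fun n => ?_) (funext fun y => ?_)) g
    · rw [show (n : G) ^ k = ((n ^ k : N) : G) by simp, hχres]
      exact hfix n
    · rw [detChar_pow (IsIrr.isCharacter hχ) (IsIrr.isCharacter hσ), congrFun hχdet,
        hpow1 μ (hμo ▸ hνo)]
  choose χ₀ hres hfix₀ using hexN
  have hresirr : ∀ θ, Cfsg.IsIrrCharacter N (fun n : N => (χ₀ θ : G → ℂ) n) := fun θ => by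
    rw [funext (hres θ)]; exact θ.1.2
  have hfa : ∀ (f : G →* ℂˣ), (∀ n ∈ N, f n = 1) → ∀ g, (f g : ℂ) ^ p ^ a = 1 := fun f hf g => by
    rw [← Units.val_pow_eq_pow_val, ← ha, ← MonoidHom.pow_apply,
      ProjExt.hom_pow_index_eq_one N f (fun n => hf n n.2), MonoidHom.one_apply, Units.val_one]
  have hB := isPBlock_principalBlock (G := G) M
  have hblock : ∀ θ, χ₀ θ ∈ Cfsg.principalBlock M G := by
    intro θ
    letI := Fintype.ofFinite (⊤ : Subgroup G)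
    obtain ⟨χ', hχ', hd', hc'⟩ := BlockChar.exists_over_extendible hM N ⊤ le_top
      (by rw [Subgroup.index_top]; exact hp.not_dvd_one) (fun y _ hy => hout y hy) θ.1 θ.2.1
      θ.2.2.1 ⟨fun y => (χ₀ θ : G → ℂ) y,
        (isIrrCharacter_comp_equiv Subgroup.topEquiv).2 (χ₀ θ).2⟩ (fun n => hres θ n)
    have hi := DegreeComponents.res_irr_of_coprime hp ha χ' hd'
    have he : (fun n : N => (χ' : G → ℂ) n) = (θ.1 : N → ℂ) := by
      by_contra hne
      exact hc' (classInner_irr_ne hi θ.1.2 hne)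
    obtain ⟨hβ, hβN, hβe⟩ := (gallagher N (χ₀ θ).2 (hresirr θ) χ'.2).1
      (by rw [funext (hres θ)]; exact hc')
    have hβ1 : galEta N (χ₀ θ : G → ℂ) (χ' : G → ℂ) 1 = 1 := by
      have h1 : (χ' : G → ℂ) 1 = galEta N (χ₀ θ : G → ℂ) (χ' : G → ℂ) 1 * (χ₀ θ : G → ℂ) 1 :=
        congrFun hβe 1
      have h2 : (χ' : G → ℂ) 1 = (χ₀ θ : G → ℂ) 1 :=
        (congrFun he 1).trans (hres θ 1).symm
      rw [h2] at h1
      exact (mul_eq_right₀ (IsIrr.one_ne_zero (χ₀ θ).2)).1 h1.symm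
    obtain ⟨f, hf⟩ := IsChar.exists_hom (IsIrr.isCharacter hβ) hβ1
    have hfN : ∀ n ∈ N, f n = 1 := fun n hn => Units.ext (by
      have h := hβN n hn
      rw [hf] at h
      simpa using h)
    refine Blocks.IsPBlock.mem_of_sameBlock hM hB hχ' ?_
    have h3 := sameBlock_mul_hom hM (χ₀ θ) f (hfa f hfN)
    rw [hβe, hf, show (fun g => (f g : ℂ)) * (χ₀ θ : G → ℂ) =
      fun g => (χ₀ θ : G → ℂ) g * (f g : ℂ) from funext fun g => mul_comm _ _]
    exact sameBlock_symm h3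
  have hmemF : ∀ θ (f : G →* ℂˣ), (∀ n ∈ N, f n = 1) → f ^ p = 1 →
      ∀ {h : Cfsg.IsIrrCharacter G fun g => (χ₀ θ : G → ℂ) g * (f g : ℂ)},
      (⟨_, h⟩ : Cfsg.IrrCharacter G) ∈ Cfsg.principalBlock M G ∧
        ¬ p ∣ Cfsg.charDegree (fun g => (χ₀ θ : G → ℂ) g * (f g : ℂ)) ∧
        ∀ g : G, (χ₀ θ : G → ℂ) (g ^ k) * (f (g ^ k) : ℂ) = (χ₀ θ : G → ℂ) g * (f g : ℂ) := by
    intro θ f hf hfp h
    refine ⟨Blocks.IsPBlock.mem_of_sameBlock hM hB (hblock θ)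
      (sameBlock_mul_hom hM (χ₀ θ) f (hfa _ hf)), ?_, fun g => ?_⟩
    · rw [DegreeComponents.charDegree_eq (θ := fun g => (χ₀ θ : G → ℂ) g * (f g : ℂ))
        (d := Cfsg.charDegree (θ.1 : N → ℂ)) (by
        show (χ₀ θ : G → ℂ) 1 * (f 1 : ℂ) = _
        rw [map_one, Units.val_one, mul_one, ← (CharArith.irr_degree_spec θ.1).1]
        exact hres θ 1)]
      exact θ.2.2.1
    · rw [hfix₀, hpow2 _ hf, pow_add, pow_one, ← MonoidHom.pow_apply f p, hfp,
        MonoidHom.one_apply, mul_one]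
  refine Eq.trans ?_ ((congrArg (Nat.card _ * ·)
    (card_hom_quotient N hcyc hp (ha ▸ dvd_pow_self p ha0))).trans (mul_comm _ _))
  rw [← Nat.card_prod]
  refine (Nat.card_eq_of_bijective (fun x => ⟨⟨fun g => (χ₀ x.1 : G → ℂ) g * (x.2.1 g : ℂ),
    isIrr_mul_hom (χ₀ x.1).2 x.2.1⟩, hmemF x.1 x.2.1 x.2.2.1 x.2.2.2⟩) ⟨?_, ?_⟩).symm
  · rintro ⟨θ, f⟩ ⟨θ', f'⟩ e
    have e' : ∀ g, (χ₀ θ : G → ℂ) g * (f.1 g : ℂ) = (χ₀ θ' : G → ℂ) g * (f'.1 g : ℂ) :=
      fun g => congrFun (congrArg Subtype.val (congrArg Subtype.val e)) g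
    have hθ : θ = θ' := Subtype.ext (Subtype.ext (funext fun n => by
      have := e' n
      rwa [f.2.1 n n.2, f'.2.1 n n.2, Units.val_one, mul_one, mul_one, hres, hres] at this))
    subst hθ
    refine Prod.ext rfl (Subtype.ext (MonoidHom.ext fun g => Units.ext ?_))
    have h1 : ∀ f : {f : G →* ℂˣ // (∀ n ∈ N, f n = 1) ∧ f ^ p = 1},
        galEta N (χ₀ θ : G → ℂ) ((fun g => (f.1 g : ℂ)) * (χ₀ θ : G → ℂ)) =
          fun g => (f.1 g : ℂ) :=
      fun f => galEta_mul N (χ₀ θ).2 (hresirr θ) (isCharacter_hom f.1) fun n hn => by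
        simp [f.2.1 n hn]
    have h2 := h1 f
    rw [show (fun g => (f.1 g : ℂ)) * (χ₀ θ : G → ℂ) = (fun g => (f'.1 g : ℂ)) * (χ₀ θ : G → ℂ) from
      funext fun g => by simp only [Pi.mul_apply]; rw [mul_comm, e', mul_comm], h1 f'] at h2
    exact (congrFun h2 g).symm
  · rintro ⟨χ, hχB, hχd, hχf⟩
    have hi := DegreeComponents.res_irr_of_coprime hp ha χ hχd
    obtain ⟨θ, hθ⟩ : ∃ θ : Cfsg.IrrCharacter N, ∀ n : N, (θ : N → ℂ) n = (χ : G → ℂ) n :=
      ⟨⟨_, hi⟩, fun n => rfl⟩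
    have hθB : θ ∈ Cfsg.principalBlock M N := by
      refine Blocks.constituent_mem hM (isPBlock_principalBlock (G := N) M) (fun g η hη =>
        BlockChar.comp_mem_principalBlock (MulAut.conjNormal g : MulAut N) hη) hB
        ⟨triv G, triv_mem_principalBlock hM, triv N, triv_mem_principalBlock hM, ?_⟩ hχB ?_
      · show Cfsg.classInner (fun _ : N => (1 : ℂ)) (fun _ => 1) ≠ 0
        rw [classInner_irr_self isIrrCharacter_one]
        exact one_ne_zero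
      · rw [← funext hθ, classInner_irr_self θ.2]
        exact one_ne_zero
    have hθd : Cfsg.charDegree (θ : N → ℂ) = Cfsg.charDegree (χ : G → ℂ) :=
      DegreeComponents.charDegree_eq (by rw [hθ, ← (CharArith.irr_degree_spec χ).1]; rfl)
    obtain ⟨x, hx⟩ : ∃ x : {θ : Cfsg.IrrCharacter ↥N // θ ∈ Cfsg.principalBlock M ↥N ∧
        ¬ p ∣ Cfsg.charDegree (θ : ↥N → ℂ) ∧
        (∀ x ∈ (P : Subgroup G), ∀ n : ↥N,
          (θ : ↥N → ℂ) ⟨x * n * x⁻¹, hN.conj_mem n n.2 x⟩ = (θ : ↥N → ℂ) n) ∧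
        ∀ n : ↥N, (θ : ↥N → ℂ) (n ^ k) = (θ : ↥N → ℂ) n}, x.1 = θ := by
      refine ⟨⟨θ, hθB, hθd ▸ hχd, fun g _ n => ?_, fun n => ?_⟩, rfl⟩
      · rw [hθ, hθ]; exact isClassFunction_of_isIrr χ.2 (n : G) g
      · rw [hθ, hθ, Subgroup.coe_pow, hχf]
    obtain ⟨hβ, hβN, hβe⟩ := (gallagher N (χ₀ x).2 (hresirr x) χ.2).1 (by
      rw [funext (hres x), hx, ← funext hθ, classInner_irr_self θ.2]
      exact one_ne_zero)
    have hβ1 : galEta N (χ₀ x : G → ℂ) (χ : G → ℂ) 1 = 1 := by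
      have h1 : (χ : G → ℂ) 1 = galEta N (χ₀ x : G → ℂ) (χ : G → ℂ) 1 * (χ₀ x : G → ℂ) 1 :=
        congrFun hβe 1
      have h2 : (χ : G → ℂ) 1 = (χ₀ x : G → ℂ) 1 :=
        ((hθ 1).symm.trans (by rw [← hx])).trans (hres x 1).symm
      rw [h2] at h1
      exact (mul_eq_right₀ (IsIrr.one_ne_zero (χ₀ x).2)).1 h1.symm
    obtain ⟨f, hf⟩ := IsChar.exists_hom (IsIrr.isCharacter hβ) hβ1
    have hfN : ∀ n ∈ N, f n = 1 := fun n hn => Units.ext (by
      have h := hβN n hn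
      rw [hf] at h
      simpa using h)
    have hfp : f ^ p = 1 := by
      have h1 : (fun g => ((f ^ (1 + p)) g : ℂ)) * (χ₀ x : G → ℂ) = (χ : G → ℂ) := by
        funext g
        have := hχf g
        rw [congrFun hβe, hf] at this
        simp only [Pi.mul_apply, hfix₀] at this
        rw [Pi.mul_apply, MonoidHom.pow_apply, ← hpow2 f hfN, this]
      have h2 := galEta_mul N (χ₀ x).2 (hresirr x) (isCharacter_hom (f ^ (1 + p)))
        fun n hn => by simp [hfN n hn]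
      rw [h1, hf] at h2
      refine MonoidHom.ext fun g => ?_
      have h3 : f g = (f ^ (1 + p)) g := Units.ext (congrFun h2 g)
      rw [MonoidHom.pow_apply, pow_add, pow_one] at h3
      rw [MonoidHom.pow_apply, MonoidHom.one_apply]
      exact mul_eq_left.1 h3.symm
    refine ⟨(x, ⟨f, hfN, hfp⟩), Subtype.ext (Subtype.ext (funext fun g => ?_))⟩
    show (χ₀ x : G → ℂ) g * (f g : ℂ) = _
    rw [congrFun hβe g, hf, Pi.mul_apply, mul_comm]

end Cfsg.Agent.CyclicResidual
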