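import Cfsg.Agent.BlockChar.RankLtCard
import Cfsg.Agent.BlockThms.DefectCor

/-!
# 2-blocks of defect one
-/

namespace Cfsg.Agent.BlockChar

open scoped ComplexConjugate
open Cfsg.Agent Cfsg.Agent.Blocks

universe u

variable {G : Type u} [Group G] {p : ℕ} {M : Ideal Cfsg.AlgInt}

open scoped Classical in
/-- The squares of the absolute values on the regular elements give the rank. -/
theorem sum_regular_normSq [Fintype G] (hM : Cfsg.IsPModular p M)
    {B : Set (Cfsg.IrrCharacter G)} (hB : Cfsg.IsPBlock M B) :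
    ∑ x ∈ Finset.univ.filter (fun x : G => ¬ p ∣ orderOf x),
        ∑ χ ∈ B.toFinite.toFinset, Complex.normSq ((χ : G → ℂ) x) =
      (Nat.card G : ℝ) * (Cfsg.blockRank p B : ℝ) := by
  have h : ((∑ x ∈ Finset.univ.filter (fun x : G => ¬ p ∣ orderOf x),
        ∑ χ ∈ B.toFinite.toFinset, Complex.normSq ((χ : G → ℂ) x) : ℝ) : ℂ) =
      (((Nat.card G : ℝ) * (Cfsg.blockRank p B : ℝ) : ℝ) : ℂ) := by
    simp only [Complex.ofReal_sum, Complex.ofReal_mul, Complex.ofReal_natCast]
    rw [card_mul_blockRank hM hB, Finset.sum_filter]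
    refine Finset.sum_congr rfl fun x _ => ?_
    rw [finsum_mem_eq_finite_toFinset_sum _ B.toFinite]
    split_ifs <;> simp_all [Complex.mul_conj]
  exact_mod_cast h

/-- Two blocks of the centralizer inducing the same block both count. -/
theorem blockRank_add_two_le [Finite G] (hM : Cfsg.IsPModular p M)
    {B : Set (Cfsg.IrrCharacter G)} (hB : Cfsg.IsPBlock M B) {x : G}
    (hx : ∃ k, orderOf x = p ^ k) (hxo : p ∣ orderOf x) {C : Subgroup G} [Fintype C]
    (hC : ∀ a : G, a ∈ C ↔ x * a = a * x) {b b' : Set (Cfsg.IrrCharacter C)}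
    (hb : Cfsg.IsPBlock M b) (hb' : Cfsg.IsPBlock M b') (hne : b ≠ b')
    (hbA : b ⊆ inducing M C B) (hbA' : b' ⊆ inducing M C B) :
    Cfsg.blockRank p B + Cfsg.blockRank p b + Cfsg.blockRank p b' ≤ Nat.card B := by
  classical
  have := Fintype.ofFinite G
  have hp := hM.1
  have hCx : C = Subgroup.centralizer ({x} : Set G) := Subgroup.ext fun a =>
    (hC a).trans (mem_centralizer_iff_comm x a).symm
  subst hCx
  set R : G → ℝ := fun g => ∑ χ ∈ B.toFinite.toFinset, Complex.normSq ((χ : G → ℂ) g) with hR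
  have hR0 : ∀ g, 0 ≤ R g := fun g => Finset.sum_nonneg fun χ _ => Complex.normSq_nonneg _
  have hRc : ∀ g c : G, R (c * g * c⁻¹) = R g := fun g c => by
    simp only [hR, Char.isClassFunction_of_isIrr (Subtype.prop _) g c]
  have htot : ∑ g, R g = (Nat.card G : ℝ) * (Nat.card B : ℝ) := by
    have h : ((∑ g, R g : ℝ) : ℂ) = (((Nat.card G : ℝ) * (Nat.card B : ℝ) : ℝ) : ℂ) := by
      simp only [hR, Complex.ofReal_sum, Complex.ofReal_mul, Complex.ofReal_natCast]
      rw [← sum_all_norm B]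
      refine Finset.sum_congr rfl fun g _ => ?_
      rw [finsum_mem_eq_finite_toFinset_sum _ B.toFinite]
      exact Finset.sum_congr rfl fun χ _ => (Complex.mul_conj _).symm
    exact_mod_cast h
  -- the section of `x`
  set Φ : ℝ := ∑ g ∈ Finset.univ.filter (fun g => pPartOf p g = x), R g with hΦ
  have hsec : (Nat.card (Subgroup.centralizer ({x} : Set G)) : ℝ) *
      ((Cfsg.blockRank p b : ℝ) + (Cfsg.blockRank p b' : ℝ)) ≤ Φ := by
    rw [mul_add, ← sum_regular_normSq hM hb, ← sum_regular_normSq hM hb', ← Finset.sum_add_distrib]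
    have hdisj : Disjoint b.toFinite.toFinset b'.toFinite.toFinset := Finset.disjoint_left.2
      fun φ h h' => hne ((IsPBlock.eq_blockOf hM hb (b.toFinite.mem_toFinset.1 h)).trans
        (IsPBlock.eq_blockOf hM hb' (b'.toFinite.mem_toFinset.1 h')).symm)
    have key : ∀ s ∈ Finset.univ.filter
        (fun s : Subgroup.centralizer ({x} : Set G) => ¬ p ∣ orderOf s),
        ∑ φ ∈ b.toFinite.toFinset,
            Complex.normSq ((φ : Subgroup.centralizer ({x} : Set G) → ℂ) s) +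
          ∑ φ ∈ b'.toFinite.toFinset,
            Complex.normSq ((φ : Subgroup.centralizer ({x} : Set G) → ℂ) s) ≤
        R (x * (s : G)) := fun s hs => by
      have hs' := (Finset.mem_filter.1 hs).2
      rw [← Finset.sum_union hdisj]
      refine (Finset.sum_le_sum_of_subset_of_nonneg (t := (inducing M _ B).toFinite.toFinset)
        (fun φ hφ => (inducing M _ B).toFinite.mem_toFinset.2 ?_)
        (fun φ _ _ => Complex.normSq_nonneg _)).trans_eq ?_
      · rcases Finset.mem_union.1 hφ with h | h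
        · exact hbA (b.toFinite.mem_toFinset.1 h)
        · exact hbA' (b'.toFinite.mem_toFinset.1 h)
      · have h := section_identity (H := Subgroup.centralizer ({x} : Set G)) hM hx
          (fun a => mem_centralizer_iff_comm x a) hB hs' hs'
        rw [finsum_mem_eq_finite_toFinset_sum _ B.toFinite,
          finsum_mem_eq_finite_toFinset_sum _ (inducing M _ B).toFinite] at h
        simp only [Complex.mul_conj] at h
        exact_mod_cast h.symm
    refine (Finset.sum_le_sum key).trans_eq ?_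
    have h := sum_pPart_fiber hp hx (fun g => ((R g : ℝ) : ℂ))
    have h' : ((Φ : ℝ) : ℂ) = ((∑ s ∈ Finset.univ.filter
        (fun s : Subgroup.centralizer ({x} : Set G) => ¬ p ∣ orderOf s),
          R (x * (s : G)) : ℝ) : ℂ) := by
      rw [hΦ, Complex.ofReal_sum, h, Complex.ofReal_sum, Finset.sum_filter]
      refine Finset.sum_congr (Finset.ext fun _ => by simp) fun s _ => ?_
      split_ifs <;> rfl
    exact_mod_cast h'.symm
  -- sum over the conjugates of the section
  set U := Finset.univ.filter (fun u : G => IsConj x u)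
  have hU : ∑ u ∈ U, ∑ g ∈ Finset.univ.filter (fun g => pPartOf p g = u), R g =
      ((Subgroup.centralizer ({x} : Set G)).index : ℝ) * Φ := by
    rw [Finset.sum_congr rfl (g := fun _ => Φ) fun u hu => ?_, Finset.sum_const, nsmul_eq_mul]
    · congr 1
      rw [← Fintype.card_subtype, ← Nat.card_eq_fintype_card, Char.card_isConj_eq_index]
    · obtain ⟨c, rfl⟩ := isConj_iff.1 (Finset.mem_filter.1 hu).2
      refine (Finset.sum_equiv (MulAut.conj c).toEquiv (fun g => ?_) (fun g _ => ?_)).symm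
      · simp only [Finset.mem_filter, Finset.mem_univ, true_and, MulEquiv.toEquiv_eq_coe,
          MulEquiv.coe_toEquiv, MulAut.conj_apply, pPartOf_conj, mul_left_inj, mul_right_inj]
      · exact (hRc g c).symm
  have hsing : ∑ u ∈ U, ∑ g ∈ Finset.univ.filter (fun g => pPartOf p g = u), R g ≤
      ∑ g ∈ Finset.univ.filter (fun g : G => p ∣ orderOf g), R g := by
    rw [← Finset.sum_biUnion]
    · refine Finset.sum_le_sum_of_subset_of_nonneg (fun g hg => ?_) fun g _ _ => hR0 g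
      obtain ⟨u, hu, hgu⟩ := Finset.mem_biUnion.1 hg
      refine Finset.mem_filter.2 ⟨Finset.mem_univ _, by_contra fun hn => ?_⟩
      have h1 := (pPartOf_eq_one_iff hp g).2 hn
      rw [(Finset.mem_filter.1 hgu).2] at h1
      obtain ⟨c, hc⟩ := isConj_iff.1 (Finset.mem_filter.1 hu).2
      rw [h1] at hc
      have hxone : x = 1 := by
        have := congrArg (fun z => c⁻¹ * z * c) hc
        simpa [mul_assoc] using this
      exact hp.ne_one (Nat.dvd_one.1 (by rwa [hxone, orderOf_one] at hxo))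
    · intro u _ v _ huv
      exact Finset.disjoint_left.2 fun g hg hg' =>
        huv ((Finset.mem_filter.1 hg).2.symm.trans (Finset.mem_filter.1 hg').2)
  have hall : ∑ g, R g = ∑ g ∈ Finset.univ.filter (fun g : G => p ∣ orderOf g), R g +
      (Nat.card G : ℝ) * (Cfsg.blockRank p B : ℝ) := by
    rw [← sum_regular_normSq hM hB, ← Finset.sum_filter_add_sum_filter_not Finset.univ
      (fun g : G => p ∣ orderOf g) R]
  have hcard : (Nat.card G : ℝ) = ((Subgroup.centralizer ({x} : Set G)).index : ℝ) *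
      (Nat.card (Subgroup.centralizer ({x} : Set G)) : ℝ) := by
    exact_mod_cast (Subgroup.index_mul_card _).symm
  have hidx : (0 : ℝ) ≤ ((Subgroup.centralizer ({x} : Set G)).index : ℝ) := Nat.cast_nonneg _
  have hfin : (Nat.card G : ℝ) * ((Cfsg.blockRank p B : ℝ) + ((Cfsg.blockRank p b : ℝ) +
      (Cfsg.blockRank p b' : ℝ))) ≤ (Nat.card G : ℝ) * (Nat.card B : ℝ) := by
    rw [← htot, hall, mul_add, add_comm]
    refine add_le_add ?_ le_rfl
    rw [hcard, mul_assoc]
    exact (mul_le_mul_of_nonneg_left hsec hidx).trans (hU ▸ hsing)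
  have := le_of_mul_le_mul_left hfin (Nat.cast_pos.2 Nat.card_pos)
  rw [add_assoc]
  exact_mod_cast this

/-- The value on a section when a single block induces. -/
theorem value_eq_subPart [Fintype G] (hM : Cfsg.IsPModular p M) {B : Set (Cfsg.IrrCharacter G)}
    (hB : Cfsg.IsPBlock M B) {χ : Cfsg.IrrCharacter G} (hχ : χ ∈ B) {y : G}
    (hy : ∃ k, orderOf y = p ^ k) {C : Subgroup G} [Fintype C]
    (hC : ∀ a : G, a ∈ C ↔ y * a = a * y) {b : Set (Cfsg.IrrCharacter C)}
    (huniq : ∀ b' : Set (Cfsg.IrrCharacter C), Cfsg.IsInducedBlock M C b' B → b' = b)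
    (hb : Cfsg.IsPBlock M b) {w : C} (hw : ¬ p ∣ orderOf w) :
    (χ : G → ℂ) (y * (w : G)) = subPart y C b χ w := by
  classical
  have hf : Cfsg.IsClassFunction C (fun t : C => (χ : G → ℂ) (y * (t : G))) := fun t k => by
    have hk : y * (k : G) = (k : G) * y := (hC _).1 k.2
    simp only [Subgroup.coe_mul, Subgroup.coe_inv]
    rw [show y * ((k : G) * (t : G) * (k : G)⁻¹) = (k : G) * (y * (t : G)) * (k : G)⁻¹ by
      simp only [← mul_assoc, hk], Char.isClassFunction_of_isIrr χ.2]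
  refine (congrFun (Char.classFun_expansion hf) w).trans ?_
  simp only [Finset.sum_apply, Pi.smul_apply, smul_eq_mul, subPart, subMult]
  set f : Cfsg.IrrCharacter C → ℂ := fun φ =>
    Cfsg.classInner (fun t : C => (χ : G → ℂ) (y * (t : G))) (φ : C → ℂ) * (φ : C → ℂ) w
  let β : Cfsg.IrrCharacter C → Set (Cfsg.IrrCharacter C) :=
    fun φ => Cfsg.blockOf M (φ : C → ℂ)
  show ∑ φ, f φ = ∑ φ ∈ b.toFinite.toFinset, f φ
  rw [← Finset.sum_fiberwise_of_maps_to (g := β) (t := Finset.univ.image β)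
      (fun φ _ => Finset.mem_image_of_mem _ (Finset.mem_univ φ)),
    Finset.sum_eq_single b]
  · refine Finset.sum_congr ?_ fun _ _ => rfl
    ext φ
    simp only [Finset.mem_filter, Finset.mem_univ, true_and, Set.Finite.mem_toFinset]
    exact ⟨fun e => e ▸ mem_blockOf_self hM φ, fun h => (IsPBlock.eq_blockOf hM hb h).symm⟩
  · intro b' hb' hne
    obtain ⟨ξ, -, rfl⟩ := Finset.mem_image.1 hb'
    have hb'' := isPBlock_blockOf (M := M) ξ
    have h := sum_section_kernel_eq_zero hM hy hC hB hχ hb''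
      (fun hi => hne (huniq _ hi)) hw
    rw [Finset.sum_congr rfl fun c _ => by
      rw [finsum_mem_eq_finite_toFinset_sum _ (Set.toFinite _), Finset.mul_sum],
      Finset.sum_comm] at h
    refine Eq.trans ?_ (show (Nat.card C : ℂ)⁻¹ * (0 : ℂ) = 0 from mul_zero _)
    rw [← h, Finset.mul_sum]
    refine Finset.sum_congr ?_ fun φ _ => ?_
    · ext φ
      simp only [Finset.mem_filter, Finset.mem_univ, true_and, Set.Finite.mem_toFinset, β]
      exact ⟨fun e => e ▸ mem_blockOf_self hM φ, fun h => (IsPBlock.eq_blockOf hM hb'' h).symm⟩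
    · simp only [f, Cfsg.classInner, Finset.mul_sum, Finset.sum_mul]
      exact Finset.sum_congr rfl fun c _ => by ring
  · intro hnot
    refine Finset.sum_eq_zero fun φ hφ => ?_
    exact absurd (Finset.mem_image.2 ⟨φ, Finset.mem_univ _, (Finset.mem_filter.1 hφ).2⟩) hnot

/-- In a 2-block of defect one the members agree on the regular elements. -/
theorem eq_on_regular_of_defect_one_two [Finite G] {M : Ideal Cfsg.AlgInt}
    (hM : Cfsg.IsPModular 2 M) {B : Set (Cfsg.IrrCharacter G)} (hB : Cfsg.IsPBlock M B)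
    (hd : Cfsg.blockDefect 2 B = 1) {χ ψ : Cfsg.IrrCharacter G} (hχ : χ ∈ B) (hψ : ψ ∈ B)
    {w : G} (hw : ¬ 2 ∣ orderOf w) : (χ : G → ℂ) w = (ψ : G → ℂ) w := by
  classical
  have := Fintype.ofFinite G
  obtain ⟨hk, hl⟩ := card_eq_two_of_defect_one_two hM hB hd
  obtain ⟨φ, d, -, hφ, hsum⟩ := rank_one_cartan hM hB hl
  rw [hd, pow_one, finsum_mem_eq_finite_toFinset_sum _ B.toFinite] at hsum
  have hd1 : ∀ η ∈ B.toFinite.toFinset, 1 ≤ d η := fun η hη => by
    refine Nat.one_le_iff_ne_zero.2 fun e => ?_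
    have h := hφ η (B.toFinite.mem_toFinset.1 hη) 1 (show ¬ 2 ∣ orderOf (1 : G) by simp)
    rw [e, Nat.cast_zero, zero_mul] at h
    exact Char.IsIrr.one_ne_zero η.2 h
  have hcard : B.toFinite.toFinset.card = 2 := by
    rw [← Set.ncard_eq_toFinset_card B B.toFinite, ← Nat.card_coe_set_eq, hk]
  have hone : ∀ η ∈ B, d η = 1 := fun η hη => by
    by_contra hne
    have hη' := B.toFinite.mem_toFinset.2 hη
    have h2 : 2 ≤ d η := by have := hd1 η hη'; omega
    have h3 := Finset.sum_lt_sum (f := fun _ => (1 : ℕ)) (g := fun θ => d θ ^ 2)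
      (fun θ hθ => Nat.one_le_pow _ _ (hd1 θ hθ)) ⟨η, hη', by nlinarith⟩
    rw [Finset.sum_const, smul_eq_mul, mul_one, hcard, hsum] at h3
    omega
  rw [hφ χ hχ w hw, hφ ψ hψ w hw, hone χ hχ, hone ψ hψ]

/-- 2-blocks of defect one. -/
theorem defect_one_two_structure [Finite G] {M : Ideal Cfsg.AlgInt} (hM : Cfsg.IsPModular 2 M)
    {x : G} (hx : orderOf x = 2) {B : Set (Cfsg.IrrCharacter G)} (hB : Cfsg.IsPBlock M B)
    (hBD : Cfsg.IsDefectGroup 2 M B (Subgroup.zpowers x)) {C : Subgroup G} [Fintype C]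
    (hC : ∀ a : G, a ∈ C ↔ x * a = a * x) {b : Set (Cfsg.IrrCharacter C)}
    (hind : Cfsg.IsInducedBlock M C b B) {θ : Cfsg.IrrCharacter C} (hθ : θ ∈ b) :
    Nat.card B = 2 ∧
      (∀ χ ∈ B, ∀ ψ ∈ B, ∀ g : G, ¬ 2 ∣ orderOf g →
        ((χ : Cfsg.IrrCharacter G) : G → ℂ) g = ((ψ : Cfsg.IrrCharacter G) : G → ℂ) g) ∧
      ∃ χ₁ ∈ B, ∃ χ₂ ∈ B, χ₁ ≠ χ₂ ∧ ∃ ε₁ ε₂ : ℤ, (ε₁ = 1 ∨ ε₁ = -1) ∧ (ε₂ = 1 ∨ ε₂ = -1) ∧
        ε₁ * ε₂ = -1 ∧ ∀ y : C, ¬ 2 ∣ orderOf y →
          ((χ₁ : Cfsg.IrrCharacter G) : G → ℂ) (x * y) = (ε₁ : ℂ) * (θ : C → ℂ) y ∧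
          ((χ₂ : Cfsg.IrrCharacter G) : G → ℂ) (x * y) = (ε₂ : ℂ) * (θ : C → ℂ) y := by
  classical
  have := Fintype.ofFinite G
  have := Fact.mk Nat.prime_two
  have hd : Cfsg.blockDefect 2 B = 1 := by
    have h := card_defectGroup hM hB hBD
    rw [Nat.card_zpowers, hx] at h
    exact (Nat.pow_eq_self_iff (le_refl 2)).1 h.symm
  obtain ⟨hk, hl⟩ := card_eq_two_of_defect_one_two hM hB hd
  have hb := hind.1
  have hxp : ∃ k, orderOf x = 2 ^ k := ⟨1, by rw [hx, pow_one]⟩
  have hP : IsPGroup 2 (Subgroup.zpowers x) :=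
    IsPGroup.of_card (n := 1) (by rw [Nat.card_zpowers, hx, pow_one])
  have hH : ∀ a : G, a ∈ C ↔ ∀ u ∈ Subgroup.zpowers x, u * a = a * u := fun a => by
    rw [hC]
    exact ⟨fun h u ⟨i, hi⟩ => hi ▸ ((show Commute x a from h).zpow_left i).eq,
      fun h => h x (Subgroup.mem_zpowers x)⟩
  have huniq : ∀ b' : Set (Cfsg.IrrCharacter C), Cfsg.IsInducedBlock M C b' B → b' = b := by
    intro b' hb'
    by_contra hne
    have h := blockRank_add_two_le hM hB hxp (by rw [hx]) hC hb'.1 hb hne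
      (fun ψ hψ => (mem_inducing_iff hM hP hH hB hb'.1 hψ).2 hb')
      (fun ψ hψ => (mem_inducing_iff hM hP hH hB hb hψ).2 hind)
    have h1 := blockRank_pos hM hb
    have h2 := blockRank_pos hM hb'.1
    omega
  let s : C := ⟨x, (hC x).2 rfl⟩
  have hs : s ∈ Subgroup.center C :=
    Subgroup.mem_center_iff.2 fun t => Subtype.ext ((hC t).1 t.2).symm
  have hso : orderOf s = 2 := by rw [← Subgroup.orderOf_coe]; exact hx
  have hdb : Cfsg.blockDefect 2 b = 1 := by
    obtain ⟨E, hE⟩ := DefectThms.exists_defectGroup hM hb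
    refine le_antisymm ?_ ?_
    · obtain ⟨E', hE', hle⟩ := DefectThms.exists_defectGroup_ge_of_induced hM _ hb hB hind hE
      have h := Subgroup.card_le_of_le hle
      rw [Subgroup.card_subtype, card_defectGroup hM hb hE, card_defectGroup hM hB hE', hd] at h
      exact (Nat.pow_le_pow_iff_right (le_refl 2)).1 h
    · have : (Subgroup.zpowers s).Normal := ⟨fun n hn g => by
        rwa [Subgroup.mem_center_iff.1 (Subgroup.zpowers_le.2 hs hn) g, mul_inv_cancel_right]⟩
      have hle := DefectThms.le_defectGroup_of_normal hM hb hE (Subgroup.zpowers s)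
        (IsPGroup.of_card (n := 1) (by rw [Nat.card_zpowers, hso, pow_one]))
      have h := Subgroup.card_le_of_le hle
      rw [Nat.card_zpowers, hso, card_defectGroup hM hb hE] at h
      by_contra hlt
      rw [Nat.lt_one_iff.1 (not_le.1 hlt), pow_zero] at h
      omega
  have hagree := fun (χ : Cfsg.IrrCharacter C) (hχ : χ ∈ b) (w : C) (hw : ¬ 2 ∣ orderOf w) =>
    eq_on_regular_of_defect_one_two hM hb hdb hχ hθ hw
  have hval : ∀ χ ∈ B, ∃ c : ℤ, ∀ w : C, ¬ 2 ∣ orderOf w →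
      ((χ : Cfsg.IrrCharacter G) : G → ℂ) (x * w) = (c : ℂ) * (θ : C → ℂ) w ∧
      subPart x C b χ w = (c : ℂ) * (θ : C → ℂ) w := by
    intro χ hχ
    have hscal : ∀ φ : Cfsg.IrrCharacter C, ∃ c : ℤ, subScalar s φ = (c : ℂ) := fun φ => by
      have h := subScalar_pow_eq_one hs (show s ^ 2 = 1 by rw [← hso, pow_orderOf_eq_one]) φ
      rcases sq_eq_one_iff.1 h with h | h
      · exact ⟨1, by rw [h, Int.cast_one]⟩
      · exact ⟨-1, by rw [h, Int.cast_neg, Int.cast_one]⟩
    choose c hc using hscal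
    choose n hn using fun φ : Cfsg.IrrCharacter C => exists_nat_resMult C χ φ
    refine ⟨∑ φ ∈ b.toFinite.toFinset, c φ * (n φ : ℤ), fun w hw => ?_⟩
    have e : subPart x C b χ w =
        ((∑ φ ∈ b.toFinite.toFinset, c φ * (n φ : ℤ) : ℤ) : ℂ) * (θ : C → ℂ) w := by
      rw [subPart, Int.cast_sum, Finset.sum_mul]
      refine Finset.sum_congr rfl fun φ hφ => ?_
      rw [subMult_eq hs rfl, hc, hn, hagree φ (b.toFinite.mem_toFinset.1 hφ) w hw]
      push_cast
      ring
    exact ⟨(value_eq_subPart hM hB hχ hxp hC huniq hb hw).trans e, e⟩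
  choose! c hc using hval
  obtain ⟨χ₁, χ₂, hne, hBeq⟩ := Set.ncard_eq_two.1 ((Nat.card_coe_set_eq B).symm.trans hk)
  have h1 : χ₁ ∈ B := by rw [hBeq]; exact Set.mem_insert _ _
  have h2 : χ₂ ∈ B := by rw [hBeq]; exact Set.mem_insert_of_mem _ rfl
  have hBset : B.toFinite.toFinset = {χ₁, χ₂} := by ext; simp [hBeq]
  have h1C : ¬ 2 ∣ orderOf (1 : C) := by simp
  have hθ1 : (θ : C → ℂ) 1 ≠ 0 := Char.IsIrr.one_ne_zero θ.2
  -- the squares
  have hsq : c χ₁ ^ 2 + c χ₂ ^ 2 = 2 := by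
    have h := sum_subPart_mul_conj hM hB hxp hC hind h1C h1C
    rw [hBset, Finset.sum_pair hne, (hc χ₁ h1 1 h1C).2, (hc χ₂ h2 1 h1C).2,
      Finset.sum_congr rfl (g := fun _ => (θ : C → ℂ) 1 * conj ((θ : C → ℂ) 1)) fun φ hφ => by
        rw [hagree φ (b.toFinite.mem_toFinset.1 hφ) 1 h1C],
      Finset.sum_const, ← Set.ncard_eq_toFinset_card b b.toFinite, ← Nat.card_coe_set_eq,
      (card_eq_two_of_defect_one_two hM hb hdb).1, nsmul_eq_mul, map_mul, map_mul, map_intCast,
      map_intCast] at h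
    have hne0 : (θ : C → ℂ) 1 * conj ((θ : C → ℂ) 1) ≠ 0 :=
      mul_ne_zero hθ1 (by simpa using hθ1)
    have h' : ((c χ₁ ^ 2 + c χ₂ ^ 2 : ℤ) : ℂ) = ((2 : ℤ) : ℂ) := by
      refine mul_right_cancel₀ hne0 ?_
      push_cast at h ⊢
      linear_combination h
    exact_mod_cast h'
  -- the sum vanishes by block orthogonality
  have hsum : c χ₁ + c χ₂ = 0 := by
    have h := sum_block_eq_zero hM hB (x := (1 : G)) (y := x)
      (show ¬ 2 ∣ orderOf (1 : G) by simp) (fun h => h (by rw [hx]))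
    rw [← Finset.sum_filter, show Finset.univ.filter (· ∈ B) = B.toFinite.toFinset from
      Finset.ext fun _ => by simp, hBset, Finset.sum_pair hne,
      eq_on_regular_of_defect_one_two hM hB hd h2 h1 (show ¬ 2 ∣ orderOf (1 : G) by simp),
      ← mul_add, mul_eq_zero] at h
    have h' := h.resolve_left (Char.IsIrr.one_ne_zero χ₁.2)
    rw [← map_add, map_eq_zero, show (χ₁ : G → ℂ) x = (χ₁ : G → ℂ) (x * ((1 : C) : G)) by simp,
      show (χ₂ : G → ℂ) x = (χ₂ : G → ℂ) (x * ((1 : C) : G)) by simp,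
      (hc χ₁ h1 1 h1C).1, (hc χ₂ h2 1 h1C).1, ← add_mul, mul_eq_zero] at h'
    have h'' := h'.resolve_right hθ1
    exact_mod_cast h''
  have e2 : c χ₂ = -c χ₁ := by linarith
  have e1 : c χ₁ * c χ₁ = 1 := by rw [e2] at hsq; linarith
  refine ⟨hk, fun χ hχ ψ hψ g hg => eq_on_regular_of_defect_one_two hM hB hd hχ hψ hg,
    χ₁, h1, χ₂, h2, hne, c χ₁, c χ₂, Int.eq_one_or_neg_one_of_mul_eq_one e1,
    Int.eq_one_or_neg_one_of_mul_eq_one (v := c χ₂) (by rw [e2]; linarith), by rw [e2]; linarith,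
    fun y hy => ⟨(hc χ₁ h1 y hy).1, (hc χ₂ h2 y hy).1⟩⟩

end Cfsg.Agent.BlockChar
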