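import Cfsg.Agent.BlockThms.NormalCor
import Cfsg.Agent.BlockChar.CentralQuotient
import Cfsg.Agent.Coprime.Basic
import Cfsg.Agent.Core.Frattini

/-!
# Blocks of a group and of its quotient by the derived subgroup of a normal p-subgroup
-/

namespace Cfsg.Agent.BlockChar

open Cfsg.Agent Cfsg.Agent.Blocks

universe u

variable {G : Type u} [Group G] {p : ℕ} {M : Ideal Cfsg.AlgInt}

/-- A p-regular element acting trivially on `D / D'` centralizes the p-group `D`. -/
theorem mem_centralizer_of_mod_derived [Finite G] [Fact p.Prime] (D : Subgroup G) [D.Normal]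
    (hD : IsPGroup p D) {g : G} (hg : ¬ p ∣ orderOf g)
    (h : ∀ k ∈ D, g * k * g⁻¹ * k⁻¹ ∈ ⁅D, D⁆) : g ∈ Subgroup.centralizer (D : Set G) := by
  classical
  have hp : p.Prime := Fact.out
  have := hD.isNilpotent
  have hle : ⁅D, D⁆ ≤ (frattini D).map D.subtype := by
    rw [← Subgroup.map_subtype_commutator]
    exact Subgroup.map_mono Core.commutator_le_frattini
  refine Coprime.le_centralizer_of_trivial_mod_frattini (A := Subgroup.zpowers g) (K := D)
    (by rw [Subgroup.normalizer_eq_top D]; exact le_top) ?_ ?_ (Subgroup.mem_zpowers g)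
  · obtain ⟨k, hk⟩ := IsPGroup.iff_card.1 (hD.to_subgroup (frattini D))
    rw [Nat.card_zpowers, hk]
    exact Nat.Coprime.pow_right k (Nat.Coprime.symm (hp.coprime_iff_not_dvd.2 hg))
  · intro a ha k hk
    obtain ⟨n, rfl⟩ : ∃ n : ℕ, g ^ n = a := by
      rwa [← mem_powers_iff_mem_zpowers, Submonoid.mem_powers_iff] at ha
    refine hle ?_
    induction n with
    | zero => simp
    | succ n ih =>
      have hk' : g ^ n * k * (g ^ n)⁻¹ ∈ D := Subgroup.Normal.conj_mem inferInstance k hk _
      have e : g ^ (n + 1) * k * (g ^ (n + 1))⁻¹ * k⁻¹ =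
          g * (g ^ n * k * (g ^ n)⁻¹) * g⁻¹ * (g ^ n * k * (g ^ n)⁻¹)⁻¹ *
            (g ^ n * k * (g ^ n)⁻¹ * k⁻¹) := by
        rw [pow_succ']; group
      rw [e]
      exact mul_mem (h _ hk') (ih (Subgroup.pow_mem _ (Subgroup.mem_zpowers g) n))

theorem sameBlock_derived_quotient_iff [Finite G] (hM : Cfsg.IsPModular p M) (D : Subgroup G)
    [D.Normal] (hD : IsPGroup p D) (χ ψ : Cfsg.IrrCharacter (G ⧸ ⁅D, D⁆)) :
    Cfsg.SameBlock M (χ : G ⧸ ⁅D, D⁆ → ℂ) (ψ : G ⧸ ⁅D, D⁆ → ℂ) ↔
      Cfsg.SameBlock M ((χ : G ⧸ ⁅D, D⁆ → ℂ) ∘ QuotientGroup.mk)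
        ((ψ : G ⧸ ⁅D, D⁆ → ℂ) ∘ QuotientGroup.mk) := by
  classical
  refine ⟨BlockThms.sameBlock_comp_mk _ hM χ ψ, fun h => ?_⟩
  set N := ⁅D, D⁆
  have hND : N ≤ D := Subgroup.commutator_le_right D D
  have := Fintype.ofFinite G
  have := Fintype.ofFinite (G ⧸ N)
  have := Fact.mk hM.1
  have hp := hM.1
  have hN : IsPGroup p N := hD.to_le hND
  have hDb : IsPGroup p (D.map (QuotientGroup.mk' N)) := hD.map _
  have : (D.map (QuotientGroup.mk' N)).Normal :=
    Subgroup.Normal.map inferInstance _ (QuotientGroup.mk'_surjective N)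
  set B := Cfsg.blockOf M (χ : G ⧸ N → ℂ)
  have hB : Cfsg.IsPBlock M B := isPBlock_blockOf χ
  set e := Cfsg.blockCoeff B with he
  have hec : Cfsg.IsClassFunction (G ⧸ N) e := isClassFunction_blockCoeff B
  set f : G → ℂ := fun g =>
    if Cfsg.IsPRegular p g ∧ g ∈ Subgroup.centralizer (D : Set G) then e (g : G ⧸ N) else 0 with hf
  have hfc : Cfsg.IsClassFunction G f := by
    intro g k
    have h1 : Cfsg.IsPRegular p (k * g * k⁻¹) ↔ Cfsg.IsPRegular p g :=
      ⟨fun h => isPRegular_of_isConj (isConj_iff.2 ⟨k, rfl⟩).symm h,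
        fun h => isPRegular_of_isConj (isConj_iff.2 ⟨k, rfl⟩) h⟩
    have h2 : k * g * k⁻¹ ∈ Subgroup.centralizer (D : Set G) ↔
        g ∈ Subgroup.centralizer (D : Set G) :=
      ⟨fun h => by
        have := Subgroup.Normal.conj_mem inferInstance _ h k⁻¹
        simpa [mul_assoc] using this,
       fun h => Subgroup.Normal.conj_mem inferInstance _ h k⟩
    simp only [hf, QuotientGroup.mk_mul, QuotientGroup.mk_inv]
    rw [he, isClassFunction_blockCoeff B _ _]
    exact if_congr (and_congr h1 h2) rfl rfl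
  have hfR : ∀ g, Cfsg.MemLocalRing M (f g) := fun g => by
    simp only [hf]
    split
    · exact memLocalRing_blockCoeff hM hB _
    · exact (localRing hM).zero_mem
  -- the two functions on the quotient differ only where central characters vanish mod `M`
  have hkey : ∀ η : Cfsg.IrrCharacter (G ⧸ N), Cfsg.MemLocalIdeal M
      (omega (fun g : G => (η : G ⧸ N → ℂ) (g : G ⧸ N)) f - omega (η : G ⧸ N → ℂ) e) := by
    intro η
    rw [BlockThms.omega_comp_mk, ← omega_sub]
    have hpush : ∀ q : G ⧸ N, BlockThms.push N f q - e q ≠ 0 →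
        q ∉ Subgroup.centralizer ((D.map (QuotientGroup.mk' N) : Subgroup (G ⧸ N)) : Set (G ⧸ N)) ∧
          BlockThms.push N f q = 0 := by
      intro q hne
      by_cases hq : Cfsg.IsPRegular p q
      · obtain ⟨g, hg, rfl⟩ := exists_regular_lift N hp hq
        have huniq : ∀ x : G, Cfsg.IsPRegular p x → x ∈ Subgroup.centralizer (D : Set G) →
            (x : G ⧸ N) = (g : G ⧸ N) → g = x := by
          intro x hx hxc e'
          have hn : x⁻¹ * g ∈ N := QuotientGroup.eq.1 e'
          obtain ⟨k, hk⟩ := IsPGroup.iff_orderOf.1 hN ⟨_, hn⟩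
          have hcomm : Commute (x⁻¹ * g) x := Subgroup.mem_centralizer_iff.1 hxc _ (hND hn)
          have h1 := (parts_mul hp hcomm
            ⟨k, (Subgroup.orderOf_coe (⟨_, hn⟩ : N)).trans hk⟩ hx).2
          have h2 := (parts_mul hp (Commute.one_left g) ⟨0, by simp⟩ hg).2
          rw [hcomm.eq, mul_inv_cancel_left] at h1
          rw [one_mul, h1] at h2
          exact h2.symm
        by_cases hgc : g ∈ Subgroup.centralizer (D : Set G)
        · refine absurd ?_ hne
          rw [BlockThms.push, Finset.sum_eq_single g, if_pos rfl]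
          · simp only [hf]
            rw [if_pos ⟨hg, hgc⟩, sub_self]
          · intro x _ hx
            split_ifs with hxq
            · simp only [hf]
              rw [if_neg fun hc => hx (huniq x hc.1 hc.2 hxq).symm]
            · rfl
          · simp
        · refine ⟨fun hqc => hgc (mem_centralizer_of_mod_derived D hD hg fun k hk => ?_), ?_⟩
          · have h1 := Subgroup.mem_centralizer_iff.1 hqc (k : G ⧸ N) ⟨k, hk, rfl⟩
            rw [← QuotientGroup.eq_one_iff]
            simp only [QuotientGroup.mk_mul, QuotientGroup.mk_inv]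
            rw [← h1, mul_inv_cancel_right, mul_inv_cancel]
          · rw [BlockThms.push]
            refine Finset.sum_eq_zero fun x _ => ?_
            split_ifs with hxq
            · simp only [hf]
              rw [if_neg]
              rintro ⟨hx1, hx2⟩
              exact hgc ((huniq x hx1 hx2 hxq).symm ▸ hx2)
            · rfl
      · refine absurd ?_ hne
        rw [he, blockCoeff_eq_zero hM hB hq, sub_zero, BlockThms.push]
        refine Finset.sum_eq_zero fun x _ => ?_
        split_ifs with hxq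
        · simp only [hf]
          rw [if_neg fun hx => hq ?_]
          rw [← hxq]
          exact isPRegular_mk N hx.1
        · rfl
    have hδc : Cfsg.IsClassFunction (G ⧸ N) (BlockThms.push N f - e) := fun a k => by
      simp only [Pi.sub_apply, BlockThms.isClassFunction_push N hfc a k, hec a k]
    have : Finite (ConjClasses (G ⧸ N)) := Quotient.finite _
    have := Fintype.ofFinite (ConjClasses (G ⧸ N))
    rw [omega_eq_sum_classes (Char.isClassFunction_of_isIrr η.2) hδc]
    refine memLocalIdeal_sum hM _ fun C _ => ?_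
    by_cases h0 : BlockThms.push N f C.out - e C.out = 0
    · rw [Pi.sub_apply, h0, zero_mul]; exact memLocalIdeal_zero hM
    · obtain ⟨hc, hp0⟩ := hpush _ h0
      refine memLocalIdeal_mul_left hM ?_
        (BlockThms.memLocalIdeal_centralChar_of_notMem _ hM hDb η hc)
      rw [Pi.sub_apply, hp0, zero_sub]
      exact (localRing hM).neg_mem (memLocalRing_blockCoeff hM hB _)
  have hd := memLocalIdeal_omega_sub hM (χ := fun g : G => (χ : G ⧸ N → ℂ) g)
    (ψ := fun g : G => (ψ : G ⧸ N → ℂ) g) (Char.isIrrCharacter_mk N χ.2)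
    (Char.isIrrCharacter_mk N ψ.2) hfc hfR h
  by_contra hne
  have h1 := hkey χ
  have h2 := hkey ψ
  rw [he, omega_blockCoeff, if_pos (mem_blockOf_self hM χ)] at h1
  rw [he, omega_blockCoeff, if_neg fun hm => hne (mem_blockOf.1 hm), sub_zero] at h2
  refine not_memLocalIdeal_one hM ?_
  convert memLocalIdeal_sub hM (memLocalIdeal_sub hM hd h1) (memLocalIdeal_neg h2) using 1
  ring

theorem exists_derived_quotient_char [Finite G] (hM : Cfsg.IsPModular p M) (D : Subgroup G)
    [D.Normal] (hD : IsPGroup p D) {B : Set (Cfsg.IrrCharacter G)} (hB : Cfsg.IsPBlock M B) :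
    ∃ χ : Cfsg.IrrCharacter (G ⧸ ⁅D, D⁆), ∃ θ ∈ B,
      ((θ : Cfsg.IrrCharacter G) : G → ℂ) = (χ : G ⧸ ⁅D, D⁆ → ℂ) ∘ QuotientGroup.mk := by
  obtain ⟨θ, hθ, htriv⟩ := BlockThms.exists_mem_trivial_on ⁅D, D⁆ hM
    (hD.to_le (Subgroup.commutator_le_right D D)) hB
  obtain ⟨φ, hφ, he⟩ := Char.IsIrr.exists_quotient ⁅D, D⁆ θ.2 htriv
  exact ⟨⟨φ, hφ⟩, θ, hθ, funext he⟩

end Cfsg.Agent.BlockChar
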