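import Cfsg.Agent.Blocks.Idempotent
import Cfsg.Agent.Blocks.LiftTrace
import Cfsg.Agent.Char.UniqueDivisible
import Cfsg.Agent.Char.SolvableDegree

/-!
Extensions in the principal block of characters of a normal subgroup `N` with `G = N C_G(P)`
-/

namespace Cfsg.Agent.BlockChar

open scoped ComplexConjugate
open Cfsg.Agent Cfsg.Agent.Blocks

universe u

variable {G : Type u} [Group G] [Fintype G]

/-- With irreducible restriction to `N`, an `N`-invariant element of the group algebra is a scalar,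
and integral coefficients give an integral scalar. -/
theorem sum_smul_rep_eq_scalar_of_res {m : ℕ} (ρ : Representation ℂ G (Fin m → ℂ))
    (N : Subgroup G) [Fintype N] (hN : Cfsg.IsIrrCharacter N (fun n : N => ρ.character n))
    {f : G → ℂ} (hf : ∀ (n : N) (x : G), f ((n : G) * x * (n : G)⁻¹) = f x) :
    (∑ g, f g • ρ g) = ((∑ g, f g * ρ.character g) / ρ.character 1) •
      (LinearMap.id : (Fin m → ℂ) →ₗ[ℂ] (Fin m → ℂ)) := by
  classical
  let σ : Representation ℂ N (Fin m → ℂ) := ρ.comp N.subtype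
  have h1 : Module.finrank ℂ (Representation.IntertwiningMap σ σ) = 1 := by
    have h := Char.classInner_character_eq_finrank σ σ
    rw [show σ.character = fun n : N => ρ.character n from rfl,
      Char.classInner_irr_self hN] at h
    exact_mod_cast h.symm
  have hm : (m : ℂ) ≠ 0 := by
    have h0 := Char.IsIrr.one_ne_zero hN
    simp only [OneMemClass.coe_one, Representation.char_one, Module.finrank_fin_fun] at h0
    exact h0
  let T : Representation.IntertwiningMap σ σ :=
    ⟨∑ g, f g • ρ g, fun n => by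
      show (∑ g, f g • ρ g) * ρ (n : G) = ρ (n : G) * ∑ g, f g • ρ g
      rw [Finset.sum_mul, Finset.mul_sum]
      refine Fintype.sum_equiv (MulAut.conj (n : G)⁻¹).toEquiv _ _ fun g => ?_
      have h2 : f ((n : G)⁻¹ * (g * (n : G))) = f g := by
        simpa [mul_assoc] using hf n⁻¹ g
      simp [h2, ← map_mul, mul_assoc]⟩
  have hid : (1 : Representation.IntertwiningMap σ σ) ≠ 0 := by
    intro h
    have := congrArg Representation.IntertwiningMap.toLinearMap h
    have h3 := congrArg (LinearMap.trace ℂ (Fin m → ℂ)) this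
    rw [show Representation.IntertwiningMap.toLinearMap (1 : Representation.IntertwiningMap σ σ) =
      LinearMap.id from rfl, LinearMap.trace_id, Module.finrank_fin_fun] at h3
    simp at h3
    exact hm (by exact_mod_cast h3)
  obtain ⟨c, hc⟩ := (finrank_eq_one_iff_of_nonzero' _ hid).1 h1 T
  have h3 : (∑ g, f g • ρ g) = c • (LinearMap.id : (Fin m → ℂ) →ₗ[ℂ] (Fin m → ℂ)) :=
    (congrArg Representation.IntertwiningMap.toLinearMap hc).symm
  have h4 := congrArg (LinearMap.trace ℂ (Fin m → ℂ)) h3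
  simp only [map_sum, map_smul, LinearMap.trace_id, smul_eq_mul, Module.finrank_fin_fun] at h4
  rw [h3]
  congr 1
  rw [Representation.char_one, Module.finrank_fin_fun, eq_div_iff hm]
  exact h4.symm

/-- The scalar of an `N`-invariant element. -/
noncomputable def scal (χ f : G → ℂ) : ℂ := (∑ g, f g * χ g) / χ 1

theorem scal_conv {χ : G → ℂ} (hχ : Cfsg.IsCharacter G χ) (N : Subgroup G) [Fintype N]
    (hN : Cfsg.IsIrrCharacter N (fun n : N => χ n)) {f f' : G → ℂ}
    (hf : ∀ (n : N) (x : G), f ((n : G) * x * (n : G)⁻¹) = f x)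
    (hf' : ∀ (n : N) (x : G), f' ((n : G) * x * (n : G)⁻¹) = f' x) :
    scal χ (conv f f') = scal χ f * scal χ f' := by
  obtain ⟨m, ρ, rfl⟩ := hχ
  have hcc : ∀ (n : N) (x : G), conv f f' ((n : G) * x * (n : G)⁻¹) = conv f f' x := by
    intro n x
    simp only [conv]
    refine Fintype.sum_equiv (MulAut.conj (n : G)⁻¹).toEquiv _ _ fun g => ?_
    simp only [MulEquiv.toEquiv_eq_coe, MulEquiv.coe_toEquiv, MulAut.conj_apply, inv_inv]
    have h1 : f ((n : G)⁻¹ * g * (n : G)) = f g := by simpa using hf n⁻¹ g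
    rw [h1, ← hf' n ((( n : G)⁻¹ * g * (n : G))⁻¹ * x)]
    congr 2
    group
  have h : (∑ z, conv f f' z • ρ z) = (∑ g, f g • ρ g) * ∑ h, f' h • ρ h := by
    simp only [conv, Finset.sum_smul]
    rw [Finset.sum_comm, Finset.sum_mul]
    refine Finset.sum_congr rfl fun g _ => ?_
    rw [Finset.mul_sum]
    refine (Fintype.sum_equiv (Equiv.mulLeft g) _ _ fun h => ?_).symm
    rw [Equiv.coe_mulLeft, inv_mul_cancel_left, map_mul, smul_mul_smul_comm]
  rw [sum_smul_rep_eq_scalar_of_res ρ N hN hcc, sum_smul_rep_eq_scalar_of_res ρ N hN hf,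
    sum_smul_rep_eq_scalar_of_res ρ N hN hf', smul_mul_smul_comm] at h
  have h' := congrArg (LinearMap.trace ℂ (Fin m → ℂ)) h
  simp only [map_smul, ← Module.End.one_eq_id, mul_one, LinearMap.trace_one, smul_eq_mul] at h'
  refine mul_right_cancel₀ (Nat.cast_ne_zero.2 fun h0 => ?_) h'
  exact Char.IsIrr.one_ne_zero hN (by simp [Representation.char_one, h0])

theorem isIntegral_scal {χ : G → ℂ} (hχ : Cfsg.IsCharacter G χ) (N : Subgroup G) [Fintype N]
    (hN : Cfsg.IsIrrCharacter N (fun n : N => χ n)) {f : G → ℂ}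
    (hf : ∀ (n : N) (x : G), f ((n : G) * x * (n : G)⁻¹) = f x) (hint : ∀ g, ∃ k : ℤ, f g = k) :
    IsIntegral ℤ (scal χ f) := by
  obtain ⟨m, ρ, rfl⟩ := hχ
  choose k hk using hint
  let a : MonoidAlgebra ℤ G := ∑ g, MonoidAlgebra.single g (k g)
  have : IsIntegral ℤ a := IsIntegral.of_finite ℤ a
  have h := this.map (MonoidAlgebra.lift ℤ (Module.End ℂ (Fin m → ℂ)) G ρ)
  have he : MonoidAlgebra.lift ℤ (Module.End ℂ (Fin m → ℂ)) G ρ a =
      algebraMap ℂ (Module.End ℂ (Fin m → ℂ)) (scal ρ.character f) := by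
    rw [Algebra.algebraMap_eq_smul_one, Module.End.one_eq_id, scal,
      ← sum_smul_rep_eq_scalar_of_res ρ N hN hf, map_sum]
    refine Finset.sum_congr rfl fun g _ => ?_
    rw [MonoidAlgebra.lift_single, hk]
    exact (Int.cast_smul_eq_zsmul ℂ (k g) (ρ g)).symm
  rw [he] at h
  have hnt : Nontrivial (Fin m → ℂ) := by
    refine Module.nontrivial_of_finrank_pos (R := ℂ) (Nat.pos_of_ne_zero fun h0 => ?_)
    exact Char.IsIrr.one_ne_zero hN (by simp [Representation.char_one, h0])
  exact (isIntegral_algebraMap_iff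
    (FaithfulSMul.algebraMap_injective ℂ (Module.End ℂ (Fin m → ℂ)))).mp h

/-- The indicator of the `N`-conjugates of `c`. -/
noncomputable def orbitInd (N : Subgroup G) (c : G) : G → ℂ :=
  open _root_.Classical in fun x => if ∃ n ∈ N, n * c * n⁻¹ = x then 1 else 0

theorem orbitInd_invariant (N : Subgroup G) (c : G) (n : N) (x : G) :
    orbitInd N c ((n : G) * x * (n : G)⁻¹) = orbitInd N c x := by
  classical
  simp only [orbitInd]
  refine if_congr ⟨fun ⟨k, hk, h⟩ => ⟨(n : G)⁻¹ * k, mul_mem (inv_mem n.2) hk, ?_⟩,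
    fun ⟨k, hk, h⟩ => ⟨(n : G) * k, mul_mem n.2 hk, by rw [← h]; group⟩⟩ rfl rfl
  calc (n : G)⁻¹ * k * c * ((n : G)⁻¹ * k)⁻¹ = (n : G)⁻¹ * (k * c * k⁻¹) * n := by group
    _ = x := by rw [h]; group

open scoped _root_.Classical in
theorem scal_orbitInd {χ : G → ℂ} (hcl : Cfsg.IsClassFunction G χ) (N : Subgroup G) (c : G) :
    scal χ (orbitInd N c) =
      ((Finset.univ.filter fun x => ∃ n ∈ N, n * c * n⁻¹ = x).card : ℂ) * (χ c / χ 1) := by
  rw [scal, ← mul_div_assoc]
  congr 1
  simp only [orbitInd, ite_mul, one_mul, zero_mul]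
  rw [← Finset.sum_filter, Finset.sum_congr rfl (g := fun _ => χ c) (fun x hx => ?_),
    Finset.sum_const, nsmul_eq_mul]
  obtain ⟨n, -, rfl⟩ := (Finset.mem_filter.1 hx).2
  exact hcl c n

open scoped _root_.Classical in
theorem not_dvd_card_orbit {p : ℕ} (N : Subgroup G) (S : Subgroup N) (hS : ¬ p ∣ S.index)
    {c : G} (hc : ∀ s ∈ S, (s : G) * c = c * (s : G)) :
    ¬ p ∣ (Finset.univ.filter fun x => ∃ n ∈ N, n * c * n⁻¹ = x).card := by
  letI : MulAction N G := MulAction.compHom G ((MulAut.conj : G →* MulAut G).comp N.subtype)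
  have hsm : ∀ (n : N) (x : G), n • x = (n : G) * x * (n : G)⁻¹ := fun n x => rfl
  have h1 : (Finset.univ.filter fun x => ∃ n ∈ N, n * c * n⁻¹ = x).card =
      (MulAction.stabilizer N c).index := by
    rw [MulAction.index_stabilizer, Set.ncard_eq_toFinset_card']
    refine congrArg Finset.card (Finset.ext fun x => ?_)
    simp only [Finset.mem_filter, Finset.mem_univ, true_and, Set.mem_toFinset, MulAction.mem_orbit_iff,
      hsm]
    exact ⟨fun ⟨n, hn, h⟩ => ⟨⟨n, hn⟩, h⟩, fun ⟨n, h⟩ => ⟨n, n.2, h⟩⟩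
  rw [h1]
  refine fun h => hS (h.trans (Subgroup.index_dvd_of_le fun s hs => ?_))
  rw [MulAction.mem_stabilizer_iff, hsm, hc s hs, mul_inv_cancel_right]

variable {p : ℕ} {M : Ideal Cfsg.AlgInt}

/-- A residue whose `m`-th power is one lifts uniquely to an `m`-th root of unity. -/
theorem exists_root_lift (hM : Cfsg.IsPModular p M) {m : ℕ} (hm : ¬ p ∣ m)
    {a : Cfsg.AlgInt ⧸ M} (ha : a ^ m = 1) :
    ∃! z : ℂ, z ^ m = 1 ∧ resFun hM z = a := by
  classical
  have := isPrime hM
  have hm0 : 0 < m := Nat.pos_of_ne_zero fun e => hm (by simp [e])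
  have hint : ∀ {z : ℂ}, z ^ m = 1 → IsIntegral ℤ z := fun h => by
    exact ⟨Polynomial.X ^ m - 1, Polynomial.monic_X_pow_sub_C 1 hm0.ne', by simp [h]⟩
  have huniq : ∀ {z w : ℂ}, z ^ m = 1 → w ^ m = 1 → resFun hM z = resFun hM w → z = w := by
    intro z w hz hw h
    have e1 := resFun_coe hM (⟨z, hint hz⟩ : Cfsg.AlgInt)
    have e2 := resFun_coe hM (⟨w, hint hw⟩ : Cfsg.AlgInt)
    simp only at e1 e2
    rw [e1, e2, Ideal.Quotient.eq] at h
    exact congrArg Subtype.val
      (eq_of_sub_mem_of_pow_eq_one hM hm (x := (⟨z, hint hz⟩ : Cfsg.AlgInt))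
        (y := ⟨w, hint hw⟩) (Subtype.ext (by simpa using hz)) (Subtype.ext (by simpa using hw)) h)
  have hpow : ∀ {z : ℂ}, z ^ m = 1 → (resFun hM z) ^ m = 1 := by
    intro z hz
    have e1 := resFun_coe hM (⟨z, hint hz⟩ : Cfsg.AlgInt)
    simp only at e1
    rw [e1, ← map_pow, ← map_one (Ideal.Quotient.mk M)]
    congr 1
    exact Subtype.ext (by simpa using hz)
  have hsub : (Polynomial.nthRootsFinset m (1 : ℂ)).image (resFun hM) =
      Polynomial.nthRootsFinset m (1 : Cfsg.AlgInt ⧸ M) := by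
    refine Finset.eq_of_subset_of_card_le (fun b hb => ?_) ?_
    · obtain ⟨z, hz, rfl⟩ := Finset.mem_image.1 hb
      exact (Polynomial.mem_nthRootsFinset hm0 1).2 (hpow ((Polynomial.mem_nthRootsFinset hm0 1).1 hz))
    · rw [Finset.card_image_of_injOn fun z hz w hw h => huniq
        ((Polynomial.mem_nthRootsFinset hm0 1).1 hz) ((Polynomial.mem_nthRootsFinset hm0 1).1 hw) h,
        (Complex.isPrimitiveRoot_exp m hm0.ne').card_nthRootsFinset, Polynomial.nthRootsFinset_def]
      exact (Multiset.toFinset_card_le _).trans (Polynomial.card_nthRoots m 1)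
  have : a ∈ (Polynomial.nthRootsFinset m (1 : ℂ)).image (resFun hM) := by
    rw [hsub]; exact (Polynomial.mem_nthRootsFinset hm0 1).2 ha
  obtain ⟨z, hz, hza⟩ := Finset.mem_image.1 this
  exact ⟨z, ⟨(Polynomial.mem_nthRootsFinset hm0 1).1 hz, hza⟩, fun w hw =>
    huniq hw.1 ((Polynomial.mem_nthRootsFinset hm0 1).1 hz) (hw.2.trans hza.symm)⟩

theorem exists_extension (hM : Cfsg.IsPModular p M) (N : Subgroup G) [N.Normal] [Fintype N]
    (S : Subgroup N) (hS : ¬ p ∣ S.index) (C : Subgroup G)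
    (hC : ∀ s ∈ S, ∀ c ∈ C, (s : G) * c = c * (s : G)) (hcov : N ⊔ C = ⊤)
    (θ : Cfsg.IrrCharacter N) (hθ : θ ∈ Cfsg.principalBlock M N)
    (ψ : Cfsg.IrrCharacter G) (hψ : ∀ x : N, (ψ : G → ℂ) x = (θ : N → ℂ) x) :
    ∃ χ : Cfsg.IrrCharacter G, χ ∈ Cfsg.principalBlock M G ∧
      (∀ x : N, (χ : G → ℂ) x = (θ : N → ℂ) x) ∧
      ∀ J : Subgroup G, N ≤ J → ∃ ξ : Cfsg.IrrCharacter J, ξ ∈ Cfsg.principalBlock M J ∧
        ∀ y : J, (ξ : J → ℂ) y = (χ : G → ℂ) y := by
  classical
  haveI := Fact.mk hM.1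
  have hfield := hM.2.1
  letI := Ideal.Quotient.field M
  haveI := charP_residueField hM
  have hres : (fun n : N => (ψ : G → ℂ) n) = (θ : N → ℂ) := funext hψ
  have hNirr : Cfsg.IsIrrCharacter N (fun n : N => (ψ : G → ℂ) n) := hres ▸ θ.2
  have hψc := Char.IsIrr.isCharacter ψ.2
  have hψ1 : (ψ : G → ℂ) 1 ≠ 0 := Char.IsIrr.one_ne_zero ψ.2
  have hcl := Char.isClassFunction_of_isIrr ψ.2
  obtain ⟨sz, hsz⟩ : ∃ sz : G → ℕ, ∀ c, sz c =
      (Finset.univ.filter fun x => ∃ n ∈ N, n * c * n⁻¹ = x).card := ⟨_, fun _ => rfl⟩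
  have hszp : ∀ c ∈ C, ¬ p ∣ sz c := fun c hc => hsz c ▸
    not_dvd_card_orbit N S hS fun s hs => hC s hs c hc
  have hszI : ∀ c ∈ C, ¬ Cfsg.MemLocalIdeal M (sz c : ℂ) := fun c hc h =>
    hszp c hc ((memLocalIdeal_natCast_iff hM _).1 h)
  -- the local integers `a c`
  obtain ⟨a, ha⟩ : ∃ a : G → ℂ, ∀ c, a c = (ψ : G → ℂ) c / (ψ : G → ℂ) 1 := ⟨_, fun _ => rfl⟩
  have hscal : ∀ c, scal (ψ : G → ℂ) (orbitInd N c) = (sz c : ℂ) * a c := fun c => by
    rw [scal_orbitInd hcl, hsz, ha]
  have hindZ : ∀ c g, ∃ k : ℤ, orbitInd N c g = k := fun c g => by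
    simp only [orbitInd]
    split_ifs
    · exact ⟨1, by simp⟩
    · exact ⟨0, by simp⟩
  have haR : ∀ c ∈ C, Cfsg.MemLocalRing M (a c) := by
    intro c hc
    have h1 := memLocalRing_of_isIntegral hM (isIntegral_scal hψc N hNirr
      (orbitInd_invariant N c) (hindZ c))
    rw [hscal] at h1
    have h2 := (localRing hM).mul_mem (memLocalRing_natCast_inv hM (hszp c hc)) h1
    rwa [inv_mul_cancel_left₀ (Nat.cast_ne_zero.2 fun h => hszp c hc (by simp [h]))] at h2
  -- on functions living on one coset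
  have hone : ∀ f : G → ℂ, (∀ (n : N) (x : G), f ((n : G) * x * (n : G)⁻¹) = f x) →
      (∀ g, Cfsg.MemLocalRing M (f g)) → (∀ g, f g ≠ 0 → g ∈ N) →
      Cfsg.MemLocalIdeal M (scal (ψ : G → ℂ) f - ∑ g, f g) := by
    intro f hf hfR hsupp
    have h := memLocalIdeal_omega_sub hM θ.2 Char.isIrrCharacter_one
      (f := fun n : N => f n) (fun n k => hf k n) (fun n => hfR n) (sameBlock_symm hθ)
    simp only [omega, mul_one, div_one] at h
    have e1 : ∀ g : G → ℂ, ∑ x, f x * g x = ∑ n : N, f n * g n := fun g => by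
      refine (Finset.sum_of_injOn (fun n : N => (n : G)) Subtype.val_injective.injOn
        (fun n _ => Finset.mem_univ _) (fun x _ hx => ?_) fun n _ => rfl).symm
      by_contra hne
      exact hx ⟨⟨x, hsupp x fun h0 => hne (by rw [h0, zero_mul])⟩,
        Finset.mem_coe.2 (Finset.mem_univ _), rfl⟩
    have e2 := e1 fun _ => 1
    simp only [mul_one] at e2
    rw [scal, e1, e2]
    simpa only [hψ, show (ψ : G → ℂ) 1 = (θ : N → ℂ) 1 from hψ 1] using h
  have hmain : ∀ c ∈ C, ∀ d ∈ C, ∀ f : G → ℂ,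
      (∀ (n : N) (x : G), f ((n : G) * x * (n : G)⁻¹) = f x) → (∀ g, Cfsg.MemLocalRing M (f g)) →
      (∀ g, f g ≠ 0 → g * d ∈ N) →
      Cfsg.MemLocalIdeal M (scal (ψ : G → ℂ) f * a d - ∑ g, f g) := by
    intro c _ d hd f hf hfR hsupp
    have hcv : ∀ (n : N) (x : G), conv f (orbitInd N d) ((n : G) * x * (n : G)⁻¹) =
        conv f (orbitInd N d) x := by
      intro n x
      simp only [conv]
      refine Fintype.sum_equiv (MulAut.conj (n : G)⁻¹).toEquiv _ _ fun g => ?_
      simp only [MulEquiv.toEquiv_eq_coe, MulEquiv.coe_toEquiv, MulAut.conj_apply, inv_inv]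
      have h1 : f ((n : G)⁻¹ * g * (n : G)) = f g := by simpa using hf n⁻¹ g
      rw [h1, ← orbitInd_invariant N d n (((n : G)⁻¹ * g * (n : G))⁻¹ * x)]
      congr 2
      group
    have hcR : ∀ z, Cfsg.MemLocalRing M (conv f (orbitInd N d) z) := fun z => by
      refine (localRing hM).sum_mem fun g _ => (localRing hM).mul_mem (hfR g) ?_
      obtain ⟨k, hk⟩ := hindZ d (g⁻¹ * z)
      rw [hk]
      exact memLocalRing_of_isIntegral hM (isIntegral_algebraMap (R := ℤ) (x := k))
    have hcs : ∀ z, conv f (orbitInd N d) z ≠ 0 → z ∈ N := by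
      intro z hz
      obtain ⟨g, -, hg⟩ := Finset.exists_ne_zero_of_sum_ne_zero hz
      obtain ⟨h1, h2⟩ := mul_ne_zero_iff.1 hg
      simp only [orbitInd, ne_eq, ite_eq_right_iff, one_ne_zero, imp_false, not_not] at h2
      obtain ⟨n, hn, hnz⟩ := h2
      have e : z = g * d * ((d⁻¹ * n * d) * n⁻¹) := by
        rw [show z = g * (g⁻¹ * z) by group, ← hnz]; group
      rw [e]
      refine mul_mem (hsupp g h1) (mul_mem ?_ (inv_mem hn))
      simpa using (inferInstance : N.Normal).conj_mem n hn d⁻¹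
    have h := hone _ hcv hcR hcs
    have e : ∑ z, conv f (orbitInd N d) z = (∑ g, f g) * sz d := by
      simp only [conv]
      rw [Finset.sum_comm, Finset.sum_mul]
      refine Finset.sum_congr rfl fun g _ => ?_
      rw [← Finset.mul_sum, hsz]
      congr 1
      rw [Fintype.sum_equiv (Equiv.mulLeft g⁻¹) (fun z => orbitInd N d (g⁻¹ * z)) (orbitInd N d)
        fun z => rfl]
      simp [orbitInd, Finset.sum_boole]
    rw [scal_conv hψc N hNirr hf (orbitInd_invariant N d), hscal, e] at h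
    have h2 := memLocalIdeal_mul_left hM (memLocalRing_natCast_inv hM (hszp d hd)) h
    have hne : ((sz d : ℕ) : ℂ) ≠ 0 := Nat.cast_ne_zero.2 fun h0 => hszp d hd (by simp [h0])
    have e3 : scal (ψ : G → ℂ) f * a d - ∑ g, f g =
        (sz d : ℂ)⁻¹ * (scal (ψ : G → ℂ) f * ((sz d : ℂ) * a d) - (∑ g, f g) * sz d) := by
      field_simp
    rw [e3]
    exact h2
  -- multiplicativity of residues
  have hinv : ∀ c ∈ C, Cfsg.MemLocalIdeal M (a c * a c⁻¹ - 1) := by
    intro c hc
    have h := hmain c hc c⁻¹ (inv_mem hc) (orbitInd N c) (orbitInd_invariant N c)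
      (fun g => by
        obtain ⟨k, hk⟩ := hindZ c g
        rw [hk]; exact memLocalRing_of_isIntegral hM (isIntegral_algebraMap (R := ℤ) (x := k)))
      (fun g hg => by
        simp only [orbitInd, ne_eq, ite_eq_right_iff, one_ne_zero, imp_false, not_not] at hg
        obtain ⟨n, hn, rfl⟩ := hg
        rw [show n * c * n⁻¹ * c⁻¹ = n * (c * n⁻¹ * c⁻¹) by group]
        exact mul_mem hn ((inferInstance : N.Normal).conj_mem _ (inv_mem hn) c))
    rw [hscal, show ∑ g, orbitInd N c g = (sz c : ℂ) by simp [orbitInd, Finset.sum_boole, hsz]] at h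
    have h2 := memLocalIdeal_mul_left hM (memLocalRing_natCast_inv hM (hszp c hc)) h
    have hne : ((sz c : ℕ) : ℂ) ≠ 0 := Nat.cast_ne_zero.2 fun h0 => hszp c hc (by simp [h0])
    rwa [show (sz c : ℂ)⁻¹ * ((sz c : ℂ) * a c * a c⁻¹ - (sz c : ℂ)) = a c * a c⁻¹ - 1 by
      field_simp] at h2
  obtain ⟨φ, hφ⟩ : ∃ φ : G → Cfsg.AlgInt ⧸ M, ∀ c, φ c = resFun hM (a c) := ⟨_, fun _ => rfl⟩
  have hφinv : ∀ c ∈ C, φ c * φ c⁻¹ = 1 := fun c hc => by
    have h := (resFun_eq_zero_iff hM ((localRing hM).sub_mem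
      ((localRing hM).mul_mem (haR c hc) (haR _ (inv_mem hc))) (localRing hM).one_mem)).2 (hinv c hc)
    rw [sub_eq_add_neg, resFun_add hM ((localRing hM).mul_mem (haR c hc) (haR _ (inv_mem hc)))
      ((localRing hM).neg_mem (localRing hM).one_mem), resFun_mul hM (haR c hc) (haR _ (inv_mem hc)),
      ← hφ, ← hφ, show resFun hM (-1 : ℂ) = -1 by simpa using resFun_coe hM (-1)] at h
    rw [← sub_eq_zero, sub_eq_add_neg]
    exact h
  have hφmul : ∀ c ∈ C, ∀ d ∈ C, ∀ e ∈ C, c * d * e ∈ N → φ c * φ d * φ e = 1 := by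
    intro c hc d hd e he hcde
    have hcv : ∀ (n : N) (x : G), conv (orbitInd N c) (orbitInd N d) ((n : G) * x * (n : G)⁻¹) =
        conv (orbitInd N c) (orbitInd N d) x := by
      intro n x
      simp only [conv]
      refine Fintype.sum_equiv (MulAut.conj (n : G)⁻¹).toEquiv _ _ fun g => ?_
      simp only [MulEquiv.toEquiv_eq_coe, MulEquiv.coe_toEquiv, MulAut.conj_apply, inv_inv]
      have h1 : orbitInd N c ((n : G)⁻¹ * g * (n : G)) = orbitInd N c g := by
        simpa using orbitInd_invariant N c n⁻¹ g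
      rw [h1, ← orbitInd_invariant N d n (((n : G)⁻¹ * g * (n : G))⁻¹ * x)]
      congr 2
      group
    have hcR : ∀ z, Cfsg.MemLocalRing M (conv (orbitInd N c) (orbitInd N d) z) := fun z => by
      refine (localRing hM).sum_mem fun g _ => ?_
      obtain ⟨k, hk⟩ := hindZ c g
      obtain ⟨l, hl⟩ := hindZ d (g⁻¹ * z)
      rw [hk, hl]
      exact memLocalRing_of_isIntegral hM ((isIntegral_algebraMap (R := ℤ) (x := k)).mul
        (isIntegral_algebraMap (R := ℤ) (x := l)))
    have hcs : ∀ z, conv (orbitInd N c) (orbitInd N d) z ≠ 0 → z * e ∈ N := by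
      intro z hz
      obtain ⟨g, -, hg⟩ := Finset.exists_ne_zero_of_sum_ne_zero hz
      obtain ⟨h1, h2⟩ := mul_ne_zero_iff.1 hg
      simp only [orbitInd, ne_eq, ite_eq_right_iff, one_ne_zero, imp_false, not_not] at h1 h2
      obtain ⟨n, hn, hn'⟩ := h1
      obtain ⟨k, hk, hk'⟩ := h2
      have eg : (g : G ⧸ N) = (c : G ⧸ N) := by
        rw [← hn']; simp [(QuotientGroup.eq_one_iff n).2 hn]
      have ez : ((g⁻¹ * z : G) : G ⧸ N) = (d : G ⧸ N) := by
        rw [← hk']; simp [(QuotientGroup.eq_one_iff k).2 hk]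
      rw [← QuotientGroup.eq_one_iff, show z * e = g * (g⁻¹ * z) * e by group, QuotientGroup.mk_mul,
        QuotientGroup.mk_mul, eg, ez, ← QuotientGroup.mk_mul, ← QuotientGroup.mk_mul,
        QuotientGroup.eq_one_iff]
      exact hcde
    have h := hmain c hc e he _ hcv hcR hcs
    have e1 : ∑ z, conv (orbitInd N c) (orbitInd N d) z = (sz c : ℂ) * sz d := by
      simp only [conv]
      rw [Finset.sum_comm]
      rw [show (sz c : ℂ) = ∑ g, orbitInd N c g by simp [orbitInd, Finset.sum_boole, hsz],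
        Finset.sum_mul]
      refine Finset.sum_congr rfl fun g _ => ?_
      rw [← Finset.mul_sum, hsz]
      congr 1
      rw [Fintype.sum_equiv (Equiv.mulLeft g⁻¹) (fun z => orbitInd N d (g⁻¹ * z)) (orbitInd N d)
        fun z => rfl]
      simp [orbitInd, Finset.sum_boole]
    rw [scal_conv hψc N hNirr (orbitInd_invariant N c) (orbitInd_invariant N d), hscal, hscal,
      e1] at h
    have hcd : ¬ p ∣ sz c * sz d := fun h => (hM.1.dvd_mul.1 h).elim (hszp c hc) (hszp d hd)
    have hne1 : ((sz c : ℕ) : ℂ) ≠ 0 := Nat.cast_ne_zero.2 fun h0 => hszp c hc (by simp [h0])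
    have hne2 : ((sz d : ℕ) : ℂ) ≠ 0 := Nat.cast_ne_zero.2 fun h0 => hszp d hd (by simp [h0])
    have h2 := memLocalIdeal_mul_left hM (memLocalRing_natCast_inv hM hcd) h
    rw [show ((sz c * sz d : ℕ) : ℂ)⁻¹ * ((sz c : ℂ) * a c * ((sz d : ℂ) * a d) * a e -
        (sz c : ℂ) * sz d) = a c * a d * a e - 1 by push_cast; field_simp] at h2
    have hmem := (localRing hM).mul_mem ((localRing hM).mul_mem (haR c hc) (haR d hd)) (haR e he)
    have h3 := (resFun_eq_zero_iff hM ((localRing hM).sub_mem hmem (localRing hM).one_mem)).2 h2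
    rw [sub_eq_add_neg, resFun_add hM hmem ((localRing hM).neg_mem (localRing hM).one_mem),
      resFun_mul hM ((localRing hM).mul_mem (haR c hc) (haR d hd)) (haR e he),
      resFun_mul hM (haR c hc) (haR d hd), ← hφ, ← hφ, ← hφ,
      show resFun hM (-1 : ℂ) = -1 by simpa using resFun_coe hM (-1)] at h3
    rw [← sub_eq_zero, sub_eq_add_neg]
    exact h3
  -- a homomorphism to the residue field
  have hφ1 : φ 1 = 1 := by
    rw [hφ, ha, div_self hψ1]
    simpa using resFun_coe hM 1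
  have hφN : ∀ c ∈ C, c ∈ N → φ c = 1 := fun c hc hcN => by
    have := hφmul c hc 1 (one_mem _) 1 (one_mem _) (by simpa using hcN)
    rwa [hφ1, mul_one, mul_one] at this
  have hφhom : ∀ c ∈ C, ∀ d ∈ C, φ (c * d) = φ c * φ d := by
    intro c hc d hd
    have h1 := hφmul c hc d hd (c * d)⁻¹ (inv_mem (mul_mem hc hd)) (by simp)
    have h2 := hφinv _ (mul_mem hc hd)
    exact mul_right_cancel₀ (right_ne_zero_of_mul_eq_one h1) (h2.trans h1.symm)
  let Φ : C →* Cfsg.AlgInt ⧸ M :=
    { toFun := fun c => φ c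
      map_one' := hφ1
      map_mul' := fun c d => hφhom c c.2 d d.2 }
  obtain ⟨m, hm, k, hk⟩ : ∃ m, ¬ p ∣ m ∧ ∃ k, Nat.card G = p ^ k * m :=
    ⟨_, Nat.not_dvd_ordCompl hM.1 Nat.card_pos.ne', _,
      (Nat.ordProj_mul_ordCompl_eq_self (Nat.card G) p).symm⟩
  have hm0 : 0 < m := Nat.pos_of_ne_zero fun e0 => hm (by rw [e0]; exact dvd_zero p)
  have hΦm : ∀ c : C, Φ c ^ m = 1 := by
    intro c
    have h1 : Φ c ^ (p ^ k * m) = 1 := by
      rw [← hk, ← map_pow, show c ^ Nat.card G = 1 from Subtype.ext (by simp), map_one]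
    rw [mul_comm, pow_mul] at h1
    haveI : ExpChar (Cfsg.AlgInt ⧸ M) p := ExpChar.prime hM.1
    have h2 := (ExpChar.pow_prime_pow_mul_eq_one_iff p k 1 (Φ c ^ m)).1 (by rwa [mul_one])
    rwa [pow_one] at h2
  choose ν hν huν using fun c : C => exists_root_lift hM hm (hΦm c)
  have hνmul : ∀ c d : C, ν (c * d) = ν c * ν d := fun c d => by
    have hi : ∀ {z : ℂ}, z ^ m = 1 → Cfsg.MemLocalRing M z := fun h =>
      memLocalRing_of_isIntegral hM (IsIntegral.of_pow hm0
        (by rw [h]; exact isIntegral_one))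
    refine (huν (c * d) _ ⟨by rw [mul_pow, (hν c).1, (hν d).1, one_mul], ?_⟩).symm
    rw [resFun_mul hM (hi (hν c).1) (hi (hν d).1), (hν c).2, (hν d).2, map_mul]
  have hν1 : ∀ c : C, (c : G) ∈ N → ν c = 1 := fun c hc =>
    (huν c 1 ⟨one_pow m, by
      show resFun hM 1 = φ c
      rw [hφN c c.2 hc]
      simpa using resFun_coe hM 1⟩).symm
  let νh : C →* ℂˣ := MonoidHom.toHomUnits
    { toFun := ν, map_one' := hν1 1 (one_mem _), map_mul' := hνmul }
  have hsurj : Function.Surjective ((QuotientGroup.mk' N).comp C.subtype) := by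
    intro q
    obtain ⟨g, rfl⟩ := QuotientGroup.mk'_surjective N q
    obtain ⟨n, hn, c, hc, rfl⟩ := Subgroup.mem_sup_of_normal_left.1 (hcov ▸ Subgroup.mem_top g)
    exact ⟨⟨c, hc⟩, by simp [(QuotientGroup.eq_one_iff n).2 hn]⟩
  let lam : G →* ℂˣ := (((QuotientGroup.mk' N).comp C.subtype).liftOfSurjective hsurj
    ⟨νh, fun c hc => Units.ext (hν1 c ((QuotientGroup.eq_one_iff _).1 hc))⟩).comp (QuotientGroup.mk' N)
  have hlamC : ∀ c : C, lam (c : G) = νh c := fun c =>
    ((QuotientGroup.mk' N).comp C.subtype).liftOfRightInverse_comp_apply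
      (Function.surjInv hsurj) (Function.rightInverse_surjInv hsurj)
      ⟨νh, fun c hc => Units.ext (hν1 c ((QuotientGroup.eq_one_iff _).1 hc))⟩ c
  have hlamN : ∀ n ∈ N, lam n = 1 := fun n hn => by
    simp only [lam, MonoidHom.comp_apply, QuotientGroup.mk'_apply,
      (QuotientGroup.eq_one_iff n).2 hn, map_one]
  -- the twisted character
  obtain ⟨χ, hχ⟩ : ∃ χ : Cfsg.IrrCharacter G, ∀ g, (χ : G → ℂ) g =
      (ψ : G → ℂ) g * ((lam⁻¹ g : ℂˣ) : ℂ) := ⟨⟨_, Char.isIrr_mul_hom ψ.2 lam⁻¹⟩, fun _ => rfl⟩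
  have hχN : ∀ n : N, (χ : G → ℂ) n = (θ : N → ℂ) n := fun n => by
    rw [hχ, MonoidHom.inv_apply, hlamN n n.2, inv_one, Units.val_one, mul_one, hψ]
  -- congruence with the trivial character on `N`-invariant functions
  have hkey : ∀ f : G → ℂ, (∀ (n : N) (x : G), f ((n : G) * x * (n : G)⁻¹) = f x) →
      (∀ g, Cfsg.MemLocalRing M (f g)) →
      Cfsg.MemLocalIdeal M (scal (χ : G → ℂ) f - ∑ g, f g) := by
    intro f hf hfR
    have hsplit : scal (χ : G → ℂ) f - ∑ g, f g = ∑ q : G ⧸ N,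
        (scal (χ : G → ℂ) (fun g => if QuotientGroup.mk' N g = q then f g else 0) -
          ∑ g, if QuotientGroup.mk' N g = q then f g else 0) := by
      have e1 : ∀ w : G → ℂ, (∑ q : G ⧸ N, ∑ g, (if QuotientGroup.mk' N g = q then f g else 0) * w g) =
          ∑ g, f g * w g := fun w => by
        rw [Finset.sum_comm]
        refine Finset.sum_congr rfl fun g _ => ?_
        rw [← Finset.sum_mul, Finset.sum_ite_eq Finset.univ (QuotientGroup.mk' N g) (fun _ => f g),
          if_pos (Finset.mem_univ _)]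
      have e2 := e1 fun _ => 1
      simp only [mul_one] at e2
      simp only [scal]
      rw [Finset.sum_sub_distrib, ← Finset.sum_div, e1, e2]
    rw [hsplit]
    refine memLocalIdeal_sum hM _ fun q _ => ?_
    obtain ⟨c, hc⟩ := hsurj q
    obtain ⟨fq, hfq⟩ : ∃ fq : G → ℂ, (fun g => if QuotientGroup.mk' N g = q then f g else 0) = fq :=
      ⟨_, rfl⟩
    have hfq' : ∀ g, (if QuotientGroup.mk' N g = q then f g else 0) = fq g := congrFun hfq
    simp only [hfq']
    have hcongr := hmain (c : G) c.2 (c : G)⁻¹ (inv_mem c.2) fq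
      (fun n x => by
        rw [← hfq', ← hfq', hf n x]
        simp only [map_mul, map_inv, show QuotientGroup.mk' N (n : G) = 1 from
          (QuotientGroup.eq_one_iff (n : G)).2 n.2, one_mul, inv_one, mul_one])
      (fun g => by rw [← hfq']; split_ifs; exacts [hfR g, (localRing hM).zero_mem])
      (fun g hg => by
        rw [← hfq'] at hg
        split_ifs at hg with h1
        · rw [← QuotientGroup.eq_one_iff]
          rw [← hc] at h1
          simp only [QuotientGroup.mk_mul, QuotientGroup.mk_inv]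
          rw [show ((g : G ⧸ N)) = ((c : G) : G ⧸ N) from h1, mul_inv_cancel]
        · exact absurd rfl hg)
    -- the linear character is constant on the coset
    have hval : scal (χ : G → ℂ) fq = scal (ψ : G → ℂ) fq * (((νh c)⁻¹ : ℂˣ) : ℂ) := by
      simp only [scal]
      rw [hχ 1, map_one, Units.val_one, mul_one, div_mul_eq_mul_div, Finset.sum_mul]
      congr 1
      refine Finset.sum_congr rfl fun g _ => ?_
      rw [hχ, ← hfq']
      split_ifs with h1
      · rw [← hlamC c, MonoidHom.inv_apply]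
        have : lam g = lam c := by
          rw [← hc, MonoidHom.comp_apply] at h1
          simp only [lam, MonoidHom.comp_apply, h1]
          rfl
        rw [this, mul_assoc]
      · simp
    rw [hval]
    -- `ν c⁻¹ ≡ a c⁻¹`
    have hνR : Cfsg.MemLocalRing M (((νh c)⁻¹ : ℂˣ) : ℂ) := by
      rw [← map_inv]
      exact memLocalRing_of_isIntegral hM (IsIntegral.of_pow
        hm0
        (by rw [show ((νh c⁻¹ : ℂˣ) : ℂ) = ν c⁻¹ from rfl, (hν c⁻¹).1]; exact isIntegral_one))
    have hdiff : Cfsg.MemLocalIdeal M ((((νh c)⁻¹ : ℂˣ) : ℂ) - a (c : G)⁻¹) := by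
      rw [← resFun_eq_zero_iff hM ((localRing hM).sub_mem hνR (haR _ (inv_mem c.2))), sub_eq_add_neg,
        resFun_add hM hνR ((localRing hM).neg_mem (haR _ (inv_mem c.2)))]
      have e1 : resFun hM (-a (c : G)⁻¹) = -resFun hM (a (c : G)⁻¹) :=
        map_neg (residue hM) ⟨_, haR _ (inv_mem c.2)⟩
      rw [e1, ← hφ, ← map_inv, show ((νh c⁻¹ : ℂˣ) : ℂ) = ν c⁻¹ from rfl, (hν c⁻¹).2,
        ← sub_eq_add_neg, sub_eq_zero]
      rfl
    have hsR : Cfsg.MemLocalRing M (scal (ψ : G → ℂ) fq) := by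
      have h1 := (localRing hM).add_mem (memLocalRing_of_memLocalIdeal hcongr)
        ((localRing hM).sum_mem fun g (_ : g ∈ (Finset.univ : Finset G)) =>
          show fq g ∈ localRing hM by
            rw [← hfq']; split_ifs; exacts [hfR g, (localRing hM).zero_mem])
      rw [sub_add_cancel] at h1
      have h2 := (localRing hM).mul_mem h1 (haR _ c.2)
      have h3 := (localRing hM).sub_mem h2 ((localRing hM).mul_mem h1 (haR _ c.2))
      clear h3
      have hu : φ ((c : G)⁻¹) ≠ 0 := right_ne_zero_of_mul_eq_one (hφinv _ c.2)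
      have h4 := memLocalRing_inv (haR _ (inv_mem c.2)) fun hI => hu (by
        rw [hφ]; exact (resFun_eq_zero_iff hM (haR _ (inv_mem c.2))).2 hI)
      have h5 := (localRing hM).mul_mem h1 h4
      rwa [mul_inv_cancel_right₀ fun h0 => hu (by
        rw [hφ, h0]; simpa using resFun_coe hM 0)] at h5
    have := memLocalIdeal_add hM (memLocalIdeal_mul_left hM hsR hdiff) hcongr
    rwa [mul_sub, sub_add_sub_cancel] at this
  refine ⟨χ, fun g => ?_, hχN, fun J hNJ => ?_⟩
  · have h := hkey (classInd g) (fun n x => isClassFunction_classInd g x n) (fun x => by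
      rw [classInd_apply]; split_ifs; exacts [(localRing hM).one_mem, (localRing hM).zero_mem])
    have h1 : scal (χ : G → ℂ) (classInd g) = Cfsg.centralChar (χ : G → ℂ) g :=
      omega_classInd (Char.isClassFunction_of_isIrr χ.2) g
    have h2 : (∑ x, classInd g x) = Cfsg.centralChar (fun _ : G => (1 : ℂ)) g := by
      rw [← omega_classInd (fun x k => rfl) g]; simp [omega]
    rw [h1, h2] at h
    simpa using memLocalIdeal_neg h
  · letI := Fintype.ofFinite J
    have hirr : Cfsg.IsIrrCharacter J (fun y : J => (χ : G → ℂ) y) :=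
      Char.isIrr_of_res_irr (Char.IsIrr.isCharacter χ.2) hNJ (by rw [funext hχN]; exact θ.2)
    refine ⟨⟨_, hirr⟩, fun g => ?_, fun y => rfl⟩
    obtain ⟨f, hf⟩ : ∃ f : G → ℂ, ∀ x, f x = if h : x ∈ J then classInd g ⟨x, h⟩ else 0 :=
      ⟨_, fun _ => rfl⟩
    have hfJ : ∀ y : J, f y = classInd g y := fun y => by rw [hf, dif_pos y.2]
    have h := hkey f (fun n x => by
      rw [hf, hf]
      by_cases hx : x ∈ J
      · rw [dif_pos hx, dif_pos (mul_mem (mul_mem (hNJ n.2) hx) (inv_mem (hNJ n.2)))]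
        exact isClassFunction_classInd g ⟨x, hx⟩ ⟨n, hNJ n.2⟩
      · rw [dif_neg hx, dif_neg fun h => hx ?_]
        have := mul_mem (mul_mem (inv_mem (hNJ n.2)) h) (hNJ n.2)
        simpa [mul_assoc] using this) (fun x => by
      rw [hf]; split_ifs
      · rw [classInd_apply]; split_ifs; exacts [(localRing hM).one_mem, (localRing hM).zero_mem]
      · exact (localRing hM).zero_mem)
    have e1 : ∀ w : G → ℂ, ∑ x, f x * w x = ∑ y : J, classInd g y * w y := fun w => by
      refine (Finset.sum_of_injOn (fun y : J => (y : G)) Subtype.val_injective.injOn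
        (fun y _ => Finset.mem_univ _) (fun x _ hx => ?_) fun y _ => by rw [hfJ]).symm
      rw [hf, dif_neg fun hxJ => hx ⟨⟨x, hxJ⟩, Finset.mem_coe.2 (Finset.mem_univ _), rfl⟩,
        zero_mul]
    have e2 := e1 fun _ => 1
    simp only [mul_one] at e2
    have h1 : scal (χ : G → ℂ) f = Cfsg.centralChar (fun y : J => (χ : G → ℂ) y) g := by
      rw [← omega_classInd (Char.isClassFunction_of_isIrr hirr) g, scal, omega, e1,
        OneMemClass.coe_one]
    have h2 : (∑ x, f x) = Cfsg.centralChar (fun _ : J => (1 : ℂ)) g := by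
      rw [e2, ← omega_classInd (fun x k => rfl) g]; simp [omega]
    rw [h1, h2] at h
    simpa using memLocalIdeal_neg h

end Cfsg.Agent.BlockChar
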