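import Cfsg.Agent.Char.Zero
import Cfsg.Agent.Char.Ortho
import Cfsg.Agent.Char.Galois

/-!
Fields of values as fixed fields
-/

set_option autoImplicit false

namespace Cfsg.Agent.FieldValues

open Cfsg.Agent Cfsg.Agent.Char

universe u

/-- A field embedding fixing the generators fixes the field they generate. -/
theorem fixed_adjoin {S : Set ℂ} (σ : ℂ →+* ℂ) (h : ∀ s ∈ S, σ s = s) {z : ℂ}
    (hz : z ∈ IntermediateField.adjoin ℚ S) : σ z = z := by
  induction hz using IntermediateField.adjoin_induction with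
  | mem x hx => exact h x hx
  | algebraMap q => exact (eq_ratCast (σ.comp (algebraMap ℚ ℂ)) q).trans (eq_ratCast (algebraMap ℚ ℂ) q).symm
  | add x y _ _ hx hy => rw [map_add, hx, hy]
  | inv x _ hx => rw [map_inv₀, hx]
  | mul x y _ _ hx hy => rw [map_mul, hx, hy]

/-- Elements of a cyclotomic field fixed by the embeddings fixing a subfield lie in it. -/
theorem mem_of_fixed {m : ℕ} (hm : m ≠ 0) (B : IntermediateField ℚ ℂ) (hB : B ≤ cycField m) {z : ℂ}
    (hz : z ∈ cycField m)
    (h : ∀ (k : ℕ) (σ : ℂ →+* ℂ), k.Coprime m → (∀ w : ℂ, w ^ m = 1 → σ w = w ^ k) →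
      (∀ b ∈ B, σ b = b) → σ z = z) :
    z ∈ B := by
  classical
  let K := algebraicClosure B ℂ
  have hK : Algebra.IsAlgebraic B K := algebraicClosure.isAlgebraic B ℂ
  have hle : ∀ w ∈ cycField m, w ∈ K := by
    intro w hw
    induction hw using IntermediateField.adjoin_induction with
    | mem x hx =>
      exact mem_algebraicClosure_iff.2 (IsIntegral.isAlgebraic (IsIntegral.of_pow
        (Nat.pos_of_ne_zero hm) (by rw [show x ^ m = 1 from hx]; exact isIntegral_one)))
    | algebraMap q => rw [eq_ratCast]; exact SubfieldClass.ratCast_mem K q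
    | add x y _ _ hx hy => exact add_mem hx hy
    | inv x _ hx => exact inv_mem hx
    | mul x y _ _ hx hy => exact mul_mem hx hy
  let z' : K := ⟨z, hle z hz⟩
  have hint : IsIntegral B z' := (Algebra.IsAlgebraic.isAlgebraic (R := B) z').isIntegral
  obtain ⟨ζ, hprim⟩ : ∃ ζ : ℂ, IsPrimitiveRoot ζ m := ⟨_, Complex.isPrimitiveRoot_exp m hm⟩
  have : NeZero m := ⟨hm⟩
  have hall : ∀ β ∈ (minpoly B z').rootSet ℂ, β = z := by
    intro β hβ
    rw [← Algebra.IsAlgebraic.range_eval_eq_rootSet_minpoly (F := B) (K := K) ℂ z'] at hβ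
    obtain ⟨ψ, rfl⟩ := hβ
    have hζm : ζ ∈ cycField m := IntermediateField.subset_adjoin ℚ _ hprim.pow_eq_one
    have hψprim : IsPrimitiveRoot (ψ ⟨ζ, hle ζ hζm⟩) m := by
      refine IsPrimitiveRoot.map_of_injective ?_ ψ.toRingHom.injective
      exact IsPrimitiveRoot.of_map_of_injective (f := algebraMap K ℂ)
        (by exact hprim) (algebraMap K ℂ).injective
    obtain ⟨k, -, hk, hψζ⟩ := (hprim.isPrimitiveRoot_iff).1 hψprim
    obtain ⟨σ, hσ⟩ := exists_galois m k hm hk
    have heq : ∀ w (hw : w ∈ cycField m), ψ ⟨w, hle w hw⟩ = σ w := by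
      intro w hw
      induction hw using IntermediateField.adjoin_induction with
      | mem x hx =>
        obtain ⟨i, -, hi⟩ := hprim.eq_pow_of_pow_eq_one hx
        subst hi
        rw [hσ _ hx]
        have : (⟨ζ ^ i, hle _ (IntermediateField.subset_adjoin ℚ _ hx)⟩ : K) = ⟨ζ, hle ζ hζm⟩ ^ i :=
          Subtype.ext (by simp)
        rw [this, map_pow, ← hψζ, ← pow_mul, ← pow_mul, mul_comm]
      | algebraMap q =>
        have e : (⟨algebraMap ℚ ℂ q, hle _ (IntermediateField.algebraMap_mem _ q)⟩ : K) = (q : K) :=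
          Subtype.ext (by simp)
        rw [e, map_ratCast, eq_ratCast (algebraMap ℚ ℂ) q, map_ratCast]
      | add x y _ _ hx hy =>
        rw [map_add, ← hx, ← hy, ← map_add]
        rfl
      | inv x _ hx =>
        rw [map_inv₀, ← hx, ← map_inv₀]
        rfl
      | mul x y _ _ hx hy =>
        rw [map_mul, ← hx, ← hy, ← map_mul]
        rfl
    refine (heq z hz).trans (h k σ hk hσ fun b hb => ?_)
    rw [← heq b (hB hb)]
    exact ψ.commutes ⟨b, hb⟩
  have hdeg : (minpoly B z').natDegree ≤ 1 := by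
    rw [← Polynomial.card_rootSet_eq_natDegree (K := ℂ) (minpoly.irreducible hint).separable
      (IsAlgClosed.splits _)]
    exact Fintype.card_le_one_iff_subsingleton.2
      ⟨fun a b => Subtype.ext ((hall _ a.2).trans (hall _ b.2).symm)⟩
  have hdeg' : (minpoly B z').natDegree = 1 :=
    le_antisymm hdeg (minpoly.natDegree_pos hint)
  obtain ⟨q, hq⟩ := minpoly.natDegree_eq_one_iff.1 hdeg'
  have hqz : (q : ℂ) = z := congrArg Subtype.val hq
  exact hqz ▸ q.2

variable {G : Type u} [Group G] [Finite G]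

/-- The field of values at `g` is `ℚ(x)` iff the embeddings fixing `x` are the ones fixing the
class of `g`. -/
theorem adjoin_values_eq_iff (g : G) {x : ℂ} (hx : x ∈ cycField (Nat.card G)) :
    IntermediateField.adjoin ℚ {z : ℂ | ∃ χ : Cfsg.IrrCharacter G, (χ : G → ℂ) g = z} =
        IntermediateField.adjoin ℚ ({x} : Set ℂ) ↔
      ∀ (k : ℕ) (σ : ℂ →+* ℂ), k.Coprime (Nat.card G) →
        (∀ w : ℂ, w ^ Nat.card G = 1 → σ w = w ^ k) → (IsConj (g ^ k) g ↔ σ x = x) := by
  obtain ⟨V, hV⟩ : ∃ V, {z : ℂ | ∃ χ : Cfsg.IrrCharacter G, (χ : G → ℂ) g = z} = V := ⟨_, rfl⟩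
  rw [hV]
  have hne := Nat.card_pos (α := G)
  have hVc : IntermediateField.adjoin ℚ V ≤ cycField (Nat.card G) :=
    IntermediateField.adjoin_le_iff.2 fun z hz => by
      rw [← hV] at hz
      obtain ⟨χ, rfl⟩ := hz
      exact IsChar.mem_cycField (IsIrr.isCharacter χ.2) g
  have hxc : IntermediateField.adjoin ℚ ({x} : Set ℂ) ≤ cycField (Nat.card G) :=
    IntermediateField.adjoin_le_iff.2 (Set.singleton_subset_iff.2 hx)
  have hfixV : ∀ (k : ℕ) (σ : ℂ →+* ℂ), (∀ w : ℂ, w ^ Nat.card G = 1 → σ w = w ^ k) →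
      (IsConj (g ^ k) g ↔ ∀ z ∈ IntermediateField.adjoin ℚ V, σ z = z) := by
    intro k σ hσ
    rw [isConj_iff_forall_irr]
    constructor
    · intro h z hz
      refine fixed_adjoin σ (fun s hs => ?_) hz
      rw [← hV] at hs
      obtain ⟨χ, rfl⟩ := hs
      rw [galois_apply_pow σ hσ (IsIrr.isCharacter χ.2) (orderOf_dvd_natCard g)]
      exact h χ
    · intro h χ
      rw [← galois_apply_pow σ hσ (IsIrr.isCharacter χ.2) (orderOf_dvd_natCard g)]
      exact h _ (IntermediateField.subset_adjoin ℚ V (hV ▸ ⟨χ, rfl⟩))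
  have hfixx : ∀ σ : ℂ →+* ℂ, σ x = x ↔ ∀ z ∈ IntermediateField.adjoin ℚ ({x} : Set ℂ), σ z = z :=
    fun σ => ⟨fun h z hz => fixed_adjoin σ (fun s hs => by
      rw [Set.mem_singleton_iff] at hs; rw [hs]; exact h) hz,
      fun h => h x (IntermediateField.subset_adjoin ℚ _ (Set.mem_singleton x))⟩
  constructor
  · intro h k σ _ hσ
    rw [hfixV k σ hσ, h, hfixx]
  · intro h
    refine le_antisymm (fun z hz => ?_) fun z hz => ?_
    · exact mem_of_fixed hne.ne' _ hxc (hVc hz) fun k σ hk hσ hb =>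
        (hfixV k σ hσ).1 ((h k σ hk hσ).2 ((hfixx σ).2 hb)) z hz
    · exact mem_of_fixed hne.ne' _ hVc (hxc hz) fun k σ hk hσ hb =>
        (hfixx σ).1 ((h k σ hk hσ).1 ((hfixV k σ hσ).2 hb)) z hz

end Cfsg.Agent.FieldValues
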