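import Cfsg.Agent.BlockThms.Eta
import Cfsg.Agent.BlockChar.RegInner
import Cfsg.Agent.Blocks.Projection

/-!
# Degrees and inner products under block induction
-/

namespace Cfsg.Agent.BlockChar

open scoped ComplexConjugate
open Cfsg.Agent Cfsg.Agent.Blocks

universe u

variable {G : Type u} [Group G] [Fintype G] {p : ℕ} {M : Ideal Cfsg.AlgInt}

omit [Group G] [Fintype G] in
/-- Comparison of exponents of `p` when two natural numbers differ by a local integer. -/
theorem factorization_of_local_ratio (hM : Cfsg.IsPModular p M) {n N₀ : ℕ} {w : ℂ}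
    (hN : N₀ ≠ 0) (hw : Cfsg.MemLocalRing M w) (h : (n : ℂ) = (N₀ : ℂ) * w) :
    (¬ Cfsg.MemLocalIdeal M w → n ≠ 0 ∧ n.factorization p = N₀.factorization p) ∧
      (Cfsg.MemLocalIdeal M w → n = 0 ∨ N₀.factorization p < n.factorization p) := by
  have hp := hM.1
  have hm : ¬ p ∣ N₀ / p ^ N₀.factorization p := Nat.not_dvd_ordCompl hp hN
  have hN' : (N₀ : ℂ) = (p : ℂ) ^ N₀.factorization p * ((N₀ / p ^ N₀.factorization p : ℕ) : ℂ) := by
    exact_mod_cast (Nat.ordProj_mul_ordCompl_eq_self N₀ p).symm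
  have hp0 : (p : ℂ) ≠ 0 := Nat.cast_ne_zero.2 hp.ne_zero
  by_cases hn : n = 0
  · refine ⟨fun hu => absurd ?_ hu, fun _ => Or.inl hn⟩
    rw [hn, Nat.cast_zero, eq_comm, mul_eq_zero] at h
    rw [h.resolve_left (Nat.cast_ne_zero.2 hN)]
    exact memLocalIdeal_zero hM
  have hn' : ¬ p ∣ n / p ^ n.factorization p := Nat.not_dvd_ordCompl hp hn
  have hn'' : (n : ℂ) = (p : ℂ) ^ n.factorization p * ((n / p ^ n.factorization p : ℕ) : ℂ) := by
    exact_mod_cast (Nat.ordProj_mul_ordCompl_eq_self n p).symm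
  set i := n.factorization p
  set j := N₀.factorization p
  set m := N₀ / p ^ j
  set n' := n / p ^ i
  rw [hN', hn''] at h
  have hle : j ≤ i := by
    by_contra hlt
    obtain ⟨r, hr⟩ := Nat.exists_eq_add_of_lt (not_le.1 hlt)
    refine hn' ((memLocalIdeal_natCast_iff hM n').1 ?_)
    have e : (n' : ℂ) = (p : ℂ) * ((p : ℂ) ^ r * (m : ℂ) * w) := by
      refine mul_left_cancel₀ (pow_ne_zero i hp0) ?_
      rw [h, hr]; ring
    rw [e]
    exact memLocalIdeal_mul_right hM ((memLocalIdeal_natCast_iff hM p).2 dvd_rfl)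
      ((localRing hM).mul_mem ((localRing hM).mul_mem ((localRing hM).pow_mem
        (memLocalRing_natCast hM p) r) (memLocalRing_natCast hM m)) hw)
  obtain ⟨r, hr⟩ := Nat.exists_eq_add_of_le hle
  have e : (p : ℂ) ^ r * (n' : ℂ) = (m : ℂ) * w := by
    refine mul_left_cancel₀ (pow_ne_zero j hp0) ?_
    rw [← mul_assoc, ← mul_assoc, ← pow_add, ← hr, h]
  refine ⟨fun hu => ⟨hn, ?_⟩, fun hwM => Or.inr ?_⟩
  · rcases Nat.eq_zero_or_pos r with h0 | h0
    · omega
    · obtain ⟨r', rfl⟩ := Nat.exists_eq_add_of_le h0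
      refine absurd ?_ hu
      have h1 : Cfsg.MemLocalIdeal M ((m : ℂ) * w) := by
        rw [← e, pow_add, pow_one, mul_assoc]
        exact memLocalIdeal_mul_right hM ((memLocalIdeal_natCast_iff hM p).2 dvd_rfl)
          ((localRing hM).mul_mem ((localRing hM).pow_mem (memLocalRing_natCast hM p) _)
            (memLocalRing_natCast hM _))
      exact (memLocalIdeal_of_mul hM (memLocalRing_natCast hM m) hw h1).resolve_left
        fun h' => hm ((memLocalIdeal_natCast_iff hM m).1 h')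
  · rcases Nat.eq_zero_or_pos r with h0 | h0
    · refine absurd ((memLocalIdeal_natCast_iff hM n').1 ?_) hn'
      rw [h0, pow_zero, one_mul] at e
      rw [e]
      exact memLocalIdeal_mul_left hM (memLocalRing_natCast hM m) hwM
    · omega

variable (H : Subgroup G) [Fintype H] {b : Set (Cfsg.IrrCharacter H)}
  {B₀ : Set (Cfsg.IrrCharacter G)}

omit [Fintype G] in
theorem charDegree_indFun [Fintype G] (ξ : Cfsg.IrrCharacter H) :
    Cfsg.charDegree (Cfsg.indFun H (ξ : H → ℂ)) = H.index * Cfsg.charDegree (ξ : H → ℂ) := by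
  have h : (Cfsg.charDegree (Cfsg.indFun H (ξ : H → ℂ)) : ℂ) =
      ((H.index * Cfsg.charDegree (ξ : H → ℂ) : ℕ) : ℂ) := by
    rw [charDegree_cast (Char.isCharacter_indFun H (Char.IsIrr.isCharacter ξ.2)),
      Char.indFun_apply_one, (CharArith.irr_degree_spec ξ).1, Nat.cast_mul]
  exact_mod_cast h

/-- The degree of the part of an induced character in a block. -/
theorem exists_blockPart_degree (hM : Cfsg.IsPModular p M) {B : Set (Cfsg.IrrCharacter G)}
    (hB : Cfsg.IsPBlock M B) (hind : Cfsg.IsInducedBlock M H b B₀)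
    {ξ : Cfsg.IrrCharacter H} (hξ : ξ ∈ b) :
    ∃ n : ℕ, Cfsg.blockPart B (Cfsg.indFun H (ξ : H → ℂ)) 1 = (n : ℂ) ∧
      (B = B₀ → n ≠ 0 ∧ n.factorization p =
        (Cfsg.charDegree (Cfsg.indFun H (ξ : H → ℂ))).factorization p) ∧
      (B ≠ B₀ → n = 0 ∨
        (Cfsg.charDegree (Cfsg.indFun H (ξ : H → ℂ))).factorization p < n.factorization p) := by
  classical
  obtain ⟨hb, hB₀, hcong⟩ := hind
  obtain ⟨χ₀, hχ₀⟩ := IsPBlock.nonempty hM hB₀
  choose a ha using fun χ : Cfsg.IrrCharacter G => Char.classInner_isCharacter_eq_natCast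
    (Char.isCharacter_indFun H (Char.IsIrr.isCharacter ξ.2)) (Char.IsIrr.isCharacter χ.2)
  have hdeg : ∀ χ : Cfsg.IrrCharacter G,
      (χ : G → ℂ) 1 = (Cfsg.charDegree (χ : G → ℂ) : ℂ) :=
    fun χ => (CharArith.irr_degree_spec χ).1
  refine ⟨∑ χ ∈ B.toFinite.toFinset, a χ * Cfsg.charDegree (χ : G → ℂ), ?_, ?_⟩
  · simp only [Cfsg.blockPart]
    rw [finsum_mem_eq_finite_toFinset_sum _ B.toFinite, Nat.cast_sum]
    exact Finset.sum_congr rfl fun χ _ => by rw [Nat.cast_mul, ← ha, ← hdeg]; congr!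
  set n := ∑ χ ∈ B.toFinite.toFinset, a χ * Cfsg.charDegree (χ : G → ℂ) with hn
  set w := omega (ξ : H → ℂ) (fun h : H => Cfsg.blockCoeff B (h : G))
  have hN : Cfsg.charDegree (Cfsg.indFun H (ξ : H → ℂ)) ≠ 0 := by
    rw [charDegree_indFun]
    exact mul_ne_zero Subgroup.index_ne_zero_of_finite (CharArith.irr_degree_spec ξ).2.ne'
  have hval : (n : ℂ) = (Cfsg.charDegree (Cfsg.indFun H (ξ : H → ℂ)) : ℂ) * w := by
    have hidx : (H.index : ℂ) = (Nat.card G : ℂ) / (Nat.card H : ℂ) := by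
      rw [eq_div_iff (Nat.cast_ne_zero.2 Nat.card_pos.ne')]
      exact_mod_cast Subgroup.index_mul_card H
    rw [charDegree_indFun, Nat.cast_mul, ← (CharArith.irr_degree_spec ξ).1, hidx]
    simp only [w, omega]
    rw [mul_assoc, mul_div_cancel₀ _ (Char.IsIrr.one_ne_zero ξ.2), hn, Nat.cast_sum]
    calc ∑ χ ∈ B.toFinite.toFinset, ((a χ * Cfsg.charDegree (χ : G → ℂ) : ℕ) : ℂ)
        = ∑ χ ∈ B.toFinite.toFinset, (Nat.card H : ℂ)⁻¹ *
            ∑ h : H, (ξ : H → ℂ) h * conj ((χ : G → ℂ) h) * (χ : G → ℂ) 1 := by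
          refine Finset.sum_congr rfl fun χ _ => ?_
          rw [Nat.cast_mul, ← ha, ← hdeg,
            Char.classInner_indFun_left H _ (Char.isClassFunction_of_isIrr χ.2), Cfsg.classInner,
            mul_assoc, Finset.sum_mul]
      _ = _ := by
          rw [← Finset.mul_sum, Finset.sum_comm, Finset.mul_sum, Finset.mul_sum]
          refine Finset.sum_congr rfl fun h _ => ?_
          rw [Cfsg.blockCoeff, finsum_mem_eq_finite_toFinset_sum _ B.toFinite, Finset.mul_sum,
            Finset.mul_sum, Finset.sum_mul, Finset.mul_sum]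
          refine Finset.sum_congr rfl fun χ _ => ?_
          have : (Nat.card G : ℂ) ≠ 0 := Nat.cast_ne_zero.2 Nat.card_pos.ne'
          have : (Nat.card H : ℂ) ≠ 0 := Nat.cast_ne_zero.2 Nat.card_pos.ne'
          field_simp
  have hres : Cfsg.IsClassFunction H (fun h : H => Cfsg.blockCoeff B (h : G)) := fun x k => by
    exact isClassFunction_blockCoeff B (x : G) (k : G)
  have hw : Cfsg.MemLocalRing M w :=
    memLocalRing_omega hM ξ.2 hres (fun h => memLocalRing_blockCoeff hM hB _)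
  have hsub : Cfsg.MemLocalIdeal M (w - if χ₀ ∈ B then 1 else 0) := by
    have h := BlockThms.memLocalIdeal_omega_res_sub hM H
      (Char.isClassFunction_of_isIrr χ₀.2) (isClassFunction_blockCoeff B)
      (memLocalRing_blockCoeff hM hB) (hcong ξ hξ χ₀ hχ₀)
    rwa [omega_blockCoeff B χ₀] at h
  obtain ⟨h1, h2⟩ := factorization_of_local_ratio hM hN hw hval
  refine ⟨fun e => h1 fun hwM => ?_, fun e => h2 ?_⟩
  · rw [if_pos (e ▸ hχ₀)] at hsub
    exact not_memLocalIdeal_one hM (by simpa using memLocalIdeal_sub hM hwM hsub)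
  · rw [if_neg fun hm => e ((IsPBlock.eq_blockOf hM hB hm).trans
      (IsPBlock.eq_blockOf hM hB₀ hχ₀).symm), sub_zero] at hsub
    exact hsub

/-- A height zero character of the induced block with multiplicity prime to `p`. -/
theorem exists_height_zero_multiplicity (hM : Cfsg.IsPModular p M)
    (hind : Cfsg.IsInducedBlock M H b B₀)
    (hdef : Cfsg.blockDefect p b = Cfsg.blockDefect p B₀) {ζ : Cfsg.IrrCharacter H} (hζ : ζ ∈ b)
    (hζ0 : Cfsg.blockHeight p b (ζ : H → ℂ) = 0) :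
    ∃ χ ∈ B₀, Cfsg.blockHeight p B₀ ((χ : Cfsg.IrrCharacter G) : G → ℂ) = 0 ∧
      ∃ a : ℕ, Cfsg.classInner (Cfsg.indFun H (ζ : H → ℂ)) (χ : G → ℂ) = (a : ℂ) ∧ ¬ p ∣ a := by
  classical
  obtain ⟨n, hn, hn0, -⟩ := exists_blockPart_degree H hM hind.2.1 hind hζ
  obtain ⟨hne, hv⟩ := hn0 rfl
  choose a ha using fun χ : Cfsg.IrrCharacter G => Char.classInner_isCharacter_eq_natCast
    (Char.isCharacter_indFun H (Char.IsIrr.isCharacter ζ.2)) (Char.IsIrr.isCharacter χ.2)
  by_contra! hall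
  set m := minVal p B₀ with hm
  have hsum : (n : ℂ) = ((∑ χ ∈ B₀.toFinite.toFinset,
      a χ * Cfsg.charDegree (χ : G → ℂ) : ℕ) : ℂ) := by
    rw [← hn]
    simp only [Cfsg.blockPart]
    rw [finsum_mem_eq_finite_toFinset_sum _ B₀.toFinite, Nat.cast_sum]
    exact Finset.sum_congr rfl fun χ _ => by
      rw [Nat.cast_mul, ← ha, ← (CharArith.irr_degree_spec χ).1]; congr!
  have hdvd : p ^ (m + 1) ∣ n := by
    rw [Nat.cast_inj.1 hsum]
    refine Finset.dvd_sum fun χ hχ => ?_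
    have hχB := B₀.toFinite.mem_toFinset.1 hχ
    by_cases h0 : Cfsg.blockHeight p B₀ (χ : G → ℂ) = 0
    · rw [pow_succ']
      exact mul_dvd_mul (hall χ hχB h0 (a χ) (ha χ)) (pow_minVal_dvd hχB)
    · refine dvd_mul_of_dvd_right ((pow_dvd_pow p ?_).trans (Nat.ordProj_dvd _ p)) _
      have := minVal_le (p := p) hχB
      rw [blockHeight_eq] at h0
      omega
  have hle := (hM.1.pow_dvd_iff_le_factorization hne).1 hdvd
  rw [hv, charDegree_indFun, Nat.factorization_mul Subgroup.index_ne_zero_of_finite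
    (CharArith.irr_degree_spec ζ).2.ne', Finsupp.coe_add, Pi.add_apply] at hle
  have e := congrArg (fun k => k.factorization p) (Subgroup.index_mul_card H)
  simp only [Nat.factorization_mul Subgroup.index_ne_zero_of_finite Nat.card_pos.ne',
    Finsupp.coe_add, Pi.add_apply] at e
  rw [blockDefect_eq, blockDefect_eq] at hdef
  rw [blockHeight_eq] at hζ0
  have h1 := minVal_le (p := p) hζ
  have h2 := degree_val_le (p := p) ζ
  obtain ⟨χ₁, hχ₁, hχ₁v⟩ := exists_height_zero (p := p) (IsPBlock.nonempty hM hind.2.1)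
  have h3 := degree_val_le (p := p) χ₁
  omega

/-- The inner product criterion for the induced block. -/
theorem classInner_regular_res (hM : Cfsg.IsPModular p M) (hind : Cfsg.IsInducedBlock M H b B₀)
    (χ : Cfsg.IrrCharacter G) {ψ : Cfsg.IrrCharacter H} (hψ : ψ ∈ b) :
    (χ ∉ B₀ → Cfsg.MemLocalIdeal M (Cfsg.classInner (fun h : H => if p ∣ orderOf h then (0 : ℂ)
      else ((p ^ (Nat.card H).factorization p : ℕ) : ℂ) * (χ : G → ℂ) h) (ψ : H → ℂ) /
        (ψ : H → ℂ) 1)) ∧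
    (χ ∈ B₀ → Cfsg.blockHeight p B₀ (χ : G → ℂ) = 0 → ¬ Cfsg.MemLocalIdeal M
      (Cfsg.classInner (fun h : H => if p ∣ orderOf h then (0 : ℂ)
        else ((p ^ (Nat.card H).factorization p : ℕ) : ℂ) * (χ : G → ℂ) h) (ψ : H → ℂ) /
          (ψ : H → ℂ) 1)) := by
  classical
  obtain ⟨hb, hB₀, hcong⟩ := hind
  obtain ⟨χ₀, hχ₀⟩ := IsPBlock.nonempty hM hB₀
  set a := (Nat.card H).factorization p with ha
  set m := Nat.card H / p ^ a with hm
  have hmp : ¬ p ∣ m := Nat.not_dvd_ordCompl hM.1 Nat.card_pos.ne'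
  have hm0 : (m : ℂ) ≠ 0 := Nat.cast_ne_zero.2 fun e => hmp (e ▸ dvd_zero p)
  have hcard : (Nat.card H : ℂ) = ((p ^ a : ℕ) : ℂ) * (m : ℂ) := by
    exact_mod_cast (Nat.ordProj_mul_ordCompl_eq_self (Nat.card H) p).symm
  set f : G → ℂ := regConj p (χ : G → ℂ)
  have hf : Cfsg.IsClassFunction G f :=
    isClassFunction_regConj (Char.isClassFunction_of_isIrr χ.2)
  have hkey : Cfsg.classInner (fun h : H => if p ∣ orderOf h then (0 : ℂ)
      else ((p ^ a : ℕ) : ℂ) * (χ : G → ℂ) h) (ψ : H → ℂ) / (ψ : H → ℂ) 1 =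
      (m : ℂ)⁻¹ * omega (ψ : H → ℂ) (fun h : H => f (h : G)) := by
    have hp0 : ((p ^ a : ℕ) : ℂ) ≠ 0 := Nat.cast_ne_zero.2 (pow_ne_zero _ hM.1.ne_zero)
    rw [Cfsg.classInner, hcard, omega, mul_div_assoc' _ _ _, Finset.mul_sum, Finset.mul_sum]
    congr 1
    refine Fintype.sum_equiv (Equiv.inv H) _ _ fun h => ?_
    simp only [Equiv.inv_apply, f, regConj, Subgroup.coe_inv, Cfsg.IsPRegular, orderOf_inv,
      Subgroup.orderOf_coe]
    by_cases hh : p ∣ orderOf h
    · simp [hh]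
    · rw [if_neg hh, if_pos hh, Char.IsChar.inv_eq_conj (Char.IsIrr.isCharacter χ.2),
        Char.IsChar.inv_eq_conj (Char.IsIrr.isCharacter ψ.2), Complex.conj_conj]
      field_simp
  have hsub := BlockThms.memLocalIdeal_omega_res_sub hM H (Char.isClassFunction_of_isIrr χ₀.2)
    hf (regConj_memLocalRing hM χ) (hcong ψ hψ χ₀ hχ₀)
  rw [hkey]
  refine ⟨fun hχ => ?_, fun hχ hh hmem => ?_⟩
  · refine memLocalIdeal_mul_left hM (memLocalRing_natCast_inv hM hmp) ?_
    have h0 : omega (χ₀ : G → ℂ) f = 0 := by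
      have h := classInner_pRegularPart_eq_zero hM hB₀ hχ₀ hχ
      rw [Cfsg.classInner, mul_eq_zero, inv_eq_zero] at h
      have h' := h.resolve_left (Nat.cast_ne_zero.2 Nat.card_pos.ne')
      rw [omega, show ∑ g, f g * (χ₀ : G → ℂ) g = 0 from ?_, zero_div]
      refine (Finset.sum_congr rfl fun g _ => ?_).trans h'
      simp only [f, regConj, Cfsg.IsPRegular, pRegularPart_apply]
      by_cases hg : p ∣ orderOf g
      · simp [hg]
      · simp [hg, mul_comm]
    rw [h0, sub_zero] at hsub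
    exact hsub
  · have h1 : Cfsg.MemLocalIdeal M (omega (ψ : H → ℂ) fun h : H => f (h : G)) := by
      have := memLocalIdeal_mul_left hM (memLocalRing_natCast hM m) hmem
      rwa [mul_inv_cancel_left₀ hm0] at this
    exact not_memLocalIdeal_omega_regConj hM hB₀ hχ₀ hχ hh
      (by simpa using memLocalIdeal_sub hM h1 hsub)

end Cfsg.Agent.BlockChar
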