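import Cfsg.Agent.BlockChar.RankLtCard

/-!
# The rank of the principal 2-block with a Klein four Sylow subgroup
-/

namespace Cfsg.Agent.BlockChar

open Cfsg.Agent Cfsg.Agent.Blocks

universe u

variable {G : Type u} [Group G] [Finite G] {M : Ideal Cfsg.AlgInt}

theorem blockRank_principal_klein (hM : Cfsg.IsPModular 2 M) (P : Sylow 2 G)
    (hP : Nat.card P = 4) (hexp : ∀ z : P, z * z = 1)
    (hone : ∀ s t : G, orderOf s = 2 → orderOf t = 2 → IsConj s t)
    (hk : Nat.card (Cfsg.principalBlock M G) = 4) :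
    Cfsg.blockRank 2 (Cfsg.principalBlock M G) = 3 := by
  classical
  have := Fact.mk hM.1
  have := Fintype.ofFinite G
  obtain ⟨x, hx⟩ := exists_prime_orderOf_dvd_card' (G := G) 2
    ((hP ▸ (by norm_num : (2 : ℕ) ∣ 4) : 2 ∣ Nat.card (P : Subgroup G)).trans
      (Subgroup.card_subgroup_dvd_card _))
  have hx1 : x ≠ 1 := fun e => by rw [e, orderOf_one] at hx; omega
  set C := Subgroup.centralizer ({x} : Set G)
  have : Fintype C := Fintype.ofFinite C
  have hC : ∀ a : G, a ∈ C ↔ x * a = a * x := fun a => mem_centralizer_iff_comm x a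
  have hB := isPBlock_principalBlock (G := G) M
  have hb := isPBlock_principalBlock (G := C) M
  have hZ : IsPGroup 2 (Subgroup.zpowers x) :=
    IsPGroup.of_card (n := 1) (by rw [Nat.card_zpowers, hx, pow_one])
  have hind : inducing M C (Cfsg.principalBlock M G) = Cfsg.principalBlock M C :=
    inducing_principalBlock hM hZ fun a => by
      rw [hC]
      refine ⟨fun h u hu => ?_, fun h => h x (Subgroup.mem_zpowers x)⟩
      obtain ⟨i, rfl⟩ := hu
      exact ((show Commute x a from h).zpow_left i).eq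
  have hsing : ∀ g : G, 2 ∣ orderOf g →
      (∀ χ ∈ Cfsg.principalBlock M G, ((χ : Cfsg.IrrCharacter G) : G → ℂ) g = 0) ∨
        IsConj x (pPartOf 2 g) := by
    intro g hg
    refine Or.inr (hone _ _ hx ?_)
    set u := pPartOf 2 g
    obtain ⟨k, hk'⟩ := orderOf_pPartOf hM.1 g
    have hu1 : u ≠ 1 := fun e => (pPartOf_eq_one_iff hM.1 g).1 e hg
    have hUp : IsPGroup 2 (Subgroup.zpowers u) :=
      IsPGroup.of_card (n := k) (by rw [Nat.card_zpowers]; exact hk')
    obtain ⟨Q, hQ⟩ := hUp.exists_le_sylow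
    obtain ⟨c, hc⟩ := MulAction.exists_smul_eq G Q P
    have hmem : c * u * c⁻¹ ∈ (P : Subgroup G) := by
      rw [← hc, Sylow.coe_subgroup_smul]
      exact Subgroup.smul_mem_pointwise_smul u (MulAut.conj c) _ (hQ (Subgroup.mem_zpowers u))
    have hsq : c * u * c⁻¹ * (c * u * c⁻¹) = 1 := congrArg Subtype.val (hexp ⟨_, hmem⟩)
    refine orderOf_eq_prime ?_ hu1
    rw [sq]
    calc u * u = c⁻¹ * (c * u * c⁻¹ * (c * u * c⁻¹)) * c := by group
      _ = 1 := by rw [hsq]; group
  have hcard := card_eq_rank_add hM hB ⟨1, by rw [hx, pow_one]⟩ hx1 hC hsing hb hind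
  have hd : Cfsg.blockDefect 2 (Cfsg.principalBlock M C) ≤ 2 := by
    obtain ⟨n, hn⟩ : ∃ n, Nat.card C = n ∧ n ∣ Nat.card G :=
      ⟨_, rfl, Subgroup.card_subgroup_dvd_card C⟩
    have hG : (Nat.card G).factorization 2 = 2 := by
      have h := P.card_eq_multiplicity
      rw [hP] at h
      exact (Nat.pow_right_injective (le_refl 2) (by simpa using h)).symm
    have hle := (Nat.factorization_le_iff_dvd (Nat.card_pos (α := C)).ne' Nat.card_pos.ne').2
      (Subgroup.card_subgroup_dvd_card C) 2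
    rw [blockDefect_eq]
    omega
  have h1 := blockRank_eq_one_of_central_two hM (s := (⟨x, (hC x).2 rfl⟩ : C))
    (Subgroup.mem_center_iff.2 fun t => Subtype.ext ((hC t).1 t.2).symm)
    (by rw [Subgroup.orderOf_mk, hx]) hb hd
  omega

end Cfsg.Agent.BlockChar
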