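import Cfsg.Agent.Char.Ortho
import Mathlib.Algebra.Order.Floor.Semiring
import Mathlib.Data.Finset.Lattice.Fold
import Mathlib.Tactic.Linarith

/-!
# Landau's theorem: the number of classes bounds the order
-/

namespace Cfsg.Agent.BlockChar

universe u

/-- Finitely many ways to write a positive rational as a sum of `k` unit fractions. -/
theorem exists_bound_unit_fractions (k : ℕ) : ∀ q : ℚ, ∃ N : ℕ, ∀ s : Multiset ℕ,
    Multiset.card s = k → (∀ x ∈ s, 0 < x) → (s.map fun x : ℕ => (x : ℚ)⁻¹).sum = q →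
      ∀ x ∈ s, x ≤ N := by
  induction k with
  | zero =>
    intro q
    refine ⟨0, fun s hs _ _ x hx => ?_⟩
    rw [Multiset.card_eq_zero.1 hs] at hx
    simp at hx
  | succ k ih =>
    intro q
    choose N hN using ih
    let V := ⌊((k + 1 : ℕ) : ℚ) / q⌋₊
    refine ⟨V + (Finset.range (V + 1)).sup fun v => N (q - (v : ℚ)⁻¹), fun s hs hpos hsum x hx => ?_⟩
    have hq : 0 < q := by
      rw [← hsum]
      obtain ⟨t, rfl⟩ := Multiset.exists_cons_of_mem hx
      rw [Multiset.map_cons, Multiset.sum_cons]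
      refine add_pos_of_pos_of_nonneg (inv_pos.2 (Nat.cast_pos.2 (hpos x hx)))
        (Multiset.sum_nonneg fun y hy => ?_)
      obtain ⟨a, -, rfl⟩ := Multiset.mem_map.1 hy
      positivity
    obtain ⟨v, hv, hvV⟩ : ∃ v ∈ s, v ≤ V := by
      by_contra h
      simp only [not_exists, not_and, not_le] at h
      have hb : ∀ y ∈ s, (y : ℚ)⁻¹ < q / ((k + 1 : ℕ) : ℚ) := fun y hy => by
        have h1 : ((k + 1 : ℕ) : ℚ) / q < (y : ℚ) :=
          (Nat.floor_lt (by positivity)).1 (h y hy)
        calc (y : ℚ)⁻¹ < (((k + 1 : ℕ) : ℚ) / q)⁻¹ := by gcongr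
          _ = _ := inv_div _ _
      have h2 : (s.map fun x : ℕ => (x : ℚ)⁻¹).sum <
          (s.map fun _ => q / ((k + 1 : ℕ) : ℚ)).sum :=
        Multiset.sum_lt_sum_of_nonempty (fun e => by rw [e] at hx; simp at hx) hb
      rw [hsum, Multiset.map_const', Multiset.sum_replicate, hs, nsmul_eq_mul,
        mul_div_cancel₀ _ (by positivity)] at h2
      exact lt_irrefl _ h2
    obtain ⟨t, rfl⟩ := Multiset.exists_cons_of_mem hv
    rw [Multiset.mem_cons] at hx
    rcases hx with rfl | hx
    · omega
    · rw [Multiset.card_cons] at hs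
      rw [Multiset.map_cons, Multiset.sum_cons] at hsum
      have h3 := hN (q - (v : ℚ)⁻¹) t (by omega) (fun y hy => hpos y (Multiset.mem_cons_of_mem hy))
        (by rw [← hsum]; ring) x hx
      have h4 := Finset.le_sup (f := fun v : ℕ => N (q - (v : ℚ)⁻¹))
        (Finset.mem_range.2 (Nat.lt_succ_of_le hvV))
      exact h3.trans (h4.trans (Nat.le_add_left _ _))

/-- A bound on the order in terms of the number of conjugacy classes. -/
theorem exists_bound_of_card_conjClasses (k : ℕ) : ∃ N : ℕ, ∀ (G : Type u) [Group G] [Finite G],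
    Nat.card (ConjClasses G) ≤ k → Nat.card G ≤ N := by
  choose N hN using fun j => exists_bound_unit_fractions j 1
  refine ⟨(Finset.range (k + 1)).sup N, fun G _ _ hk => ?_⟩
  classical
  have := Fintype.ofFinite G
  have : Finite (ConjClasses G) := Quotient.finite _
  letI := Fintype.ofFinite (ConjClasses G)
  let c : ConjClasses G → ℕ := fun C => Nat.card (Subgroup.centralizer ({C.out} : Set G))
  have hidx : ∑ C : ConjClasses G, (Subgroup.centralizer ({C.out} : Set G)).index =
      Nat.card G := by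
    rw [Nat.card_eq_fintype_card, ← Finset.card_univ,
      Finset.card_eq_sum_card_fiberwise (f := ConjClasses.mk) (t := Finset.univ)
        (fun _ _ => Finset.mem_univ _)]
    refine Finset.sum_congr rfl fun C _ => ?_
    rw [← Char.card_isConj_eq_index, Nat.card_eq_fintype_card, Fintype.card_subtype]
    congr 1
    ext g
    simp only [Finset.mem_filter, Finset.mem_univ, true_and]
    conv_rhs => rw [← Quotient.out_eq C]
    exact (ConjClasses.mk_eq_mk_iff_isConj.trans isConj_comm).symm
  have hsum : ((Finset.univ.val.map c).map fun x : ℕ => (x : ℚ)⁻¹).sum = 1 := by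
    rw [Multiset.map_map]
    show ∑ C : ConjClasses G, (c C : ℚ)⁻¹ = 1
    have hG : (Nat.card G : ℚ) ≠ 0 := Nat.cast_ne_zero.2 Nat.card_pos.ne'
    apply mul_left_cancel₀ hG
    rw [Finset.mul_sum, mul_one]
    conv_rhs => rw [← hidx, Nat.cast_sum]
    refine Finset.sum_congr rfl fun C _ => ?_
    rw [← Subgroup.index_mul_card (Subgroup.centralizer ({C.out} : Set G)), Nat.cast_mul,
      mul_inv_cancel_right₀ (Nat.cast_ne_zero.2 Nat.card_pos.ne')]
  have h1 : Nat.card G ∈ Finset.univ.val.map c := by
    refine Multiset.mem_map.2 ⟨ConjClasses.mk (1 : G), Finset.mem_univ _, ?_⟩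
    have : (ConjClasses.mk (1 : G)).out = 1 := isConj_one_right.1
      (ConjClasses.mk_eq_mk_iff_isConj.1 (Quotient.out_eq (ConjClasses.mk (1 : G)))).symm
    have htop : Subgroup.centralizer ({(1 : G)} : Set G) = ⊤ :=
      eq_top_iff.2 fun g _ => Subgroup.mem_centralizer_iff.2 fun h hh => by
        rw [Set.mem_singleton_iff.1 hh, one_mul, mul_one]
    simp only [c, this, htop]
    exact Nat.card_congr Subgroup.topEquiv.toEquiv
  refine le_trans ?_ (Finset.le_sup (f := N)
    (Finset.mem_range.2 (Nat.lt_succ_of_le hk)))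
  exact hN _ _ (by simp [Nat.card_eq_fintype_card]) (fun x hx => by
    obtain ⟨C, -, rfl⟩ := Multiset.mem_map.1 hx
    exact Nat.card_pos) hsum _ h1

end Cfsg.Agent.BlockChar
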