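import Cfsg.Agent.BlockChar.RegInner

/-!
# A block with a character of almost full height has defect at most one
-/

namespace Cfsg.Agent.BlockChar

open scoped ComplexConjugate
open Cfsg.Agent Cfsg.Agent.Blocks

universe u

variable {G : Type u} [Group G] {p : ℕ} {M : Ideal Cfsg.AlgInt}
  {B : Set (Cfsg.IrrCharacter G)}

/-- The columns at characters of positive height vanish modulo `M`. -/
theorem memLocalIdeal_omega_of_height_pos [Fintype G] (hM : Cfsg.IsPModular p M)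
    (hB : Cfsg.IsPBlock M B) {χ φ : Cfsg.IrrCharacter G} (hχ : χ ∈ B) (hφ : φ ∈ B)
    (hh : Cfsg.blockHeight p B (φ : G → ℂ) ≠ 0) :
    Cfsg.MemLocalIdeal M (omega (χ : G → ℂ) (regConj p (φ : G → ℂ))) := by
  obtain ⟨χ₀, hχ₀, hv⟩ := exists_height_zero (p := p) (IsPBlock.nonempty hM hB)
  have h0 : Cfsg.blockHeight p B (χ₀ : G → ℂ) = 0 := by rw [blockHeight_eq, hv, Nat.sub_self]
  refine omega_regConj_congr hM hB hχ₀ hχ φ ?_
  have h1 : Cfsg.MemLocalIdeal M (regM p B φ χ₀) :=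
    (regM_memLocalIdeal_iff hM hφ χ₀).2 (Or.inl
      (not_not.1 fun hn => hh ((not_dvd_redDeg_iff hM.1 hφ).1 hn)))
  rw [← regM_comm hM φ χ₀, regM_memLocalIdeal_iff hM hχ₀] at h1
  exact h1.resolve_left ((not_dvd_redDeg_iff hM.1 hχ₀).2 h0)

theorem dvd_of_eq_mul_mem (hM : Cfsg.IsPModular p M) {n : ℤ} {z : ℂ} (m : ℕ) (hm : ¬ p ∣ m)
    (h : (m : ℂ) * (n : ℂ) = z) (hz : Cfsg.MemLocalIdeal M z) : (p : ℤ) ∣ n := by
  rw [← h] at hz
  exact (memLocalIdeal_intCast_iff hM n).1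
    ((memLocalIdeal_of_mul hM (memLocalRing_natCast hM m)
      (memLocalRing_of_isIntegral hM (Blocks.isIntegral_intCast n)) hz).resolve_left
      (mt (memLocalIdeal_natCast_iff hM m).1 hm))

/-- In a block of defect at least two every height is at most `d - 2`. -/
theorem height_add_two_le [Finite G] (hM : Cfsg.IsPModular p M) (hB : Cfsg.IsPBlock M B)
    {χ : Cfsg.IrrCharacter G} (hχ : χ ∈ B) (hd : 2 ≤ Cfsg.blockDefect p B) :
    Cfsg.blockHeight p B (χ : G → ℂ) + 2 ≤ Cfsg.blockDefect p B := by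
  classical
  have := Fintype.ofFinite G
  by_contra hlt
  rw [not_le] at hlt
  set e := Cfsg.blockHeight p B (χ : G → ℂ) with he
  set d := Cfsg.blockDefect p B with hdd
  have he1 : 1 ≤ e := by omega
  set m := Nat.card G / p ^ (Nat.card G).factorization p with hm
  have hmp : ¬ p ∣ m := Nat.not_dvd_ordCompl hM.1 Nat.card_pos.ne'
  have hk : ∀ φ : Cfsg.IrrCharacter G, ∃ k : ℤ, φ ∈ B → regM p B χ φ = (k : ℂ) := fun φ => by
    by_cases h : φ ∈ B
    · obtain ⟨k, hk⟩ := exists_int_regM hM hχ φ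
      exact ⟨k, fun _ => hk⟩
    · exact ⟨0, fun h' => absurd h' h⟩
  choose k hk using hk
  obtain ⟨-, hbv, hb0⟩ := redDeg_mul (B := B) hM.1 hχ
  obtain ⟨b', hb'⟩ : p ^ e ∣ redDeg p B χ := he ▸ hbv ▸ Nat.ordProj_dvd _ _
  -- the row is divisible by `p ^ e`, its diagonal entry by `p ^ (e + 1)`
  have hrow : ∀ φ ∈ B, ∃ n : ℤ, k φ = (p : ℤ) ^ e * n ∧
      (m : ℂ) * (n : ℂ) = (b' : ℂ) * omega (χ : G → ℂ) (regConj p (φ : G → ℂ)) := by
    intro φ hφ
    have e1 := regM_eq hM.1 hχ φ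
    rw [← hm, hk φ hφ, hb'] at e1
    have hp0 : (p : ℂ) ≠ 0 := Nat.cast_ne_zero.2 hM.1.ne_zero
    have h2 : IsIntegral ℤ ((((m : ℚ) * k φ / (p : ℚ) ^ e : ℚ)) : ℂ) := by
      have : ((((m : ℚ) * k φ / (p : ℚ) ^ e : ℚ)) : ℂ) =
          (b' : ℂ) * omega (χ : G → ℂ) (regConj p (φ : G → ℂ)) := by
        push_cast
        rw [div_eq_iff (pow_ne_zero _ hp0)]
        push_cast at e1
        linear_combination e1
      rw [this]
      exact (Blocks.isIntegral_natCast _).mul (isIntegral_omega_regConj χ φ)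
    obtain ⟨n', hn'⟩ := Char.exists_int_of_isIntegral_rat h2
    have hdvd : (p : ℤ) ^ e ∣ (m : ℤ) * k φ := by
      refine ⟨n', ?_⟩
      have : ((m : ℚ) * k φ) = (p : ℚ) ^ e * n' := by
        have hp0' : (p : ℚ) ≠ 0 := Nat.cast_ne_zero.2 hM.1.ne_zero
        rw [hn']; field_simp
      exact_mod_cast this
    have hco : IsCoprime ((p : ℤ) ^ e) (m : ℤ) :=
      (Int.isCoprime_iff_gcd_eq_one.2 (by
        rw [Int.gcd_natCast_natCast]; exact Nat.coprime_ordCompl hM.1 Nat.card_pos.ne')).pow_left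
    obtain ⟨n, hn⟩ := hco.dvd_of_dvd_mul_left hdvd
    refine ⟨n, hn, mul_left_cancel₀ (pow_ne_zero e hp0) ?_⟩
    rw [hn] at e1
    push_cast at e1 ⊢
    linear_combination e1
  obtain ⟨n, hn, hne⟩ := hrow χ hχ
  obtain ⟨n', hn'⟩ := dvd_of_eq_mul_mem hM m hmp hne (memLocalIdeal_mul_left hM
    (memLocalRing_natCast hM b')
    (memLocalIdeal_omega_of_height_pos hM hB hχ hχ (by rw [← he]; omega)))
  -- the diagonal identity
  obtain ⟨ψ, hψ, hψv⟩ := exists_height_zero (p := p) (IsPBlock.nonempty hM hB)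
  have hψ0 : Cfsg.blockHeight p B (ψ : G → ℂ) = 0 := by rw [blockHeight_eq, hψv, Nat.sub_self]
  have hψk : k ψ ≠ 0 := fun h0 => by
    have h1 := le_sq_regM hM hB hχ hψ hψ0 (hk ψ hψ)
    rw [h0] at h1
    have : 0 < ((p ^ (2 * Cfsg.blockHeight p B (χ : G → ℂ)) : ℕ) : ℤ) :=
      Nat.cast_pos.2 (pow_pos hM.1.pos _)
    rw [zero_pow two_ne_zero] at h1
    omega
  have hid : ((p ^ d : ℕ) : ℤ) * k χ =
      ∑ φ : Cfsg.IrrCharacter G, if φ ∈ B then k φ ^ 2 else 0 := by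
    apply Int.cast_injective (α := ℂ)
    rw [Int.cast_mul, Int.cast_natCast, Int.cast_sum, ← hk χ hχ, hdd,
      sum_regM_mul_self hM hB hχ]
    refine Finset.sum_congr rfl fun φ _ => ?_
    split_ifs with h
    · rw [regM_comm hM χ φ, hk φ h]; push_cast; ring
    · simp
  have hlt2 : k χ ^ 2 < ((p ^ d : ℕ) : ℤ) * k χ := by
    rw [hid]
    have hne' : ψ ≠ χ := by
      rintro rfl
      omega
    calc k χ ^ 2 < k χ ^ 2 + k ψ ^ 2 := by
          have : 0 < k ψ ^ 2 := by positivity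
          omega
      _ = ∑ φ ∈ ({χ, ψ} : Finset (Cfsg.IrrCharacter G)), if φ ∈ B then k φ ^ 2 else 0 := by
          rw [Finset.sum_pair hne'.symm, if_pos hχ, if_pos hψ]
      _ ≤ _ := Finset.sum_le_univ_sum_of_nonneg fun φ => by split <;> positivity
  have hkpos : 0 < k χ := by
    by_contra h
    rw [not_lt] at h
    have h2 : (0 : ℤ) ≤ ((p ^ d : ℕ) : ℤ) := Nat.cast_nonneg _
    nlinarith [sq_nonneg (k χ), mul_nonpos_iff.2 (Or.inl ⟨h2, h⟩)]
  have hkd : k χ < ((p ^ d : ℕ) : ℤ) := by nlinarith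
  rw [hn, hn'] at hkd hkpos
  have hp1 : (1 : ℤ) ≤ (p : ℤ) ^ e := one_le_pow₀ (by exact_mod_cast hM.1.one_le)
  have hn'pos : 0 < n' := by
    by_contra h
    rw [not_lt] at h
    have : (p : ℤ) ^ e * ((p : ℤ) * n') ≤ 0 :=
      mul_nonpos_of_nonneg_of_nonpos (by positivity) (mul_nonpos_of_nonneg_of_nonpos (by positivity) h)
    omega
  have hge : ((p ^ d : ℕ) : ℤ) ≤ (p : ℤ) ^ e * ((p : ℤ) * n') := by
    push_cast
    calc (p : ℤ) ^ d ≤ (p : ℤ) ^ (e + 1) :=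
          pow_le_pow_right₀ (by exact_mod_cast hM.1.one_le) (by omega)
      _ = (p : ℤ) ^ e * ((p : ℤ) * 1) := by rw [mul_one, pow_succ]
      _ ≤ _ := by
          gcongr
          omega
  omega

end Cfsg.Agent.BlockChar
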