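import Cfsg.Agent.BlockChar.Support
import Cfsg.Agent.Fusion.Frobenius
import Cfsg.Agent.Char.Linear
import Cfsg.Prelude.Def_BrauerPairs
import Cfsg.Prelude.Def_BlockRank
import Mathlib.GroupTheory.GroupAction.CardCommute

/-!
# Nilpotency of the principal block, p-regular rank one, and normal p-complements
-/

namespace Cfsg.Agent.BlockChar

open scoped ComplexConjugate
open Cfsg.Agent Cfsg.Agent.Blocks

universe u

variable {G : Type u} [Group G] {p : ℕ} {M : Ideal Cfsg.AlgInt}

theorem coprime_orderOf_iff (hp : p.Prime) (g : G) :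
    Nat.Coprime (orderOf g) p ↔ Cfsg.IsPRegular p g :=
  Nat.coprime_comm.trans hp.coprime_iff_not_dvd

theorem principalBlock_degree_sq_pos [Fintype G] (hM : Cfsg.IsPModular p M)
    [DecidablePred (· ∈ Cfsg.principalBlock M G)] :
    0 < ∑ χ : Cfsg.IrrCharacter G,
      if χ ∈ Cfsg.principalBlock M G then Cfsg.charDegree (χ : G → ℂ) ^ 2 else 0 := by
  refine Finset.sum_pos' (fun χ _ => Nat.zero_le _) ⟨triv G, Finset.mem_univ _, ?_⟩
  rw [if_pos (triv_mem_principalBlock hM)]
  exact pow_pos (CharArith.irr_degree_spec (triv G)).2 2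

/-- If every member of the principal block is constant on the p-regular elements, there is a
normal p-complement. -/
theorem hasNormalPComplement_of_const [Finite G] (hM : Cfsg.IsPModular p M)
    (h : ∀ χ ∈ Cfsg.principalBlock M G, ∀ x : G, Cfsg.IsPRegular p x →
      (χ : G → ℂ) x = (χ : G → ℂ) 1) : Cfsg.HasNormalPComplement p G := by
  classical
  have := Fintype.ofFinite G
  haveI := Fact.mk hM.1
  rw [Fusion.hasNormalPComplement_iff_mul_closed]
  intro x y hx hy
  rw [coprime_orderOf_iff hM.1] at hx hy ⊢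
  by_contra hsing
  have hw := sum_block_degree_mul_eq_zero hM (isPBlock_principalBlock (G := G) M) hsing
  have e : ∀ χ ∈ Cfsg.principalBlock M G, (χ : G → ℂ) (x * y) = (χ : G → ℂ) 1 := fun χ hχ =>
    (Char.kerSubgroup (Char.IsIrr.isCharacter χ.2)).mul_mem (h χ hχ x hx) (h χ hχ y hy)
  have hpos := principalBlock_degree_sq_pos (G := G) (p := p) hM
  refine hpos.ne' ?_
  apply Nat.cast_injective (R := ℂ)
  rw [Nat.cast_sum, Nat.cast_zero, ← hw]
  refine Finset.sum_congr rfl fun χ _ => ?_
  split_ifs with hχ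
  · rw [e χ hχ, (CharArith.irr_degree_spec χ).1]; push_cast; ring
  · simp

/-- With a normal p-complement the principal block is constant on the p-regular elements. -/
theorem const_of_hasNormalPComplement [Finite G] (hM : Cfsg.IsPModular p M)
    (h : Cfsg.HasNormalPComplement p G) {χ : Cfsg.IrrCharacter G}
    (hχ : χ ∈ Cfsg.principalBlock M G) {x : G} (hx : Cfsg.IsPRegular p x) :
    (χ : G → ℂ) x = (χ : G → ℂ) 1 := by
  classical
  have := Fintype.ofFinite G
  haveI := Fact.mk hM.1
  set N := Cfsg.pResidual p G with hN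
  haveI : Fintype N := Fintype.ofFinite N
  have hNp : ¬ p ∣ Nat.card N :=
    hM.1.coprime_iff_not_dvd.1 (Fusion.coprime_card_pResidual_of_hasNormalPComplement h).symm
  have hN0 : (Nat.card N : ℂ) ≠ 0 := Nat.cast_ne_zero.2 Nat.card_pos.ne'
  let e : G → ℂ := fun g => if g ∈ N then (Nat.card N : ℂ)⁻¹ else 0
  have hecl : Cfsg.IsClassFunction G e := fun g k => if_congr
    ⟨fun hm => by
      have := (inferInstance : N.Normal).conj_mem _ hm k⁻¹
      simpa [mul_assoc] using this, fun hm => (inferInstance : N.Normal).conj_mem _ hm k⟩ rfl rfl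
  have hcount : ∀ (c : ℂ), (∑ g : G, if g ∈ N then c else 0) = (Nat.card N : ℂ) * c := fun c => by
    rw [← Finset.sum_filter, Finset.sum_const, nsmul_eq_mul, ← Fintype.card_subtype,
      ← Nat.card_eq_fintype_card]
  have hidem : conv e e = e := by
    funext z
    simp only [conv, e]
    by_cases hz : z ∈ N
    · rw [Finset.sum_congr rfl (g := fun g => if g ∈ N then (Nat.card N : ℂ)⁻¹ * (Nat.card N : ℂ)⁻¹
        else 0), hcount, if_pos hz, ← mul_assoc, mul_inv_cancel₀ hN0, one_mul]
      intro g _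
      by_cases hg : g ∈ N
      · rw [if_pos hg, if_pos hg, if_pos (N.mul_mem (N.inv_mem hg) hz)]
      · rw [if_neg hg, if_neg hg, zero_mul]
    · rw [if_neg hz]
      refine Finset.sum_eq_zero fun g _ => ?_
      by_cases hg : g ∈ N
      · rw [if_neg (mt (N.mul_mem_cancel_left (N.inv_mem hg)).1 hz), mul_zero]
      · rw [if_neg hg, zero_mul]
  have heR : ∀ g, Cfsg.MemLocalRing M (e g) := fun g => by
    simp only [e]
    split
    · exact memLocalRing_natCast_inv hM hNp
    · exact (localRing hM).zero_mem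
  have htriv : omega (triv G : G → ℂ) e = 1 := by
    simp only [omega, triv, e, mul_one, div_one]
    rw [hcount, mul_inv_cancel₀ hN0]
  set t := omega (χ : G → ℂ) e with ht
  have htt : t * t = t := by rw [ht, ← omega_conv χ.2 hecl hecl, hidem]
  have hclose : Cfsg.MemLocalIdeal M (t - 1) := by
    rw [ht, ← htriv]
    exact memLocalIdeal_omega_sub hM χ.2 (triv G).2 hecl heR
      (IsPBlock.sameBlock hM (isPBlock_principalBlock M) hχ (triv_mem_principalBlock hM))
  have ht1 : t = 1 := by
    rcases mul_eq_zero.1 (show t * (t - 1) = 0 by rw [mul_sub, htt, mul_one, sub_self]) with h0 | h0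
    · rw [h0, zero_sub] at hclose
      exact absurd (by simpa using memLocalIdeal_neg hclose) (not_memLocalIdeal_one hM)
    · exact sub_eq_zero.1 h0
  have hsum : ∑ g : G, (if g ∈ N then (χ : G → ℂ) g - (χ : G → ℂ) 1 else 0) = 0 := by
    have h1 := ht1
    rw [ht, omega, div_eq_one_iff_eq (Char.IsIrr.one_ne_zero χ.2)] at h1
    have h2 : ∀ g : G, (if g ∈ N then (χ : G → ℂ) g - (χ : G → ℂ) 1 else 0) =
        (Nat.card N : ℂ) * (e g * (χ : G → ℂ) g) - if g ∈ N then (χ : G → ℂ) 1 else 0 := fun g => by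
      simp only [e]
      split_ifs
      · rw [← mul_assoc, mul_inv_cancel₀ hN0, one_mul]
      · ring
    simp only [h2]
    rw [Finset.sum_sub_distrib, ← Finset.mul_sum, h1, hcount, sub_self]
  have hxN : x ∈ N := (Fusion.mem_pResidual_iff h).2 ((coprime_orderOf_iff hM.1 x).2 hx)
  have hnorm := Char.IsChar.norm_le (Char.IsIrr.isCharacter χ.2)
  obtain ⟨n, -, hn⟩ := Char.IsIrr.degree χ.2
  have hre : ∀ g ∈ Finset.univ (α := G),
      (if g ∈ N then (χ : G → ℂ) g - (χ : G → ℂ) 1 else 0).re ≤ 0 := fun g _ => by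
    split
    · rw [Complex.sub_re, sub_nonpos]
      exact (Complex.re_le_norm _).trans (hnorm g)
    · simp
  have hsre : ∑ g : G, (if g ∈ N then (χ : G → ℂ) g - (χ : G → ℂ) 1 else 0).re = 0 := by
    rw [← Complex.re_sum, hsum, Complex.zero_re]
  have hz := (Finset.sum_eq_zero_iff_of_nonpos hre).1 hsre x (Finset.mem_univ x)
  rw [if_pos hxN, Complex.sub_re, sub_eq_zero, hn, Complex.natCast_re] at hz
  rw [hn]
  have h3 := hnorm x
  rw [hn, Complex.natCast_re] at h3
  have h4 : ((χ : G → ℂ) x).im = 0 := by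
    have h5 : ‖(χ : G → ℂ) x‖ ^ 2 = ((χ : G → ℂ) x).re ^ 2 + ((χ : G → ℂ) x).im ^ 2 := by
      rw [← Complex.normSq_eq_norm_sq, Complex.normSq_apply]; ring
    nlinarith [norm_nonneg ((χ : G → ℂ) x), sq_nonneg ((χ : G → ℂ) x).im]
  apply Complex.ext <;> simp [hz, h4]

/-- Outside the centralizer of a p-subgroup the sum of a conjugation invariant local integral
function lies in the local ideal. -/
theorem memLocalIdeal_sum_nonfixed [Fintype G] (hM : Cfsg.IsPModular p M) {f : G → ℂ}
    (hf : ∀ g, Cfsg.MemLocalRing M (f g)) (hcl : Cfsg.IsClassFunction G f) (Q : Subgroup G)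
    (hQ : IsPGroup p Q) [DecidablePred (· ∈ Subgroup.centralizer (Q : Set G))] :
    Cfsg.MemLocalIdeal M
      (∑ g : G, if g ∈ Subgroup.centralizer (Q : Set G) then 0 else f g) := by
  classical
  haveI := Fact.mk hM.1
  letI : MulAction Q G := MulAction.compHom G
    ((MulAut.conj : G →* MulAut G).comp Q.subtype)
  have hsmul : ∀ (u : Q) (g : G), u • g = (u : G) * g * (u : G)⁻¹ := fun _ _ => rfl
  set W : G → ℂ := fun g => if g ∈ Subgroup.centralizer (Q : Set G) then 0 else f g with hW
  have hinv : ∀ (u : Q) (g : G), W (u • g) = W g := fun u g => by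
    simp only [hW, hsmul]
    refine if_congr ?_ rfl (hcl g u)
    have key : ∀ (v : Q) (h : G), h ∈ Subgroup.centralizer (Q : Set G) →
        (v : G) * h * (v : G)⁻¹ = h := fun v h hh => by
      rw [(Subgroup.mem_centralizer_iff.1 hh) v v.2, mul_inv_cancel_right]
    refine ⟨fun hh => ?_, fun hh => by rwa [key u g hh]⟩
    have h' := key u⁻¹ _ hh
    have e : g = (u : G) * g * (u : G)⁻¹ := by
      simpa [mul_assoc] using h'
    rwa [← e] at hh
  rw [show (∑ g : G, if g ∈ Subgroup.centralizer (Q : Set G) then 0 else f g) = ∑ g, W g from rfl,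
    ← (MulAction.selfEquivSigmaOrbits Q G).symm.sum_comp, Fintype.sum_sigma]
  refine memLocalIdeal_sum hM _ fun ω _ => ?_
  rw [Finset.sum_congr rfl (g := fun _ => W ω.out), Finset.sum_const, nsmul_eq_mul,
    Finset.card_univ, ← Nat.card_eq_fintype_card]
  · by_cases hfix : ω.out ∈ Subgroup.centralizer (Q : Set G)
    · simp only [hW, if_pos hfix, mul_zero]
      exact memLocalIdeal_zero hM
    · refine memLocalIdeal_mul_right hM ((memLocalIdeal_natCast_iff hM _).2 ?_) ?_
      · obtain ⟨k, hk⟩ := hQ.card_orbit ω.out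
        rw [hk]
        refine dvd_pow_self p fun hk0 => hfix ?_
        rw [hk0, pow_zero] at hk
        obtain ⟨hsub, -⟩ := Nat.card_eq_one_iff_unique.1 hk
        rw [Subgroup.mem_centralizer_iff]
        intro v hv
        have h1 : (⟨v, hv⟩ : Q) • ω.out = ω.out := congrArg Subtype.val
          (hsub.elim ⟨_, MulAction.mem_orbit ω.out (⟨v, hv⟩ : Q)⟩ ⟨_, MulAction.mem_orbit_self _⟩)
        rw [hsmul] at h1
        exact mul_inv_eq_iff_eq_mul.1 h1
      · simp only [hW, if_neg hfix]; exact hf _
  · rintro ⟨x, s, rfl⟩ -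
    exact hinv s _

/-- A nilpotent principal block forces a normal p-complement. -/
theorem hasNormalPComplement_of_isNilpotentBlock [Finite G] (hM : Cfsg.IsPModular p M)
    (h : Cfsg.IsNilpotentBlock p M (Cfsg.principalBlock M G)) :
    Cfsg.HasNormalPComplement p G := by
  classical
  have := Fintype.ofFinite G
  haveI := Fact.mk hM.1
  refine Fusion.hasNormalPComplement_of_frobenius fun Q hQ x hx hxo => ?_
  set C := Subgroup.centralizer (Q : Set G) with hC
  haveI : Fintype C := Fintype.ofFinite C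
  set a := Cfsg.blockCoeff (Cfsg.principalBlock M G) with ha
  have hB := isPBlock_principalBlock (G := G) M
  have haR := memLocalRing_blockCoeff hM hB
  have hacl : Cfsg.IsClassFunction G a := isClassFunction_blockCoeff _
  let f : C → ℂ := fun c => a (c : G)
  have hfcl : Cfsg.IsClassFunction C f := fun c k => by
    simp only [f, Subgroup.coe_mul, Subgroup.coe_inv, hacl (c : G) (k : G)]
  -- the truncation has central character congruent to one at the principal character
  have htriv : Cfsg.MemLocalIdeal M (omega (triv C : C → ℂ) f - 1) := by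
    have h1 := omega_blockCoeff (Cfsg.principalBlock M G) (triv G)
    rw [if_pos (triv_mem_principalBlock hM)] at h1
    simp only [omega, triv, mul_one, div_one, ← ha] at h1 ⊢
    have h2 := memLocalIdeal_sum_nonfixed hM haR hacl Q hQ
    have h3 : ∑ c : C, f c = ∑ g : G, if g ∈ C then a g else 0 := by
      rw [← Finset.sum_filter]
      exact (Finset.sum_subtype _ (fun g => by simp) a).symm
    rw [h3, ← h1, ← Finset.sum_sub_distrib]
    have h4 := memLocalIdeal_neg h2
    rw [← Finset.sum_neg_distrib] at h4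
    convert h4 using 1
    refine Finset.sum_congr rfl fun g _ => ?_
    split_ifs <;> ring
  refine h.2 Q (Cfsg.principalBlock M C) ⟨⟨hQ, isPBlock_principalBlock M⟩, hB, fun ξ hξ => ?_⟩
    x hx ⟨?_, fun χ hχ => ?_⟩ ((coprime_orderOf_iff hM.1 x).1 hxo)
  · have h1 := memLocalIdeal_omega_sub hM ξ.2 (triv C).2 hfcl (fun c => haR _)
      (IsPBlock.sameBlock hM (isPBlock_principalBlock M) hξ (triv_mem_principalBlock hM))
    have h2 := memLocalIdeal_add hM h1 htriv
    rw [sub_add_sub_cancel] at h2
    convert h2 using 2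
    rw [Cfsg.brauerOmega, finsum_eq_sum_of_fintype, omega, Finset.sum_div]
  · exact Subgroup.mem_normalizer_iff.2 fun y => by
      have hconj : ∀ {z : G}, z ∈ Subgroup.normalizer (Q : Set G) → ∀ {y : G}, y ∈ C →
          z * y * z⁻¹ ∈ C := fun {z} hz {y} hy => by
        rw [hC, Subgroup.mem_centralizer_iff] at hy ⊢
        intro q hq
        have hq' : z⁻¹ * q * z ∈ Q := (Subgroup.mem_normalizer_iff''.1 hz q).1 hq
        calc q * (z * y * z⁻¹) = z * ((z⁻¹ * q * z) * y) * z⁻¹ := by group
          _ = z * (y * (z⁻¹ * q * z)) * z⁻¹ := by rw [hy _ hq']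
          _ = z * y * z⁻¹ * q := by group
      refine ⟨fun hy => hconj hx hy, fun hy => ?_⟩
      have := hconj (Subgroup.inv_mem _ hx) hy
      simpa [mul_assoc] using this
  · -- conjugation by `x` fixes the principal block of the centralizer
    have hconj : ∀ z ∈ Subgroup.normalizer (Q : Set G), ∀ y ∈ C, z * y * z⁻¹ ∈ C := by
      intro z hz y hy
      rw [hC, Subgroup.mem_centralizer_iff] at hy ⊢
      intro q hq
      have hq' : z⁻¹ * q * z ∈ Q := (Subgroup.mem_normalizer_iff''.1 hz q).1 hq
      calc q * (z * y * z⁻¹) = z * ((z⁻¹ * q * z) * y) * z⁻¹ := by group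
        _ = z * (y * (z⁻¹ * q * z)) * z⁻¹ := by rw [hy _ hq']
        _ = z * y * z⁻¹ * q := by group
    let φ : C ≃* C :=
      { toFun := fun c => ⟨x⁻¹ * c * x⁻¹⁻¹, hconj _ (Subgroup.inv_mem _ hx) c c.2⟩
        invFun := fun c => ⟨x * c * x⁻¹, hconj _ hx c c.2⟩
        left_inv := fun c => Subtype.ext (by simp [mul_assoc])
        right_inv := fun c => Subtype.ext (by simp [mul_assoc])
        map_mul' := fun c d => Subtype.ext (by simp [mul_assoc]) }
    refine ⟨⟨fun c => (χ : C → ℂ) (φ c), (Char.isIrrCharacter_comp_equiv φ).2 χ.2⟩, ?_, ?_⟩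
    · intro c
      have h1 := hχ (φ c)
      have hidx : (Subgroup.centralizer ({φ c} : Set C)).index =
          (Subgroup.centralizer ({c} : Set C)).index := by
        rw [← Char.card_isConj_eq_index, ← Char.card_isConj_eq_index]
        refine (Nat.card_congr (φ.toEquiv.subtypeEquiv fun d => ?_)).symm
        refine ⟨fun hd => φ.toMonoidHom.map_isConj hd, fun hd => ?_⟩
        simpa using φ.symm.toMonoidHom.map_isConj hd
      simpa [Cfsg.centralChar, hidx] using h1
    · intro k k' hk'
      show (χ : C → ℂ) (φ k') = (χ : C → ℂ) k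
      refine congrArg (χ : C → ℂ) (Subtype.ext ?_)
      show x⁻¹ * (k' : G) * x⁻¹⁻¹ = k
      rw [hk']
      group

/-- With a normal p-complement every block is nilpotent. -/
theorem isNilpotentBlock_of_hasNormalPComplement [Finite G] (hM : Cfsg.IsPModular p M)
    (h : Cfsg.HasNormalPComplement p G) {B : Set (Cfsg.IrrCharacter G)} (hB : Cfsg.IsPBlock M B) :
    Cfsg.IsNilpotentBlock p M B :=
  haveI := Fact.mk hM.1
  ⟨hB, fun _ _ hQ _ hx _ hreg => Fusion.mem_centralizer_of_hasNormalPComplement h hQ.1.1 hx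
    ((coprime_orderOf_iff hM.1 _).2 hreg)⟩

/-- The principal block has p-regular rank one exactly when it is constant on the p-regular
elements. -/
theorem blockRank_eq_one_iff [Finite G] (hM : Cfsg.IsPModular p M) :
    Cfsg.blockRank p (Cfsg.principalBlock M G) = 1 ↔
      ∀ χ ∈ Cfsg.principalBlock M G, ∀ x : G, Cfsg.IsPRegular p x →
        (χ : G → ℂ) x = (χ : G → ℂ) 1 := by
  classical
  set t : G → ℂ := Cfsg.pRegularPart p ((triv G : Cfsg.IrrCharacter G) : G → ℂ) with ht
  have h1 : Cfsg.IsPRegular p (1 : G) := by simp [Cfsg.IsPRegular, hM.1.ne_one]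
  have ht1 : ∀ x, Cfsg.IsPRegular p x → t x = 1 := fun x hx => by
    simp [ht, Cfsg.pRegularPart, triv, hx]
  have ht0 : t ≠ 0 := fun e => by
    have := ht1 1 h1
    rw [e] at this
    exact one_ne_zero this.symm
  set S := Submodule.span ℂ ((fun χ : Cfsg.IrrCharacter G => Cfsg.pRegularPart p (χ : G → ℂ)) ''
    Cfsg.principalBlock M G) with hS
  have htS : t ∈ S := Submodule.subset_span ⟨triv G, triv_mem_principalBlock hM, rfl⟩
  constructor
  · intro h χ hχ x hx
    obtain ⟨c, hc⟩ := exists_smul_eq_of_finrank_eq_one h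
      (x := ⟨t, htS⟩) (fun e => ht0 (congrArg Subtype.val e))
      ⟨Cfsg.pRegularPart p (χ : G → ℂ), Submodule.subset_span ⟨χ, hχ, rfl⟩⟩
    have hc' : ∀ y, c * t y = Cfsg.pRegularPart p (χ : G → ℂ) y := fun y =>
      congrFun (congrArg Subtype.val hc) y
    have e1 := hc' x
    have e2 := hc' 1
    simp only [ht1 _ hx, ht1 _ h1, Cfsg.pRegularPart, if_pos hx, if_pos h1] at e1 e2
    rw [← e1, ← e2]
  · intro h
    have hle : S = Submodule.span ℂ {t} := by
      refine le_antisymm (Submodule.span_le.2 ?_) (Submodule.span_le.2 (by simpa using htS))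
      rintro _ ⟨χ, hχ, rfl⟩
      refine Submodule.mem_span_singleton.2 ⟨(χ : G → ℂ) 1, funext fun y => ?_⟩
      by_cases hy : Cfsg.IsPRegular p y
      · simp [ht1 y hy, Cfsg.pRegularPart, hy, h χ hχ y hy]
      · simp [ht, Cfsg.pRegularPart, hy]
    show Module.finrank ℂ S = 1
    rw [hle]
    exact finrank_span_singleton ht0

end Cfsg.Agent.BlockChar
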