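import Mathlib.Analysis.Complex.Polynomial.Basic
import Mathlib.Analysis.SpecialFunctions.Log.Basic
import Mathlib.RingTheory.Norm.Transitivity
import Mathlib.FieldTheory.IntermediateField.Adjoin.Basic
import Mathlib.RingTheory.Adjoin.Polynomial.Basic
import Mathlib.RingTheory.Int.Basic
import Mathlib.RingTheory.IntegralClosure.IntegrallyClosed
import Mathlib.RingTheory.Polynomial.RationalRoot

/-!
# Nonzero cyclotomic integers have mean square modulus at least one
-/

namespace Cfsg.Agent.BlockChar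

open scoped ComplexConjugate

open Polynomial in
/-- If the square moduli of nonzero integers of a cyclotomic field add up to a rational number,
that number is at least their number. -/
theorem card_le_of_sum_conj_mul {ι : Type*} (s : Finset ι) (z : ι → ℂ) {ζ : ℂ} {q : ℕ}
    (hq : q ≠ 0) (hζ : ζ ^ q = 1) (hz : ∀ i ∈ s, z i ∈ Algebra.adjoin ℤ {ζ})
    (hne : ∀ i ∈ s, z i ≠ 0) {N : ℚ} (hN : ∑ i ∈ s, z i * conj (z i) = (N : ℂ)) :
    (s.card : ℚ) ≤ N := by
  classical
  -- the number field generated by the root of unity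
  set L : IntermediateField ℚ ℂ := IntermediateField.adjoin ℚ {ζ} with hL
  have hint : IsIntegral ℚ ζ :=
    (IsIntegral.of_pow (Nat.pos_of_ne_zero hq) (hζ ▸ isIntegral_one) : IsIntegral ℤ ζ).tower_top
  have : FiniteDimensional ℚ L := IntermediateField.adjoin.finiteDimensional hint
  let w : L := ⟨ζ, IntermediateField.mem_adjoin_simple_self ℚ ζ⟩
  have hw : w ^ q = 1 := Subtype.ext (by simpa [w] using hζ)
  have hP : ∀ i ∈ s, ∃ P : ℤ[X], aeval ζ P = z i := fun i hi => by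
    have := hz i hi
    rwa [Algebra.adjoin_singleton_eq_range_aeval, AlgHom.mem_range] at this
  choose! P hP using hP
  let x : ι → L := fun i => aeval w (P i) * aeval w⁻¹ (P i)
  -- the conjugates of the square moduli are square moduli
  have hconj : ∀ σ : L →ₐ[ℚ] ℂ, ∀ i, σ (x i) = ((Complex.normSq (aeval (σ w) (P i)) : ℝ) : ℂ) := by
    intro σ i
    have h1 : σ w ^ q = 1 := by rw [← map_pow, hw, map_one]
    have h2 : conj (σ w) = (σ w)⁻¹ :=
      (Complex.inv_eq_conj (Complex.norm_eq_one_of_pow_eq_one h1 hq)).symm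
    have hmap : ∀ a : L, σ (aeval a (P i)) = aeval (σ a) (P i) := fun a =>
      (aeval_algHom_apply (σ.restrictScalars ℤ) a (P i)).symm
    have hcj : conj (aeval (σ w) (P i)) = aeval (conj (σ w)) (P i) :=
      (aeval_algHom_apply ((Complex.conjAe.toAlgHom).restrictScalars ℤ) (σ w) (P i)).symm
    simp only [x, map_mul, hmap, map_inv₀]
    rw [← h2, ← hcj, Complex.mul_conj]
  have hval : ∀ i ∈ s, ((x i : L) : ℂ) = z i * conj (z i) := by
    intro i hi
    rw [← hP i hi]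
    have := hconj L.val i
    rw [Complex.mul_conj]
    exact this
  -- the sum is fixed by every embedding
  have hsum : ∀ σ : L →ₐ[ℚ] ℂ, ∑ i ∈ s, σ (x i) = (N : ℂ) := by
    intro σ
    have e : ∑ i ∈ s, x i = algebraMap ℚ L N := Subtype.ext (by
      rw [AddSubmonoidClass.coe_finsetSum, Finset.sum_congr rfl hval, hN]
      rfl)
    rw [← map_sum, e, AlgHom.commutes]
    rfl
  have hxne : ∀ i ∈ s, x i ≠ 0 := fun i hi h => by
    have e := hval i hi
    rw [h] at e
    exact hne i hi (by simpa using e.symm)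
  set n := Fintype.card (L →ₐ[ℚ] ℂ) with hn
  have hn0 : 0 < n := Fintype.card_pos_iff.2 ⟨L.val⟩
  let v : (L →ₐ[ℚ] ℂ) → ι → ℝ := fun σ i => Complex.normSq (aeval (σ w) (P i))
  have hv : ∀ σ, ∀ i ∈ s, 0 < v σ i := fun σ i hi => by
    refine Complex.normSq_pos.2 fun h => hxne i hi (σ.injective ?_)
    show σ (x i) = σ 0
    rw [hconj, h, map_zero, map_zero, Complex.ofReal_zero]
  have hone : ∀ i ∈ s, (n : ℝ) ≤ ∑ σ : L →ₐ[ℚ] ℂ, v σ i := by
    intro i hi
    -- the norm is a positive integer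
    have hxi : IsIntegral ℤ (x i) := by
      have h1 : IsIntegral ℤ w := IsIntegral.of_pow (Nat.pos_of_ne_zero hq) (hw ▸ isIntegral_one)
      have h2 : IsIntegral ℤ w⁻¹ := IsIntegral.of_pow (Nat.pos_of_ne_zero hq)
        (by rw [inv_pow, hw, inv_one]; exact isIntegral_one)
      have h3 : ∀ a : L, IsIntegral ℤ a → IsIntegral ℤ (aeval a (P i)) := fun a ha =>
        (Algebra.adjoin_le (S := integralClosure ℤ L) (Set.singleton_subset_iff.2 ha))
          (aeval_mem_adjoin_singleton ℤ a)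
      exact (h3 w h1).mul (h3 w⁻¹ h2)
    obtain ⟨m, hm⟩ := IsIntegrallyClosed.algebraMap_eq_of_integral (Algebra.isIntegral_norm ℚ hxi)
    have hprod : ((Algebra.norm ℚ (x i) : ℚ) : ℂ) = ((∏ σ : L →ₐ[ℚ] ℂ, v σ i : ℝ) : ℂ) := by
      rw [show ((Algebra.norm ℚ (x i) : ℚ) : ℂ) = algebraMap ℚ ℂ (Algebra.norm ℚ (x i)) from rfl,
        Algebra.norm_eq_prod_embeddings, Complex.ofReal_prod]
      exact Finset.prod_congr rfl fun σ _ => hconj σ i
    have hpos : (0 : ℝ) < ∏ σ : L →ₐ[ℚ] ℂ, v σ i := Finset.prod_pos fun σ _ => hv σ i hi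
    have hpm : (∏ σ : L →ₐ[ℚ] ℂ, v σ i) = (m : ℝ) := by
      rw [← hm] at hprod
      exact_mod_cast hprod.symm
    have h1 : (1 : ℝ) ≤ ∏ σ : L →ₐ[ℚ] ℂ, v σ i := by
      rw [hpm] at hpos ⊢
      exact_mod_cast (by exact_mod_cast hpos : (0 : ℤ) < m)
    have h2 : 0 ≤ ∑ σ : L →ₐ[ℚ] ℂ, Real.log (v σ i) := by
      rw [← Real.log_prod fun σ _ => (hv σ i hi).ne']
      exact Real.log_nonneg h1
    have h3 : ∑ σ : L →ₐ[ℚ] ℂ, Real.log (v σ i) ≤ ∑ σ : L →ₐ[ℚ] ℂ, (v σ i - 1) :=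
      Finset.sum_le_sum fun σ _ => Real.log_le_sub_one_of_pos (hv σ i hi)
    rw [Finset.sum_sub_distrib, Finset.sum_const, Finset.card_univ, nsmul_eq_mul, mul_one] at h3
    rw [hn]
    linarith
  have hN' : ∀ σ : L →ₐ[ℚ] ℂ, ∑ i ∈ s, v σ i = (N : ℝ) := fun σ => by
    have := hsum σ
    simp only [hconj, ← Complex.ofReal_sum] at this
    exact_mod_cast this
  have htot : (n : ℝ) * s.card ≤ n * (N : ℝ) := by
    calc (n : ℝ) * s.card = ∑ i ∈ s, (n : ℝ) := by simp [mul_comm]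
      _ ≤ ∑ i ∈ s, ∑ σ : L →ₐ[ℚ] ℂ, v σ i := Finset.sum_le_sum hone
      _ = ∑ σ : L →ₐ[ℚ] ℂ, ∑ i ∈ s, v σ i := Finset.sum_comm
      _ = n * (N : ℝ) := by simp [hN', hn]
  have := le_of_mul_le_mul_left htot (Nat.cast_pos.2 hn0)
  exact_mod_cast this

end Cfsg.Agent.BlockChar
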