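import Cfsg.Agent.Blocks.WeakOrth
import Cfsg.Agent.Blocks.Congr
import Cfsg.Agent.BlockChar.Defect
import Cfsg.Agent.Char.Clifford

/-!
# Characters of `p'`-degree of a block of full defect over a character of a normal subgroup
-/

namespace Cfsg.Agent.BlockChar

open scoped ComplexConjugate
open Cfsg.Agent Cfsg.Agent.Blocks

theorem card_prime_to_over {G : Type*} [Group G] [Fintype G] {p : ℕ} [Fact p.Prime]
    {M : Ideal Cfsg.AlgInt} (hM : Cfsg.IsPModular p M) {B : Set (Cfsg.IrrCharacter G)}
    (hB : Cfsg.IsPBlock M B) (N : Subgroup G) [N.Normal] [Fintype N]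
    {x : G} (hxN : x ∉ N) (hx : ∃ k, orderOf x = p ^ k) (θ : Cfsg.IrrCharacter N) :
    let n := Nat.card {χ : Cfsg.IrrCharacter G // χ ∈ B ∧ ¬ p ∣ Cfsg.charDegree (χ : G → ℂ) ∧
      Cfsg.classInner (fun n : N => (χ : G → ℂ) n) (θ : N → ℂ) ≠ 0}
    (n = 0 ∨ 2 ≤ n) ∧ (p ≤ 3 → p ∣ n) := by
  classical
  intro n
  have hp : p.Prime := Fact.out
  choose a ha using fun χ : Cfsg.IrrCharacter G => Char.classInner_isCharacter_eq_natCast
    (Char.isCharacter_res N (Char.IsIrr.isCharacter χ.2)) (Char.IsIrr.isCharacter θ.2)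
  set deg := fun χ : Cfsg.IrrCharacter G => Cfsg.charDegree (χ : G → ℂ) with hdeg
  have hdc : ∀ χ : Cfsg.IrrCharacter G, (χ : G → ℂ) 1 = (deg χ : ℂ) := fun χ =>
    (CharArith.irr_degree_spec χ).1
  -- the block part of the induced character vanishes at `x`
  have hvan : ∑ χ : Cfsg.IrrCharacter G, (if χ ∈ B then (a χ : ℂ) * (χ : G → ℂ) x else 0) = 0 := by
    calc ∑ χ : Cfsg.IrrCharacter G, (if χ ∈ B then (a χ : ℂ) * (χ : G → ℂ) x else 0)
        = (Nat.card N : ℂ)⁻¹ * ∑ m : N, conj ((θ : N → ℂ) m) *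
            ∑ χ : Cfsg.IrrCharacter G, (if χ ∈ B then (χ : G → ℂ) x * (χ : G → ℂ) m else 0) := by
          simp only [Finset.mul_sum]
          rw [Finset.sum_comm]
          refine Finset.sum_congr rfl fun χ _ => ?_
          split_ifs
          · rw [← ha χ, Cfsg.classInner, Finset.mul_sum, Finset.sum_mul]
            exact Finset.sum_congr rfl fun m _ => by ring
          · simp
      _ = 0 := by
        rw [Finset.sum_eq_zero, mul_zero]
        intro m _
        have h := block_orthogonality hM hB x (m : G) (by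
          intro hc
          obtain ⟨c, hc⟩ := isConj_iff.1 hc
          have hxp : pPartOf p x = x := by
            have := (parts_mul hp (Commute.one_right x) hx (by simp [hp.ne_one])).1
            rwa [mul_one] at this
          rw [hxp] at hc
          refine hxN ?_
          have hmem : (pPartOf p (m : G))⁻¹ ∈ N := by
            refine inv_mem ?_
            have hh : Cfsg.IsPPart p (m : G) (pPartOf p (m : G)) := isPPart_pPartOf hp (m : G)
            obtain ⟨e, he⟩ : ∃ e : ℕ, (m : G) ^ e = pPartOf p (m : G) := ⟨_, rfl⟩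
            rw [← he]
            exact pow_mem m.2 e
          rw [← hc] at hmem
          have := (inferInstance : N.Normal).conj_mem _ hmem c⁻¹
          simpa [mul_assoc] using this)
        rw [finsum_mem_eq_finite_toFinset_sum _ B.toFinite] at h
        rw [← Finset.sum_filter, show Finset.univ.filter (· ∈ B) = B.toFinite.toFinset from
          Finset.ext fun z => by simp, h, mul_zero]
  -- so the weighted sum of degrees is divisible by `p`
  have hS : p ∣ ∑ χ : Cfsg.IrrCharacter G, (if χ ∈ B then a χ * deg χ else 0) := by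
    rw [← memLocalIdeal_natCast_iff hM]
    push_cast
    have key : ∀ f : Cfsg.IrrCharacter G → ℂ, ∑ χ, f χ = ∑ χ, (f χ -
        (if χ ∈ B then (a χ : ℂ) * (χ : G → ℂ) x else 0)) := fun f => by
      rw [Finset.sum_sub_distrib, hvan, sub_zero]
    rw [key]
    refine memLocalIdeal_sum hM _ fun χ _ => ?_
    split_ifs
    · rw [← mul_sub, ← hdc]
      refine memLocalIdeal_mul_left hM (memLocalRing_natCast hM _) ?_
      have := memLocalIdeal_neg (memLocalIdeal_char_sub_degree hM (Char.IsIrr.isCharacter χ.2) hx)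
      rwa [neg_sub] at this
    · rw [sub_self]; exact memLocalIdeal_zero hM
  set T := Finset.univ.filter (fun χ : Cfsg.IrrCharacter G => χ ∈ B ∧ ¬ p ∣ deg χ ∧
    Cfsg.classInner (fun n : N => (χ : G → ℂ) n) (θ : N → ℂ) ≠ 0) with hT
  have hn : n = T.card := by
    rw [hT, ← Fintype.card_subtype, ← Nat.card_eq_fintype_card]
  have hST : p ∣ ∑ χ ∈ T, a χ * deg χ := by
    rw [hT, Finset.sum_filter]
    rw [← ZMod.natCast_eq_zero_iff] at hS ⊢
    rw [← hS]
    push_cast
    refine Finset.sum_congr rfl fun χ _ => ?_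
    by_cases hB' : χ ∈ B
    · rw [if_pos hB']
      by_cases hd : p ∣ deg χ
      · rw [if_neg fun h => h.2.1 hd, (ZMod.natCast_eq_zero_iff _ p).2 hd, mul_zero]
      · by_cases h0 : Cfsg.classInner (fun n : N => (χ : G → ℂ) n) (θ : N → ℂ) = 0
        · rw [if_neg fun h => h.2.2 h0]
          have : a χ = 0 := by exact_mod_cast (ha χ).symm.trans h0
          rw [this, Nat.cast_zero, zero_mul]
        · rw [if_pos ⟨hB', hd, h0⟩]
    · rw [if_neg hB', if_neg fun h => hB' h.1]
  -- degrees
  set c := (Char.inertia (θ : N → ℂ)).index * Cfsg.charDegree (θ : N → ℂ) with hc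
  have hcl : ∀ χ ∈ T, deg χ = a χ * c := by
    intro χ hχ
    have h := Char.degree_eq_of_clifford χ.2 θ.2 (Finset.mem_filter.1 hχ).2.2.2
    rw [ha χ, hdc, (CharArith.irr_degree_spec θ).1, mul_assoc] at h
    exact_mod_cast h
  refine ⟨?_, fun hp3 => ?_⟩
  · rw [hn]
    by_contra hh
    obtain ⟨χ, hχ⟩ := Finset.card_eq_one.1 (show T.card = 1 by omega)
    have hmem : χ ∈ T := hχ ▸ Finset.mem_singleton_self χ
    rw [hχ, Finset.sum_singleton] at hST
    have hd := (Finset.mem_filter.1 hmem).2.2.1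
    rcases hp.dvd_mul.1 hST with h | h
    · exact hd (by rw [hcl χ hmem]; exact dvd_mul_of_dvd_left h c)
    · exact hd h
  · rw [hn]
    rcases T.eq_empty_or_nonempty with h0 | ⟨χ₀, h₀⟩
    · rw [h0, Finset.card_empty]; exact dvd_zero p
    have hsq : ∀ z : ZMod p, z ≠ 0 → z * z = 1 := by
      intro z hz
      have h2 : ((z.val * z.val : ℕ) : ZMod p) = z * z := by
        haveI : NeZero p := ⟨hp.ne_zero⟩
        rw [Nat.cast_mul, ZMod.natCast_zmod_val]
      haveI : NeZero p := ⟨hp.ne_zero⟩
      have hv := ZMod.val_lt z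
      have hv0 : z.val ≠ 0 := fun h => hz ((ZMod.val_eq_zero z).1 h)
      rw [← h2, ← Nat.cast_one, ZMod.natCast_eq_natCast_iff']
      have := hp.two_le
      interval_cases p <;> interval_cases z.val <;> omega
    have hcp : (c : ZMod p) ≠ 0 := fun h => by
      refine (Finset.mem_filter.1 h₀).2.2.1 ?_
      rw [hcl χ₀ h₀]
      exact dvd_mul_of_dvd_right ((ZMod.natCast_eq_zero_iff _ p).1 h) _
    have hterm : ∀ χ ∈ T, ((a χ * deg χ : ℕ) : ZMod p) = (c : ZMod p) := by
      intro χ hχ
      have hd := (Finset.mem_filter.1 hχ).2.2.1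
      have hne : (a χ : ZMod p) ≠ 0 := fun h => hd (by
        rw [hcl χ hχ]; exact dvd_mul_of_dvd_left ((ZMod.natCast_eq_zero_iff _ p).1 h) c)
      rw [hcl χ hχ]
      push_cast
      rw [← mul_assoc, hsq _ hne, one_mul]
    rw [← ZMod.natCast_eq_zero_iff] at hST ⊢
    rw [Nat.cast_sum, Finset.sum_congr rfl hterm, Finset.sum_const, nsmul_eq_mul] at hST
    exact (mul_eq_zero.1 hST).resolve_right hcp

end Cfsg.Agent.BlockChar
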