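import Mathlib
import Cfsg.Agent.Char.Clifford
import Cfsg.Agent.Fusion.Tate
import Cfsg.Agent.Core.PCore
import Cfsg.Agent.Core.Frattini
import Cfsg.Prelude.Def_Blocks

/-!
# Normal subgroups inside the kernel of all characters of degree prime to `p`
-/

set_option autoImplicit false

namespace Cfsg.Agent.BlockChar.PDegreeKernel

open scoped ComplexConjugate
open Cfsg.Agent.Char

universe u

variable {H : Type u} [Group H] [Finite H] {p : ℕ} [hp : Fact p.Prime]

/-- Every linear character of a Sylow subgroup is a constituent of some character of degree prime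
to `p`. -/
theorem exists_pPrime_constituent [Fintype H] (P : Sylow p H) [Fintype (P : Subgroup H)]
    (lam : (P : Subgroup H) →* ℂˣ) :
    ∃ χ : IrrCharacter H, ¬ p ∣ Cfsg.charDegree (χ : H → ℂ) ∧
      classInner (fun x : (P : Subgroup H) => (χ : H → ℂ) x)
        (fun x : (P : Subgroup H) => ((lam x : ℂˣ) : ℂ)) ≠ 0 := by
  classical
  have hl := isCharacter_hom lam
  set I := indFun (P : Subgroup H) (fun x : (P : Subgroup H) => ((lam x : ℂˣ) : ℂ)) with hI
  have hIc : IsCharacter H I := isCharacter_indFun _ hl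
  choose d hd0 hd using fun ξ : IrrCharacter H => IsIrr.degree ξ.2
  choose m hm using fun ξ : IrrCharacter H =>
    classInner_isCharacter_eq_natCast hIc (IsIrr.isCharacter ξ.2)
  have h1 : ((P : Subgroup H).index : ℂ) = ((∑ ξ : IrrCharacter H, m ξ * d ξ : ℕ) : ℂ) := by
    have h3 := congrFun (classFun_expansion (isClassFunction_of_isCharacter hIc)) 1
    simp only [Finset.sum_apply, Pi.smul_apply, smul_eq_mul, hm, hd] at h3
    rw [hI, indFun_apply_one, map_one, Units.val_one, mul_one] at h3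
    rw [h3, Nat.cast_sum]
    exact Finset.sum_congr rfl fun ξ _ => by rw [Nat.cast_mul]
  have h2 : (P : Subgroup H).index = ∑ ξ : IrrCharacter H, m ξ * d ξ := by exact_mod_cast h1
  obtain ⟨ξ, -, hξ⟩ : ∃ ξ ∈ (Finset.univ : Finset (IrrCharacter H)), ¬ p ∣ m ξ * d ξ := by
    by_contra hc
    push Not at hc
    exact P.not_dvd_index (h2 ▸ Finset.dvd_sum hc)
  refine ⟨ξ, fun hdiv => hξ (Dvd.dvd.mul_left ?_ _), fun h0 => hξ ?_⟩
  · simpa [Cfsg.charDegree, hd ξ] using hdiv
  · have h4 := classInner_indFun_left (P : Subgroup H)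
      (fun x : (P : Subgroup H) => ((lam x : ℂˣ) : ℂ)) (isClassFunction_of_isIrr ξ.2)
    have h5' : (m ξ : ℂ) = 0 := by rw [← hm ξ, hI, h4, ← classInner_conj_symm, h0, map_zero]
    have h5 : m ξ = 0 := by exact_mod_cast h5'
    rw [h5, zero_mul]
    exact dvd_zero p

/-- A subgroup in the kernel of all characters of degree prime to `p` meets a Sylow subgroup
inside its derived subgroup. -/
theorem inf_sylow_le_commutator (P : Sylow p H) (W : Subgroup H)
    (hW : ∀ χ : IrrCharacter H, ¬ p ∣ Cfsg.charDegree (χ : H → ℂ) →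
      ∀ w ∈ W, (χ : H → ℂ) w = (χ : H → ℂ) 1) :
    W ⊓ (P : Subgroup H) ≤ (commutator (P : Subgroup H)).map (P : Subgroup H).subtype := by
  classical
  have := Fintype.ofFinite H
  have := Fintype.ofFinite (P : Subgroup H)
  rintro x ⟨hxW, hxP⟩
  refine ⟨⟨x, hxP⟩, ?_, rfl⟩
  by_contra hx
  have hx' : (Abelianization.of (⟨x, hxP⟩ : (P : Subgroup H))) ≠ 1 := fun e => hx (by
    rw [← Abelianization.ker_of]; exact e)
  have : Finite (Abelianization (P : Subgroup H)) := Finite.of_surjective _ (QuotientGroup.mk'_surjective (commutator (P : Subgroup H)))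
  obtain ⟨φ, hφ⟩ := CommGroup.exists_apply_ne_one_of_hasEnoughRootsOfUnity
    (Abelianization (P : Subgroup H)) ℂ hx'
  obtain ⟨χ, hχ1, hχ2⟩ := exists_pPrime_constituent P (φ.comp Abelianization.of)
  have h := IsChar.constituent_kernel
    (χ := fun y : (P : Subgroup H) => (χ : H → ℂ) y)
    (isCharacter_res _ (IsIrr.isCharacter χ.2)) (isIrrCharacter_hom (φ.comp Abelianization.of)) hχ2
    (g := ⟨x, hxP⟩) (by simpa using hW χ hχ1 x hxW)
  simp only [MonoidHom.comp_apply, map_one, Units.val_one, Units.val_eq_one] at h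
  exact hφ h

/-- If `O_{p'}(H) = 1`, then a kernel of all characters of degree prime to `p` is a maximal
normal subgroup of `p'`-index over itself. -/
theorem eq_of_pPrime_index (hcore : Cfsg.pPrimeCore p H = ⊥) {W R : Subgroup H} [R.Normal]
    [W.Normal] (hWR : W ≤ R) (hidx : ¬ p ∣ W.relIndex R)
    (hW : ∀ χ : IrrCharacter H, ¬ p ∣ Cfsg.charDegree (χ : H → ℂ) →
      ∀ w ∈ W, (χ : H → ℂ) w = (χ : H → ℂ) 1) :
    R = W := by
  classical
  obtain ⟨P⟩ : Nonempty (Sylow p H) := inferInstance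
  have hcop : (W.relIndex R).Coprime p := (hp.out.coprime_iff_not_dvd.2 hidx).symm
  have hin : R ⊓ (P : Subgroup H) ≤ W := by
    rintro x ⟨hxR, hxP⟩
    have hWn : (W.subgroupOf R).Normal := Subgroup.Normal.subgroupOf inferInstance R
    obtain ⟨k, hk⟩ := P.2 ⟨x, hxP⟩
    have hxk : (⟨x, hxR⟩ : R) ^ p ^ k = 1 := Subtype.ext (by
      rw [SubmonoidClass.coe_pow]; exact congrArg Subtype.val hk)
    have h1 : orderOf (QuotientGroup.mk' (W.subgroupOf R) ⟨x, hxR⟩) = 1 := by
      refine Nat.eq_one_of_dvd_coprimes ((hcop.pow_right k)) ?_ ?_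
      · exact orderOf_dvd_natCard _
      · refine orderOf_dvd_of_pow_eq_one ?_
        rw [← map_pow, hxk, map_one]
    rw [orderOf_eq_one_iff] at h1
    exact (QuotientGroup.eq_one_iff (N := W.subgroupOf R) (⟨x, hxR⟩ : R)).1 h1
  have hfr : R ⊓ (P : Subgroup H) ≤ (frattini (P : Subgroup H)).map (P : Subgroup H).subtype := by
    refine le_trans (le_inf hin inf_le_right) ((inf_sylow_le_commutator P W hW).trans ?_)
    have := P.2.isNilpotent
    exact Subgroup.map_mono Core.commutator_le_frattini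
  obtain ⟨P₀, N, hN, hNc⟩ : Cfsg.HasNormalPComplement p R :=
    Fusion.hasNormalPComplement_of_normal_inf_le_frattini P R hfr
  have hNcop : (Nat.card N).Coprime p := by
    rw [← hNc.index_eq_card]
    exact (hp.out.coprime_iff_not_dvd.2 P₀.not_dvd_index).symm
  have hNbot : N = ⊥ := by
    have := Core.map_pPrimeCore_normal (p := p) R
    have h0 : (Cfsg.pPrimeCore p R).map R.subtype = ⊥ := le_bot_iff.1 (hcore ▸ Core.le_pPrimeCore (by
      rw [Subgroup.card_map_of_injective R.subtype_injective]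
      exact Core.coprime_card_pPrimeCore))
    rw [Subgroup.map_eq_bot_iff_of_injective _ R.subtype_injective] at h0
    exact le_bot_iff.1 (h0 ▸ Core.le_pPrimeCore hNcop)
  obtain ⟨k, hk⟩ := P₀.2.exists_card_eq
  have hcard : Nat.card R = p ^ k := by
    rw [← hk, ← hNc.symm.index_eq_card, hNbot, Subgroup.index_bot]
  refine le_antisymm ?_ hWR
  have h1 : W.relIndex R ∣ p ^ k := hcard ▸ Subgroup.index_dvd_card _
  exact Subgroup.relIndex_eq_one.1 (Nat.eq_one_of_dvd_coprimes (hcop.pow_right k) dvd_rfl h1)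

/-- A Sylow subgroup outside the kernels. -/
theorem ne_top_of_kills (hp1 : p ∣ Nat.card H) {W : Subgroup H}
    (hW : ∀ χ : IrrCharacter H, ¬ p ∣ Cfsg.charDegree (χ : H → ℂ) →
      ∀ w ∈ W, (χ : H → ℂ) w = (χ : H → ℂ) 1) : W ≠ ⊤ := by
  rintro rfl
  obtain ⟨P⟩ : Nonempty (Sylow p H) := inferInstance
  have : Nontrivial (P : Subgroup H) := (Subgroup.nontrivial_iff_ne_bot _).2 fun hbot => by
    have h := P.not_dvd_index
    rw [hbot, Subgroup.index_bot] at h
    exact h hp1
  have hs : Group.IsSolvable (P : Subgroup H) := by have := P.2.isNilpotent; infer_instance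
  refine (Group.IsSolvable.commutator_lt_top_of_nontrivial (P : Subgroup H)).ne (eq_top_iff.2 ?_)
  intro x _
  obtain ⟨y, hy, hyx⟩ := inf_sylow_le_commutator P ⊤ hW ⟨Subgroup.mem_top _, x.2⟩
  rwa [← Subtype.ext hyx]

end Cfsg.Agent.BlockChar.PDegreeKernel
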