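import Cfsg.Agent.Blocks.CoveringAll
import Cfsg.Agent.Blocks.PrincipalPSolvable
import Cfsg.Agent.BlockChar.CentralQuotient
import Cfsg.Agent.BlockChar.ExtendPrincipal
import Cfsg.Agent.BlockChar.Support
import Cfsg.Agent.MGroupEmbed.Wreath
import Cfsg.Agent.OddLocal.PLengthData
import Cfsg.Agent.Char.LargerDegree

/-!
Isaacs--Smith: `p`-length one and restriction of the principal block to the Sylow normaliser
-/

namespace Cfsg.Agent.BlockChar

open scoped ComplexConjugate
open Cfsg.Agent Cfsg.Agent.Blocks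

universe u

/-- Inflation sends the principal block into the principal block. -/
theorem inflIrr_mem_principal {G : Type u} [Group G] [Finite G] {p : ℕ} {M : Ideal Cfsg.AlgInt}
    (hM : Cfsg.IsPModular p M) (N : Subgroup G) [N.Normal] {η : Cfsg.IrrCharacter (G ⧸ N)}
    (hη : η ∈ Cfsg.principalBlock M (G ⧸ N)) : inflIrr N η ∈ Cfsg.principalBlock M G := by
  intro g
  have h1 : (Subgroup.centralizer ({(g : G ⧸ N)} : Set (G ⧸ N))).index ∣
      (Subgroup.centralizer ({g} : Set G)).index := by
    refine dvd_trans (Subgroup.index_dvd_of_le ?_)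
      (Subgroup.index_map_dvd _ (QuotientGroup.mk'_surjective N))
    rintro _ ⟨y, hy, rfl⟩
    rw [Subgroup.mem_centralizer_singleton_iff]
    exact congrArg (QuotientGroup.mk' N) (Subgroup.mem_centralizer_singleton_iff.1 hy)
  obtain ⟨t, ht⟩ := h1
  have h2 := memLocalIdeal_mul_left hM (memLocalRing_natCast hM t) (hη (g : G ⧸ N))
  simp only [Cfsg.centralChar, inflIrr] at h2 ⊢
  rw [ht]
  push_cast
  convert h2 using 1
  simp only [QuotientGroup.mk_one]
  ring

/-- In the extension `R` of a subgroup of order prime to `m`, the `m`-torsion is normal. -/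
theorem normal_of_torsion {G : Type u} [Group G] (R Q : Subgroup G) [R.Normal] (m : ℕ)
    (h : ∀ x, x ∈ Q ↔ x ∈ R ∧ x ^ m = 1) : Q.Normal :=
  ⟨fun x hx g => (h _).2 ⟨(inferInstance : R.Normal).conj_mem x ((h x).1 hx).1 g, by
    rw [conj_pow, ((h x).1 hx).2, mul_one, mul_inv_cancel]⟩⟩

/-- If every character of the principal block is irreducible on a Sylow subgroup there is a
normal `p`-complement. -/
theorem exists_complement_of_irr_res {p : ℕ} [Fact p.Prime] {M : Ideal Cfsg.AlgInt}
    (hM : Cfsg.IsPModular p M) : ∀ (n : ℕ) (G : Type u) [Group G] [Finite G], Nat.card G = n →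
    ∀ P : Sylow p G, (∀ θ ∈ Cfsg.principalBlock M G,
      Cfsg.IsIrrCharacter (P : Subgroup G) (fun x : (P : Subgroup G) => (θ : G → ℂ) x)) →
    ∃ R : Subgroup G, R.Normal ∧ ¬ p ∣ Nat.card R ∧ ∃ k, R.index = p ^ k := by
  intro n
  induction n using Nat.strong_induction_on with
  | _ n ih =>
  intro G _ _ hn P hirr
  classical
  have hp : p.Prime := Fact.out
  letI := Fintype.ofFinite G
  have hB := isPBlock_principalBlock (G := G) M
  have h1B : triv G ∈ Cfsg.principalBlock M G := triv_mem_principalBlock hM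
  rcases eq_or_ne (P : Subgroup G) ⊥ with hP | hP
  · refine ⟨⊤, inferInstance, fun h => ?_, 0, by simp⟩
    have := P.not_dvd_index
    rw [hP, Subgroup.index_bot] at this
    exact this (by simpa using h)
  -- the kernel of the block
  let K : Subgroup G := ⨅ θ : {θ : Cfsg.IrrCharacter G // θ ∈ Cfsg.principalBlock M G},
    Char.kerSubgroup (Char.IsIrr.isCharacter θ.1.2)
  have hKmem : ∀ x, x ∈ K ↔ ∀ θ ∈ Cfsg.principalBlock M G, (θ : G → ℂ) x = (θ : G → ℂ) 1 :=
    fun x => by
      simp only [K, Subgroup.mem_iInf]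
      exact ⟨fun h θ hθ => h ⟨θ, hθ⟩, fun h θ => h θ.1 θ.2⟩
  have hKn : K.Normal := ⟨fun x hx g => (hKmem _).2 fun θ hθ => by
    rw [Char.isClassFunction_of_isIrr θ.2 x g, (hKmem x).1 hx θ hθ]⟩
  have hKreg : ∀ x ∈ K, Cfsg.IsPRegular p x := by
    intro x hx
    by_contra hxr
    have hsum := sum_block_degree_mul_eq_zero hM hB hxr
    have h2 : ((∑ θ : Cfsg.IrrCharacter G, if θ ∈ Cfsg.principalBlock M G then
        Cfsg.charDegree (θ : G → ℂ) ^ 2 else 0 : ℕ) : ℂ) = 0 := by
      rw [← hsum]
      push_cast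
      refine Finset.sum_congr rfl fun θ _ => ?_
      split_ifs with h
      · rw [(hKmem x).1 hx θ h, (CharArith.irr_degree_spec θ).1, sq]
      · rfl
    rw [Nat.cast_eq_zero, Finset.sum_eq_zero_iff] at h2
    have := h2 (triv G) (Finset.mem_univ _)
    rw [if_pos h1B, pow_eq_zero_iff two_ne_zero] at this
    exact ((CharArith.irr_degree_spec (triv G)).2).ne' this
  have hKp : ¬ p ∣ Nat.card K := fun h => by
    obtain ⟨x, hx⟩ := exists_prime_orderOf_dvd_card' p h
    have := hKreg x x.2
    rw [Cfsg.IsPRegular, ← Subgroup.orderOf_coe] at *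
    simp [hx] at this
  by_cases hK : K = ⊥
  swap
  · -- pass to the quotient
    have hlt : Nat.card (G ⧸ K) < n := by
      rw [← hn, ← K.index_mul_card]
      exact lt_mul_of_one_lt_right (Nat.pos_of_ne_zero Subgroup.index_ne_zero_of_finite)
        ((Subgroup.one_lt_card_iff_ne_bot K).2 hK)
    let P' : Sylow p (G ⧸ K) := P.mapSurjective (QuotientGroup.mk'_surjective K)
    let π : (P : Subgroup G) →* (P' : Subgroup (G ⧸ K)) :=
      ((QuotientGroup.mk' K).comp (P : Subgroup G).subtype).codRestrict _ fun x =>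
        Subgroup.mem_map_of_mem _ x.2
    obtain ⟨R, hRn, hR, k, hk⟩ := ih _ hlt (G ⧸ K) rfl P' fun η hη => by
      have h := hirr (inflIrr K η) (inflIrr_mem_principal hM K hη)
      exact MGroupEmbed.isIrr_of_comp π (Char.isCharacter_res _ (Char.IsIrr.isCharacter η.2)) h
    refine ⟨R.comap (QuotientGroup.mk' K), inferInstance, fun h => ?_, k, ?_⟩
    · have e : Nat.card (R.comap (QuotientGroup.mk' K)) = Nat.card K * Nat.card R := by
        have h1 := (R.comap (QuotientGroup.mk' K)).card_mul_index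
        rw [Subgroup.index_comap_of_surjective _ (QuotientGroup.mk'_surjective K),
          ← K.index_mul_card, show K.index = Nat.card (G ⧸ K) from rfl, ← R.card_mul_index,
          mul_assoc, mul_comm R.index, ← mul_assoc, mul_comm (Nat.card R)] at h1
        exact Nat.eq_of_mul_eq_mul_right (Nat.pos_of_ne_zero Subgroup.index_ne_zero_of_finite) h1
      rw [e] at h
      exact (hp.dvd_mul.1 h).elim hKp hR
    · rw [Subgroup.index_comap_of_surjective _ (QuotientGroup.mk'_surjective K), hk]
  -- a central element of order `p`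
  haveI : Nontrivial (P : Subgroup G) := (Subgroup.nontrivial_iff_ne_bot _).2 hP
  haveI := P.2.center_nontrivial
  obtain ⟨⟨⟨z, hzP⟩, hzc⟩, hz⟩ := exists_prime_orderOf_dvd_card' p
    ((IsPGroup.iff_card.1 (P.2.to_subgroup (Subgroup.center (P : Subgroup G)))).elim fun n hn =>
      hn ▸ dvd_pow_self p (fun h0 => by
        have := Finite.one_lt_card (α := Subgroup.center (P : Subgroup G))
        rw [hn, h0, pow_zero] at this
        exact this.false))
  rw [Subgroup.orderOf_mk, Subgroup.orderOf_mk] at hz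
  letI := Fintype.ofFinite (P : Subgroup G)
  have hzC : ∀ g, g * z * g⁻¹ * z⁻¹ = 1 := by
    intro g
    have : g * z * g⁻¹ * z⁻¹ ∈ K := by
      rw [hKmem]
      intro θ hθ
      obtain ⟨m, ρ, hρirr, hρ⟩ := θ.2
      have hres : Cfsg.IsIrrCharacter (P : Subgroup G) (fun x : (P : Subgroup G) => ρ.character x) :=
        hρ ▸ hirr θ hθ
      have hs := sum_smul_rep_eq_scalar_of_res ρ (P : Subgroup G) hres
        (f := fun y => if y = z then 1 else 0) (fun x y => by
          have hxz : (x : G) * z * (x : G)⁻¹ = z := mul_inv_eq_iff_eq_mul.2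
            (congrArg Subtype.val (Subgroup.mem_center_iff.1 hzc x))
          refine if_congr ⟨fun h => ?_, fun h => by rw [h, hxz]⟩ rfl rfl
          rw [← hxz] at h
          exact mul_left_cancel (mul_right_cancel h))
      simp only [ite_smul, one_smul, zero_smul, Finset.sum_ite_eq', Finset.mem_univ, if_true] at hs
      obtain ⟨c, hc⟩ : ∃ c : ℂ, ρ z = c • LinearMap.id := ⟨_, hs⟩
      have hconj : ρ (g * z * g⁻¹ * z⁻¹) = 1 := by
        have h1 : ρ (g * z * g⁻¹) = ρ z := by
          rw [map_mul, map_mul, hc, ← Module.End.one_eq_id, mul_smul_comm, mul_one, smul_mul_assoc,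
            ← map_mul, mul_inv_cancel, map_one]
        rw [map_mul, h1, ← map_mul, mul_inv_cancel, map_one]
      rw [← hρ]
      show LinearMap.trace ℂ _ (ρ _) = LinearMap.trace ℂ _ (ρ 1)
      rw [hconj, map_one ρ]
    rwa [hK, Subgroup.mem_bot] at this
  have hzG : z ∈ Subgroup.center G := Subgroup.mem_center_iff.2 fun g => by
    have := hzC g
    rw [mul_inv_eq_one, mul_inv_eq_iff_eq_mul] at this
    exact this
  set Z := Subgroup.zpowers z with hZ
  have hZc : Z ≤ Subgroup.center G := Subgroup.zpowers_le.2 hzG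
  have hZn : Z.Normal := ⟨fun x hx g => by
    rw [Subgroup.mem_center_iff.1 (hZc hx) g, mul_inv_cancel_right]; exact hx⟩
  have hZcard : Nat.card Z = p := by rw [hZ, Nat.card_zpowers, hz]
  have hlt : Nat.card (G ⧸ Z) < n := by
    rw [← hn, ← Z.index_mul_card, hZcard]
    exact lt_mul_of_one_lt_right (Nat.pos_of_ne_zero Subgroup.index_ne_zero_of_finite) hp.one_lt
  let P' : Sylow p (G ⧸ Z) := P.mapSurjective (QuotientGroup.mk'_surjective Z)
  let π : (P : Subgroup G) →* (P' : Subgroup (G ⧸ Z)) :=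
    ((QuotientGroup.mk' Z).comp (P : Subgroup G).subtype).codRestrict _ fun x =>
      Subgroup.mem_map_of_mem _ x.2
  obtain ⟨R, hRn, hR, k, hk⟩ := ih _ hlt (G ⧸ Z) rfl P' fun η hη => by
    have h := hirr (inflIrr Z η) (inflIrr_mem_principal hM Z hη)
    exact MGroupEmbed.isIrr_of_comp π (Char.isCharacter_res _ (Char.IsIrr.isCharacter η.2)) h
  set R' := R.comap (QuotientGroup.mk' Z) with hR'
  have hcardR' : Nat.card R' = p * Nat.card R := by
    have h1 := R'.card_mul_index
    rw [hR', Subgroup.index_comap_of_surjective _ (QuotientGroup.mk'_surjective Z),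
      ← Z.index_mul_card, show Z.index = Nat.card (G ⧸ Z) from rfl, ← R.card_mul_index, hZcard,
      mul_assoc, mul_comm R.index, ← mul_assoc, mul_comm (Nat.card R)] at h1
    exact Nat.eq_of_mul_eq_mul_right (Nat.pos_of_ne_zero Subgroup.index_ne_zero_of_finite) h1
  have hZR : Z ≤ R' := fun x hx => by
    show (x : G ⧸ Z) ∈ R
    rw [(QuotientGroup.eq_one_iff x).2 hx]; exact one_mem R
  have hcardZ : Nat.card (Z.subgroupOf R') = p := by
    rw [Nat.card_congr (Subgroup.subgroupOfEquivOfLe hZR).toEquiv, hZcard]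
  have hidx : (Z.subgroupOf R').index = Nat.card R := by
    have h1 := (Z.subgroupOf R').card_mul_index
    rw [hcardZ, hcardR'] at h1
    exact Nat.eq_of_mul_eq_mul_left hp.pos h1
  obtain ⟨Q, hQ⟩ := Subgroup.exists_right_complement'_of_coprime (N := Z.subgroupOf R')
    (by rw [hcardZ, hidx]; exact hp.coprime_iff_not_dvd.2 hR)
  have hQcard : Nat.card Q = Nat.card R := by rw [← hQ.symm.index_eq_card, hidx]
  set Q' := Q.map R'.subtype with hQ'
  have htor : ∀ x, x ∈ Q' ↔ x ∈ R' ∧ x ^ Nat.card R = 1 := by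
    intro x
    constructor
    · rintro ⟨q, hq, rfl⟩
      refine ⟨q.2, ?_⟩
      have : (⟨q, hq⟩ : Q) ^ Nat.card R = 1 := by rw [← hQcard]; exact pow_card_eq_one'
      exact congrArg (fun w : Q => (((w : R') : G))) this
    · rintro ⟨hx, hxm⟩
      obtain ⟨⟨a, q⟩, haq⟩ := hQ.2 ⟨x, hx⟩
      have hq1 : ((q : R') : G) ^ Nat.card R = 1 := by
        have : q ^ Nat.card R = 1 := by rw [← hQcard]; exact pow_card_eq_one'
        exact congrArg (fun w : Q => (((w : R') : G))) this
      have haz : ((a : R') : G) ∈ Z := Subgroup.mem_subgroupOf.1 a.2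
      have hcomm : Commute ((a : R') : G) ((q : R') : G) :=
        (Subgroup.mem_center_iff.1 (hZc haz) _).symm
      have hxe : x = ((a : R') : G) * ((q : R') : G) := (congrArg Subtype.val haq).symm
      rw [hxe, hcomm.mul_pow, hq1, mul_one] at hxm
      have ha : ((a : R') : G) ^ p = 1 := by
        rw [← hZcard]
        exact congrArg Subtype.val (pow_card_eq_one' (x := (⟨_, haz⟩ : Z)))
      have ha1 : ((a : R') : G) = 1 := by
        have h1 := pow_gcd_eq_one.2 ⟨ha, hxm⟩
        rwa [(hp.coprime_iff_not_dvd.2 hR).gcd_eq_one, pow_one] at h1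
      exact ⟨q, q.2, by rw [hxe, ha1, one_mul]; rfl⟩
  have hQ'c : Nat.card Q' = Nat.card R := by
    rw [hQ', Subgroup.card_map_of_injective R'.subtype_injective, hQcard]
  refine ⟨Q', normal_of_torsion R' Q' _ htor, hQ'c ▸ hR, k + 1, ?_⟩
  have h1 := Q'.card_mul_index
  rw [← R'.card_mul_index, hQ'c, hcardR', hR',
    Subgroup.index_comap_of_surjective _ (QuotientGroup.mk'_surjective Z), hk] at h1
  refine Nat.eq_of_mul_eq_mul_left (Nat.card_pos (α := R)) ?_
  rw [h1, pow_succ]; ring

/-- An irreducible character with a fixed vector on a normal subgroup is trivial there. -/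
theorem eq_degree_of_classInner_one {G : Type u} [Group G] [Fintype G] {χ : G → ℂ}
    (hχ : Cfsg.IsIrrCharacter G χ) (N : Subgroup G) [N.Normal] [Fintype N]
    (h : Cfsg.classInner (fun n : N => χ n) (fun _ => 1) ≠ 0) {x : G} (hx : x ∈ N) :
    χ x = χ 1 := by
  classical
  have hc := Char.clifford hχ Char.isIrrCharacter_one h
  have hval : ∀ n : N, χ n =
      Cfsg.classInner (fun n : N => χ n) (fun _ => 1) * ∑ _ψ ∈ Char.orbit (G := G) (fun _ : N => (1 : ℂ)), (1 : ℂ) := by
    intro n
    have := congrFun hc n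
    simp only [Pi.smul_apply, Finset.sum_apply, smul_eq_mul] at this
    rw [this]
    congr 1
    refine Finset.sum_congr rfl fun ψ hψ => ?_
    obtain ⟨g, rfl⟩ := Char.mem_orbit.1 hψ
    rfl
  have h1 := hval ⟨x, hx⟩
  have h2 := hval 1
  simp only [OneMemClass.coe_one] at h2
  exact h1.trans h2.symm

variable {G : Type u} [Group G] [Fintype G] {p : ℕ} [Fact p.Prime] {M : Ideal Cfsg.AlgInt}

theorem pLengthLE_one_of_irr_res (hM : Cfsg.IsPModular p M) (P : Sylow p G)
    (h : ∀ χ ∈ Cfsg.principalBlock M G,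
      Cfsg.IsIrrCharacter ↥(Subgroup.normalizer ((P : Subgroup G) : Set G))
        (fun n : ↥(Subgroup.normalizer ((P : Subgroup G) : Set G)) => (χ : G → ℂ) n)) :
    Cfsg.PLengthLE p 1 G := by
  classical
  have hp : p.Prime := Fact.out
  set L := Subgroup.normalClosure ((P : Subgroup G) : Set G) with hL
  have hPL : (P : Subgroup G) ≤ L := Subgroup.subset_normalClosure
  letI := Fintype.ofFinite L
  letI := Fintype.ofFinite (P : Subgroup G)
  set N := Subgroup.normalizer ((P : Subgroup G) : Set G) with hN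
  letI := Fintype.ofFinite N
  haveI hPn : ((P : Subgroup G).subgroupOf N).Normal :=
    (Subgroup.normal_subgroupOf_iff_le_normalizer Subgroup.le_normalizer).2 le_rfl
  letI := Fintype.ofFinite ((P : Subgroup G).subgroupOf N)
  -- a character of the block with a `P`-fixed vector is trivial on `L`
  have hfix : ∀ χ ∈ Cfsg.principalBlock M G,
      Cfsg.classInner (fun x : (P : Subgroup G) => (χ : G → ℂ) x) (fun _ => 1) ≠ 0 →
      ∀ y ∈ L, (χ : G → ℂ) y = (χ : G → ℂ) 1 := by
    intro χ hχ h0
    have h1 : ∀ x ∈ (P : Subgroup G), (χ : G → ℂ) x = (χ : G → ℂ) 1 := by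
      intro x hx
      refine eq_degree_of_classInner_one (h χ hχ) ((P : Subgroup G).subgroupOf N) ?_
        (x := ⟨x, Subgroup.le_normalizer hx⟩) hx
      intro h2
      refine h0 ?_
      rw [← h2]
      simp only [Cfsg.classInner]
      rw [Nat.card_congr (Subgroup.subgroupOfEquivOfLe (Subgroup.le_normalizer (H := (P : Subgroup G)))).toEquiv]
      congr 1
      exact (Fintype.sum_equiv (Subgroup.subgroupOfEquivOfLe
        (Subgroup.le_normalizer (H := (P : Subgroup G)))).toEquiv _ _ fun _ => rfl).symm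
    intro y hy
    have : L ≤ Char.kerSubgroup (Char.IsIrr.isCharacter χ.2) := by
      haveI : (Char.kerSubgroup (Char.IsIrr.isCharacter χ.2)).Normal :=
        Char.kerSubgroup_normal _
      exact Subgroup.normalClosure_le_normal fun x hx => h1 x hx
    exact this hy
  have hBL := isPBlock_principalBlock (G := L) M
  -- the multiplicities of the trivial character
  let PL : Sylow p L := P.subtype hPL
  letI := Fintype.ofFinite (PL : Subgroup L)
  choose mu hmu using fun (θ : Cfsg.IrrCharacter L) (ψ : Cfsg.IrrCharacter (PL : Subgroup L)) =>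
    Char.classInner_isCharacter_eq_natCast
      (Char.isCharacter_res (PL : Subgroup L) (Char.IsIrr.isCharacter θ.2)) (Char.IsIrr.isCharacter ψ.2)
  have hm0 : ∀ θ ∈ Cfsg.principalBlock M L, θ ≠ triv L → mu θ (triv _) = 0 := by
    intro θ hθ hne
    have hcov : ∃ χ ∈ Cfsg.principalBlock M G, ∃ θ ∈ Cfsg.principalBlock M L,
        Cfsg.classInner (fun n : L => (χ : G → ℂ) n) (θ : L → ℂ) ≠ 0 :=
      ⟨triv G, triv_mem_principalBlock hM, triv L, triv_mem_principalBlock hM, by
        show Cfsg.classInner (fun _ : L => (1 : ℂ)) (fun _ => 1) ≠ 0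
        rw [Char.classInner_irr_self Char.isIrrCharacter_one]; exact one_ne_zero⟩
    obtain ⟨χ, hχ, hover⟩ := exists_over_of_covering hM hBL (isPBlock_principalBlock M) hcov hθ
    obtain ⟨c, hc, hexp, -⟩ := Char.IsChar.exists_mult
      (Char.isCharacter_res L (Char.IsIrr.isCharacter χ.2))
    by_contra hmne
    have hP1 : Cfsg.classInner (fun x : (P : Subgroup G) => (χ : G → ℂ) x) (fun _ => 1) =
        ((∑ ψ, c ψ * mu ψ (triv _) : ℕ) : ℂ) := by
      have e : Cfsg.classInner (fun x : (P : Subgroup G) => (χ : G → ℂ) x) (fun _ => 1) =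
          Cfsg.classInner (fun x : (PL : Subgroup L) => (χ : G → ℂ) ((x : L) : G)) (fun _ => 1) := by
        simp only [Cfsg.classInner]
        rw [Nat.card_congr (Subgroup.subgroupOfEquivOfLe hPL).toEquiv.symm]
        congr 1
        refine Finset.sum_bij'
          (fun x _ => (⟨⟨(x : G), hPL x.2⟩, x.2⟩ : (PL : Subgroup L)))
          (fun x _ => (⟨((x : L) : G), x.2⟩ : (P : Subgroup G))) ?_ ?_ ?_ ?_ ?_
        all_goals first
          | (intro x _; exact Finset.mem_univ _)
          | (intro x _; rfl)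
      rw [e, show (fun x : (PL : Subgroup L) => (χ : G → ℂ) ((x : L) : G)) =
        fun x : (PL : Subgroup L) => ∑ ψ : Cfsg.IrrCharacter L, (c ψ : ℂ) * (ψ : L → ℂ) (x : L) from funext fun x => by
          simpa [Finset.sum_apply] using congrFun hexp (x : L)]
      push_cast
      simp only [← hmu, Cfsg.classInner, Finset.mul_sum, Finset.sum_mul]
      rw [Finset.sum_comm]
      exact Finset.sum_congr rfl fun x _ => Finset.sum_congr rfl fun ψ _ => by
        simp [triv]; ring
    have hcθ : c θ ≠ 0 := fun h0 => hover (by rw [hc θ, h0, Nat.cast_zero])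
    have hP2 : Cfsg.classInner (fun x : (P : Subgroup G) => (χ : G → ℂ) x) (fun _ => 1) ≠ 0 := by
      rw [hP1, Nat.cast_ne_zero]
      intro h0
      rw [Finset.sum_eq_zero_iff] at h0
      exact (mul_ne_zero hcθ hmne) (h0 θ (Finset.mem_univ _))
    -- `χ` is trivial on `L`
    have hres : (fun n : L => (χ : G → ℂ) n) = fun _ => (χ : G → ℂ) 1 :=
      funext fun n => hfix χ hχ hP2 n n.2
    apply hover
    rw [hres, show (fun _ : L => (χ : G → ℂ) 1) = (χ : G → ℂ) 1 • (fun _ : L => (1 : ℂ)) by
      funext; simp, Char.classInner_smul_left,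
      Char.classInner_irr_ne Char.isIrrCharacter_one θ.2 (fun e => hne (Subtype.ext e.symm)),
      mul_zero]
  -- the weighted restriction to `P` is the regular character
  obtain ⟨dim, hdim⟩ : ∃ dim : ℕ, dim = ∑ θ : Cfsg.IrrCharacter L,
      if θ ∈ Cfsg.principalBlock M L then Cfsg.charDegree (θ : L → ℂ) ^ 2 else 0 := ⟨_, rfl⟩
  have hweight : ∀ ψ : Cfsg.IrrCharacter (PL : Subgroup L),
      (Nat.card (PL : Subgroup L) : ℂ) * ((∑ θ : Cfsg.IrrCharacter L,
        if θ ∈ Cfsg.principalBlock M L then Cfsg.charDegree (θ : L → ℂ) * mu θ ψ else 0 : ℕ) : ℂ) =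
      (dim : ℂ) * Cfsg.charDegree (ψ : ↥(PL : Subgroup L) → ℂ) := by
    intro ψ
    have hT : ∀ x : (PL : Subgroup L), (∑ θ : Cfsg.IrrCharacter L,
        if θ ∈ Cfsg.principalBlock M L then (θ : L → ℂ) 1 * (θ : L → ℂ) x else 0) =
        if x = 1 then (dim : ℂ) else 0 := by
      intro x
      split_ifs with hx
      · rw [hx, hdim]
        push_cast
        refine Finset.sum_congr rfl fun θ _ => ?_
        split_ifs
        · rw [(CharArith.irr_degree_spec θ).1, sq]
        · rfl
      · refine sum_block_degree_mul_eq_zero hM hBL fun hreg => hx ?_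
        obtain ⟨j, hj⟩ := IsPGroup.iff_orderOf.1 PL.2 x
        rw [← Subgroup.orderOf_coe] at hj
        rw [Cfsg.IsPRegular, hj] at hreg
        rw [← Subtype.coe_inj, OneMemClass.coe_one, ← orderOf_eq_one_iff, hj]
        rcases j with _ | j
        · exact pow_zero p
        · exact absurd hreg (by
            simp [Nat.coprime_pow_left_iff, hp.ne_one])
    push_cast
    simp only [← hmu, Cfsg.classInner]
    calc (Nat.card (PL : Subgroup L) : ℂ) * ∑ θ : Cfsg.IrrCharacter L,
          (if θ ∈ Cfsg.principalBlock M L then (Cfsg.charDegree (θ : L → ℂ) : ℂ) *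
            ((Nat.card (PL : Subgroup L) : ℂ)⁻¹ * ∑ x : (PL : Subgroup L),
              (θ : L → ℂ) x * conj ((ψ : ↥(PL : Subgroup L) → ℂ) x)) else 0)
        = ∑ x : (PL : Subgroup L), (∑ θ : Cfsg.IrrCharacter L,
            if θ ∈ Cfsg.principalBlock M L then (θ : L → ℂ) 1 * (θ : L → ℂ) x else 0) *
              conj ((ψ : ↥(PL : Subgroup L) → ℂ) x) := by
          simp only [Finset.mul_sum, Finset.sum_mul]
          rw [Finset.sum_comm]
          refine Finset.sum_congr rfl fun θ _ => ?_
          split_ifs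
          · simp only [Finset.mul_sum]
            refine Finset.sum_congr rfl fun x _ => ?_
            have hne : (Nat.card (PL : Subgroup L) : ℂ) ≠ 0 := Nat.cast_ne_zero.2 Nat.card_pos.ne'
            rw [(CharArith.irr_degree_spec θ).1]
            field_simp
          · simp
      _ = _ := by
        simp only [hT, ite_mul, zero_mul, Finset.sum_ite_eq', Finset.mem_univ, if_true]
        rw [(CharArith.irr_degree_spec ψ).1, Complex.conj_natCast]
  have hdimP : dim = Nat.card (PL : Subgroup L) := by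
    have h1 := hweight (triv _)
    have e : (∑ θ : Cfsg.IrrCharacter L, if θ ∈ Cfsg.principalBlock M L then
        Cfsg.charDegree (θ : L → ℂ) * mu θ (triv _) else 0) = 1 := by
      rw [Finset.sum_eq_single (triv L) (fun θ _ hθ => ?_) (by simp),
        if_pos (triv_mem_principalBlock hM)]
      · have h2 : ((mu (triv L) (triv _) : ℕ) : ℂ) = 1 := by
          rw [← hmu]; exact Char.classInner_irr_self Char.isIrrCharacter_one
        rw [Nat.cast_eq_one] at h2
        rw [h2, mul_one]
        have := (CharArith.irr_degree_spec (triv L)).1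
        rw [show (triv L : L → ℂ) 1 = 1 from rfl] at this
        exact_mod_cast this.symm
      · split_ifs with hb
        · rw [hm0 θ hb hθ, mul_zero]
        · rfl
    have hd1 : Cfsg.charDegree ((triv _ : Cfsg.IrrCharacter (PL : Subgroup L)) : ↥(PL : Subgroup L) → ℂ) = 1 := by
      have := (CharArith.irr_degree_spec (triv (PL : Subgroup L))).1
      rw [show (triv (PL : Subgroup L) : ↥(PL : Subgroup L) → ℂ) 1 = 1 from rfl] at this
      exact_mod_cast this.symm
    rw [e, hd1, Nat.cast_one, mul_one, mul_one] at h1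
    exact_mod_cast h1.symm
  have hirr : ∀ θ ∈ Cfsg.principalBlock M L, Cfsg.IsIrrCharacter (PL : Subgroup L)
      (fun x : (PL : Subgroup L) => (θ : L → ℂ) x) := by
    intro θ hθ
    have hc := Char.isCharacter_res (PL : Subgroup L) (Char.IsIrr.isCharacter θ.2)
    obtain ⟨ψ, hψ⟩ := Char.IsChar.exists_constituent hc
      (fun e => Char.IsIrr.one_ne_zero θ.2 (congrFun e 1 :))
    obtain ⟨d, hd⟩ := Char.IsChar.degree (Char.IsChar.sub_constituent hc ψ.2 hψ)
    have hψw := hweight ψ
    rw [hdimP] at hψw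
    have hψw' := mul_left_cancel₀ (Nat.cast_ne_zero.2 Nat.card_pos.ne') hψw
    rw [Nat.cast_inj] at hψw'
    have h1 : Cfsg.charDegree (θ : L → ℂ) * mu θ ψ ≤ Cfsg.charDegree (ψ : ↥(PL : Subgroup L) → ℂ) := by
      rw [← hψw']
      refine le_trans (le_of_eq (if_pos hθ).symm) (Finset.single_le_sum (f := fun θ : Cfsg.IrrCharacter L =>
        if θ ∈ Cfsg.principalBlock M L then Cfsg.charDegree (θ : L → ℂ) * mu θ ψ else 0)
        (fun _ _ => Nat.zero_le _) (Finset.mem_univ θ))
    have hmu0 : 0 < mu θ ψ := Nat.pos_of_ne_zero fun h0 => hψ (by rw [hmu, h0, Nat.cast_zero])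
    have h2 : Cfsg.charDegree (θ : L → ℂ) ≤ Cfsg.charDegree (ψ : ↥(PL : Subgroup L) → ℂ) :=
      (Nat.le_mul_of_pos_right _ hmu0).trans h1
    simp only [Pi.sub_apply, OneMemClass.coe_one, (CharArith.irr_degree_spec θ).1,
      (CharArith.irr_degree_spec ψ).1] at hd
    have hd0 : d = 0 := by
      have : ((d + Cfsg.charDegree (ψ : ↥(PL : Subgroup L) → ℂ) : ℕ) : ℂ) = (Cfsg.charDegree (θ : L → ℂ) : ℂ) := by
        push_cast; linear_combination -hd
      rw [Nat.cast_inj] at this
      omega
    have heq : (fun x : (PL : Subgroup L) => (θ : L → ℂ) x) = (ψ : ↥(PL : Subgroup L) → ℂ) := by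
      funext x
      have h3 := Char.IsChar.norm_le (Char.IsChar.sub_constituent hc ψ.2 hψ) x
      have h4 : ((fun x : (PL : Subgroup L) => (θ : L → ℂ) x) - (ψ : ↥(PL : Subgroup L) → ℂ)) 1 = 0 := by
        simp only [Pi.sub_apply, OneMemClass.coe_one, (CharArith.irr_degree_spec θ).1,
          (CharArith.irr_degree_spec ψ).1]
        rw [hd, hd0, Nat.cast_zero]
      rw [h4] at h3
      simp only [Complex.zero_re, norm_le_zero_iff] at h3
      exact sub_eq_zero.1 h3
    rw [heq]
    exact ψ.2
  obtain ⟨R, hRn, hR, k, hk⟩ := exists_complement_of_irr_res hM _ L rfl PL hirr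
  have htor : ∀ x, x ∈ R.map L.subtype ↔ x ∈ L ∧ x ^ Nat.card R = 1 := by
    intro x
    constructor
    · rintro ⟨r, hr, rfl⟩
      refine ⟨r.2, ?_⟩
      exact congrArg (fun w : R => (((w : L) : G))) (pow_card_eq_one' (x := (⟨r, hr⟩ : R)))
    · rintro ⟨hx, hxm⟩
      have h1 : (⟨x, hx⟩ : L) ^ Nat.card R ∈ R := by
        rw [show (⟨x, hx⟩ : L) ^ Nat.card R = 1 from Subtype.ext hxm]; exact one_mem R
      have h2 : (⟨x, hx⟩ : L) ^ R.index ∈ R := R.pow_index_mem _
      have h3 : (⟨x, hx⟩ : L) ∈ R := by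
        have hco : Nat.Coprime (Nat.card R) R.index := by
          rw [hk]; exact ((hp.coprime_iff_not_dvd.2 hR).symm).pow_right k
        have hu : (QuotientGroup.mk' R ⟨x, hx⟩) = 1 := (by
          refine orderOf_eq_one_iff.1 (Nat.dvd_one.1 ?_)
          rw [← hco.gcd_eq_one]
          exact Nat.dvd_gcd
            (orderOf_dvd_of_pow_eq_one (by rw [← map_pow]; exact (QuotientGroup.eq_one_iff _).2 h1))
            (orderOf_dvd_of_pow_eq_one (by rw [← map_pow]; exact (QuotientGroup.eq_one_iff _).2 h2)))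
        exact (QuotientGroup.eq_one_iff _).1 hu
      exact ⟨⟨x, hx⟩, h3, rfl⟩
  haveI := normal_of_torsion L (R.map L.subtype) _ htor
  refine OddLocal.pLengthLE_one_of_series (A := R.map L.subtype) (B := L) ?_ (fun x hx => ?_)
    fun hd => P.not_dvd_index (hd.trans (Subgroup.index_dvd_of_le hPL))
  · rw [Subgroup.card_map_of_injective L.subtype_injective]
    exact (hp.coprime_iff_not_dvd.2 hR).symm
  · refine ⟨k, ⟨(⟨x, hx⟩ : L) ^ p ^ k, ?_, rfl⟩⟩
    rw [← hk]
    exact R.pow_index_mem _

theorem irr_res_of_pLengthLE_one (hM : Cfsg.IsPModular p M) (P : Sylow p G)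
    (h : Cfsg.PLengthLE p 1 G) (χ : Cfsg.IrrCharacter G) (hχ : χ ∈ Cfsg.principalBlock M G) :
    Cfsg.IsIrrCharacter ↥(Subgroup.normalizer ((P : Subgroup G) : Set G))
      (fun n : ↥(Subgroup.normalizer ((P : Subgroup G) : Set G)) => (χ : G → ℂ) n) := by
  classical
  have hp : p.Prime := Fact.out
  set O := Cfsg.pPrimeCore p G with hO
  have hB : (O ⊔ (P : Subgroup G)).Normal := OddLocal.normal_pPrimeCore_sup h P
  -- `G` is `p`-solvable
  have hOc : Nat.Coprime (Nat.card O) p := Core.coprime_card_pPrimeCore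
  have hsol : Cfsg.IsPSolvable p G := by
    refine ⟨3, ![⊥, O, O ⊔ (P : Subgroup G), ⊤], rfl, rfl, Fin.monotone_iff_le_succ.2 ?_, ?_, ?_⟩
    · intro i; fin_cases i
      · exact bot_le
      · exact le_sup_left
      · exact le_top
    · intro i; fin_cases i
      · exact inferInstanceAs (⊥ : Subgroup G).Normal
      · exact inferInstanceAs (Cfsg.pPrimeCore p G).Normal
      · exact hB
      · exact inferInstanceAs (⊤ : Subgroup G).Normal
    · intro i; fin_cases i
      · exact Or.inr (by simpa using hOc)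
      · refine Or.inl ?_
        obtain ⟨n, hn⟩ := IsPGroup.iff_card.1 P.2
        have h1 : O.relIndex (O ⊔ (P : Subgroup G)) ∣ p ^ n := by
          rw [← hn, sup_comm, Subgroup.relIndex_sup_right]
          exact Subgroup.relIndex_dvd_card _ _
        obtain ⟨m, -, hm⟩ := (Nat.dvd_prime_pow hp).1 h1
        exact ⟨m, hm⟩
      · refine Or.inr (Nat.Coprime.symm (hp.coprime_iff_not_dvd.2 fun hd => ?_))
        change p ∣ (O ⊔ (P : Subgroup G)).relIndex ⊤ at hd
        rw [Subgroup.relIndex_top_right] at hd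
        exact P.not_dvd_index (hd.trans (Subgroup.index_dvd_of_le le_sup_right))
  have hker := (mem_principalBlock_iff_of_isPSolvable hM hsol χ).1 hχ
  have hsup : O ⊔ Subgroup.normalizer ((P : Subgroup G) : Set G) = ⊤ := by
    haveI := hB
    have hf := (P.subtype (le_sup_right : (P : Subgroup G) ≤ O ⊔ (P : Subgroup G))).normalizer_sup_eq_top
    rw [show ((P.subtype (le_sup_right : (P : Subgroup G) ≤ O ⊔ (P : Subgroup G))) :
        Subgroup ↥(O ⊔ (P : Subgroup G))).map (O ⊔ (P : Subgroup G)).subtype = (P : Subgroup G) from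
      Subgroup.map_subgroupOf_eq_of_le le_sup_right] at hf
    refine eq_top_iff.2 (hf.ge.trans (sup_le le_sup_right (sup_le le_sup_left ?_)))
    exact Subgroup.le_normalizer.trans le_sup_right
  exact Char.isIrr_res_of_sup_eq_top χ.2 hker hsup

end Cfsg.Agent.BlockChar
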