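import Cfsg.Agent.BlockThms.Fong
import Cfsg.Agent.BlockThms.Normal
import Cfsg.Agent.BrauerPairs.Basic

/-!
# A stable block of a normal subgroup of p-power index
-/

namespace Cfsg.Agent.BlockChar

open Cfsg.Agent Cfsg.Agent.Blocks

universe u

variable {G : Type u} [Group G] {p : ℕ} {M : Ideal Cfsg.AlgInt} {N : Subgroup G} [hN : N.Normal]

theorem mem_conjFun_of_stabilizes [Fintype G] [Fintype N] {c : Set (Cfsg.IrrCharacter N)}
    (hst : ∀ x : G, Cfsg.StabilizesBlock N c x) (g : G) (θ : Cfsg.IrrCharacter N) (hθ : θ ∈ c) :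
    (⟨_, Char.isIrr_conjFun g θ.2⟩ : Cfsg.IrrCharacter N) ∈ c := by
  obtain ⟨θ', hθ', hconj⟩ := (hst g⁻¹).2 θ hθ
  convert hθ'
  refine (funext fun n => ?_ : Char.conjFun g (θ : N → ℂ) = (θ' : N → ℂ))
  rw [Char.conjFun_eq_comp]
  refine (hconj (MulAut.conjNormal g n) n ?_).symm
  simp [MulAut.conjNormal_apply, mul_assoc]

theorem stable_block_pIndex [Fintype G] [Fintype N] [Fact p.Prime] (hM : Cfsg.IsPModular p M)
    (hidx : ∃ k : ℕ, N.index = p ^ k) {c : Set (Cfsg.IrrCharacter N)} (hc : Cfsg.IsPBlock M c)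
    (hst : ∀ x : G, Cfsg.StabilizesBlock N c x) :
    (∃ B : Set (Cfsg.IrrCharacter G), Cfsg.IsPBlock M B ∧
      ∀ g : G, Cfsg.blockCoeff B g = Cfsg.subgroupBlockCoeff N c g) ∧
    ∀ B : Set (Cfsg.IrrCharacter G), Cfsg.IsPBlock M B →
      (∀ g : G, Cfsg.blockCoeff B g = Cfsg.subgroupBlockCoeff N c g) →
      ∀ P : Subgroup G, Cfsg.IsDefectGroup p M B P →
        N ⊔ P = ⊤ ∧ Cfsg.IsDefectGroup p M c ((P ⊓ N).subgroupOf N) := by
  classical
  have hinv := mem_conjFun_of_stabilizes hst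
  obtain ⟨B, ⟨hB, χ₁, hχ₁, θ₁, hθ₁, hc₁⟩, huniq⟩ := BlockThms.existsUnique_covering hM hidx hc
  set eb := Cfsg.blockCoeff c with heb
  have hcoeff : ∀ g : G, Cfsg.blockCoeff B g = Cfsg.subgroupBlockCoeff N c g := by
    have hinv' : ∀ (g : G) (θ : Cfsg.IrrCharacter N),
        (⟨_, Char.isIrr_conjFun g θ.2⟩ : Cfsg.IrrCharacter N) ∈ c ↔ θ ∈ c := by
      intro g θ
      refine ⟨fun h => ?_, hinv g θ⟩
      have := hinv g⁻¹ _ h
      simp only [Char.conjFun_inv_cancel] at this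
      exact this
    have hebi : ∀ g : G, Char.conjFun g eb = eb := fun g => by
      refine classFun_ext_omega (fun x k => ?_) (isClassFunction_blockCoeff c) fun θ => ?_
      · simp only [Char.conjFun_eq_comp, map_mul, map_inv, heb,
          isClassFunction_blockCoeff c _ _]
      · have h := BlockThms.omega_conjFun (N := N) g⁻¹ (θ : N → ℂ) eb
        rw [inv_inv] at h
        rw [← h, heb, omega_blockCoeff c θ,
          omega_blockCoeff c (⟨_, Char.isIrr_conjFun g⁻¹ θ.2⟩ : Cfsg.IrrCharacter N)]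
        simp only [hinv' g⁻¹ θ]
    have hec := BlockThms.isClassFunction_extend hebi
    have he : Cfsg.extendByZero N eb = Cfsg.blockCoeff B := by
      refine eq_blockCoeff hec B fun ψ => ?_
      obtain ⟨θ, hθ⟩ := Char.exists_constituent_res (N := N) ψ.2
      rw [BlockThms.omega_res_eq ψ.2 θ.2 hθ hec fun g hg => Char.extendByZero_of_not_mem N _ hg,
        show (fun n : N => Cfsg.extendByZero N eb (n : G)) = eb from
          funext fun n => Char.extendByZero_coe N _ n, heb, omega_blockCoeff c θ]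
      refine if_congr ⟨fun h => ?_, fun h => ?_⟩ rfl rfl
      · have := huniq _ ⟨isPBlock_blockOf ψ, ψ, mem_blockOf_self hM ψ, θ, h, hθ⟩
        rw [← this]
        exact mem_blockOf_self hM ψ
      · obtain ⟨g, hg⟩ := BlockThms.exists_conj_sameBlock hM
          (IsPBlock.sameBlock hM hB hχ₁ h) hc₁ hθ
        exact IsPBlock.mem_of_sameBlock hM hc (hinv g θ₁ hθ₁)
          (χ := ⟨_, Char.isIrr_conjFun g θ₁.2⟩) hg
    intro g
    rw [← he, Cfsg.subgroupBlockCoeff]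
    by_cases hg : g ∈ N
    · rw [dif_pos hg]; exact Char.extendByZero_coe N _ ⟨g, hg⟩
    · rw [dif_neg hg, Char.extendByZero_of_not_mem N _ hg]
  refine ⟨⟨B, hB, hcoeff⟩, fun B' hB' hB'c P hP => ?_⟩
  obtain rfl : B' = B := BrauerPairs.blockCoeff_injective
    (funext fun g => (hB'c g).trans (hcoeff g).symm)
  obtain ⟨h1, h2, -⟩ := DefectThms.fong hM hc hinv hB' ⟨χ₁, hχ₁, θ₁, hθ₁, hc₁⟩
    (fun B'' hB'' hcov => by rw [huniq B'' ⟨hB'', hcov⟩]) hP
  refine ⟨?_, h2⟩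
  rw [sup_comm, ← Subgroup.index_eq_one]
  obtain ⟨k, hk⟩ := hidx
  obtain ⟨j, -, hj⟩ := (Nat.dvd_prime_pow hM.1).1
    (hk ▸ Subgroup.index_dvd_of_le (le_sup_right : N ≤ P ⊔ N))
  rcases Nat.eq_zero_or_pos j with h | h
  · rw [hj, h, pow_zero]
  · exact absurd (hj ▸ dvd_pow_self p h.ne') h1

end Cfsg.Agent.BlockChar
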