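import Cfsg.Agent.BlockChar.CyclicResidual
import Cfsg.Agent.BlockChar.ExtendPrincipal
import Cfsg.Agent.Char.Zero
import Mathlib.GroupTheory.IndexNormal

/-!
An invariant `p`-rational character of `p'`-degree in the principal block extends to a `p`-rational
character in the principal block when the local index is a power of `p`
-/

namespace Cfsg.Agent.PRatExtend

open Cfsg.Agent Cfsg.Agent.Char Cfsg.Agent.Blocks
open scoped ComplexConjugate

universe u

variable {G : Type u} [Group G] [Finite G] {p : ℕ} {M : Ideal Cfsg.AlgInt}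

/-! ### fields of values -/

set_option maxHeartbeats 1000000 in
/-- A character value fixed by the powers congruent to one modulo the `p'`-part lies in the
cyclotomic field of that part. -/
theorem value_mem_adjoin (hp : p.Prime) {A m : ℕ} (hm : ¬ p ∣ m) (hcard : Nat.card G = p ^ A * m)
    {χ : G → ℂ} (hχ : Cfsg.IsCharacter G χ)
    (hfix : ∀ k : ℕ, k.Coprime (Nat.card G) → k ≡ 1 [MOD m] → ∀ g, χ (g ^ k) = χ g) (g : G) :
    χ g ∈ IntermediateField.adjoin ℚ ({Complex.exp (2 * Real.pi * Complex.I / m)} : Set ℂ) := by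
  classical
  haveI : NeZero (p ^ A) := ⟨pow_ne_zero A hp.ne_zero⟩
  have hm0 : m ≠ 0 := fun e => hm (by rw [e]; exact dvd_zero p)
  have hcop : Nat.Coprime (p ^ A) m := (hp.coprime_iff_not_dvd.2 hm).pow_left A
  obtain ⟨F, hF⟩ : ∃ F, IntermediateField.adjoin ℚ
      ({Complex.exp (2 * Real.pi * Complex.I / m)} : Set ℂ) = F := ⟨_, rfl⟩
  rw [hF]
  obtain ⟨n, ρ, hρ⟩ := hχ
  obtain ⟨μ, b, -, hμ, hχg⟩ := exists_eigenbasis ρ g
  rw [hρ] at hχg
  have hμN : ∀ i, μ i ^ Nat.card G = 1 := fun i => by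
    obtain ⟨c, hc⟩ := orderOf_dvd_natCard g
    rw [hc, pow_mul, hμ, one_pow]
  -- the exponents
  obtain ⟨k, hk⟩ : ∃ k : (ZMod (p ^ A))ˣ → ℕ,
      ∀ v, k v ≡ (v : ZMod (p ^ A)).val [MOD p ^ A] ∧ k v ≡ 1 [MOD m] :=
    ⟨fun v => (Nat.chineseRemainder hcop (v : ZMod (p ^ A)).val 1 : ℕ),
      fun v => (Nat.chineseRemainder hcop (v : ZMod (p ^ A)).val 1).2⟩
  have hk1 := fun v => (hk v).1
  have hk2 := fun v => (hk v).2
  have hkc : ∀ v, (k v).Coprime (Nat.card G) := fun v => by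
    rw [hcard]
    refine Nat.Coprime.mul_right ?_ ?_
    · rw [Nat.Coprime, (hk1 v).gcd_eq]; exact ZMod.val_coe_unit_coprime v
    · rw [Nat.Coprime, (hk2 v).gcd_eq, Nat.gcd_one_left]
  have hval : ∀ v, χ g = ∑ i, μ i ^ k v := fun v => by
    obtain ⟨σ, hσ⟩ := exists_galois (Nat.card G) (k v) Nat.card_pos.ne' (hkc v)
    have h1 := galois_apply_pow σ hσ (χ := χ) ⟨n, ρ, hρ⟩ (orderOf_dvd_natCard g)
    rw [hfix _ (hkc v) (hk2 v)] at h1
    rw [← h1, hχg, map_sum]
    exact Finset.sum_congr rfl fun i _ => hσ _ (hμN i)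
  -- splitting each root
  obtain ⟨e, he1, he2⟩ : ∃ e, e ≡ 1 [MOD p ^ A] ∧ e ≡ 0 [MOD m] :=
    ⟨_, (Nat.chineseRemainder hcop 1 0).2.1, (Nat.chineseRemainder hcop 1 0).2.2⟩
  obtain ⟨e', he'1, he'2⟩ : ∃ e, e ≡ 0 [MOD p ^ A] ∧ e ≡ 1 [MOD m] :=
    ⟨_, (Nat.chineseRemainder hcop 0 1).2.1, (Nat.chineseRemainder hcop 0 1).2.2⟩
  have hpowmod : ∀ {z : ℂ} {N a a' : ℕ}, z ^ N = 1 → a ≡ a' [MOD N] → z ^ a = z ^ a' :=
    fun {z N a a'} hz h => by rw [pow_eq_pow_mod a hz, h, ← pow_eq_pow_mod a' hz]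
  have hadd : ∀ i j, μ i ^ j = μ i ^ (e * j) * μ i ^ (e' * j) := fun i j => by
    rw [← pow_add, ← add_mul]
    refine hpowmod (hμN i) ?_
    rw [hcard]
    refine (Nat.modEq_and_modEq_iff_modEq_mul hcop).1 ⟨?_, ?_⟩
    · conv_lhs => rw [← one_mul j]
      exact (by simpa using (he1.add he'1).symm : 1 ≡ e + e' [MOD p ^ A]).mul_right j
    · conv_lhs => rw [← one_mul j]
      exact (by simpa using (he2.add he'2).symm : 1 ≡ e + e' [MOD m]).mul_right j
  have hsum : (Fintype.card (ZMod (p ^ A))ˣ : ℂ) * χ g =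
      ∑ i, μ i ^ e' * ∑ v : (ZMod (p ^ A))ˣ, (μ i ^ e) ^ (v : ZMod (p ^ A)).val := by
    rw [← nsmul_eq_mul, ← Finset.card_univ, ← Finset.sum_const,
      Finset.sum_congr rfl (fun v _ => hval v), Finset.sum_comm]
    refine Finset.sum_congr rfl fun i _ => ?_
    rw [Finset.mul_sum]
    refine Finset.sum_congr rfl fun v _ => ?_
    rw [hadd, mul_comm]
    congr 1
    · refine hpowmod (hμN i) ?_
      rw [hcard]
      refine (Nat.modEq_and_modEq_iff_modEq_mul hcop).1 ⟨?_, ?_⟩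
      · calc e' * k v ≡ 0 * k v [MOD p ^ A] := he'1.mul_right _
          _ = 0 := zero_mul _
          _ ≡ e' [MOD p ^ A] := he'1.symm
      · simpa using (Nat.ModEq.refl e').mul (hk2 v)
    · rw [← pow_mul]
      refine hpowmod (hμN i) ?_
      rw [hcard]
      refine (Nat.modEq_and_modEq_iff_modEq_mul hcop).1 ⟨(hk1 v).mul_left e, ?_⟩
      exact (he2.mul_right _).trans (by simpa using (he2.mul_right _).symm)
  have hroot : ∀ i, μ i ^ e' ∈ F := fun i => by
    have h1 : (μ i ^ e') ^ m = 1 := by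
      obtain ⟨c, hc⟩ := (Nat.modEq_zero_iff_dvd).1 he'1
      rw [← pow_mul, hc, show p ^ A * c * m = Nat.card G * c by rw [hcard]; ring, pow_mul, hμN,
        one_pow]
    haveI : NeZero m := ⟨hm0⟩
    obtain ⟨j, -, hj⟩ := (Complex.isPrimitiveRoot_exp m hm0).eq_pow_of_pow_eq_one h1
    rw [← hj, ← hF]
    exact pow_mem (IntermediateField.subset_adjoin ℚ _ (Set.mem_singleton _)) j
  have hrat : ∀ i, ∑ v : (ZMod (p ^ A))ˣ, (μ i ^ e) ^ (v : ZMod (p ^ A)).val ∈ F := fun i => by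
    have ha : (μ i ^ e) ^ p ^ A = 1 := by
      obtain ⟨c, hc⟩ := (Nat.modEq_zero_iff_dvd).1 he2
      rw [← pow_mul, hc, show m * c * p ^ A = Nat.card G * c by rw [hcard]; ring, pow_mul, hμN,
        one_pow]
    obtain ⟨q, hq⟩ := exists_rat_of_fixed (pow_ne_zero A hp.ne_zero)
      (z := ∑ v : (ZMod (p ^ A))ˣ, (μ i ^ e) ^ (v : ZMod (p ^ A)).val)
      (sum_mem fun v _ => pow_mem (IntermediateField.subset_adjoin ℚ {z : ℂ | z ^ p ^ A = 1}
        (Set.mem_setOf_eq ▸ ha : μ i ^ e ∈ {z : ℂ | z ^ p ^ A = 1})) _) fun l σ hl hσ => by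
        rw [map_sum]
        refine Fintype.sum_equiv (Equiv.mulRight (ZMod.unitOfCoprime l hl)) _ _ fun v => ?_
        rw [hσ _ (by rw [← pow_mul, mul_comm, pow_mul, ha, one_pow]), Equiv.coe_mulRight,
          ← pow_mul, Units.val_mul, ZMod.coe_unitOfCoprime]
        refine hpowmod ha ?_
        rw [← ZMod.natCast_eq_natCast_iff, Nat.cast_mul, ZMod.natCast_zmod_val,
          ZMod.natCast_zmod_val]
    rw [hq]
    exact SubfieldClass.ratCast_mem F q
  have h2 : (Fintype.card (ZMod (p ^ A))ˣ : ℂ) * χ g ∈ F := by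
    rw [hsum]; exact sum_mem fun i _ => mul_mem (hroot i) (hrat i)
  have hne : (Fintype.card (ZMod (p ^ A))ˣ : ℂ) ≠ 0 := Nat.cast_ne_zero.2 Fintype.card_ne_zero
  have h3 := mul_mem (inv_mem (natCast_mem F (Fintype.card (ZMod (p ^ A))ˣ))) h2
  rwa [inv_mul_cancel_left₀ hne] at h3

/-! ### the principal block -/

theorem centralChar_sub_index (hM : Cfsg.IsPModular p M) {ξ : Cfsg.IrrCharacter G}
    (hξ : ξ ∈ Cfsg.principalBlock M G) {c : G}
    (hc : ¬ p ∣ (Subgroup.centralizer ({c} : Set G)).index) :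
    Cfsg.MemLocalIdeal M ((ξ : G → ℂ) c / (ξ : G → ℂ) 1 - 1) := by
  have h := memLocalIdeal_neg (hξ c)
  replace h : Cfsg.MemLocalIdeal M (((Subgroup.centralizer ({c} : Set G)).index : ℂ) *
      ((ξ : G → ℂ) c / (ξ : G → ℂ) 1 - 1)) := by
    convert h using 1
    simp [Cfsg.centralChar]
    ring
  have h2 := memLocalIdeal_mul_left hM (memLocalRing_natCast_inv hM hc) h
  rwa [inv_mul_cancel_left₀ (Nat.cast_ne_zero.2 fun e => hc (by rw [e]; exact dvd_zero p))] at h2

theorem ne_zero_of_centralizing (hM : Cfsg.IsPModular p M) {ξ : Cfsg.IrrCharacter G}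
    (hξ : ξ ∈ Cfsg.principalBlock M G) {c : G}
    (hc : ¬ p ∣ (Subgroup.centralizer ({c} : Set G)).index) : (ξ : G → ℂ) c ≠ 0 := fun h0 => by
  have h := memLocalIdeal_neg (centralChar_sub_index hM hξ hc)
  rw [h0, zero_div, zero_sub, neg_neg, ← Nat.cast_one, memLocalIdeal_natCast_iff hM] at h
  exact hM.1.not_dvd_one h

theorem index_centralizer (N : Subgroup G) [N.Normal] (S : Subgroup N) (hp : p.Prime)
    (hNp : ¬ p ∣ N.index) (hS : ¬ p ∣ S.index) {c : G} (hc : ∀ s ∈ S, (s : G) * c = c * (s : G)) :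
    ¬ p ∣ (Subgroup.centralizer ({c} : Set G)).index := by
  intro h
  have hle : S.map N.subtype ≤ Subgroup.centralizer ({c} : Set G) := by
    rintro _ ⟨s, hs, rfl⟩
    rw [Subgroup.mem_centralizer_singleton_iff]
    exact hc s hs
  have h2 := h.trans (Subgroup.index_dvd_of_le hle)
  rw [Subgroup.index_map_subtype] at h2
  exact (hp.dvd_mul.1 h2).elim hS hNp

theorem sameBlock_twist (hM : Cfsg.IsPModular p M) {χ ψ : G → ℂ} (h : Cfsg.SameBlock M χ ψ)
    (f : G →* ℂˣ) :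
    Cfsg.SameBlock M (fun g => χ g * (f g : ℂ)) (fun g => ψ g * (f g : ℂ)) := fun g => by
  have hz : Cfsg.MemLocalRing M (f g : ℂ) :=
    memLocalRing_of_isIntegral hM (isIntegral_of_pow_eq_one Nat.card_pos (n := Nat.card G) (by
      rw [← Units.val_pow_eq_pow_val, ← map_pow, pow_card_eq_one', map_one, Units.val_one]))
  convert memLocalIdeal_mul_left hM hz (h g) using 1
  simp only [Cfsg.centralChar, map_one, Units.val_one, mul_one]
  ring

theorem mul_hom_of_res (N : Subgroup G) [N.Normal] [Fintype G] [Fintype N] {θ : N → ℂ}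
    (hθ : Cfsg.IsIrrCharacter N θ) {χ ψ : Cfsg.IrrCharacter G}
    (hχ : ∀ n : N, (χ : G → ℂ) n = θ n) (hψ : ∀ n : N, (ψ : G → ℂ) n = θ n) :
    ∃ f : G →* ℂˣ, (∀ n ∈ N, f n = 1) ∧ ∀ g, (χ : G → ℂ) g = (ψ : G → ℂ) g * (f g : ℂ) := by
  have hres : Cfsg.IsIrrCharacter N (fun n : N => (ψ : G → ℂ) n) := by rw [funext hψ]; exact hθ
  obtain ⟨hβ, hβN, hβe⟩ := (gallagher N ψ.2 hres χ.2).1 (by
    rw [funext hψ, funext hχ, classInner_irr_self hθ]; exact one_ne_zero)
  have hβ1 : galEta N (ψ : G → ℂ) (χ : G → ℂ) 1 = 1 := by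
    have h1 : (χ : G → ℂ) 1 = galEta N (ψ : G → ℂ) (χ : G → ℂ) 1 * (ψ : G → ℂ) 1 :=
      congrFun hβe 1
    have h2 : (χ : G → ℂ) 1 = (ψ : G → ℂ) 1 := (hχ 1).trans (hψ 1).symm
    rw [h2] at h1
    exact (mul_eq_right₀ (IsIrr.one_ne_zero ψ.2)).1 h1.symm
  obtain ⟨f, hf⟩ := IsChar.exists_hom (IsIrr.isCharacter hβ) hβ1
  refine ⟨f, fun n hn => Units.ext ?_, fun g => ?_⟩
  · have h := hβN n hn
    rw [hf] at h
    simpa using h
  · rw [congrFun hβe g, Pi.mul_apply, hf, mul_comm]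

/-- Over a normal subgroup of `p`-power index a `p'`-degree character with restriction in the
principal block lies in the principal block. -/
theorem mem_principal_of_pQuot [Fact p.Prime] (hM : Cfsg.IsPModular p M) (N : Subgroup G)
    [N.Normal] {a : ℕ} (ha : N.index = p ^ a) (χ : Cfsg.IrrCharacter G)
    (hd : ¬ p ∣ Cfsg.charDegree (χ : G → ℂ)) (θ : Cfsg.IrrCharacter N)
    (hres : ∀ n : N, (χ : G → ℂ) n = (θ : N → ℂ) n) (hθ : θ ∈ Cfsg.principalBlock M N) :
    χ ∈ Cfsg.principalBlock M G := by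
  classical
  have hp : p.Prime := Fact.out
  letI := Fintype.ofFinite G
  letI := Fintype.ofFinite N
  letI := Fintype.ofFinite (⊤ : Subgroup G)
  have hout : ∀ y : G, y ∉ N → p ∣ orderOf y := fun y hy => by
    by_contra h
    have h1 : orderOf (y : G ⧸ N) ∣ p ^ a := by
      rw [← ha, Subgroup.index_eq_card]; exact orderOf_dvd_natCard _
    have h2 : orderOf (y : G ⧸ N) ∣ orderOf y := orderOf_map_dvd (QuotientGroup.mk' N) y
    have h3 := Nat.eq_one_of_dvd_coprimes ((hp.coprime_iff_not_dvd.2 h).pow_left a) h1 h2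
    exact hy ((QuotientGroup.eq_one_iff y).1 (orderOf_eq_one_iff.1 h3))
  have hdθ : ¬ p ∣ Cfsg.charDegree (θ : N → ℂ) := by
    rwa [DegreeComponents.charDegree_eq (θ := (θ : N → ℂ)) (d := Cfsg.charDegree (χ : G → ℂ)) (by
      rw [← hres, ← (CharArith.irr_degree_spec χ).1]; rfl)]
  obtain ⟨χ', hχ', hd', hc'⟩ := BlockChar.exists_over_extendible hM N ⊤ le_top
    (by rw [Subgroup.index_top]; exact hp.not_dvd_one) (fun y _ hy => hout y hy) θ hθ hdθ
    ⟨fun y => (χ : G → ℂ) y, (isIrrCharacter_comp_equiv Subgroup.topEquiv).2 χ.2⟩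
    (fun n => hres n)
  have hi := DegreeComponents.res_irr_of_coprime hp ha χ' hd'
  have he : (fun n : N => (χ' : G → ℂ) n) = (θ : N → ℂ) := by
    by_contra hne
    exact hc' (classInner_irr_ne hi θ.2 hne)
  obtain ⟨f, hfN, hf⟩ := mul_hom_of_res N θ.2 hres (fun n => congrFun he n)
  refine Blocks.IsPBlock.mem_of_sameBlock hM (isPBlock_principalBlock (G := G) M) hχ' ?_
  rw [show (χ : G → ℂ) = fun g => (χ' : G → ℂ) g * (f g : ℂ) from funext hf]
  exact CyclicResidual.sameBlock_mul_hom hM χ' f (a := a) fun g => by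
    rw [← Units.val_pow_eq_pow_val, ← ha, ← MonoidHom.pow_apply,
      ProjExt.hom_pow_index_eq_one N f (fun n => hfN n n.2), MonoidHom.one_apply, Units.val_one]

/-- Extensions in the principal block over an `r`-quotient. -/
theorem exists_principal_rGroup [Fact p.Prime] (hM : Cfsg.IsPModular p M) {r : ℕ} (hr : r.Prime)
    (hrp : r ≠ p) :
    ∀ (j : ℕ) (T : Type u) [Group T] [Finite T] (N : Subgroup T) [N.Normal], N.index = r ^ j →
      ∀ (S : Subgroup N), ¬ p ∣ S.index → ∀ C : Subgroup T,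
      (∀ s ∈ S, ∀ c ∈ C, (s : T) * c = c * (s : T)) → N ⊔ C = ⊤ →
      ∀ θ : Cfsg.IrrCharacter N, θ ∈ Cfsg.principalBlock M N →
      (∀ g : T, conjFun g (θ : N → ℂ) = (θ : N → ℂ)) →
      ∃ ξ : Cfsg.IrrCharacter T, ξ ∈ Cfsg.principalBlock M T ∧
        ∀ n : N, (ξ : T → ℂ) n = (θ : N → ℂ) n := by
  intro j
  induction j with
  | zero =>
    intro T _ _ N _ hidx S _ C _ _ θ hθ _
    rw [pow_zero, Subgroup.index_eq_one] at hidx
    exact ⟨_, BlockChar.comp_mem_principalBlock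
      ((MulEquiv.subgroupCongr hidx).trans Subgroup.topEquiv).symm hθ, fun n => rfl⟩
  | succ j ih =>
    intro T _ _ N _ hidx S hS C hC hcov θ hθ hinv
    classical
    have hp : p.Prime := Fact.out
    letI := Fintype.ofFinite T
    letI := Fintype.ofFinite N
    haveI : Fact r.Prime := ⟨hr⟩
    obtain ⟨M₀, hM₀⟩ := Sylow.exists_subgroup_card_pow_prime (G := T ⧸ N) r (n := j) (by
      rw [← Subgroup.index_eq_card, hidx]; exact pow_dvd_pow _ (Nat.le_succ j))
    have hM₀idx : M₀.index = r := by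
      have h := M₀.card_mul_index
      rw [hM₀, ← Subgroup.index_eq_card, hidx, pow_succ] at h
      exact Nat.eq_of_mul_eq_mul_left (pow_pos hr.pos j) h
    have hM₀n : M₀.Normal := Subgroup.normal_of_index_eq_minFac_card (by
      rw [hM₀idx, ← Subgroup.index_eq_card, hidx, Nat.pow_minFac (Nat.succ_ne_zero j),
        hr.minFac_eq])
    obtain ⟨L, hL⟩ : ∃ L : Subgroup T, M₀.comap (QuotientGroup.mk' N) = L := ⟨_, rfl⟩
    haveI hLn : L.Normal := hL ▸ hM₀n.comap _
    have hNL : N ≤ L := fun n hn => by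
      rw [← hL, Subgroup.mem_comap, QuotientGroup.mk'_apply, (QuotientGroup.eq_one_iff n).2 hn]
      exact M₀.one_mem
    have hLidx : L.index = r := by
      rw [← hL, Subgroup.index_comap_of_surjective _ (QuotientGroup.mk'_surjective N), hM₀idx]
    obtain ⟨eN, heN⟩ : ∃ e : N.subgroupOf L ≃* N, ∀ x, ((e x : N) : T) = ((x : L) : T) :=
      ⟨Subgroup.subgroupOfEquivOfLe hNL, fun _ => rfl⟩
    letI := Fintype.ofFinite L
    letI := Fintype.ofFinite (N.subgroupOf L)
    have hNLidx : (N.subgroupOf L).index = r ^ j := by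
      have h := Subgroup.relIndex_mul_index hNL
      rw [hLidx, hidx, pow_succ] at h
      exact Nat.eq_of_mul_eq_mul_right hr.pos h
    have hS₁ : ¬ p ∣ (S.map eN.symm.toMonoidHom).index := by
      rwa [Subgroup.index_map_of_injective _ eN.symm.injective,
        MonoidHom.range_eq_top.2 eN.symm.surjective, Subgroup.index_top, mul_one]
    have hC₁ : ∀ s ∈ S.map eN.symm.toMonoidHom, ∀ c ∈ C.subgroupOf L,
        (s : L) * c = c * (s : L) := by
      rintro _ ⟨s, hs, rfl⟩ c hc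
      refine Subtype.ext ?_
      have : ((eN.symm s : N.subgroupOf L) : L).val = (s : T) := by
        rw [← heN, MulEquiv.apply_symm_apply]
      simp only [Subgroup.coe_mul, MulEquiv.coe_toMonoidHom, this]
      exact hC s hs c hc
    have hcov₁ : N.subgroupOf L ⊔ C.subgroupOf L = ⊤ := by
      rw [eq_top_iff]
      intro y _
      have hy : (y : T) ∈ N ⊔ C := hcov ▸ Subgroup.mem_top _
      obtain ⟨n, hn, c, hc, hnc⟩ := Subgroup.mem_sup_of_normal_left.1 hy
      have hcL : c ∈ L := by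
        rw [show c = n⁻¹ * y by rw [← hnc]; group]
        exact mul_mem (hNL (inv_mem hn)) y.2
      rw [show y = ⟨n, hNL hn⟩ * ⟨c, hcL⟩ from Subtype.ext hnc.symm]
      exact mul_mem (Subgroup.mem_sup_left hn) (Subgroup.mem_sup_right hc)
    let θ₁ : Cfsg.IrrCharacter (N.subgroupOf L) :=
      ⟨fun x => (θ : N → ℂ) (eN x), (isIrrCharacter_comp_equiv eN).2 θ.2⟩
    obtain ⟨ξ₁, hξ₁, hres₁⟩ := ih L (N.subgroupOf L) hNLidx _ hS₁ _ hC₁ hcov₁ θ₁
      (BlockChar.comp_mem_principalBlock eN hθ) (fun g => funext fun x => by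
        have h := congrFun (hinv g) (eN x)
        simp only [conjFun_apply] at h ⊢
        refine Eq.trans ?_ h
        exact congrArg (θ : N → ℂ) (Subtype.ext (by simp [heN])))
    have hpidx : ¬ p ∣ (N.subgroupOf L).index := by
      rw [hNLidx]
      exact fun h => hrp ((Nat.prime_dvd_prime_iff_eq hp hr).1 (hp.dvd_of_dvd_pow h)).symm
    -- invariance
    have hinv₁ : ∀ g : T, conjFun g (ξ₁ : L → ℂ) = (ξ₁ : L → ℂ) := by
      intro g
      obtain ⟨η, hη⟩ : ∃ η : Cfsg.IrrCharacter L, (η : L → ℂ) = conjFun g (ξ₁ : L → ℂ) :=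
        ⟨⟨_, isIrr_conjFun g ξ₁.2⟩, rfl⟩
      have hηB : η ∈ Cfsg.principalBlock M L := by
        have e : η = ⟨_, (isIrrCharacter_comp_equiv (MulAut.conjNormal g : MulAut L)).2 ξ₁.2⟩ :=
          Subtype.ext (hη.trans (conjFun_eq_comp g _))
        rw [e]
        exact BlockChar.comp_mem_principalBlock (MulAut.conjNormal g : MulAut L) hξ₁
      have hηres : ∀ n : N.subgroupOf L, (η : L → ℂ) n = (θ₁ : N.subgroupOf L → ℂ) n := fun n => by
        rw [hη, conjFun_apply]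
        have hm : (⟨g * (n : L) * g⁻¹, hLn.conj_mem _ (n : L).2 g⟩ : L) ∈ N.subgroupOf L := by
          rw [Subgroup.mem_subgroupOf]
          exact (inferInstance : N.Normal).conj_mem _ n.2 g
        refine (hres₁ ⟨_, hm⟩).trans ?_
        have h := congrFun (hinv g) (eN n)
        simp only [conjFun_apply] at h
        refine Eq.trans ?_ h
        exact congrArg (θ : N → ℂ) (Subtype.ext (by simp [heN]))
      obtain ⟨f, hfN, hf⟩ := mul_hom_of_res (N.subgroupOf L) θ₁.2 hηres hres₁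
      have hf1 : ∀ y, f y = 1 := by
        intro y
        have hy : y ∈ N.subgroupOf L ⊔ C.subgroupOf L := hcov₁ ▸ Subgroup.mem_top _
        obtain ⟨n, hn, c, hc, rfl⟩ := Subgroup.mem_sup_of_normal_left.1 hy
        rw [map_mul, hfN n hn, one_mul]
        have hi := index_centralizer (N.subgroupOf L) _ hp hpidx hS₁
          (fun s hs => hC₁ s hs c hc)
        have h1 := centralChar_sub_index hM hηB hi
        have h2 := centralChar_sub_index hM hξ₁ hi
        rw [hf c, hf 1, map_one, Units.val_one, mul_one] at h1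
        have hz : IsIntegral ℤ (f c : ℂ) := isIntegral_of_pow_eq_one (pow_pos hr.pos j) (by
          rw [← Units.val_pow_eq_pow_val, ← hNLidx, ← MonoidHom.pow_apply,
            ProjExt.hom_pow_index_eq_one _ f (fun n => hfN n n.2), MonoidHom.one_apply,
            Units.val_one])
        have h3 : Cfsg.MemLocalIdeal M ((f c : ℂ) - 1) := by
          have h4 := memLocalIdeal_sub hM h1
            (memLocalIdeal_mul_left hM (memLocalRing_of_isIntegral hM hz) h2)
          convert h4 using 1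
          ring
        have h5 : (⟨(f c : ℂ), hz⟩ : Cfsg.AlgInt) - 1 ∈ M :=
          (memLocalIdeal_coe_iff hM _).1 (by simpa using h3)
        have h6 := eq_of_sub_mem_of_pow_eq_one hM (m := r ^ j) (x := ⟨(f c : ℂ), hz⟩) (y := 1)
          (fun h => hrp ((Nat.prime_dvd_prime_iff_eq hp hr).1 (hp.dvd_of_dvd_pow h)).symm)
          (Subtype.ext (by
            show (f c : ℂ) ^ r ^ j = 1
            rw [← Units.val_pow_eq_pow_val, ← hNLidx, ← MonoidHom.pow_apply,
              ProjExt.hom_pow_index_eq_one _ f (fun n => hfN n n.2), MonoidHom.one_apply,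
              Units.val_one]))
          (one_pow _) h5
        exact Units.ext (congrArg Subtype.val h6)
      funext y
      rw [← congrFun hη y, hf y, hf1, Units.val_one, mul_one]
    obtain ⟨D⟩ := ProjExt.exists_data ξ₁.2 (fun g x => congrFun (hinv₁ g) x)
    have hcyc : IsCyclic (T ⧸ L) := isCyclic_of_prime_card (p := r) (by
      rw [← Subgroup.index_eq_card, hLidx])
    obtain ⟨ψ, hψ, hψres⟩ := D.exists_extension_of_splits
      (D.cocycle.splits_of_cyclic hcyc fun y m hm => ProjExt.exists_root y m hm)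
    obtain ⟨ξ, hξ, hξres, -⟩ := BlockChar.exists_extension hM N S hS C hC hcov θ hθ ⟨ψ, hψ⟩
      (fun n => by
        refine (hψres ⟨n, hNL n.2⟩).trans ((hres₁ ⟨⟨n, hNL n.2⟩, n.2⟩).trans ?_)
        exact congrArg (θ : N → ℂ) (Subtype.ext (heN _)))
    exact ⟨ξ, hξ, hξres⟩

set_option maxHeartbeats 4000000 in
theorem main (hp2 : p ≠ 2) [Fact p.Prime] (hM : Cfsg.IsPModular p M) (N : Subgroup G) [N.Normal]
    (θ : Cfsg.IrrCharacter N)
    (hinv : ∀ (g : G) (n : N), conjFun g (θ : N → ℂ) n = (θ : N → ℂ) n)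
    (hdeg : ¬ p ∣ Cfsg.charDegree (θ : N → ℂ))
    (hrat : ∃ m : ℕ, ¬ p ∣ m ∧ ∀ n : N, (θ : N → ℂ) n ∈
      IntermediateField.adjoin ℚ ({Complex.exp (2 * Real.pi * Complex.I / m)} : Set ℂ))
    (hB : θ ∈ Cfsg.principalBlock M N) (Q : Sylow p N)
    (hidx : ∃ a : ℕ, (N ⊔ Subgroup.centralizer
      (((Q : Subgroup N).map N.subtype : Subgroup G) : Set G)).index = p ^ a) :
    ∃ χ : Cfsg.IrrCharacter G, χ ∈ Cfsg.principalBlock M G ∧
      (∃ n : ℕ, ¬ p ∣ n ∧ ∀ g : G, (χ : G → ℂ) g ∈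
        IntermediateField.adjoin ℚ ({Complex.exp (2 * Real.pi * Complex.I / n)} : Set ℂ)) ∧
      ∀ n : N, (χ : G → ℂ) n = (θ : N → ℂ) n := by
  classical
  letI := Fintype.ofFinite G
  letI := Fintype.ofFinite N
  have hp : p.Prime := Fact.out
  obtain ⟨C, hC⟩ : ∃ C : Subgroup G,
      Subgroup.centralizer (((Q : Subgroup N).map N.subtype : Subgroup G) : Set G) = C := ⟨_, rfl⟩
  rw [hC] at hidx
  have hcomm : ∀ s ∈ (Q : Subgroup N), ∀ c ∈ C, (s : G) * c = c * (s : G) := fun s hs c hc => by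
    rw [← hC] at hc
    exact Subgroup.mem_centralizer_iff.1 hc _ ⟨s, hs, rfl⟩
  obtain ⟨H, hH⟩ : ∃ H, N ⊔ C = H := ⟨_, rfl⟩
  rw [hH] at hidx
  obtain ⟨a, ha⟩ := hidx
  have hNH : N ≤ H := hH ▸ le_sup_left
  have hCH : C ≤ H := hH ▸ le_sup_right
  haveI hHn : H.Normal := ⟨fun h hh g => by
    have hg : g ∈ Subgroup.normalizer (((Q : Subgroup N).map N.subtype : Subgroup G) : Set G) ⊔ N :=
      by rw [Sylow.normalizer_sup_eq_top Q]; exact Subgroup.mem_top _
    rw [sup_comm] at hg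
    obtain ⟨n, hn, x, hx, rfl⟩ := Subgroup.mem_sup_of_normal_left.1 hg
    rw [show n * x * h * (n * x)⁻¹ = n * (x * h * x⁻¹) * n⁻¹ by group]
    refine mul_mem (mul_mem (hNH hn) ?_) (hNH (inv_mem hn))
    have hle : H ≤ H.comap (MulAut.conj x).toMonoidHom := by
      conv_lhs => rw [← hH]
      refine sup_le (fun y hy => ?_) fun y hy => ?_
      · exact hNH ((inferInstance : N.Normal).conj_mem y hy x)
      · refine hCH ?_
        rw [← hC] at hy ⊢
        refine Subgroup.mem_centralizer_iff.2 fun s hs => ?_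
        have hs' : x⁻¹ * s * x ∈ ((Q : Subgroup N).map N.subtype : Subgroup G) := by
          have := (Subgroup.mem_normalizer_iff.1 (inv_mem hx) s).1 hs
          simpa using this
        have h1 := Subgroup.mem_centralizer_iff.1 hy _ hs'
        show s * (x * y * x⁻¹) = x * y * x⁻¹ * s
        have h2 := congrArg (fun t => x * t * x⁻¹) h1
        simpa [mul_assoc] using h2
    exact hle hh⟩
  obtain ⟨A, m, hm, hcard⟩ : ∃ A m, ¬ p ∣ m ∧ Nat.card G = p ^ A * m :=
    ⟨_, _, Nat.not_dvd_ordCompl hp Nat.card_pos.ne',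
      (Nat.ordProj_mul_ordCompl_eq_self (Nat.card G) p).symm⟩
  have hcop : Nat.Coprime (p ^ A) m := (hp.coprime_iff_not_dvd.2 hm).pow_left A
  have hpowG : ∀ {X : Type u} [Group X] (_ : Nat.card X ∣ Nat.card G) (f : X →* ℂˣ),
      f ^ Nat.card G = 1 := fun hX f => MonoidHom.ext fun x => by
    rw [MonoidHom.pow_apply, MonoidHom.one_apply, ← map_pow,
      orderOf_dvd_iff_pow_eq_one.1 ((orderOf_dvd_natCard x).trans hX), map_one]
  -- `p`-rationality of `θ`
  have hθfix : ∀ k : ℕ, k.Coprime (Nat.card G) → k ≡ 1 [MOD m] → ∀ n : N,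
      (θ : N → ℂ) (n ^ k) = (θ : N → ℂ) n := by
    intro k hk hkm n
    obtain ⟨m₀, hm₀, hval⟩ := hrat
    have hg : Nat.gcd (Nat.card G) m₀ ∣ m := by
      have h1 : Nat.Coprime (Nat.gcd (Nat.card G) m₀) (p ^ A) :=
        ((hp.coprime_iff_not_dvd.2 hm₀).pow_left A).symm.coprime_dvd_left (Nat.gcd_dvd_right _ _)
      exact h1.dvd_of_dvd_mul_left (hcard ▸ Nat.gcd_dvd_left _ _)
    obtain ⟨k', hk'G, hk'm⟩ := Nat.chineseRemainder' (a := k) (b := 1) (hkm.of_dvd hg)
    have hm₀0 : m₀ ≠ 0 := fun e => hm₀ (by rw [e]; exact dvd_zero p)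
    have hk'c : k'.Coprime (Nat.card G * m₀) := by
      refine Nat.Coprime.mul_right ?_ ?_
      · rw [Nat.Coprime, hk'G.gcd_eq]; exact hk
      · rw [Nat.Coprime, hk'm.gcd_eq, Nat.gcd_one_left]
    obtain ⟨σ, hσ⟩ := exists_galois (Nat.card G * m₀) k'
      (Nat.mul_ne_zero Nat.card_pos.ne' hm₀0) hk'c
    have hno : orderOf n ∣ Nat.card G :=
      (orderOf_dvd_natCard n).trans (Subgroup.card_subgroup_dvd_card N)
    have h1 := galois_apply_pow σ hσ (IsIrr.isCharacter θ.2) (hno.trans (dvd_mul_right _ m₀))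
    have h2 : σ ((θ : N → ℂ) n) = (θ : N → ℂ) n := by
      have hin := hval n
      generalize (θ : N → ℂ) n = z at hin ⊢
      induction hin using IntermediateField.adjoin_induction with
      | mem z hz =>
        rw [Set.mem_singleton_iff] at hz
        have he : z ^ m₀ = 1 := by
          rw [hz]; exact (Complex.isPrimitiveRoot_exp m₀ hm₀0).pow_eq_one
        rw [hσ z (by rw [mul_comm, pow_mul, he, one_pow]), pow_eq_pow_mod k' he, hk'm,
          ← pow_eq_pow_mod 1 he, pow_one]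
      | algebraMap q => exact eq_ratCast (σ.comp (algebraMap ℚ ℂ)) q |>.trans (by simp)
      | add x y _ _ hx hy => rw [map_add, hx, hy]
      | inv x _ hx => rw [map_inv₀, hx]
      | mul x y _ _ hx hy => rw [map_mul, hx, hy]
    rw [h2] at h1
    rw [show n ^ k = n ^ k' from pow_eq_pow_iff_modEq.2 (hk'G.of_dvd hno).symm]
    exact h1.symm
  obtain ⟨ν, hν⟩ := ProjExt.exists_detChar_hom (IsIrr.isCharacter θ.2)
  have hkey : ∀ k : ℕ, k.Coprime (Nat.card G) → k ≡ 1 [MOD m] → ∀ n, ν (n ^ k) = ν n := by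
    intro k hk hkm n
    have hk' : k.Coprime (Nat.card N) := hk.coprime_dvd_right (Subgroup.card_subgroup_dvd_card N)
    have h1 := CyclicResidual.detChar_pow (IsIrr.isCharacter θ.2)
      (IsIrr.isCharacter (isIrr_comp_pow k hk' θ.2)) n
    rw [show (fun y : N => (θ : N → ℂ) (y ^ k)) = (θ : N → ℂ) from funext (hθfix k hk hkm), hν]
      at h1
    exact Units.ext h1.symm
  have hνm : ν ^ m = 1 := by
    rcases Nat.eq_zero_or_pos A with hA | hA
    · have h := hpowG (Subgroup.card_subgroup_dvd_card N) ν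
      rwa [hcard, hA, pow_zero, one_mul] at h
    obtain ⟨k, hk1, hk2⟩ : ∃ k, k ≡ 2 [MOD p ^ A] ∧ k ≡ 1 [MOD m] :=
      ⟨_, (Nat.chineseRemainder hcop 2 1).2.1, (Nat.chineseRemainder hcop 2 1).2.2⟩
    have hkc : k.Coprime (Nat.card G) := by
      rw [hcard]
      refine Nat.Coprime.mul_right ?_ ?_
      · rw [Nat.Coprime, hk1.gcd_eq]
        exact (((Nat.coprime_primes hp Nat.prime_two).2 hp2).pow_left A).symm
      · rw [Nat.Coprime, hk2.gcd_eq, Nat.gcd_one_left]
    refine MonoidHom.ext fun n => ?_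
    have hu : ν n ^ k = ν n := by rw [← map_pow]; exact hkey k hkc hk2 n
    have hw : (ν n ^ m) ^ p ^ A = 1 := by
      rw [← pow_mul, mul_comm, ← hcard, ← MonoidHom.pow_apply,
        hpowG (Subgroup.card_subgroup_dvd_card N) ν, MonoidHom.one_apply]
    have h2 : (ν n ^ m) ^ 2 = (ν n ^ m) ^ 1 := by
      rw [pow_eq_pow_mod 2 hw, ← hk1, ← pow_eq_pow_mod k hw, ← pow_mul, mul_comm m k, pow_mul, hu,
        pow_one]
    rw [MonoidHom.pow_apply, MonoidHom.one_apply]
    rw [pow_two, pow_one] at h2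
    exact mul_eq_left.1 h2
  have hνo : ¬ p ∣ orderOf ν := fun h => hm (h.trans (orderOf_dvd_of_pow_eq_one hνm))
  -- invariance
  have hinv' : ∀ (g : G) (n : N),
      (θ : N → ℂ) ⟨g * n * g⁻¹, (inferInstance : N.Normal).conj_mem (n : G) n.2 g⟩ =
        (θ : N → ℂ) n := fun g n => hinv g n
  have hνinv : ∀ (g : G) (n : N),
      ν ⟨g * n * g⁻¹, (inferInstance : N.Normal).conj_mem (n : G) n.2 g⟩ = ν n := by
    intro g n
    refine Units.ext ?_
    have h1 := congrFun (ProjExt.detChar_comp (IsIrr.isCharacter θ.2)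
      (MulAut.conjNormal g : MulAut N).toMonoidHom) n
    have h2 : (fun x : N => (θ : N → ℂ) ((MulAut.conjNormal g : MulAut N) x)) = θ :=
      funext fun x => hinv' g x
    simp only [MulEquiv.coe_toMonoidHom] at h1
    rw [h2] at h1
    rw [← congrFun hν n, ← congrFun hν, h1]
    rfl
  -- Sylow preimages
  have hR : ∀ r : ℕ, r.Prime → r ≠ p → ∀ P₀ : Sylow r (G ⧸ N),
      ∃ (R : Subgroup G) (_ : N ≤ R), R = (P₀ : Subgroup (G ⧸ N)).comap (QuotientGroup.mk' N) ∧
        (∀ y ∈ R, ∃ n ∈ N, ∃ c ∈ C, c ∈ R ∧ y = n * c) ∧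
        ∃ ξ : Cfsg.IrrCharacter R, (∀ n : N, ∀ h : (n : G) ∈ R,
          (ξ : R → ℂ) ⟨n, h⟩ = (θ : N → ℂ) n) ∧
          ∀ c : R, (c : G) ∈ C → (ξ : R → ℂ) c ≠ 0 := by
    intro r hr hrp P₀
    haveI : Fact r.Prime := ⟨hr⟩
    obtain ⟨R, hRd⟩ : ∃ R : Subgroup G,
        (P₀ : Subgroup (G ⧸ N)).comap (QuotientGroup.mk' N) = R := ⟨_, rfl⟩
    have hNR : N ≤ R := fun n hn => by
      rw [← hRd, Subgroup.mem_comap, QuotientGroup.mk'_apply, (QuotientGroup.eq_one_iff n).2 hn]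
      exact one_mem _
    have hRH : ∀ y ∈ R, y ∈ H := by
      intro y hy
      rw [← hRd] at hy
      obtain ⟨i, hi⟩ := P₀.2 ⟨_, hy⟩
      have hi' : y ^ r ^ i ∈ N := by
        have := congrArg Subtype.val hi
        rw [← QuotientGroup.eq_one_iff, QuotientGroup.mk_pow]
        simpa using this
      have h1 : (y : G ⧸ H) ^ r ^ i = 1 := by
        rw [← QuotientGroup.mk_pow, QuotientGroup.eq_one_iff]; exact hNH hi'
      have h2 : (y : G ⧸ H) ^ p ^ a = 1 := by
        rw [← ha, Subgroup.index_eq_card, pow_card_eq_one']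
      have h3 := pow_gcd_eq_one.2 ⟨h1, h2⟩
      rw [(((Nat.coprime_primes hr hp).2 hrp).pow i a).gcd_eq_one, pow_one] at h3
      exact (QuotientGroup.eq_one_iff y).1 h3
    have hdec : ∀ y ∈ R, ∃ n ∈ N, ∃ c ∈ C, c ∈ R ∧ y = n * c := fun y hy => by
      have hy' : y ∈ N ⊔ C := by rw [hH]; exact hRH y hy
      obtain ⟨n, hn, c, hc, hnc⟩ := Subgroup.mem_sup_of_normal_left.1 hy'
      refine ⟨n, hn, c, hc, ?_, hnc.symm⟩
      rw [show c = n⁻¹ * y by rw [← hnc]; group]
      exact mul_mem (hNR (inv_mem hn)) hy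
    obtain ⟨eN, heN⟩ : ∃ e : N.subgroupOf R ≃* N, ∀ x, ((e x : N) : G) = ((x : R) : G) :=
      ⟨Subgroup.subgroupOfEquivOfLe hNR, fun _ => rfl⟩
    have hRidx : (N.subgroupOf R).index = Nat.card P₀ := by
      have h := Subgroup.relIndex_mul_index hNR
      rw [← hRd, Subgroup.index_comap_of_surjective _ (QuotientGroup.mk'_surjective N), hRd,
        Subgroup.index_eq_card N, ← Subgroup.card_mul_index (P₀ : Subgroup (G ⧸ N))] at h
      exact Nat.eq_of_mul_eq_mul_right (Nat.pos_of_ne_zero Subgroup.index_ne_zero_of_finite) h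
    obtain ⟨j, hj⟩ := IsPGroup.iff_card.1 P₀.2
    have hS₁ : ¬ p ∣ ((Q : Subgroup N).map eN.symm.toMonoidHom).index := by
      rw [Subgroup.index_map_of_injective _ eN.symm.injective,
        MonoidHom.range_eq_top.2 eN.symm.surjective, Subgroup.index_top, mul_one]
      exact Q.not_dvd_index
    have hC₁ : ∀ s ∈ (Q : Subgroup N).map eN.symm.toMonoidHom, ∀ c ∈ C.subgroupOf R,
        (s : R) * c = c * (s : R) := by
      rintro _ ⟨s, hs, rfl⟩ c hc
      refine Subtype.ext ?_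
      have : ((eN.symm s : N.subgroupOf R) : R).val = (s : G) := by
        rw [← heN, MulEquiv.apply_symm_apply]
      simp only [Subgroup.coe_mul, MulEquiv.coe_toMonoidHom, this]
      exact hcomm s hs c hc
    have hcov₁ : N.subgroupOf R ⊔ C.subgroupOf R = ⊤ := by
      rw [eq_top_iff]
      intro y _
      obtain ⟨n, hn, c, hc, hcR, hy⟩ := hdec y y.2
      rw [show y = ⟨n, hNR hn⟩ * ⟨c, hcR⟩ from Subtype.ext hy]
      exact mul_mem (Subgroup.mem_sup_left hn) (Subgroup.mem_sup_right hc)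
    obtain ⟨ξ, hξ, hξres⟩ := exists_principal_rGroup hM hr hrp j R (N.subgroupOf R)
      (hRidx.trans hj) _ hS₁ _ hC₁ hcov₁
      ⟨fun x => (θ : N → ℂ) (eN x), (isIrrCharacter_comp_equiv eN).2 θ.2⟩
      (BlockChar.comp_mem_principalBlock eN hB) (fun g => funext fun x => by
        refine Eq.trans ?_ (hinv (g : G) (eN x))
        simp only [conjFun_apply]
        exact congrArg (θ : N → ℂ) (Subtype.ext (by simp [heN])))
    refine ⟨R, hNR, hRd.symm, hdec, ξ, fun n h => ?_, fun c hc => ?_⟩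
    · refine (hξres ⟨⟨n, h⟩, n.2⟩).trans ?_
      exact congrArg (θ : N → ℂ) (Subtype.ext (heN _))
    · refine ne_zero_of_centralizing hM hξ (index_centralizer (N.subgroupOf R) _ hp ?_ hS₁
        (fun s hs => hC₁ s hs c hc))
      rw [hRidx, hj]
      exact fun h => hrp ((Nat.prime_dvd_prime_iff_eq hp hr).1 (hp.dvd_of_dvd_pow h)).symm
  -- an extension
  obtain ⟨ψ, hψres⟩ : ∃ ψ : Cfsg.IrrCharacter G, ∀ n : N, (ψ : G → ℂ) n = (θ : N → ℂ) n := by
    obtain ⟨D⟩ := ProjExt.exists_data θ.2 hinv'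
    obtain ⟨ψ, hψ, hres⟩ := D.exists_extension_of_splits (ProjExt.splits_of_forall_prime
      D.cocycle.index_mem_splitExp Subgroup.index_ne_zero_of_finite fun r hr _ => by
        haveI : Fact r.Prime := ⟨hr⟩
        obtain ⟨P₀⟩ : Nonempty (Sylow r (G ⧸ N)) := inferInstance
        by_cases hrp : r = p
        · obtain ⟨R, hRd⟩ : ∃ R : Subgroup G,
              (P₀ : Subgroup (G ⧸ N)).comap (QuotientGroup.mk' N) = R := ⟨_, rfl⟩
          have hNR : N ≤ R := fun n hn => by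
            rw [← hRd, Subgroup.mem_comap, QuotientGroup.mk'_apply,
              (QuotientGroup.eq_one_iff n).2 hn]
            exact one_mem _
          have hRi : R.index = (P₀ : Subgroup (G ⧸ N)).index := by
            rw [← hRd, Subgroup.index_comap_of_surjective _ (QuotientGroup.mk'_surjective N)]
          obtain ⟨j, hj⟩ := IsPGroup.iff_card.1 P₀.2
          have hNRi : (N.subgroupOf R).index = r ^ j := by
            have h := Subgroup.relIndex_mul_index hNR
            rw [hRi, Subgroup.index_eq_card N,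
              ← Subgroup.card_mul_index (P₀ : Subgroup (G ⧸ N)), hj] at h
            exact Nat.eq_of_mul_eq_mul_right
              (Nat.pos_of_ne_zero Subgroup.index_ne_zero_of_finite) h
          obtain ⟨eN, heN⟩ : ∃ e : N.subgroupOf R ≃* N, ∀ x, ((e x : N) : G) = ((x : R) : G) :=
            ⟨Subgroup.subgroupOfEquivOfLe hNR, fun _ => rfl⟩
          letI := Fintype.ofFinite (N.subgroupOf R)
          have hcopν : Nat.Coprime (N.subgroupOf R).index (orderOf (ν.comp eN.toMonoidHom)) := by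
            rw [hNRi, hrp]
            refine (hp.coprime_iff_not_dvd.2 fun h => hνo (h.trans
              (orderOf_dvd_of_pow_eq_one (MonoidHom.ext fun x => ?_)))).pow_left j
            rw [MonoidHom.pow_apply, MonoidHom.comp_apply, ← MonoidHom.pow_apply,
              pow_orderOf_eq_one]
            rfl
          obtain ⟨μ, hμ, -, -⟩ := ProjExt.exists_ext_of_coprime (N.subgroupOf R)
            (ν.comp eN.toMonoidHom) (ProjExt.orderOf_pos_hom _) (fun g x => by
              simp only [MonoidHom.comp_apply, MulEquiv.coe_toMonoidHom]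
              refine Eq.trans ?_ (hνinv (g : G) (eN x))
              exact congrArg ν (Subtype.ext (by simp [heN]))) hcopν
          obtain ⟨η, hη, hηres⟩ := ProjExt.extends_of_det (N.subgroupOf R)
            (θ := fun x => (θ : N → ℂ) (eN x)) ((isIrrCharacter_comp_equiv eN).2 θ.2)
            (fun g x => by
              refine Eq.trans ?_ (hinv' (g : G) (eN x))
              exact congrArg (θ : N → ℂ) (Subtype.ext (by simp [heN])))
            (d := Cfsg.charDegree (θ : N → ℂ)) (by rw [map_one]; exact (CharArith.irr_degree_spec θ).1)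
            (by rw [hNRi, hrp]; exact (hp.coprime_iff_not_dvd.2 hdeg).pow_left j) μ (fun x => by
              rw [hμ, MonoidHom.comp_apply]
              have h1 := congrFun (ProjExt.detChar_comp (IsIrr.isCharacter θ.2) eN.toMonoidHom) x
              simp only [MulEquiv.coe_toMonoidHom] at h1 ⊢
              rw [h1, hν])
          refine ⟨R.index, D.cocycle.splits_index hNR (D.splits_of_extension hNR
            (IsIrr.isCharacter hη) fun n => ?_), hRi ▸ P₀.not_dvd_index⟩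
          refine (hηres ⟨⟨n, hNR n.2⟩, n.2⟩).trans ?_
          exact congrArg (θ : N → ℂ) (Subtype.ext (heN _))
        · obtain ⟨R, hNR, hRd, -, ξ, hξres, -⟩ := hR r hr hrp P₀
          refine ⟨R.index, D.cocycle.splits_index hNR (D.splits_of_extension hNR
            (IsIrr.isCharacter ξ.2) fun n => hξres n _), ?_⟩
          rw [hRd, Subgroup.index_comap_of_surjective _ (QuotientGroup.mk'_surjective N)]
          exact P₀.not_dvd_index)
    exact ⟨⟨ψ, hψ⟩, hres⟩
  -- restrictions to `H`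
  obtain ⟨eN, heN⟩ : ∃ e : N.subgroupOf H ≃* N, ∀ x, ((e x : N) : G) = ((x : H) : G) :=
    ⟨Subgroup.subgroupOfEquivOfLe hNH, fun _ => rfl⟩
  letI := Fintype.ofFinite H
  letI := Fintype.ofFinite (N.subgroupOf H)
  let θH : Cfsg.IrrCharacter (N.subgroupOf H) :=
    ⟨fun x => (θ : N → ℂ) (eN x), (isIrrCharacter_comp_equiv eN).2 θ.2⟩
  have hψH : ∀ x : N.subgroupOf H, (ψ : G → ℂ) ((x : H) : G) = (θH : _ → ℂ) x := fun x => by
    rw [← heN]; exact hψres _
  obtain ⟨ψ₀, hψ₀⟩ : ∃ ψ₀ : Cfsg.IrrCharacter H, ∀ y : H, (ψ₀ : H → ℂ) y = (ψ : G → ℂ) y :=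
    ⟨⟨_, ProjExt.isIrr_of_res (N := N.subgroupOf H) (isCharacter_res H (IsIrr.isCharacter ψ.2))
      θH.2 hψH⟩, fun _ => rfl⟩
  have hψ₀res : ∀ x : N.subgroupOf H, (ψ₀ : H → ℂ) x = (θH : _ → ℂ) x := fun x =>
    (hψ₀ _).trans (hψH x)
  have hSH : ¬ p ∣ ((Q : Subgroup N).map eN.symm.toMonoidHom).index := by
    rw [Subgroup.index_map_of_injective _ eN.symm.injective,
      MonoidHom.range_eq_top.2 eN.symm.surjective, Subgroup.index_top, mul_one]
    exact Q.not_dvd_index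
  have hCc : ∀ s ∈ (Q : Subgroup N).map eN.symm.toMonoidHom, ∀ c ∈ C.subgroupOf H,
      (s : H) * c = c * (s : H) := by
    rintro _ ⟨s, hs, rfl⟩ c hc
    refine Subtype.ext ?_
    have : ((eN.symm s : N.subgroupOf H) : H).val = (s : G) := by
      rw [← heN, MulEquiv.apply_symm_apply]
    simp only [Subgroup.coe_mul, MulEquiv.coe_toMonoidHom, this]
    exact hcomm s hs c hc
  have hcovH : N.subgroupOf H ⊔ C.subgroupOf H = ⊤ := by
    rw [eq_top_iff]
    intro y _
    have hy' : (y : G) ∈ N ⊔ C := by rw [hH]; exact y.2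
    obtain ⟨n, hn, c, hc, hnc⟩ := Subgroup.mem_sup_of_normal_left.1 hy'
    rw [show y = ⟨n, hNH hn⟩ * ⟨c, hCH hc⟩ from Subtype.ext hnc.symm]
    exact mul_mem (Subgroup.mem_sup_left hn) (Subgroup.mem_sup_right hc)
  obtain ⟨ξ, hξ, hξres, -⟩ := BlockChar.exists_extension hM (N.subgroupOf H) _ hSH _ hCc hcovH θH
    (BlockChar.comp_mem_principalBlock eN hB) ψ₀ hψ₀res
  -- the admissible twists
  have hHG : Nat.card H ∣ Nat.card G := Subgroup.card_subgroup_dvd_card H
  have hfinH : Finite (H →* ℂˣ) := by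
    refine Finite.of_injective (fun f : H →* ℂˣ => (⟨fun g => (f g : ℂ),
      IsChar.isIrr_of_degree_one (isLinear_iff.2 ⟨f, rfl⟩).1 (isLinear_iff.2 ⟨f, rfl⟩).2⟩ :
        Cfsg.IrrCharacter H)) fun u v h => ?_
    exact ProjExt.hom_eq_of_coe (congrArg Subtype.val h)
  let L : Subgroup (H →* ℂˣ) :=
    { carrier := {l | (∀ x : N.subgroupOf H, l x = 1) ∧ (∀ y, l y ^ m = 1) ∧
        Cfsg.SameBlock M (ξ : H → ℂ) (fun y => (ξ : H → ℂ) y * (l y : ℂ))}
      one_mem' := ⟨fun x => rfl, fun y => by rw [MonoidHom.one_apply, one_pow], by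
        simpa using sameBlock_refl hM (ξ : H → ℂ)⟩
      mul_mem' := fun {u v} hu hv => ⟨fun x => by
          rw [MonoidHom.mul_apply, hu.1, hv.1, one_mul],
        fun y => by rw [MonoidHom.mul_apply, mul_pow, hu.2.1, hv.2.1, one_mul], by
          refine sameBlock_trans hM hv.2.2 ?_
          have h := sameBlock_twist hM hu.2.2 v
          convert h using 2 with y
          rw [MonoidHom.mul_apply, Units.val_mul, mul_assoc]⟩
      inv_mem' := fun {u} hu => ⟨fun x => by rw [MonoidHom.inv_apply, hu.1, inv_one],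
        fun y => by rw [MonoidHom.inv_apply, inv_pow, hu.2.1, inv_one], by
          have h := sameBlock_twist hM (sameBlock_symm hu.2.2) u⁻¹
          convert h using 2 with y
          simp [mul_assoc]⟩ }
  obtain ⟨f₀, hf₀N, hf₀⟩ := mul_hom_of_res (N.subgroupOf H) θH.2 hξres hψ₀res
  obtain ⟨e, he1, he2⟩ : ∃ e, e ≡ 0 [MOD p ^ A] ∧ e ≡ 1 [MOD m] :=
    ⟨_, (Nat.chineseRemainder hcop 0 1).2.1, (Nat.chineseRemainder hcop 0 1).2.2⟩
  obtain ⟨μ₀, hμ₀N, hμ₀m, hμ₀⟩ : ∃ μ₀ : H →* ℂˣ, (∀ x : N.subgroupOf H, μ₀ x = 1) ∧ (∀ y, μ₀ y ^ m = 1) ∧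
      Cfsg.SameBlock M (ξ : H → ℂ) (fun y => (ψ₀ : H → ℂ) y * (μ₀ y : ℂ)) := by
    refine ⟨f₀ ^ e, fun x => by rw [MonoidHom.pow_apply, hf₀N _ x.2, one_pow], ?_, ?_⟩
    · intro y
      obtain ⟨c, hc⟩ := (Nat.modEq_zero_iff_dvd).1 he1
      rw [MonoidHom.pow_apply, ← pow_mul, hc,
        show p ^ A * c * m = Nat.card G * c by rw [hcard]; ring, pow_mul, ← MonoidHom.pow_apply,
        hpowG hHG, MonoidHom.one_apply, one_pow]
    · have hg : ∀ y, ((f₀ ^ e * f₀⁻¹) y : ℂ) ^ p ^ A = 1 := fun y => by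
        have hy : f₀ y ^ Nat.card G = 1 := by
          rw [← MonoidHom.pow_apply, hpowG hHG, MonoidHom.one_apply]
        have h1 : (f₀ y ^ e) ^ p ^ A = f₀ y ^ p ^ A := by
          rw [← pow_mul]
          refine pow_eq_pow_iff_modEq.2 (Nat.ModEq.of_dvd (orderOf_dvd_of_pow_eq_one hy) ?_)
          rw [hcard, mul_comm (p ^ A) m]
          simpa using Nat.ModEq.mul_right' (p ^ A) he2
        rw [← Units.val_pow_eq_pow_val, MonoidHom.mul_apply, MonoidHom.pow_apply,
          MonoidHom.inv_apply, mul_pow, h1, inv_pow, mul_inv_cancel, Units.val_one]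
      have h := CyclicResidual.sameBlock_mul_hom hM ξ (f₀ ^ e * f₀⁻¹) hg
      convert h using 2 with y
      rw [hf₀, MonoidHom.mul_apply, MonoidHom.inv_apply, Units.val_mul, mul_assoc]
      congr 1
      rw [mul_left_comm, ← Units.val_mul, mul_inv_cancel, Units.val_one, mul_one]
  obtain ⟨T, hT⟩ : ∃ T : Set (H →* ℂˣ), ∀ l, l ∈ T ↔ ((∀ x : N.subgroupOf H, l x = 1) ∧ (∀ y, l y ^ m = 1) ∧
      Cfsg.SameBlock M (ξ : H → ℂ) (fun y => (ψ₀ : H → ℂ) y * (l y : ℂ))) := ⟨_, fun _ => Iff.rfl⟩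
  have hTL : ∀ l, l ∈ T ↔ l * μ₀⁻¹ ∈ L := by
    intro l
    rw [hT]
    constructor
    · rintro ⟨h1, h2, h3⟩
      refine ⟨fun x => by rw [MonoidHom.mul_apply, MonoidHom.inv_apply, h1, hμ₀N, inv_one, one_mul],
        fun y => by rw [MonoidHom.mul_apply, MonoidHom.inv_apply, mul_pow, inv_pow, h2, hμ₀m, inv_one,
          one_mul], ?_⟩
      refine sameBlock_trans hM h3 (sameBlock_symm ?_)
      have h := sameBlock_twist hM hμ₀ (l * μ₀⁻¹)
      convert h using 2 with y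
      simp [mul_assoc, mul_left_comm, (μ₀ y).ne_zero]; ring
    · rintro ⟨h1, h2, h3⟩
      refine ⟨fun x => ?_, ?_, sameBlock_trans hM h3 ?_⟩
      · have := h1 x
        rwa [MonoidHom.mul_apply, MonoidHom.inv_apply, hμ₀N, inv_one, mul_one] at this
      · intro y
        have := h2 y
        rwa [MonoidHom.mul_apply, MonoidHom.inv_apply, mul_pow, inv_pow, hμ₀m, inv_one, mul_one]
          at this
      · have h := sameBlock_twist hM hμ₀ (l * μ₀⁻¹)
        convert h using 2 with y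
        simp [mul_assoc, mul_left_comm, (μ₀ y).ne_zero]; ring
  have hTcard : ¬ p ∣ Nat.card T := by
    rw [show Nat.card T = Nat.card L from Nat.card_congr
      ((Equiv.mulRight μ₀⁻¹).subtypeEquiv fun l => by simpa using hTL l)]
    intro hd
    obtain ⟨l, hl⟩ := exists_prime_orderOf_dvd_card' p hd
    rw [← Subgroup.orderOf_coe] at hl
    exact hm (hl ▸ orderOf_dvd_of_pow_eq_one (MonoidHom.ext fun y => by
      rw [MonoidHom.pow_apply, l.2.2.1 y, MonoidHom.one_apply]))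
  obtain ⟨P⟩ : Nonempty (Sylow p G) := inferInstance
  have hmem : ∀ (x : G) (l : H →* ℂˣ), l ∈ T →
      l.comp (MulAut.conjNormal x : MulAut H).toMonoidHom ∈ T := by
    intro x l hl
    obtain ⟨h1, h2, h3⟩ := (hT l).1 hl
    refine (hT _).2 ⟨fun y => ?_, fun y => ?_, ?_⟩
    · have hy : ((MulAut.conjNormal x : MulAut H) (y : H)) ∈ N.subgroupOf H := by
        rw [Subgroup.mem_subgroupOf, MulAut.conjNormal_apply]
        exact (inferInstance : N.Normal).conj_mem _ y.2 x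
      exact h1 ⟨_, hy⟩
    · rw [MonoidHom.comp_apply]; exact h2 _
    · have hB1 : (⟨_, isIrr_mul_hom ψ₀.2 l⟩ : Cfsg.IrrCharacter H) ∈ Cfsg.principalBlock M H :=
        Blocks.IsPBlock.mem_of_sameBlock hM (isPBlock_principalBlock (G := H) M) hξ h3
      have hB2 := BlockChar.comp_mem_principalBlock (MulAut.conjNormal x : MulAut H) hB1
      have h4 := Blocks.IsPBlock.sameBlock hM (isPBlock_principalBlock (G := H) M) hξ hB2
      convert h4 using 2 with y
      show _ = (ψ₀ : H → ℂ) ((MulAut.conjNormal x : MulAut H) y) *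
        (l ((MulAut.conjNormal x : MulAut H) y) : ℂ)
      rw [hψ₀, hψ₀, MulAut.conjNormal_apply, isClassFunction_of_isIrr ψ.2 (y : G) x]
      rfl
  letI : MulAction (P : Subgroup G) T :=
    { smul := fun x l => ⟨(l : H →* ℂˣ).comp
        (MulAut.conjNormal ((x : G)⁻¹) : MulAut H).toMonoidHom, hmem _ _ l.2⟩
      one_smul := fun l => Subtype.ext (MonoidHom.ext fun y => by
        show (l : H →* ℂˣ) _ = _
        refine congrArg _ (Subtype.ext ?_)
        simp)
      mul_smul := fun x x' l => Subtype.ext (MonoidHom.ext fun y => by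
        show (l : H →* ℂˣ) _ = (l : H →* ℂˣ) _
        refine congrArg _ (Subtype.ext ?_)
        simp [mul_assoc]) }
  obtain ⟨⟨μ, hμT⟩, hμfix⟩ := P.2.nonempty_fixed_point_of_prime_not_dvd_card T hTcard
  obtain ⟨hμN, hμm, hμB⟩ := (hT μ).1 hμT
  have hμinv : ∀ (g : G) (y : H), μ ⟨g * y * g⁻¹, hHn.conj_mem _ y.2 g⟩ = μ y := by
    have hsup : H ⊔ (P : Subgroup G) = ⊤ := by
      rw [← Subgroup.index_eq_one]
      have h1 := Subgroup.index_dvd_of_le (le_sup_left : H ≤ H ⊔ (P : Subgroup G))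
      rw [ha] at h1
      obtain ⟨i, -, hi⟩ := (Nat.dvd_prime_pow hp).1 h1
      cases i with
      | zero => rw [hi, pow_zero]
      | succ i =>
        exact absurd ((hi ▸ dvd_pow_self p i.succ_ne_zero).trans
          (Subgroup.index_dvd_of_le (le_sup_right : (P : Subgroup G) ≤ H ⊔ P))) P.not_dvd_index
    intro g y
    have hg : g ∈ H ⊔ (P : Subgroup G) := hsup ▸ Subgroup.mem_top g
    obtain ⟨h, hh, x, hx, rfl⟩ := Subgroup.mem_sup_of_normal_left.1 hg
    rw [show (⟨h * x * y * (h * x)⁻¹, hHn.conj_mem _ y.2 _⟩ : H) =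
      ⟨h, hh⟩ * ⟨x * y * x⁻¹, hHn.conj_mem _ y.2 x⟩ * ⟨h, hh⟩⁻¹ from
        Subtype.ext (by simp [mul_assoc]), map_mul, map_mul, map_inv, mul_comm, inv_mul_cancel_left]
    have h5 := DFunLike.congr_fun
      (congrArg Subtype.val (hμfix (⟨x, hx⟩⁻¹ : (P : Subgroup G)))) y
    refine Eq.trans ?_ h5
    show μ _ = μ _
    refine congrArg _ (Subtype.ext ?_)
    simp
  obtain ⟨μ', hμ', -, -⟩ := ProjExt.exists_ext_of_coprime H μ (ProjExt.orderOf_pos_hom _) hμinv
    (ha ▸ ((hp.coprime_iff_not_dvd.2 fun h => hm (h.trans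
      (orderOf_dvd_of_pow_eq_one (MonoidHom.ext fun y => by
        rw [MonoidHom.pow_apply, hμm, MonoidHom.one_apply])))).pow_left a))
  have hμ'N : ∀ n ∈ N, μ' n = 1 := fun n hn => by
    rw [show μ' n = μ ⟨n, hNH hn⟩ from hμ' ⟨n, hNH hn⟩]
    exact hμN ⟨⟨n, hNH hn⟩, hn⟩
  obtain ⟨χ₁, hχ₁⟩ : ∃ χ₁ : Cfsg.IrrCharacter G,
      ∀ g, (χ₁ : G → ℂ) g = (ψ : G → ℂ) g * (μ' g : ℂ) :=
    ⟨⟨_, isIrr_mul_hom ψ.2 μ'⟩, fun _ => rfl⟩
  have hχ₁res : ∀ n : N, (χ₁ : G → ℂ) n = (θ : N → ℂ) n := fun n => by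
    rw [hχ₁, hψres, hμ'N n n.2, Units.val_one, mul_one]
  have hdeg₁ : Cfsg.charDegree (χ₁ : G → ℂ) = Cfsg.charDegree (θ : N → ℂ) :=
    DegreeComponents.charDegree_eq (by
      rw [← (CharArith.irr_degree_spec θ).1, ← hχ₁res 1]; rfl)
  have hχ₁B : χ₁ ∈ Cfsg.principalBlock M G := by
    refine mem_principal_of_pQuot hM H ha χ₁ (hdeg₁ ▸ hdeg) ⟨_, isIrr_mul_hom ψ₀.2 μ⟩
      (fun y => ?_) (Blocks.IsPBlock.mem_of_sameBlock hM (isPBlock_principalBlock (G := H) M) hξ hμB)
    show _ = (ψ₀ : H → ℂ) y * (μ y : ℂ)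
    rw [hχ₁, hψ₀, hμ']
  -- fix the determinant
  obtain ⟨ν₁, hν₁⟩ := ProjExt.exists_detChar_hom (IsIrr.isCharacter χ₁.2)
  have hν₁N : ∀ n : N, ν₁ n = ν n := fun n => Units.ext (by
    rw [← congrFun hν₁ (n : G), ← congrFun hν n, ← funext hχ₁res]
    exact (congrFun (ProjExt.detChar_comp (IsIrr.isCharacter χ₁.2) N.subtype) n).symm)
  obtain ⟨d, hd⟩ : ∃ d, Cfsg.charDegree (θ : N → ℂ) = d := ⟨_, rfl⟩
  rw [hd] at hdeg hdeg₁
  obtain ⟨x, hxA, hxm⟩ : ∃ x, x * d + 1 ≡ 0 [MOD p ^ A] ∧ x ≡ 0 [MOD m] := by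
    haveI : NeZero (p ^ A) := ⟨pow_ne_zero A hp.ne_zero⟩
    obtain ⟨z, hz⟩ : ∃ z : ℕ, (z : ZMod (p ^ A)) * d + 1 = 0 := by
      refine ⟨(-(((ZMod.unitOfCoprime d ((hp.coprime_iff_not_dvd.2 hdeg).pow_left A).symm)⁻¹ :
        (ZMod (p ^ A))ˣ) : ZMod (p ^ A))).val, ?_⟩
      rw [ZMod.natCast_zmod_val, neg_mul, ← ZMod.coe_unitOfCoprime d
        ((hp.coprime_iff_not_dvd.2 hdeg).pow_left A).symm, Units.inv_mul, neg_add_cancel]
    refine ⟨_, ?_, (Nat.chineseRemainder hcop z 0).2.2⟩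
    refine ((((Nat.chineseRemainder hcop z 0).2.1).mul_right d).add_right 1).trans ?_
    rw [← ZMod.natCast_eq_natCast_iff]
    push_cast
    exact hz
  have hlamA : ∀ g, (ν₁ ^ x) g ^ p ^ A = 1 := fun g => by
    obtain ⟨c, hc⟩ := (Nat.modEq_zero_iff_dvd).1 hxm
    rw [MonoidHom.pow_apply, ← pow_mul, hc,
      show m * c * p ^ A = Nat.card G * c by rw [hcard]; ring, pow_mul, ← MonoidHom.pow_apply,
      hpowG dvd_rfl, MonoidHom.one_apply, one_pow]
  have hlamN : ∀ n ∈ N, (ν₁ ^ x) n = 1 := fun n hn => by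
    obtain ⟨c, hc⟩ := (Nat.modEq_zero_iff_dvd).1 hxm
    rw [MonoidHom.pow_apply, show ν₁ n = ν ⟨n, hn⟩ from hν₁N ⟨n, hn⟩, hc, pow_mul,
      ← MonoidHom.pow_apply, hνm, MonoidHom.one_apply, one_pow]
  obtain ⟨χ, hχ⟩ : ∃ χ : Cfsg.IrrCharacter G,
      ∀ g, (χ : G → ℂ) g = (χ₁ : G → ℂ) g * ((ν₁ ^ x) g : ℂ) :=
    ⟨⟨_, isIrr_mul_hom χ₁.2 (ν₁ ^ x)⟩, fun _ => rfl⟩
  have hχres : ∀ n : N, (χ : G → ℂ) n = (θ : N → ℂ) n := fun n => by
    rw [hχ, hχ₁res, hlamN n n.2, Units.val_one, mul_one]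
  have hχB : χ ∈ Cfsg.principalBlock M G := by
    refine Blocks.IsPBlock.mem_of_sameBlock hM (isPBlock_principalBlock (G := G) M) hχ₁B ?_
    rw [show (χ : G → ℂ) = fun g => (χ₁ : G → ℂ) g * ((ν₁ ^ x) g : ℂ) from funext hχ]
    exact CyclicResidual.sameBlock_mul_hom hM χ₁ _ (a := A) fun g => by
      rw [← Units.val_pow_eq_pow_val, hlamA, Units.val_one]
  have hχdet : ∀ g, Cfsg.detChar (χ : G → ℂ) g = ((ν₁ ^ (x * d + 1)) g : ℂ) := fun g => by
    rw [show (χ : G → ℂ) = fun g => ((ν₁ ^ x) g : ℂ) * (χ₁ : G → ℂ) g from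
        funext fun g => by rw [hχ, mul_comm],
      (ProjExt.detChar_twist (IsIrr.isCharacter χ₁.2)
        ((CharArith.irr_degree_spec χ₁).1.trans (by rw [hdeg₁])) (ν₁ ^ x)).2, hν₁]
    simp [pow_succ, pow_mul]
  refine ⟨χ, hχB, ⟨m, hm, value_mem_adjoin hp hm hcard (IsIrr.isCharacter χ.2) ?_⟩, hχres⟩
  intro k hk hkm g
  obtain ⟨χk, hχk⟩ : ∃ χk : Cfsg.IrrCharacter G, ∀ g, (χk : G → ℂ) g = (χ : G → ℂ) (g ^ k) :=
    ⟨⟨_, isIrr_comp_pow k hk χ.2⟩, fun _ => rfl⟩
  obtain ⟨f, hfN, hf⟩ := mul_hom_of_res N θ.2 (χ := χk) (ψ := χ) (fun n => by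
    rw [hχk, show (n : G) ^ k = ((n ^ k : N) : G) by simp, hχres, hθfix k hk hkm]) hχres
  have hfd : f ^ d = 1 := by
    refine MonoidHom.ext fun g => Units.ext ?_
    have h1 := CyclicResidual.detChar_pow (IsIrr.isCharacter χ.2)
      (IsIrr.isCharacter (isIrr_comp_pow k hk χ.2)) g
    rw [show (fun y => (χ : G → ℂ) (y ^ k)) = fun y => (f y : ℂ) * (χ : G → ℂ) y from
        funext fun y => by rw [← hχk, hf, mul_comm],
      (ProjExt.detChar_twist (IsIrr.isCharacter χ.2) (d := d) (by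
        rw [← hd, ← (CharArith.irr_degree_spec θ).1, ← hχres 1]; rfl) f).2] at h1
    simp only [hχdet] at h1
    have h2 : (ν₁ ^ (x * d + 1)) (g ^ k) = (ν₁ ^ (x * d + 1)) g := by
      rw [map_pow]
      conv_rhs => rw [← pow_one ((ν₁ ^ (x * d + 1)) g)]
      refine pow_eq_pow_iff_modEq.2 (hkm.of_dvd (orderOf_dvd_of_pow_eq_one ?_))
      obtain ⟨c, hc⟩ := (Nat.modEq_zero_iff_dvd).1 hxA
      rw [← MonoidHom.pow_apply, ← pow_mul, hc,
        show p ^ A * c * m = Nat.card G * c by rw [hcard]; ring, pow_mul, hpowG dvd_rfl, one_pow,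
        MonoidHom.one_apply]
    rw [h2] at h1
    rw [MonoidHom.pow_apply, Units.val_pow_eq_pow_val, MonoidHom.one_apply, Units.val_one]
    exact (mul_eq_right₀ (Units.ne_zero _)).1 h1
  have hf1 : ∀ g : G, f g = 1 := by
    intro g
    rw [← orderOf_eq_one_iff]
    by_contra hne
    obtain ⟨r, hr, hrd⟩ := Nat.exists_prime_and_dvd hne
    have hdvd : orderOf (f g) ∣ d := orderOf_dvd_of_pow_eq_one (by
      rw [← MonoidHom.pow_apply, hfd, MonoidHom.one_apply])
    have hrp : r ≠ p := fun e => hdeg (e ▸ hrd.trans hdvd)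
    haveI : Fact r.Prime := ⟨hr⟩
    obtain ⟨v, w, hw, hvw⟩ : ∃ v w, ¬ r ∣ w ∧ orderOf g = r ^ v * w :=
      ⟨_, _, Nat.not_dvd_ordCompl hr (orderOf_pos g).ne',
        (Nat.ordProj_mul_ordCompl_eq_self (orderOf g) r).symm⟩
    have hgr : IsPGroup r (Subgroup.zpowers ((g ^ w : G) : G ⧸ N)) := by
      have hdv : orderOf ((g ^ w : G) : G ⧸ N) ∣ r ^ v := by
        rw [orderOf_dvd_iff_pow_eq_one, ← QuotientGroup.mk_pow, ← pow_mul, mul_comm, ← hvw,
          pow_orderOf_eq_one, QuotientGroup.mk_one]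
      obtain ⟨i, -, hi⟩ := (Nat.dvd_prime_pow hr).1 hdv
      exact IsPGroup.of_card (n := i) (by rw [Nat.card_zpowers, hi])
    obtain ⟨P₀, hP₀⟩ := hgr.exists_le_sylow
    obtain ⟨R, hNR, hRd, hdec, ξR, hξR, hne0⟩ := hR r hr hrp P₀
    have hin : g ^ w ∈ R := by rw [hRd]; exact hP₀ (Subgroup.mem_zpowers _)
    obtain ⟨n, hn, c, hc, hcR, hnc⟩ := hdec _ hin
    letI := Fintype.ofFinite R
    letI := Fintype.ofFinite (N.subgroupOf R)
    have hne : ∀ c : G, c ∈ C → c ∈ R → (χ : G → ℂ) c ≠ 0 := by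
      intro c hc hcR
      have hres' : ∀ x : N.subgroupOf R, (χ : G → ℂ) ((x : R) : G) = (ξR : R → ℂ) x := fun x => by
        rw [show (χ : G → ℂ) ((x : R) : G) = (θ : N → ℂ) ⟨_, x.2⟩ from hχres ⟨_, x.2⟩]
        exact (hξR ⟨_, x.2⟩ (x : R).2).symm
      have hirr : Cfsg.IsIrrCharacter (N.subgroupOf R) (fun x => (ξR : R → ℂ) x) := by
        have hNR' : (fun x : N.subgroupOf R => (ξR : R → ℂ) x) =
            fun x => (θ : N → ℂ) (Subgroup.subgroupOfEquivOfLe hNR x) :=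
          funext fun x => hξR ⟨_, x.2⟩ (x : R).2
        rw [hNR']
        exact (isIrrCharacter_comp_equiv _).2 θ.2
      obtain ⟨β, -, hβ⟩ := mul_hom_of_res (N.subgroupOf R) hirr
        (χ := ⟨_, ProjExt.isIrr_of_res (N := N.subgroupOf R)
          (isCharacter_res R (IsIrr.isCharacter χ.2)) hirr hres'⟩) (ψ := ξR) hres' (fun _ => rfl)
      have e := hβ ⟨c, hcR⟩
      rw [show (χ : G → ℂ) c = (ξR : R → ℂ) ⟨c, hcR⟩ * (β ⟨c, hcR⟩ : ℂ) from e]
      exact mul_ne_zero (hne0 ⟨c, hcR⟩ hc) (Units.ne_zero _)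
    -- `c` may be replaced by a power of order prime to `p`
    have hfc : f c = 1 := by
      have hu : f (c ^ e) = 1 := by
        have hk0 : (c ^ e) ^ k = c ^ e := by
          rw [← pow_mul]
          refine pow_eq_pow_iff_modEq.2 (Nat.ModEq.of_dvd (orderOf_dvd_natCard c) ?_)
          rw [hcard]
          refine (Nat.modEq_and_modEq_iff_modEq_mul hcop).1 ⟨?_, ?_⟩
          · exact (he1.mul_right k).trans (by simpa using he1.symm)
          · simpa using (Nat.ModEq.refl e).mul hkm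
        have h1 := hf (c ^ e)
        rw [hχk, hk0] at h1
        exact Units.ext ((mul_eq_left₀ (hne _ (pow_mem hc e) (pow_mem hcR e))).1 h1.symm)
      have h2 : orderOf (f c) ∣ m := by
        have h3 : orderOf (f c) ∣ d := orderOf_dvd_of_pow_eq_one (by
          rw [← MonoidHom.pow_apply, hfd, MonoidHom.one_apply])
        have h4 : orderOf (f c) ∣ p ^ A * m := hcard ▸ (orderOf_dvd_of_pow_eq_one (by
          rw [← MonoidHom.pow_apply, hpowG dvd_rfl, MonoidHom.one_apply]))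
        exact ((hp.coprime_iff_not_dvd.2 fun h => hdeg (h.trans h3)).symm.pow_right A
          ).dvd_of_dvd_mul_left h4
      rw [map_pow] at hu
      conv_lhs => rw [← pow_one (f c)]
      rw [← pow_eq_pow_iff_modEq.2 (he2.of_dvd h2), hu]
    have hfw : f g ^ w = 1 := by
      rw [← map_pow, hnc, map_mul, hfN n hn, one_mul, hfc]
    exact hw (hrd.trans (orderOf_dvd_of_pow_eq_one hfw))
  rw [← hχk, hf, hf1, Units.val_one, mul_one]

end Cfsg.Agent.PRatExtend
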