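import Mathlib
import Cfsg.Agent.Char.SchurBound
import Cfsg.Agent.Char.Glauberman.Canonical
import Cfsg.Agent.Char.Clifford
import Cfsg.Agent.Core.PCore
import Cfsg.Agent.Core.FaithfulTI
import Cfsg.Agent.Layer.PConstraint
import Cfsg.Agent.Coprime.SchurZassenhaus
import Cfsg.Agent.CentLarge.Basic

/-!
# Schur's bound for the index of the p-core of a p-solvable linear group
-/

set_option autoImplicit false

namespace Cfsg.Agent.BlockChar.PSolvableSchur

open scoped ComplexConjugate Pointwise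
open Cfsg.Agent.Char

universe u

variable {H : Type u} [Group H] [Finite H]

theorem schurSum_mono (p : ℕ) {m n : ℕ} (h : m ≤ n) : schurSum p m ≤ schurSum p n := by
  obtain ⟨k, rfl⟩ := Nat.exists_eq_add_of_le h
  exact le_trans (Nat.le_add_right _ _) (schurSum_add p m k)

/-- The character attached to an orbit of constituents on a normal Hall `p'`-subgroup. -/
theorem exists_over_orbit [Fintype H] {p : ℕ} (hp : p.Prime) (Q : Subgroup H) [hQn : Q.Normal]
    [Fintype Q] (hcop : (Nat.card Q).Coprime p) {a : ℕ} (hidx : Q.index = p ^ a)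
    (θ : IrrCharacter Q) :
    ∃ ψ : H → ℂ, IsCharacter H ψ ∧ ψ 1 = ((orbit (θ : Q → ℂ)).card : ℂ) * (θ : Q → ℂ) 1 ∧
      (∀ η ∈ orbit (θ : Q → ℂ), classInner (fun n : Q => ψ n) η ≠ 0) ∧
      ∀ k : ℕ, k.Coprime (Nat.card H) → (∀ g : H, g ∈ Q → g ^ k = g) →
        ∀ x : H, ψ (x ^ k) = ψ x := by
  classical
  set T : Subgroup H := inertia (θ : Q → ℂ) with hT
  have hQT : Q ≤ T := le_inertia (isClassFunction_of_isIrr θ.2)
  let N : Subgroup T := Q.subgroupOf T
  have hNn : N.Normal := hQn.subgroupOf T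
  let e : N ≃* Q := Subgroup.subgroupOfEquivOfLe hQT
  let ϑ : N → ℂ := fun n => (θ : Q → ℂ) (e n)
  have hϑ : IsIrrCharacter N ϑ := (isIrrCharacter_comp_equiv e).2 θ.2
  have hinv : ∀ (g : T) (n : N), ϑ ⟨g * n * g⁻¹, hNn.conj_mem (n : T) n.2 g⟩ = ϑ n := by
    intro g n
    have h1 := congrFun (mem_inertia.1 g.2) (e n)
    rw [conjFun_apply] at h1
    exact (congrArg (θ : Q → ℂ) (Subtype.ext rfl)).trans h1
  obtain ⟨d, hd0, hd⟩ := IsIrr.degree θ.2
  have hd' : ϑ 1 = (d : ℂ) := (congrArg (θ : Q → ℂ) (map_one e)).trans hd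
  have hNcard : Nat.card N = Nat.card Q := Nat.card_congr e.toEquiv
  have hNidx : ∀ m : ℕ, m ∣ Nat.card Q → N.index.Coprime m := fun m hm => by
    refine (Nat.Coprime.coprime_dvd_left ?_ (Nat.Coprime.pow_left a hcop.symm)).coprime_dvd_right hm
    rw [← hidx, ← Subgroup.relIndex_mul_index hQT]
    exact Dvd.intro _ rfl
  have hcop' : N.index.Coprime (detOrder ϑ * d) :=
    Nat.Coprime.mul_right (hNidx _ (hNcard ▸ Glauberman.detOrder_dvd_card (IsIrr.isCharacter hϑ)))
      (hNidx _ (hNcard ▸ IsIrr.degree_dvd_card hϑ hd'))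
  obtain ⟨χ₀, ⟨h0, hres, hdet⟩, huniq⟩ := S0867.result N ϑ hϑ hinv d hd' hcop'
  have h0c := IsIrr.isCharacter h0
  have hψc : IsCharacter H (indFun T χ₀) := isCharacter_indFun T h0c
  refine ⟨indFun T χ₀, hψc, ?_, fun η hη => ?_, fun k hk hkQ x => ?_⟩
  · have h1 : χ₀ 1 = ϑ 1 := by rw [← hres 1]; rfl
    rw [indFun_apply_one, card_orbit, h1, hd', hd]
  · obtain ⟨g₀, rfl⟩ := mem_orbit.1 hη
    have hsum : (fun n : Q => indFun T χ₀ n) = (Nat.card T : ℂ)⁻¹ • ∑ g : H, conjFun g (θ : Q → ℂ) := by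
      funext n
      simp only [Pi.smul_apply, Finset.sum_apply, smul_eq_mul, indFun_apply]
      congr 1
      refine Fintype.sum_equiv (Equiv.inv H) _ _ fun x => ?_
      have hm : x⁻¹ * (n : H) * x ∈ Q := by
        simpa using hQn.conj_mem _ n.2 x⁻¹
      rw [extendByZero_of_mem T _ (hQT hm)]
      refine (hres ⟨⟨_, hQT hm⟩, hm⟩).trans (congrArg (θ : Q → ℂ) (Subtype.ext ?_))
      simp [e]
      rfl
    rw [hsum, classInner_smul_left, classInner_sum_left,
      Finset.sum_congr rfl fun g _ => classInner_irr (isIrr_conjFun g θ.2) (isIrr_conjFun g₀ θ.2),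
      Finset.sum_boole]
    refine mul_ne_zero (inv_ne_zero card_ne_zero) (Nat.cast_ne_zero.2 (Finset.card_ne_zero.2 ⟨g₀, ?_⟩))
    simp
  · obtain ⟨σ, hσ⟩ := exists_galois (Nat.card H) k Nat.card_pos.ne' hk
    have hσT : (fun y : T => σ (χ₀ y)) = χ₀ := by
      refine huniq _ (isIrr_map σ h0) (fun n => ?_) ?_
      · show σ (χ₀ n) = ϑ n
        rw [galois_apply_pow σ hσ h0c
          ((orderOf_dvd_natCard (n : T)).trans (Subgroup.card_subgroup_dvd_card T))]
        refine (congrArg χ₀ (Subtype.ext ?_)).trans (hres n)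
        rw [SubmonoidClass.coe_pow]
        exact hkQ _ n.2
      · rw [Glauberman.detOrder_map σ h0c, hdet]
        exact Nat.Coprime.coprime_mul_right_right hcop'
    rw [← galois_apply_pow σ hσ hψc (orderOf_dvd_natCard x), indFun_ringHom, hσT]

/-- A `p`-subgroup acting on a normal Hall `p'`-subgroup, modulo the centralizer. -/
theorem exists_centralizing_bound {p : ℕ} (hp : p.Prime) (Q : Subgroup H) [hQn : Q.Normal]
    (hcop : (Nat.card Q).Coprime p) {a : ℕ} (hidx : Q.index = p ^ a) {χ : H → ℂ}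
    (hχ : IsCharacter H χ) (hfaith : ∀ g : H, χ g = χ 1 → g = 1) {n : ℕ} (hn : χ 1 = (n : ℂ))
    (S : Subgroup H) (hS : IsPGroup p S) :
    ∃ (K : Subgroup S) (b : ℕ), K.index = p ^ b ∧ b ≤ schurSum p n ∧
      ∀ s ∈ K, ∀ q ∈ Q, (s : H) * q = q * (s : H) := by
  classical
  have := Fintype.ofFinite H
  have hQfin : Fintype Q := Fintype.ofFinite Q
  choose ψ hψc hψ1 hψcon hψinv using fun θ : IrrCharacter Q => exists_over_orbit hp Q hcop hidx θ
  set Θ := Finset.univ.filter (fun θ : IrrCharacter Q =>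
    classInner (fun q : Q => χ q) (θ : Q → ℂ) ≠ 0) with hΘ
  let orb : IrrCharacter Q → Finset (Q → ℂ) := fun θ => orbit (θ : Q → ℂ)
  set O := Θ.image orb with hO
  have hrep : ∀ o : O, ∃ θ ∈ Θ, orb θ = o.1 := fun o => Finset.mem_image.1 o.2
  choose rep hrepΘ hrep' using hrep
  let Ψ : H → ℂ := ∑ o : O, ψ (rep o)
  have hΨc : IsCharacter H Ψ := isCharacter_sum _ _ fun o _ => hψc _
  have hresχ := isCharacter_res Q hχ
  -- degree
  choose d hd0 hd using fun θ : IrrCharacter Q => IsIrr.degree θ.2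
  have hΨ1 : Ψ 1 = ((∑ o : O, (orb (rep o)).card * d (rep o) : ℕ) : ℂ) := by
    simp only [Ψ, Finset.sum_apply, hψ1, hd, Nat.cast_sum, Nat.cast_mul, orb]
  have horb : ∀ θ ∈ Θ, ∀ η ∈ orb θ, ∃ ξ ∈ Θ, (ξ : Q → ℂ) = η ∧ orb ξ = orb θ := by
    intro θ hθ η hη
    obtain ⟨g, rfl⟩ := mem_orbit.1 hη
    refine ⟨⟨_, isIrr_conjFun g θ.2⟩, ?_, rfl, ?_⟩
    · rw [hΘ, Finset.mem_filter] at hθ ⊢
      refine ⟨Finset.mem_univ _, ?_⟩
      show classInner (fun q : Q => χ q) (conjFun g (θ : Q → ℂ)) ≠ 0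
      rw [← conjFun_res g (isClassFunction_of_isCharacter hχ), classInner_conjFun]
      exact hθ.2
    · show orbit (conjFun g (θ : Q → ℂ)) = orbit (θ : Q → ℂ)
      ext ζ
      simp only [mem_orbit]
      constructor
      · rintro ⟨h, rfl⟩
        exact ⟨g * h, (conjFun_conjFun _ _ _).symm⟩
      · rintro ⟨h, rfl⟩
        exact ⟨g⁻¹ * h, by rw [conjFun_conjFun, mul_inv_cancel_left]⟩
  have hle : ∑ o : O, (orb (rep o)).card * d (rep o) ≤ n := by
    have h1 : ∑ o : O, (orb (rep o)).card * d (rep o) ≤ ∑ θ ∈ Θ, d θ := by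
      rw [← Finset.sum_fiberwise_of_maps_to (s := Θ) (t := O)
        (g := orb) (fun θ hθ => Finset.mem_image_of_mem _ hθ) d, ← Finset.sum_coe_sort O]
      refine Finset.sum_le_sum fun o _ => ?_
      set F := Θ.filter (fun θ => orb θ = o.1) with hF
      have hFd : ∀ θ ∈ F, d θ = d (rep o) := by
        intro θ hθ
        have hm : (θ : Q → ℂ) ∈ orb (rep o) := by
          rw [hrep' o, ← (Finset.mem_filter.1 hθ).2]; exact self_mem_orbit _
        obtain ⟨g, hg⟩ := mem_orbit.1 hm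
        have h2 : ((d θ : ℕ) : ℂ) = d (rep o) := by
          rw [← hd, ← hd, ← hg, conjFun_apply_one]
        exact_mod_cast h2
      rw [Finset.sum_congr rfl hFd, Finset.sum_const, smul_eq_mul]
      refine Nat.mul_le_mul_right _ (le_trans (Finset.card_le_card ?_)
        (Finset.card_image_le (s := F) (f := fun θ : IrrCharacter Q => (θ : Q → ℂ))))
      intro η hη
      obtain ⟨ξ, hξ, he, ho⟩ := horb _ (hrepΘ o) η hη
      exact Finset.mem_image.2 ⟨ξ, Finset.mem_filter.2 ⟨hξ, ho.trans (hrep' o)⟩, he⟩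
    choose m hm using fun θ : IrrCharacter Q =>
      classInner_isCharacter_eq_natCast hresχ (IsIrr.isCharacter θ.2)
    have h2 : (n : ℂ) = ((∑ θ : IrrCharacter Q, m θ * d θ : ℕ) : ℂ) := by
      have h3 := congrFun (classFun_expansion (isClassFunction_of_isCharacter hresχ)) 1
      simp only [Finset.sum_apply, Pi.smul_apply, smul_eq_mul, hm, hd, OneMemClass.coe_one, hn]
        at h3
      rw [h3, Nat.cast_sum]
      exact Finset.sum_congr rfl fun θ _ => by rw [Nat.cast_mul]
    have h4 : n = ∑ θ : IrrCharacter Q, m θ * d θ := by exact_mod_cast h2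
    refine h1.trans (h4 ▸ ?_)
    refine le_trans (Finset.sum_le_sum fun θ hθ => ?_)
      (Finset.sum_le_sum_of_subset (Finset.subset_univ Θ))
    rw [hΘ, Finset.mem_filter, hm] at hθ
    exact Nat.le_mul_of_pos_left _ (Nat.pos_of_ne_zero fun e => hθ.2 (by rw [e, Nat.cast_zero]))
  -- kernel
  have hker : ∀ g ∈ Q, Ψ g = Ψ 1 → g = 1 := by
    intro g hg hΨg
    apply hfaith
    have hηg : ∀ θ ∈ Θ, (θ : Q → ℂ) ⟨g, hg⟩ = (θ : Q → ℂ) 1 := by
      intro θ hθ
      let o : O := ⟨orb θ, Finset.mem_image_of_mem _ hθ⟩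
      have hm : (θ : Q → ℂ) ∈ orbit ((rep o : IrrCharacter Q) : Q → ℂ) := by
        show (θ : Q → ℂ) ∈ orb (rep o)
        rw [hrep' o]; exact self_mem_orbit _
      refine IsChar.constituent_kernel (χ := fun q : Q => Ψ q) (isCharacter_res Q hΨc) θ.2
        ?_ (g := ⟨g, hg⟩) (by simpa using hΨg)
      choose c hc using fun o' : O => classInner_isCharacter_eq_natCast
        (isCharacter_res Q (hψc (rep o'))) (IsIrr.isCharacter θ.2)
      have hfun : (fun q : Q => Ψ q) = ∑ o' : O, fun q : Q => ψ (rep o') q := by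
        funext q; simp [Ψ]
      rw [hfun, classInner_sum_left, Finset.sum_congr rfl fun o' _ => hc o', ← Nat.cast_sum,
        Nat.cast_ne_zero]
      intro h0
      exact hψcon (rep o) _ hm (by
        rw [hc, Finset.sum_eq_zero_iff.1 h0 o (Finset.mem_univ o), Nat.cast_zero])
    have h1 := congrFun (classFun_expansion (isClassFunction_of_isCharacter hresχ)) ⟨g, hg⟩
    have h2 := congrFun (classFun_expansion (isClassFunction_of_isCharacter hresχ)) 1
    simp only [Finset.sum_apply, Pi.smul_apply, smul_eq_mul, OneMemClass.coe_one] at h1 h2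
    rw [h1, h2]
    refine Finset.sum_congr rfl fun θ _ => ?_
    by_cases h0 : classInner (fun q : Q => χ q) (θ : Q → ℂ) = 0
    · simp [h0]
    · rw [hηg θ (Finset.mem_filter.2 ⟨Finset.mem_univ _, h0⟩)]
  -- power invariance on `S`
  have := Fact.mk hp
  obtain ⟨j, hj⟩ := (IsPGroup.iff_card (p := p)).1 hS
  have hinvS : ∀ k, ¬ p ∣ k → ∀ s : S, Ψ ((s ^ k : S) : H) = Ψ s := by
    intro k hk s
    have hQcop : (Nat.card Q).Coprime Q.index := hidx ▸ hcop.pow_right a
    obtain ⟨k', hk1, hk2⟩ := Nat.chineseRemainder hQcop 1 k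
    have hs : orderOf (s : H) ∣ Q.index := by
      refine Nat.Coprime.dvd_of_dvd_mul_left (m := Nat.card Q) ?_ ?_
      · rw [Subgroup.orderOf_coe]
        exact Nat.Coprime.coprime_dvd_left ((orderOf_dvd_natCard s).trans hj.dvd)
          (hcop.symm.pow_left j)
      · rw [Q.card_mul_index]; exact orderOf_dvd_natCard (s : H)
    have hsk : (s : H) ^ k = (s : H) ^ k' := (pow_eq_pow_iff_modEq.2 (hk2.of_dvd hs)).symm
    rw [SubmonoidClass.coe_pow, hsk]
    simp only [Ψ, Finset.sum_apply]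
    refine Finset.sum_congr rfl fun o _ => hψinv _ k' ?_ ?_ _
    · rw [← Q.card_mul_index]
      refine Nat.Coprime.mul_right ?_ ?_
      · have := hk1.gcd_eq; rwa [Nat.gcd_one_left] at this
      · have := hk2.gcd_eq
        rw [hidx] at this ⊢
        rw [show Nat.gcd k (p ^ a) = 1 from
          ((hp.coprime_iff_not_dvd.2 hk).pow_left a).symm] at this
        exact this
    · intro g hg
      have h2 : (⟨g, hg⟩ : Q) ^ k' = (⟨g, hg⟩ : Q) ^ 1 :=
        pow_eq_pow_iff_modEq.2 (hk1.of_dvd (orderOf_dvd_natCard _))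
      rw [pow_one] at h2
      exact congrArg Subtype.val h2
  have hr := isCharacter_res S hΨc
  obtain ⟨b, hb, hble⟩ := exists_index_ker_le hp _ hj (fun s : S => Ψ s) hr
    hΨ1 hinvS
  refine ⟨kerSubgroup hr, b, hb, hble.trans (schurSum_mono p hle), fun s hs q hq => ?_⟩
  have hsK : (s : H) ∈ kerSubgroup hΨc := by simpa using hs
  have hc : (s : H) * q * (s : H)⁻¹ * q⁻¹ = 1 := by
    refine hker _ (Q.mul_mem (hQn.conj_mem q hq _) (Q.inv_mem hq)) ?_
    have h1 : (s : H) * q * (s : H)⁻¹ * q⁻¹ = (s : H) * (q * (s : H)⁻¹ * q⁻¹) := by group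
    rw [h1]
    exact (kerSubgroup hΨc).mul_mem hsK
      ((kerSubgroup_normal hΨc).conj_mem _ ((kerSubgroup hΨc).inv_mem hsK) q)
  rw [mul_inv_eq_one] at hc
  conv_rhs => rw [← hc]
  group

theorem factorization_index_pCore_le {G : Type u} [Group G] [Finite G] {p : ℕ} (hp : p.Prime)
    (hsol : Cfsg.IsPSolvable p G) {χ : G → ℂ} (hχ : IsCharacter G χ)
    (hfaith : ∀ g : G, χ g = χ 1 → g = 1) {n : ℕ} (hn : χ 1 = (n : ℂ)) :
    (Cfsg.pCore p G).index.factorization p ≤ schurSum p n := by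
  classical
  have := Fact.mk hp
  set N := Cfsg.pCore p G with hN
  have hNp : IsPGroup p N := Core.pCore_isPGroup
  have hNn : N.Normal := inferInstance
  let π := QuotientGroup.mk' N
  have hπ : Function.Surjective π := QuotientGroup.mk'_surjective N
  set R := Cfsg.pPrimeCore p (G ⧸ N) with hR
  have hRn : R.Normal := inferInstance
  have hcent := Core.centralizer_pPrimeCore_le (Layer.isPSolvable_of_surjective hsol hπ)
    (Core.pCore_quotient_eq_bot (p := p) (G := G))
  have hRcop : (Nat.card R).Coprime p := Core.coprime_card_pPrimeCore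
  set M := R.comap π with hM
  have hNM : N ≤ M := fun x hx => by
    show π x ∈ R
    rw [show π x = 1 from (QuotientGroup.eq_one_iff x).2 hx]; exact R.one_mem
  obtain ⟨c, hc⟩ := hNp.exists_card_eq
  have hidxM : (N.subgroupOf M).index = Nat.card R := by
    have h1 : (M.map π) = R := Subgroup.map_comap_eq_self_of_surjective hπ R
    rw [show (N.subgroupOf M).index = N.relIndex M from rfl]
    have h2 := Subgroup.card_mul_index (N.subgroupOf M)
    let f : M →* G ⧸ N := π.comp M.subtype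
    have hk : f.ker = N.subgroupOf M := by
      ext x; simp [f, π, Subgroup.mem_subgroupOf]
    have hr : f.range = R := by rw [MonoidHom.range_comp, Subgroup.range_subtype, h1]
    rw [Subgroup.relIndex, ← hk, Subgroup.index_ker, hr]
  have hcardN : Nat.card (N.subgroupOf M) = p ^ c :=
    (Nat.card_congr (Subgroup.subgroupOfEquivOfLe hNM).toEquiv).trans hc
  obtain ⟨Q₀, hQ₀⟩ := Subgroup.exists_right_complement'_of_coprime (N := N.subgroupOf M)
    (by rw [hidxM, hcardN]; exact (hRcop.pow_right c).symm)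
  set Q := Q₀.map M.subtype with hQ
  have hQM : Q ≤ M := Subgroup.map_subtype_le _
  have hQcard : Nat.card Q = Nat.card R := by
    rw [hQ, Subgroup.card_map_of_injective M.subtype_injective, ← hidxM]
    exact hQ₀.symm.index_eq_card.symm
  have hQcop : (Nat.card Q).Coprime p := hQcard ▸ hRcop
  have hNQ : N ⊓ Q = ⊥ := Subgroup.inf_eq_bot_of_coprime (by rw [hc, hQcard]; exact (hRcop.pow_right c).symm)
  have hNQM : N ⊔ Q = M := by
    have h1 := congrArg (Subgroup.map M.subtype) hQ₀.sup_eq_top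
    rwa [Subgroup.map_sup, Subgroup.map_subgroupOf_eq_of_le hNM, ← MonoidHom.range_eq_map,
      Subgroup.range_subtype] at h1
  -- Frattini
  set K := Subgroup.normalizer (Q : Set G) with hK
  have hfr : ∀ g : G, ∃ k ∈ K, π k = π g := by
    intro g
    have hMn : M.Normal := hRn.comap π
    have hQg : MulAut.conj g • Q ≤ M := by
      rintro _ ⟨x, hx, rfl⟩
      exact hMn.conj_mem x (hQM hx) g
    obtain ⟨m, hm, hmQ⟩ := Coprime.exists_conj_of_sup_eq (N := N) (H := Q)
      (K := MulAut.conj g • Q) Subgroup.le_normalizer_of_normal hNQ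
      (Subgroup.inf_eq_bot_of_coprime (by
        rw [Nat.card_congr (Subgroup.equivSMul (MulAut.conj g) Q).symm.toEquiv, hc, hQcard]
        exact (hRcop.pow_right c).symm))
      (by
        refine le_antisymm ?_ (sup_le le_sup_left (hQg.trans hNQM.ge))
        rw [hNQM]
        have h1 : MulAut.conj g • (N ⊔ Q) = MulAut.conj g • M := by rw [hNQM]
        rw [Subgroup.smul_sup, Subgroup.Normal.conj_smul_eq_self g N, Subgroup.Normal.conj_smul_eq_self g M] at h1
        exact h1.ge)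
      (by rw [hc, hQcard]; exact (hRcop.pow_right c).symm)
      (Or.inl (by have := hNp.isNilpotent; infer_instance))
    refine ⟨m⁻¹ * g, ?_, ?_⟩
    · have e : MulAut.conj (m⁻¹ * g) • Q = Q := by
        rw [map_mul, mul_smul, ← hmQ, ← mul_smul, ← map_mul, inv_mul_cancel, map_one, one_smul]
      rw [hK, Subgroup.mem_normalizer_iff]
      intro h
      conv_rhs => rw [← e]
      exact (Subgroup.smul_mem_pointwise_smul_iff (a := MulAut.conj (m⁻¹ * g))).symm
    · rw [map_mul, show π m⁻¹ = 1 from (QuotientGroup.eq_one_iff _).2 (N.inv_mem hm), one_mul]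
  let πK : K →* G ⧸ N := π.comp K.subtype
  have hπK : Function.Surjective πK := fun x => by
    obtain ⟨g, rfl⟩ := hπ x
    obtain ⟨k, hk, e⟩ := hfr g
    exact ⟨⟨k, hk⟩, e⟩
  obtain ⟨S₀⟩ : Nonempty (Sylow p K) := inferInstance
  set S := (S₀ : Subgroup K).map K.subtype with hS
  set Pb := S₀.mapSurjective hπK with hPb
  have hSK : S ≤ K := Subgroup.map_subtype_le _
  have hSp : IsPGroup p S := S₀.isPGroup'.map _
  set L := Q ⊔ S with hL
  have hQL : Q ≤ L := le_sup_left
  have hSL : S ≤ L := le_sup_right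
  have hQn : (Q.subgroupOf L).Normal :=
    Subgroup.normal_subgroupOf_of_le_normalizer (sup_le Subgroup.le_normalizer hSK)
  obtain ⟨s, hs⟩ := hSp.exists_card_eq
  have hQidx : (Q.subgroupOf L).index = p ^ s := by
    have h1 := (Q.subgroupOf L).card_mul_index
    rw [Nat.card_congr (Subgroup.subgroupOfEquivOfLe hQL).toEquiv] at h1
    have h2 := CentLarge.card_mul_card_inf Q S
    rw [← Subgroup.coe_mul_of_right_le_normalizer_left Q S hSK, ← hL] at h2
    have h3 : Q ⊓ S = ⊥ := Subgroup.inf_eq_bot_of_coprime (by rw [hs]; exact hQcop.pow_right s)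
    rw [h3, Subgroup.card_bot, mul_one, hs] at h2
    exact mul_left_cancel₀ Nat.card_pos.ne' (h1.trans h2)
  have hS' : IsPGroup p (S.subgroupOf L) :=
    hSp.of_equiv (Subgroup.subgroupOfEquivOfLe hSL).symm
  obtain ⟨Kc, b, hb, hble, hcomm⟩ := exists_centralizing_bound (H := L) hp (Q.subgroupOf L)
    (by rw [Nat.card_congr (Subgroup.subgroupOfEquivOfLe hQL).toEquiv]; exact hQcop) hQidx
    (χ := fun l : L => χ l) (isCharacter_res L hχ)
    (fun l hl => Subtype.ext (hfaith l (by simpa using hl))) (by simpa using hn)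
    (S.subgroupOf L) hS'
  let f : S.subgroupOf L →* G ⧸ N := π.comp (L.subtype.comp (S.subgroupOf L).subtype)
  have hfr' : f.range = (Pb : Subgroup (G ⧸ N)) := by
    rw [MonoidHom.range_comp, MonoidHom.range_comp, Subgroup.range_subtype,
      Subgroup.map_subgroupOf_eq_of_le hSL, hPb, Sylow.coe_mapSurjective, hS, Subgroup.map_map]
  have hKf : Kc ≤ f.ker := by
    intro x hx
    rw [MonoidHom.mem_ker]
    have h1 : f x ∈ Subgroup.centralizer (R : Set (G ⧸ N)) := by
      rw [Subgroup.mem_centralizer_iff]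
      intro r hr
      obtain ⟨g, rfl⟩ := hπ r
      have hg : g ∈ N ⊔ Q := hNQM ▸ hr
      obtain ⟨m, hm, q, hq, rfl⟩ := Subgroup.mem_sup_of_normal_left.1 hg
      rw [map_mul, show π m = 1 from (QuotientGroup.eq_one_iff _).2 hm, one_mul]
      have := congrArg Subtype.val (hcomm x hx ⟨q, hQL hq⟩ hq)
      simpa [f] using (congrArg π this).symm
    have h2 : f x ∈ f.range := ⟨x, rfl⟩
    rw [hfr'] at h2
    have h3 : (Pb : Subgroup (G ⧸ N)) ⊓ R = ⊥ := Layer.inf_eq_bot_of_isPGroup Pb.isPGroup' hRcop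
    have h4 : f x ∈ (Pb : Subgroup (G ⧸ N)) ⊓ R := ⟨h2, hcent h1⟩
    rwa [h3, Subgroup.mem_bot] at h4
  have h5 : Nat.card (Pb : Subgroup (G ⧸ N)) ∣ p ^ b := by
    rw [← hb, ← hfr', ← Subgroup.index_ker]
    exact Subgroup.index_dvd_of_le hKf
  rw [Sylow.card_eq_multiplicity, ← Subgroup.index_eq_card] at h5
  exact ((Nat.pow_dvd_pow_iff_le_right hp.one_lt).1 h5).trans hble

end Cfsg.Agent.BlockChar.PSolvableSchur
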