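import Cfsg.Agent.BlockChar.Defect
import Mathlib.GroupTheory.GroupAction.Quotient

/-!
# 2-blocks of full defect with a symmetric idempotent are principal
-/

namespace Cfsg.Agent.BlockChar

open scoped ComplexConjugate
open Cfsg.Agent Cfsg.Agent.Blocks

universe u

variable {G : Type u} [Group G] {M : Ideal Cfsg.AlgInt}

theorem index_centralizer_inv (g : G) :
    (Subgroup.centralizer ({g⁻¹} : Set G)).index = (Subgroup.centralizer ({g} : Set G)).index := by
  congr 1
  ext x
  simp only [Subgroup.mem_centralizer_iff, Set.mem_singleton_iff, forall_eq]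
  exact ⟨fun h => Commute.inv_left_iff.1 (show Commute g⁻¹ x from h), fun h => (show Commute g x from h).inv_left⟩

/-- A real element of odd order with an odd class is trivial. -/
theorem eq_one_of_real_of_odd_class [Finite G] {g : G} (hodd : Odd (orderOf g))
    (hreal : IsConj g g⁻¹) (hidx : Odd (Subgroup.centralizer ({g} : Set G)).index) : g = 1 := by
  obtain ⟨h, hh⟩ := isConj_iff.1 hreal
  let N : Subgroup G :=
    { carrier := {x | x * g * x⁻¹ = g ∨ x * g * x⁻¹ = g⁻¹}
      one_mem' := Or.inl (by simp)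
      mul_mem' := by
        intro x y hx hy
        have e : x * y * g * (x * y)⁻¹ = x * (y * g * y⁻¹) * x⁻¹ := by group
        show x * y * g * (x * y)⁻¹ = g ∨ x * y * g * (x * y)⁻¹ = g⁻¹
        rw [e]
        rcases hy with hy | hy <;> rw [hy]
        · exact hx
        · rw [← conj_inv]
          rcases hx with hx | hx <;> rw [hx]
          · exact Or.inr rfl
          · exact Or.inl (inv_inv g)
      inv_mem' := by
        intro x hx
        show x⁻¹ * g * x⁻¹⁻¹ = g ∨ x⁻¹ * g * x⁻¹⁻¹ = g⁻¹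
        rw [inv_inv]
        rcases hx with hx | hx
        · left
          conv_lhs => arg 1; arg 2; rw [← hx]
          group
        · right
          have : x * g⁻¹ * x⁻¹ = g := by rw [← conj_inv, hx, inv_inv]
          conv_lhs => arg 1; arg 2; rw [← this]
          group }
  set C := Subgroup.centralizer ({g} : Set G) with hC
  have hle : C ≤ N := fun x hx => Or.inl (by
    rw [← (Subgroup.mem_centralizer_iff.1 hx) g rfl, mul_inv_cancel_right])
  by_contra hg
  have hne : g⁻¹ ≠ g := fun e => by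
    have h2 : g ^ 2 = 1 := by rw [pow_two]; nth_rw 1 [← e]; exact inv_mul_cancel g
    have h3 := orderOf_dvd_of_pow_eq_one h2
    rcases (Nat.dvd_prime Nat.prime_two).1 h3 with h4 | h4
    · exact hg (orderOf_eq_one_iff.1 h4)
    · rw [h4] at hodd
      exact absurd hodd (by decide)
  have h2 : C.relIndex N = 2 := by
    rw [Subgroup.relIndex, Subgroup.index_eq_two_iff]
    refine ⟨⟨h, Or.inr hh⟩, fun x => ?_⟩
    have hmem : ∀ y : N, (y ∈ C.subgroupOf N) ↔ (y : G) * g * (y : G)⁻¹ = g := fun y => by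
      rw [Subgroup.mem_subgroupOf, Subgroup.mem_centralizer_iff]
      simp only [Set.mem_singleton_iff, forall_eq]
      rw [mul_inv_eq_iff_eq_mul, eq_comm]
    rw [hmem, hmem]
    have e : ((x * (⟨h, Or.inr hh⟩ : N) : N) : G) * g * ((x * (⟨h, Or.inr hh⟩ : N) : N) : G)⁻¹ =
        ((x : G) * g * (x : G)⁻¹)⁻¹ := by
      simp only [Subgroup.coe_mul]
      have e2 : (x : G) * h * g * ((x : G) * h)⁻¹ = (x : G) * (h * g * h⁻¹) * (x : G)⁻¹ := by group
      rw [e2, hh, conj_inv]
    rw [e, inv_eq_iff_eq_inv]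
    rcases x.2 with hx | hx
    · exact Or.inr ⟨hx, fun e => hne (hx ▸ e).symm⟩
    · exact Or.inl ⟨hx, fun e => hne (hx ▸ e)⟩
  have := Subgroup.relIndex_dvd_index_of_le hle
  rw [h2] at this
  exact (Nat.not_even_iff_odd.2 hidx) (even_iff_two_dvd.2 this)

/-- the additive subgroup of the local ideal -/
def idealAdd {p : ℕ} (hM : Cfsg.IsPModular p M) : AddSubgroup ℂ where
  carrier := {z | Cfsg.MemLocalIdeal M z}
  zero_mem' := memLocalIdeal_zero hM
  add_mem' := memLocalIdeal_add hM
  neg_mem' := memLocalIdeal_neg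

/-- Modulo 2 a sum over the classes that is symmetric under inversion and vanishes at the
classes of even size and at the 2-singular ones reduces to its term at the identity. -/
theorem memLocalIdeal_sum_classes_sub [Finite G] (hM : Cfsg.IsPModular 2 M) (F : G → ℂ)
    [Fintype (ConjClasses G)]
    (hF : ∀ g, Cfsg.MemLocalRing M (F g)) (hcl : Cfsg.IsClassFunction G F)
    (hsing : ∀ g, ¬ Cfsg.IsPRegular 2 g → Cfsg.MemLocalIdeal M (F g))
    (heven : ∀ g, Even (Subgroup.centralizer ({g} : Set G)).index → Cfsg.MemLocalIdeal M (F g))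
    (hsym : ∀ g, Cfsg.IsPRegular 2 g → Cfsg.MemLocalIdeal M (F g⁻¹ - F g)) :
    Cfsg.MemLocalIdeal M (∑ C : ConjClasses G, F C.out - F 1) := by
  classical
  let π := QuotientAddGroup.mk' (idealAdd hM)
  have hπ : ∀ z : ℂ, π z = 0 ↔ Cfsg.MemLocalIdeal M z := fun z =>
    QuotientAddGroup.eq_zero_iff (N := idealAdd hM) z
  let C1 := ConjClasses.mk (1 : G)
  have hout : ∀ x : G, IsConj x (ConjClasses.mk x).out := fun x =>
    (ConjClasses.mk_eq_mk_iff_isConj.1 (Quotient.out_eq (ConjClasses.mk x))).symm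
  have hone : F C1.out = F 1 := by rw [Char.classFun_isConj hcl (hout 1)]
  let ι : ConjClasses G → ConjClasses G := fun C => ConjClasses.mk C.out⁻¹
  have hinvconj : ∀ {x y : G}, IsConj x y → IsConj x⁻¹ y⁻¹ := fun {x y} h => by
    obtain ⟨c, rfl⟩ := isConj_iff.1 h
    exact isConj_iff.2 ⟨c, by group⟩
  have hι : ∀ C, ι (ι C) = C := fun C => by
    conv_rhs => rw [← Quotient.out_eq C]
    exact ConjClasses.mk_eq_mk_iff_isConj.2
      (by simpa using hinvconj (hout C.out⁻¹).symm)
  have hιF : ∀ C, F (ι C).out = F C.out⁻¹ := fun C =>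
    (Char.classFun_isConj hcl (hout _)).symm
  have hidx : ∀ C, ι C = C → C ≠ C1 → Cfsg.IsPRegular 2 C.out →
      Even (Subgroup.centralizer ({C.out} : Set G)).index := by
    intro C hC hne hreg
    by_contra hev
    refine hne ?_
    have := eq_one_of_real_of_odd_class (g := C.out)
      (Nat.odd_iff.2 (Nat.two_dvd_ne_zero.1 hreg))
      (ConjClasses.mk_eq_mk_iff_isConj.1 (hC.trans (Quotient.out_eq C).symm)).symm
      (Nat.not_even_iff_odd.1 hev)
    rw [← Quotient.out_eq C]
    show ConjClasses.mk C.out = C1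
    rw [this]
  rw [← Finset.sum_erase_add _ _ (Finset.mem_univ C1), hone, add_sub_cancel_right, ← hπ, map_sum]
  have hzero : ∀ C, C ≠ C1 → ι C = C → π (F C.out) = 0 := fun C hne hC => by
    rw [hπ]
    by_cases hreg : Cfsg.IsPRegular 2 C.out
    · exact heven _ (hidx C hC hne hreg)
    · exact hsing _ hreg
  refine Finset.sum_involution (fun C _ => ι C) ?_ ?_ ?_ (fun C _ => hι C)
  · intro C hC
    rw [hιF, ← map_add, hπ]
    by_cases hreg : Cfsg.IsPRegular 2 C.out
    · rw [show F C.out + F C.out⁻¹ = (2 : ℕ) * F C.out + (F C.out⁻¹ - F C.out) by push_cast; ring]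
      exact memLocalIdeal_add hM
        (memLocalIdeal_mul_right hM ((memLocalIdeal_natCast_iff hM 2).2 dvd_rfl) (hF _)) (hsym _ hreg)
    · exact memLocalIdeal_add hM (hsing _ hreg)
        (hsing _ (by rwa [Cfsg.IsPRegular, orderOf_inv]))
  · intro C hC hne heq
    exact hne (hzero C (Finset.ne_of_mem_erase hC) heq)
  · intro C hC
    refine Finset.mem_erase.2 ⟨fun e => Finset.ne_of_mem_erase hC ?_, Finset.mem_univ _⟩
    rw [← hι C, e]
    show ConjClasses.mk C1.out⁻¹ = C1
    refine ConjClasses.mk_eq_mk_iff_isConj.2 ?_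
    simpa using hinvconj (hout (1 : G)).symm

/-- A 2-block with an odd degree character whose idempotent coefficients and central characters
are invariant under inversion modulo `M` on the 2-regular elements is principal. -/
theorem eq_principalBlock_of_symm [Finite G] (hM : Cfsg.IsPModular 2 M)
    {B : Set (Cfsg.IrrCharacter G)} (hB : Cfsg.IsPBlock M B) {χ : Cfsg.IrrCharacter G}
    (hχ : χ ∈ B) (hodd : Odd (Cfsg.charDegree (χ : G → ℂ)))
    (ha : ∀ g, Cfsg.IsPRegular 2 g →
      Cfsg.MemLocalIdeal M (Cfsg.blockCoeff B g⁻¹ - Cfsg.blockCoeff B g))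
    (hω : ∀ g, Cfsg.IsPRegular 2 g → Cfsg.MemLocalIdeal M
      (Cfsg.centralChar (χ : G → ℂ) g⁻¹ - Cfsg.centralChar (χ : G → ℂ) g)) :
    B = Cfsg.principalBlock M G := by
  classical
  have := Fintype.ofFinite G
  have : Finite (ConjClasses G) := Quotient.finite _
  letI := Fintype.ofFinite (ConjClasses G)
  have haR := memLocalRing_blockCoeff hM hB
  have hdeg := CharArith.irr_degree_spec χ
  have h2 : ¬ 2 ∣ Cfsg.charDegree (χ : G → ℂ) := by
    rw [← even_iff_two_dvd]; exact Nat.not_even_iff_odd.2 hodd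
  have hindex : ∀ g : G, Even (Subgroup.centralizer ({g} : Set G)).index →
      Cfsg.MemLocalIdeal M (Cfsg.centralChar (χ : G → ℂ) g) := fun g hg => by
    rw [Cfsg.centralChar, hdeg.1, div_eq_mul_inv, mul_assoc]
    exact memLocalIdeal_mul_right hM ((memLocalIdeal_natCast_iff hM _).2 (even_iff_two_dvd.1 hg))
      ((localRing hM).mul_mem (memLocalRing_char hM (Char.IsIrr.isCharacter χ.2) g)
        (memLocalRing_natCast_inv hM h2))
  have key : ∀ (ψ : Cfsg.IrrCharacter G),
      (∀ g, Cfsg.IsPRegular 2 g → Cfsg.MemLocalIdeal M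
        (Cfsg.centralChar (ψ : G → ℂ) g⁻¹ - Cfsg.centralChar (ψ : G → ℂ) g)) →
      (∀ g : G, Even (Subgroup.centralizer ({g} : Set G)).index →
        Cfsg.MemLocalIdeal M (Cfsg.centralChar (ψ : G → ℂ) g)) →
      Cfsg.MemLocalIdeal M (omega (ψ : G → ℂ) (Cfsg.blockCoeff B) -
        Cfsg.blockCoeff B 1 * Cfsg.centralChar (ψ : G → ℂ) 1) := by
    intro ψ hs he
    rw [omega_eq_sum_classes (Char.isClassFunction_of_isIrr ψ.2) (isClassFunction_blockCoeff B)]
    refine memLocalIdeal_sum_classes_sub hM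
      (fun g => Cfsg.blockCoeff B g * Cfsg.centralChar (ψ : G → ℂ) g)
      (fun g => (localRing hM).mul_mem (haR g) (memLocalRing_centralChar hM ψ.2 g)) ?_ ?_ ?_ ?_
    · intro g k
      have hc := (isConj_iff.2 ⟨k, rfl⟩ : IsConj g (k * g * k⁻¹))
      have hidx : (Subgroup.centralizer ({k * g * k⁻¹} : Set G)).index =
          (Subgroup.centralizer ({g} : Set G)).index := by
        rw [← Char.card_isConj_eq_index, ← Char.card_isConj_eq_index]
        exact Nat.card_congr (Equiv.subtypeEquivRight fun y => ⟨hc.trans, hc.symm.trans⟩)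
      simp only [isClassFunction_blockCoeff B g k, Cfsg.centralChar, hidx,
        Char.isClassFunction_of_isIrr ψ.2 g k]
    · intro g hg
      rw [blockCoeff_eq_zero hM hB hg, zero_mul]
      exact memLocalIdeal_zero hM
    · exact fun g hg => memLocalIdeal_mul_left hM (haR g) (he g hg)
    · intro g hg
      rw [show Cfsg.blockCoeff B g⁻¹ * Cfsg.centralChar (ψ : G → ℂ) g⁻¹ -
          Cfsg.blockCoeff B g * Cfsg.centralChar (ψ : G → ℂ) g =
          (Cfsg.blockCoeff B g⁻¹ - Cfsg.blockCoeff B g) * Cfsg.centralChar (ψ : G → ℂ) g⁻¹ +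
          Cfsg.blockCoeff B g * (Cfsg.centralChar (ψ : G → ℂ) g⁻¹ -
            Cfsg.centralChar (ψ : G → ℂ) g) by ring]
      exact memLocalIdeal_add hM
        (memLocalIdeal_mul_right hM (ha g hg) (memLocalRing_centralChar hM ψ.2 _))
        (memLocalIdeal_mul_left hM (haR g) (hs g hg))
  have hωone : ∀ ψ : Cfsg.IrrCharacter G, Cfsg.centralChar (ψ : G → ℂ) 1 = 1 := fun ψ => by
    have htop : Subgroup.centralizer ({(1 : G)} : Set G) = ⊤ :=
      eq_top_iff.2 fun g _ => Subgroup.mem_centralizer_iff.2 fun h hh => by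
        rw [Set.mem_singleton_iff.1 hh, one_mul, mul_one]
    rw [Cfsg.centralChar, htop, Subgroup.index_top, Nat.cast_one, one_mul,
      div_self (Char.IsIrr.one_ne_zero ψ.2)]
  have k1 := key χ hω hindex
  rw [omega_blockCoeff, if_pos hχ, hωone, mul_one] at k1
  have k2 := key (triv G) (fun g _ => by
    show Cfsg.MemLocalIdeal M
      (Cfsg.centralChar (fun _ : G => (1 : ℂ)) g⁻¹ - Cfsg.centralChar (fun _ : G => (1 : ℂ)) g)
    rw [centralChar_one, centralChar_one, index_centralizer_inv, sub_self]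
    exact memLocalIdeal_zero hM) (fun g hg => by
    show Cfsg.MemLocalIdeal M (Cfsg.centralChar (fun _ : G => (1 : ℂ)) g)
    rw [centralChar_one]
    exact (memLocalIdeal_natCast_iff hM _).2 (even_iff_two_dvd.1 hg))
  rw [omega_blockCoeff, hωone, mul_one] at k2
  have htriv : triv G ∈ B := by
    by_contra h
    rw [if_neg h] at k2
    have := memLocalIdeal_sub hM k1 k2
    exact not_memLocalIdeal_one hM (by simpa using this)
  rw [IsPBlock.eq_blockOf hM hB htriv, principalBlock_eq]

/-- The degree-preserving permutation form: `τ` maps the block into itself and inverts the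
2-regular elements. -/
theorem eq_principalBlock_of_perm [Finite G] (hM : Cfsg.IsPModular 2 M)
    {B : Set (Cfsg.IrrCharacter G)} (hB : Cfsg.IsPBlock M B) {χ : Cfsg.IrrCharacter G}
    (hχ : χ ∈ B) (hodd : Odd (Cfsg.charDegree (χ : G → ℂ)))
    (τ : Cfsg.IrrCharacter G → Cfsg.IrrCharacter G) (hτB : ∀ ψ ∈ B, τ ψ ∈ B)
    (hinj : Set.InjOn τ B) (hone : ∀ ψ ∈ B, (τ ψ : G → ℂ) 1 = (ψ : G → ℂ) 1)
    (hval : ∀ ψ ∈ B, ∀ g, Cfsg.IsPRegular 2 g → (τ ψ : G → ℂ) g = (ψ : G → ℂ) g⁻¹) :
    B = Cfsg.principalBlock M G := by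
  classical
  have := Fintype.ofFinite G
  refine eq_principalBlock_of_symm hM hB hχ hodd (fun g hg => ?_) (fun g hg => ?_)
  · suffices Cfsg.blockCoeff B g⁻¹ = Cfsg.blockCoeff B g by
      rw [this, sub_self]; exact memLocalIdeal_zero hM
    rw [blockCoeff_eq_sum B, blockCoeff_eq_sum B]
    congr 1
    simp only [← Finset.sum_filter]
    have himg : (Finset.univ.filter (· ∈ B)).image τ = Finset.univ.filter (· ∈ B) := by
      refine Finset.eq_of_subset_of_card_le ?_ ?_
      · intro ψ hψ
        obtain ⟨φ, hφ, rfl⟩ := Finset.mem_image.1 hψ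
        exact Finset.mem_filter.2 ⟨Finset.mem_univ _, hτB φ (Finset.mem_filter.1 hφ).2⟩
      · exact (Finset.card_image_of_injOn fun a ha b hb e => hinj (by simpa using ha)
          (by simpa using hb) e).ge
    conv_rhs => rw [← himg]
    rw [Finset.sum_image fun a ha b hb e => hinj (by simpa using ha) (by simpa using hb) e]
    refine Finset.sum_congr rfl fun ψ hψ => ?_
    have hψB := (Finset.mem_filter.1 hψ).2
    rw [hone ψ hψB, hval ψ hψB g hg]
  · have e : Cfsg.centralChar (τ χ : G → ℂ) g = Cfsg.centralChar (χ : G → ℂ) g⁻¹ := by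
      rw [Cfsg.centralChar, Cfsg.centralChar, hone χ hχ, hval χ hχ g hg, index_centralizer_inv]
    rw [← e]
    exact IsPBlock.sameBlock hM hB (hτB χ hχ) hχ g

/-- In a block of full defect some degree is prime to `p`. -/
theorem exists_degree_not_dvd [Finite G] {p : ℕ} (hM : Cfsg.IsPModular p M)
    {B : Set (Cfsg.IrrCharacter G)} (hB : Cfsg.IsPBlock M B)
    (hdef : Cfsg.blockDefect p B = (Nat.card G).factorization p) :
    ∃ χ ∈ B, ¬ p ∣ Cfsg.charDegree (χ : G → ℂ) := by
  obtain ⟨χ, hχ, hv⟩ := exists_height_zero (p := p) (IsPBlock.nonempty hM hB)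
  refine ⟨χ, hχ, fun hd => ?_⟩
  have h1 := Nat.Prime.factorization_pos_of_dvd hM.1 (CharArith.irr_degree_spec χ).2.ne' hd
  have h2 := degree_val_le (p := p) χ
  rw [blockDefect_eq] at hdef
  omega

end Cfsg.Agent.BlockChar
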