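import Cfsg.Agent.Blocks.Principal
import Cfsg.Agent.Blocks.FixedPoints
import Cfsg.Agent.Blocks.Projection
import Mathlib.GroupTheory.Transfer

/-!
Characters of `p'`-degree of the principal block over a `p'`-degree character of a normal subgroup
-/

namespace Cfsg.Agent.BlockChar

open scoped ComplexConjugate
open Cfsg.Agent Cfsg.Agent.Blocks

universe u

variable {G : Type u} [Group G] [Fintype G] {p : ℕ} [Fact p.Prime] {M : Ideal Cfsg.AlgInt}

/-- The centraliser of a Sylow subgroup has a normal `p`-complement. -/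
theorem exists_complement_centralizer_sylow (P : Sylow p G) :
    ∃ K : Subgroup (Subgroup.centralizer ((P : Subgroup G) : Set G)), K.Normal ∧
      ¬ p ∣ Nat.card K ∧ ∃ k, K.index = p ^ k := by
  classical
  set H := Subgroup.centralizer ((P : Subgroup G) : Set G) with hH
  obtain ⟨Q⟩ := (inferInstance : Nonempty (Sylow p H))
  have hQP : (Q : Subgroup H).map H.subtype ≤ (P : Subgroup G) := by
    have h1 : IsPGroup p ((Q : Subgroup H).map H.subtype) := Q.2.map _
    have h2 : (Q : Subgroup H).map H.subtype ≤ Subgroup.normalizer ((P : Subgroup G) : Set G) :=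
      (Subgroup.map_subtype_le _).trans (Subgroup.centralizer_le_normalizer _)
    have h3 := h1.to_sup_of_normal_right' P.2 h2
    exact le_sup_left.trans (P.3 h3 le_sup_right).le
  have hcen : ∀ s ∈ (Q : Subgroup H), ∀ h : H, h * s = s * h := fun s hs h => Subtype.ext
    (Subgroup.mem_centralizer_iff.1 h.2 _ (hQP (Subgroup.mem_map_of_mem _ hs))).symm
  haveI : IsMulCommutative (Q : Subgroup H) := ⟨⟨fun a b => Subtype.ext (hcen b.1 b.2 a.1)⟩⟩
  have hN : Subgroup.normalizer ((Q : Subgroup H) : Set H) ≤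
      Subgroup.centralizer ((Q : Subgroup H) : Set H) := fun h _ =>
    Subgroup.mem_centralizer_iff.2 fun s hs => (hcen s hs h).symm
  have hc := MonoidHom.ker_transferSylow_isComplement' Q hN
  refine ⟨(MonoidHom.transferSylow Q hN).ker, inferInstance, ?_, ?_⟩
  · rw [← hc.index_eq_card]
    exact Q.not_dvd_index
  · obtain ⟨k, hk⟩ := IsPGroup.iff_card.1 Q.2
    exact ⟨k, by rw [hc.symm.index_eq_card]; exact hk⟩

/-- The sum of the coefficients of the principal idempotent over a normal subgroup is a unit. -/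
theorem not_memLocalIdeal_sum_blockCoeff (hM : Cfsg.IsPModular p M) (N : Subgroup G) [hNn : N.Normal]
    [Fintype N] :
    ¬ Cfsg.MemLocalIdeal M (∑ n : N, Cfsg.blockCoeff (Cfsg.principalBlock M G) (n : G)) := by
  classical
  intro hS
  have hB := isPBlock_principalBlock (G := G) M
  obtain ⟨P⟩ := (inferInstance : Nonempty (Sylow p G))
  have hH : ∀ a : G, a ∈ Subgroup.centralizer ((P : Subgroup G) : Set G) ↔
      ∀ u ∈ (P : Subgroup G), u * a = a * u := fun a => Subgroup.mem_centralizer_iff
  obtain ⟨K, hKn, hK, hKi⟩ := exists_complement_centralizer_sylow P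
  -- the action of `P` on `N`
  letI : MulAction (P : Subgroup G) N :=
    { smul := fun u n => ⟨(u : G) * n * (u : G)⁻¹, hNn.conj_mem _ n.2 _⟩
      one_smul := fun n => Subtype.ext (by show ((1 : (P : Subgroup G)) : G) * n * _ = _; simp)
      mul_smul := fun u v n => Subtype.ext (by
        show ((u * v : (P : Subgroup G)) : G) * n * _ = (u : G) * ((v : G) * n * (v : G)⁻¹) * (u : G)⁻¹
        simp [mul_assoc]) }
  have hfix := memLocalIdeal_sum_sub_fixed (α := N) hM P.2
    (fun n => Cfsg.blockCoeff (Cfsg.principalBlock M G) (n : G))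
    (fun n => memLocalRing_blockCoeff hM hB _)
    (fun u n => isClassFunction_blockCoeff _ (n : G) (u : G))
  have h1 := memLocalIdeal_sub hM hS hfix
  rw [sub_sub_cancel] at h1
  have hmem : ∀ n : N, n ∈ MulAction.fixedPoints (P : Subgroup G) N ↔
      (n : G) ∈ Subgroup.centralizer ((P : Subgroup G) : Set G) := fun n => by
    rw [MulAction.mem_fixedPoints, hH]
    constructor
    · intro h u hu
      have := congrArg Subtype.val (h ⟨u, hu⟩)
      change u * n * u⁻¹ = n at this
      rwa [mul_inv_eq_iff_eq_mul] at this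
    · intro h u
      exact Subtype.ext (show (u : G) * n * (u : G)⁻¹ = n by
        rw [mul_inv_eq_iff_eq_mul]; exact h u u.2)
  have e : ∑ n ∈ Finset.univ.filter (· ∈ MulAction.fixedPoints (P : Subgroup G) N),
      Cfsg.blockCoeff (Cfsg.principalBlock M G) (n : G) =
      ∑ a ∈ Finset.univ.filter (fun a : Subgroup.centralizer ((P : Subgroup G) : Set G) =>
        (a : G) ∈ N), Cfsg.blockCoeff (Cfsg.principalBlock M G) (a : G) := by
    refine Finset.sum_bij (fun n hn => ⟨(n : G), (hmem n).1 (Finset.mem_filter.1 hn).2⟩)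
      (fun n hn => Finset.mem_filter.2 ⟨Finset.mem_univ _, n.2⟩)
      (fun n _ n' _ h => Subtype.ext (by simpa using h))
      (fun a ha => ⟨⟨(a : G), (Finset.mem_filter.1 ha).2⟩,
        Finset.mem_filter.2 ⟨Finset.mem_univ _, (hmem _).2 a.2⟩, rfl⟩) fun n hn => rfl
  rw [e] at h1
  have h2 : Cfsg.MemLocalIdeal M (∑ a ∈ Finset.univ.filter
      (fun a : Subgroup.centralizer ((P : Subgroup G) : Set G) => (a : G) ∈ N),
      Cfsg.blockCoeff (Cfsg.principalBlock M (Subgroup.centralizer ((P : Subgroup G) : Set G))) a) := by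
    have h3 : Cfsg.MemLocalIdeal M (∑ a ∈ Finset.univ.filter
      (fun a : Subgroup.centralizer ((P : Subgroup G) : Set G) => (a : G) ∈ N),
        (Cfsg.blockCoeff (Cfsg.principalBlock M G) (a : G) - Cfsg.blockCoeff
          (Cfsg.principalBlock M (Subgroup.centralizer ((P : Subgroup G) : Set G))) a)) :=
      memLocalIdeal_sum hM _ fun a _ => by
        have := memLocalIdeal_res_blockCoeff_sub hM P.2 hH hB a
        rwa [inducing_principalBlock hM P.2 hH] at this
    have := memLocalIdeal_sub hM h1 h3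
    rw [← Finset.sum_sub_distrib] at this
    simpa only [sub_sub_cancel] using this
  simp only [blockCoeff_principalBlock_of_complement hM K hK hKi] at h2
  rw [← Finset.sum_filter, Finset.sum_const, nsmul_eq_mul, Finset.filter_filter] at h2
  obtain ⟨c, hc⟩ : ∃ c : ℕ, (Finset.univ.filter (fun a : Subgroup.centralizer
      ((P : Subgroup G) : Set G) => (a : G) ∈ N ∧ a ∈ K)).card = c := ⟨_, rfl⟩
  rw [hc] at h2
  have hcd : c ∣ Nat.card K := by
    have : c = Nat.card (N.subgroupOf _ ⊓ K : Subgroup (Subgroup.centralizer ((P : Subgroup G) : Set G))) := by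
      rw [Nat.card_eq_fintype_card, Fintype.card_subtype, ← hc]
      exact congrArg Finset.card (Finset.filter_congr fun a _ => by simp [Subgroup.mem_subgroupOf])
    rw [this]
    exact Subgroup.card_dvd_of_le inf_le_right
  have h4 := memLocalIdeal_mul_right hM h2 (memLocalRing_natCast hM (Nat.card K))
  rw [mul_assoc, inv_mul_cancel₀ (Nat.cast_ne_zero.2 Nat.card_pos.ne'), mul_one,
    memLocalIdeal_natCast_iff hM] at h4
  exact hK (h4.trans hcd)

/-- Over a `P`-extendible `p'`-degree character of the principal block there is one of `G`. -/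
theorem exists_over_extendible (hM : Cfsg.IsPModular p M) (N : Subgroup G) [N.Normal] [Fintype N]
    (J : Subgroup G) [Fintype J] (hNJ : N ≤ J) (hJp : ¬ p ∣ J.index)
    (hJN : ∀ y ∈ J, y ∉ N → p ∣ orderOf y)
    (θ : Cfsg.IrrCharacter N) (hθ : θ ∈ Cfsg.principalBlock M N)
    (hdeg : ¬ p ∣ Cfsg.charDegree (θ : N → ℂ)) (η : Cfsg.IrrCharacter J)
    (hext : ∀ n : N, (η : J → ℂ) (Subgroup.inclusion hNJ n) = (θ : N → ℂ) n) :
    ∃ χ : Cfsg.IrrCharacter G, χ ∈ Cfsg.principalBlock M G ∧
      ¬ p ∣ Cfsg.charDegree (χ : G → ℂ) ∧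
      Cfsg.classInner (fun n : N => (χ : G → ℂ) n) (θ : N → ℂ) ≠ 0 := by
  classical
  by_contra hcon
  push Not at hcon
  have hB := isPBlock_principalBlock (G := G) M
  choose m hm using fun χ : Cfsg.IrrCharacter G => Char.classInner_isCharacter_eq_natCast
    (Char.IsIrr.isCharacter η.2) (Char.isCharacter_res J (Char.IsIrr.isCharacter χ.2))
  -- constituents on `J` are constituents on `N`
  have hzero : ∀ χ : Cfsg.IrrCharacter G,
      Cfsg.classInner (fun n : N => (χ : G → ℂ) n) (θ : N → ℂ) = 0 → m χ = 0 := by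
    intro χ h0
    obtain ⟨c, hc, hexp, -⟩ := Char.IsChar.exists_mult
      (Char.isCharacter_res J (Char.IsIrr.isCharacter χ.2))
    have hres : ∀ ψ : Cfsg.IrrCharacter J, ∃ k : ℕ, Cfsg.classInner
        (fun n : N => (ψ : J → ℂ) (Subgroup.inclusion hNJ n)) (θ : N → ℂ) = k := fun ψ =>
      Char.classInner_isCharacter_eq_natCast
        (Char.isCharacter_comp (Subgroup.inclusion hNJ) (Char.IsIrr.isCharacter ψ.2))
        (Char.IsIrr.isCharacter θ.2)
    choose k hk using hres
    have h1 : ((∑ ψ, c ψ * k ψ : ℕ) : ℂ) =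
        Cfsg.classInner (fun n : N => (χ : G → ℂ) n) (θ : N → ℂ) := by
      have e : (fun n : N => (χ : G → ℂ) n) =
          fun n => ∑ ψ, (c ψ : ℂ) * (ψ : J → ℂ) (Subgroup.inclusion hNJ n) := by
        funext n
        have := congrFun hexp (Subgroup.inclusion hNJ n)
        simpa [Finset.sum_apply] using this
      rw [e]
      push_cast
      simp only [← hk, Cfsg.classInner, Finset.mul_sum, Finset.sum_mul]
      rw [Finset.sum_comm]
      exact Finset.sum_congr rfl fun n _ => Finset.sum_congr rfl fun ψ _ => by ring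
    rw [h0, Nat.cast_eq_zero, Finset.sum_eq_zero_iff] at h1
    have hη : k η = 1 := by
      have := hk η
      rw [funext hext, Char.classInner_irr_self θ.2] at this
      exact_mod_cast this.symm
    have h2 := h1 η (Finset.mem_univ _)
    rw [hη, mul_one] at h2
    have h3 : (m χ : ℂ) = (c η : ℂ) := by
      rw [← hm χ, ← Char.classInner_conj_symm, hc, Complex.conj_natCast]
    rw [h2, Nat.cast_zero] at h3
    exact_mod_cast h3
  obtain ⟨deg, hdeg'⟩ : ∃ d : Cfsg.IrrCharacter G → ℕ, ∀ χ : Cfsg.IrrCharacter G, Cfsg.charDegree (χ : G → ℂ) = d χ :=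
    ⟨_, fun _ => rfl⟩
  have hD : Cfsg.MemLocalIdeal M (((∑ χ : Cfsg.IrrCharacter G,
      if χ ∈ Cfsg.principalBlock M G then deg χ * m χ else 0) : ℕ) : ℂ) := by
    rw [memLocalIdeal_natCast_iff hM]
    refine Finset.dvd_sum fun χ _ => ?_
    split_ifs with h
    · by_cases hd : p ∣ deg χ
      · exact dvd_mul_of_dvd_left hd _
      · rw [hzero χ (hcon χ h (hdeg' χ ▸ hd)), mul_zero]
        exact dvd_zero p
    · exact dvd_zero p
  -- the same number through the block idempotent
  have key : ((∑ χ : Cfsg.IrrCharacter G,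
      if χ ∈ Cfsg.principalBlock M G then deg χ * m χ else 0 : ℕ) : ℂ) =
      (J.index : ℂ) * ∑ n : N, (θ : N → ℂ) n * Cfsg.blockCoeff (Cfsg.principalBlock M G) (n : G) := by
    have e1 : ((∑ χ : Cfsg.IrrCharacter G,
        if χ ∈ Cfsg.principalBlock M G then deg χ * m χ else 0 : ℕ) : ℂ) =
        (J.index : ℂ) * ∑ y : J, (η : J → ℂ) y *
          Cfsg.blockCoeff (Cfsg.principalBlock M G) (y : G) := by
      have hcard : (Nat.card G : ℂ) = (Nat.card J : ℂ) * J.index := by
        exact_mod_cast (J.card_mul_index).symm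
      simp only [blockCoeff_eq_sum, Finset.mul_sum]
      push_cast
      rw [Finset.sum_comm]
      refine Finset.sum_congr rfl fun χ _ => ?_
      split_ifs with h
      · rw [← hdeg' χ, ← hm χ, ← (CharArith.irr_degree_spec χ).1, Cfsg.classInner, Finset.mul_sum,
          Finset.mul_sum, hcard]
        refine Finset.sum_congr rfl fun y _ => ?_
        have hJ : (Nat.card J : ℂ) ≠ 0 := Nat.cast_ne_zero.2 Nat.card_pos.ne'
        have hi : (J.index : ℂ) ≠ 0 := Nat.cast_ne_zero.2 Subgroup.index_ne_zero_of_finite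
        field_simp
      · simp
    rw [e1]
    congr 1
    refine (Finset.sum_of_injOn (Subgroup.inclusion hNJ) (fun a _ b _ h => Subgroup.inclusion_injective hNJ h)
      (fun a _ => Finset.mem_univ _) (fun y _ hy => ?_) fun n _ => ?_).symm
    · rw [blockCoeff_eq_zero_of_dvd hM hB (hJN _ y.2 fun hyN => hy ⟨⟨_, hyN⟩, Finset.mem_coe.2 (Finset.mem_univ _), Subtype.ext rfl⟩),
        mul_zero]
    · rw [hext]; rfl
  rw [key] at hD
  have hE : Cfsg.MemLocalIdeal M (∑ n : N, (θ : N → ℂ) n *
      Cfsg.blockCoeff (Cfsg.principalBlock M G) (n : G)) := by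
    have h := memLocalIdeal_mul_left hM (memLocalRing_natCast_inv hM hJp) hD
    rwa [inv_mul_cancel_left₀ (Nat.cast_ne_zero.2 Subgroup.index_ne_zero_of_finite)] at h
  refine not_memLocalIdeal_sum_blockCoeff hM N ?_
  have h := memLocalIdeal_omega_sub hM θ.2 Char.isIrrCharacter_one
    (isClassFunction_res N (isClassFunction_blockCoeff (Cfsg.principalBlock M G)))
    (fun a => memLocalRing_blockCoeff hM hB (a : G)) (sameBlock_symm hθ)
  simp only [omega, mul_one, div_one] at h
  have h5 : Cfsg.MemLocalIdeal M ((∑ n : N, Cfsg.blockCoeff (Cfsg.principalBlock M G) (n : G) *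
      (θ : N → ℂ) n) / (θ : N → ℂ) 1) := by
    rw [div_eq_mul_inv, (CharArith.irr_degree_spec θ).1]
    refine memLocalIdeal_mul_right hM ?_ (memLocalRing_natCast_inv hM hdeg)
    simpa only [mul_comm] using hE
  simpa using memLocalIdeal_sub hM h5 h

end Cfsg.Agent.BlockChar
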