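import Cfsg.Agent.BlockChar.CentralQuotient

/-!
# The rank of the principal block and a centralized normal p-subgroup
-/

namespace Cfsg.Agent.BlockChar

open Cfsg.Agent Cfsg.Agent.Blocks

universe u

variable {G : Type u} [Group G] {p : ℕ} {M : Ideal Cfsg.AlgInt} (N : Subgroup G) [N.Normal]

theorem index_centralizer_eq_pow_of_sup [Finite G] [Fact p.Prime] (hN : IsPGroup p N)
    (hG : N ⊔ Subgroup.centralizer (N : Set G) = ⊤) :
    ∃ k : ℕ, (Subgroup.centralizer (N : Set G)).index = p ^ k := by
  obtain ⟨k, hk⟩ := IsPGroup.iff_card.1 hN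
  have h1 : (Subgroup.centralizer (N : Set G)).index ∣ p ^ k := by
    rw [← hk]
    have e : (Subgroup.centralizer (N : Set G)).relIndex N =
        (Subgroup.centralizer (N : Set G)).index := by
      rw [← Subgroup.relIndex_top_right, ← hG, Subgroup.relIndex_sup_right]
    exact e ▸ Subgroup.relIndex_dvd_card _ _
  obtain ⟨i, -, hi⟩ := (Nat.dvd_prime_pow (Fact.out : p.Prime)).1 h1
  exact ⟨i, hi⟩

theorem blockRank_principal_quotient [Finite G] (hM : Cfsg.IsPModular p M) (hN : IsPGroup p N)
    (hG : N ⊔ Subgroup.centralizer (N : Set G) = ⊤) :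
    Cfsg.blockRank p (Cfsg.principalBlock M G) =
      Cfsg.blockRank p (Cfsg.principalBlock M (G ⧸ N)) := by
  have := Fact.mk hM.1
  have hC := index_centralizer_eq_pow_of_sup N hN hG
  have hiff : ∀ η, η ∈ Cfsg.principalBlock M (G ⧸ N) ↔
      inflIrr N η ∈ Cfsg.principalBlock M G := fun η => by
    rw [principalBlock_eq, principalBlock_eq, mem_blockOf, mem_blockOf,
      BlockThms.sameBlock_quotient_iff N hM hN hC]
    rfl
  exact le_antisymm (blockRank_le_quotient_of_sup N hM hN hG (isPBlock_principalBlock M) hiff)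
    (blockRank_quotient_le N hM.1 fun η hη => (hiff η).1 hη)

end Cfsg.Agent.BlockChar
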