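import Cfsg.Agent.Char.Perm
import Cfsg.Agent.Char.FS
import Cfsg.Agent.Char.Gen
import Mathlib

/-!
The action of a group on the real characters and the real classes of a normal subgroup
-/

set_option autoImplicit false

namespace Cfsg.Agent.RealPrime

open Cfsg Cfsg.Agent

universe u

variable {G : Type u} [Group G]

/-- Inversion of classes. -/
def classInv {K : Type u} [Group K] : ConjClasses K → ConjClasses K :=
  Quotient.lift (fun k => ConjClasses.mk k⁻¹) fun a b h => by
    obtain ⟨c, hc⟩ := isConj_iff.1 h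
    refine ConjClasses.mk_eq_mk_iff_isConj.2 (isConj_iff.2 ⟨c, ?_⟩)
    rw [← hc]; group

theorem classInv_mk {K : Type u} [Group K] (k : K) :
    classInv (ConjClasses.mk k) = ConjClasses.mk k⁻¹ := rfl

/-- The real irreducible characters. -/
abbrev RealChar (K : Subgroup G) : Type u :=
  {θ : Cfsg.IrrCharacter K // ∀ k : K, ((θ : K → ℂ) k).im = 0}

/-- The real classes. -/
abbrev RealCls (K : Subgroup G) : Type u := {C : ConjClasses K // classInv C = C}

instance realCharAction (K : Subgroup G) [K.Normal] [Finite G] : MulAction G (RealChar K) where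
  smul g θ := ⟨⟨fun k => (θ.1 : K → ℂ) ((MulAut.conjNormal g⁻¹ : MulAut K) k),
    (Char.isIrrCharacter_comp_equiv (MulAut.conjNormal g⁻¹ : MulAut K)).2 θ.1.2⟩, fun k => θ.2 _⟩
  one_smul θ := Subtype.ext (Subtype.ext (funext fun k => by
    show (θ.1 : K → ℂ) ((MulAut.conjNormal (1 : G)⁻¹ : MulAut K) k) = _
    rw [inv_one, map_one]; rfl))
  mul_smul g h θ := Subtype.ext (Subtype.ext (funext fun k => by
    show (θ.1 : K → ℂ) ((MulAut.conjNormal (g * h)⁻¹ : MulAut K) k) = (θ.1 : K → ℂ)
      ((MulAut.conjNormal h⁻¹ : MulAut K) ((MulAut.conjNormal g⁻¹ : MulAut K) k))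
    rw [mul_inv_rev, map_mul]; rfl))

theorem classInv_map {K : Subgroup G} (b : MulAut K) (C : ConjClasses K) :
    classInv (ConjClasses.map b.toMonoidHom C) = ConjClasses.map b.toMonoidHom (classInv C) := by
  obtain ⟨k, rfl⟩ := ConjClasses.mk_surjective C
  show ConjClasses.mk (b k)⁻¹ = ConjClasses.mk (b k⁻¹)
  rw [map_inv]

instance realClsAction (K : Subgroup G) [K.Normal] : MulAction G (RealCls K) where
  smul g C := ⟨ConjClasses.map (MulAut.conjNormal g : MulAut K).toMonoidHom C.1,
    by rw [classInv_map, C.2]⟩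
  one_smul C := Subtype.ext (by
    obtain ⟨k, hk⟩ := ConjClasses.mk_surjective C.1
    show ConjClasses.map (MulAut.conjNormal 1 : MulAut K).toMonoidHom C.1 = C.1
    rw [← hk, map_one]; rfl)
  mul_smul g h C := Subtype.ext (by
    obtain ⟨k, hk⟩ := ConjClasses.mk_surjective C.1
    show ConjClasses.map (MulAut.conjNormal (g * h) : MulAut K).toMonoidHom C.1 =
      ConjClasses.map (MulAut.conjNormal g : MulAut K).toMonoidHom
        (ConjClasses.map (MulAut.conjNormal h : MulAut K).toMonoidHom C.1)
    rw [← hk, map_mul]; rfl)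

theorem smul_realChar_apply {K : Subgroup G} [K.Normal] [Finite G] (g : G) (θ : RealChar K)
    (k : K) : ((g • θ).1 : K → ℂ) k = (θ.1 : K → ℂ) ((MulAut.conjNormal g⁻¹ : MulAut K) k) := rfl

theorem smul_realCls_mk {K : Subgroup G} [K.Normal] (g : G) (k : K)
    (h : classInv (ConjClasses.mk k) = ConjClasses.mk k) :
    ((g • (⟨ConjClasses.mk k, h⟩ : RealCls K))).1 =
      ConjClasses.mk ((MulAut.conjNormal g : MulAut K) k) := rfl

theorem card_fixedBy_eq [Finite G] (K : Subgroup G) [K.Normal] (hodd : Odd K.index) (g₀ : G) :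
    Nat.card (MulAction.fixedBy (RealChar K) g₀) = Nat.card (MulAction.fixedBy (RealCls K) g₀) := by
  classical
  have := Fintype.ofFinite G
  have := Fintype.ofFinite K
  let X := RealChar K
  let Y := RealCls K
  let inv : ConjClasses K → ConjClasses K := classInv
  have hinv : ∀ k : K, inv (ConjClasses.mk k) = ConjClasses.mk k⁻¹ := fun k => rfl
  have : Finite (ConjClasses K) := Quotient.finite _
  let a : G →* MulAut K := MulAut.conjNormal
  have hinvmap : ∀ (g : G) (C : ConjClasses K),
      inv (ConjClasses.map (a g).toMonoidHom C) = ConjClasses.map (a g).toMonoidHom (inv C) :=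
    fun g C => classInv_map (a g) C
  -- a twisted map with an odd power equal to the identity
  have hodd' : ∀ {α : Type _} (f c : α → α) (x : α), (∀ y, c (c y) = y) → (∀ y, f (c y) = c (f y)) →
      ∀ m : ℕ, Odd m → f^[m] x = x → c (f x) = x → f x = x ∧ c x = x := by
    intro α f c x hcc hcomm m hm hfm hcfx
    have hfx : f x = c x := by rw [← hcc (f x), hcfx]
    have h2 : f^[2] x = x := by
      show f (f x) = x
      rw [hfx, hcomm, hfx, hcc]
    obtain ⟨j, rfl⟩ := hm
    have h3 : ∀ i, f^[2 * i] x = x := by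
      intro i
      induction i with
      | zero => rfl
      | succ i ih => rw [Nat.mul_succ, Function.iterate_add_apply, h2, ih]
    rw [show 2 * j + 1 = (2 * j).succ from rfl, Function.iterate_succ_apply', h3] at hfm
    exact ⟨hfm, hfx.symm.trans hfm⟩
  have key : ∀ g : G, Nat.card (MulAction.fixedBy X g) = Nat.card (MulAction.fixedBy Y g) := by
    intro g
    set b := a g⁻¹ with hb
    have hbK : g⁻¹ ^ K.index ∈ K := Subgroup.pow_index_mem K g⁻¹
    let f : IrrCharacter K → IrrCharacter K := fun θ =>
      ⟨fun k => (θ : K → ℂ) (b k), (Char.isIrrCharacter_comp_equiv b).2 θ.2⟩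
    let F : ConjClasses K → ConjClasses K := ConjClasses.map b.toMonoidHom
    have hfit : ∀ (i : ℕ) (θ : IrrCharacter K) (k : K),
        (f^[i] θ : K → ℂ) k = (θ : K → ℂ) (a (g⁻¹ ^ i) k) := by
      intro i
      induction i with
      | zero => intro θ k; rw [pow_zero, map_one]; rfl
      | succ i ih =>
        intro θ k
        rw [Function.iterate_succ_apply, ih, pow_succ', map_mul]
        rfl
    have hFit : ∀ (i : ℕ) (k : K),
        F^[i] (ConjClasses.mk k) = ConjClasses.mk (a (g⁻¹ ^ i) k) := by
      intro i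
      induction i with
      | zero => intro k; rw [pow_zero, map_one]; rfl
      | succ i ih => intro k; rw [Function.iterate_succ_apply', ih, pow_succ', map_mul]; rfl
    have hf : ∀ θ, f^[K.index] θ = θ := fun θ => Subtype.ext (funext fun k => by
      rw [hfit]
      exact (congrArg (θ : K → ℂ) (Subtype.ext rfl)).trans
        (Char.isClassFunction_of_isIrr θ.2 k ⟨_, hbK⟩))
    have hF : ∀ C, F^[K.index] C = C := fun C => by
      obtain ⟨k, rfl⟩ := ConjClasses.mk_surjective C
      rw [hFit]
      exact ConjClasses.mk_eq_mk_iff_isConj.2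
        (isConj_iff.2 ⟨⟨_, hbK⟩, Subtype.ext rfl⟩).symm
    have hinv2 : ∀ C, inv (inv C) = C := fun C => by
      obtain ⟨k, rfl⟩ := ConjClasses.mk_surjective C
      rw [hinv, hinv, inv_inv]
    have hbr := Char.brauer_permutation (fun θ => Char.conjIrr (f θ)) (fun C => inv (F C))
      (fun θ k k' h => by
        show (starRingEnd ℂ) ((θ : K → ℂ) (b k)) = (θ : K → ℂ) k'
        rw [← Char.IsChar.inv_eq_conj (Char.IsIrr.isCharacter θ.2)]
        exact Char.classFun_isConj (Char.isClassFunction_of_isIrr θ.2)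
          (ConjClasses.mk_eq_mk_iff_isConj.1 h))
    have e1 : Nat.card (MulAction.fixedBy X g) =
        Nat.card {θ : IrrCharacter K // Char.conjIrr (f θ) = θ} := by
      refine Nat.card_congr
        { toFun := fun θ => ⟨θ.1.1, ?_⟩
          invFun := fun θ => ⟨⟨θ.1, ?_⟩, ?_⟩
          left_inv := fun _ => rfl
          right_inv := fun _ => rfl }
      · have h1 : f θ.1.1 = θ.1.1 := congrArg Subtype.val θ.2
        rw [h1]
        exact (Char.conjIrr_eq_iff _).2 θ.1.2
      · exact (Char.conjIrr_eq_iff _).1 (hodd' f Char.conjIrr θ.1 Char.conjIrr_conjIrr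
          (fun y => Subtype.ext rfl) _ hodd (hf _) θ.2).2
      · exact Subtype.ext (hodd' f Char.conjIrr θ.1 Char.conjIrr_conjIrr
          (fun y => Subtype.ext rfl) _ hodd (hf _) θ.2).1
    have e2 : Nat.card (MulAction.fixedBy Y g) = Nat.card {C : ConjClasses K // inv (F C) = C} := by
      have hgF : ∀ C : Y, g • C = C ↔ F C.1 = C.1 := by
        intro C
        rw [← inv_smul_eq_iff.trans eq_comm]
        exact Subtype.ext_iff
      refine Nat.card_congr
        { toFun := fun C => ⟨C.1.1, by rw [(hgF C.1).1 C.2]; exact C.1.2⟩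
          invFun := fun C => ⟨⟨C.1, (hodd' F inv C.1 hinv2 (fun y => (hinvmap _ y).symm) _ hodd
            (hF _) C.2).2⟩, (hgF _).2 (hodd' F inv C.1 hinv2 (fun y => (hinvmap _ y).symm) _ hodd
            (hF _) C.2).1⟩
          left_inv := fun _ => rfl
          right_inv := fun _ => rfl }
    rw [e1, e2, hbr]
  exact key g₀

end Cfsg.Agent.RealPrime
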