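import Mathlib
import Cfsg.Agent.Core.Basics

/-!
Orbits of size prime to `p` on two sets with the same permutation character
-/

set_option autoImplicit false

namespace Cfsg.Agent.RealPrime

open MulAction Cfsg.Agent
open scoped commutatorElement

universe u v w

variable {H : Type u} [Group H] {A : Type v} {B : Type w} [MulAction H A] [MulAction H B]

/-- All orbits of `L` have order prime to `p`. -/
def PrimeOrbits (p : ℕ) (L : Subgroup H) (A : Type v) [MulAction H A] : Prop :=
  ∀ a : A, ¬ p ∣ (stabilizer H a).relIndex L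

theorem relIndex_split [Finite H] (S L M : Subgroup H) (hML : M ≤ L) [(M.subgroupOf L).Normal] :
    S.relIndex L = (S.relIndex M) * (((M.subgroupOf L) ⊔ (S.subgroupOf L)).index) := by
  obtain ⟨X, hX⟩ : ∃ X, M.subgroupOf L ⊔ S.subgroupOf L = X := ⟨_, rfl⟩
  rw [hX]
  show (S.subgroupOf L).index = _
  have hle : S.subgroupOf L ≤ X := hX ▸ le_sup_right
  rw [← Subgroup.relIndex_mul_index hle]
  congr 1
  rw [← hX, ← Subgroup.relIndex_subgroupOf (H := S) hML]
  obtain ⟨M', hM'⟩ : ∃ M', M.subgroupOf L = M' := ⟨_, rfl⟩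
  haveI : M'.Normal := hM' ▸ inferInstance
  obtain ⟨S', hS'⟩ : ∃ S', S.subgroupOf L = S' := ⟨_, rfl⟩
  rw [hM', hS', sup_comm]
  have e1 := Core.card_sup_mul_card_inf S' M'
  have e2 : Nat.card S' * S'.relIndex (S' ⊔ M') = Nat.card (S' ⊔ M' : Subgroup L) := by
    rw [← Subgroup.relIndex_bot_left, ← Subgroup.relIndex_bot_left,
      Subgroup.relIndex_mul_relIndex _ _ _ bot_le le_sup_left]
  have e3 : Nat.card (S' ⊓ M' : Subgroup L) * S'.relIndex M' = Nat.card M' := by
    rw [← Subgroup.inf_relIndex_right S' M', ← Subgroup.relIndex_bot_left,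
      ← Subgroup.relIndex_bot_left, Subgroup.relIndex_mul_relIndex _ _ _ bot_le inf_le_right]
  have e4 : Nat.card S' * Nat.card (S' ⊓ M' : Subgroup L) * S'.relIndex (S' ⊔ M') =
      Nat.card S' * Nat.card (S' ⊓ M' : Subgroup L) * S'.relIndex M' := by
    rw [mul_right_comm, e2, e1, mul_assoc, e3]
  exact Nat.eq_of_mul_eq_mul_left (Nat.mul_pos Nat.card_pos Nat.card_pos) e4

theorem card_orbits_eq [Finite H] [Finite A] [Finite B]
    (hfix : ∀ h : H, Nat.card (fixedBy A h) = Nat.card (fixedBy B h)) (M : Subgroup H) :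
    Nat.card (Quotient (orbitRel M A)) = Nat.card (Quotient (orbitRel M B)) := by
  classical
  letI := Fintype.ofFinite M
  letI := Fintype.ofFinite A
  letI := Fintype.ofFinite B
  letI : Fintype (Quotient (orbitRel M A)) := Fintype.ofFinite _
  letI : Fintype (Quotient (orbitRel M B)) := Fintype.ofFinite _
  have hA := sum_card_fixedBy_eq_card_orbits_mul_card_group M A
  have hB := sum_card_fixedBy_eq_card_orbits_mul_card_group M B
  simp only [← Nat.card_eq_fintype_card] at hA hB
  have h : ∀ m : M, Nat.card (fixedBy A m) = Nat.card (fixedBy B m) := fun m => hfix (m : H)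
  simp only [h] at hA
  exact Nat.eq_of_mul_eq_mul_right Nat.card_pos (hA.symm.trans hB)

/-- The step from a normal subgroup of index prime to `p` or equal to `p`. -/
theorem primeOrbits_step [Finite H] [Finite A] [Finite B] {p : ℕ} [Fact p.Prime]
    (hfix : ∀ h : H, Nat.card (fixedBy A h) = Nat.card (fixedBy B h)) (L M : Subgroup H)
    (hML : M ≤ L) [(M.subgroupOf L).Normal]
    (hidx : ¬ p ∣ M.relIndex L ∨ M.relIndex L = p)
    (hA : PrimeOrbits p L A) (hB : PrimeOrbits p M B) : PrimeOrbits p L B := by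
  classical
  intro b
  rw [relIndex_split _ L M hML]
  intro hd
  rcases (Fact.out : p.Prime).dvd_mul.1 hd with h | h
  · exact hB b h
  rcases hidx with hi | hi
  · exact hi (h.trans (Subgroup.index_dvd_of_le le_sup_left))
  -- index `p`: the orbits do not split
  let fA : Quotient (orbitRel M A) → Quotient (orbitRel L A) :=
    Quotient.map' id fun x y hxy => by
      obtain ⟨m, rfl⟩ := hxy
      exact ⟨⟨(m : H), hML m.2⟩, rfl⟩
  let fB : Quotient (orbitRel M B) → Quotient (orbitRel L B) :=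
    Quotient.map' id fun x y hxy => by
      obtain ⟨m, rfl⟩ := hxy
      exact ⟨⟨(m : H), hML m.2⟩, rfl⟩
  have hAinj : Function.Injective fA := by
    intro x y hxy
    induction x using Quotient.inductionOn' with | _ x => ?_
    induction y using Quotient.inductionOn' with | _ y => ?_
    obtain ⟨l, rfl⟩ := (Quotient.eq''.1 hxy : orbitRel L A x y)
    refine Quotient.sound' ?_
    have hidx1 : ((M.subgroupOf L) ⊔ ((stabilizer H y).subgroupOf L)).index = 1 := by
      have h1 : ((M.subgroupOf L) ⊔ ((stabilizer H y).subgroupOf L)).index ∣ p :=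
        hi ▸ Subgroup.index_dvd_of_le le_sup_left
      refine (Nat.dvd_prime Fact.out).1 h1 |>.resolve_right fun e => ?_
      refine hA y ?_
      rw [relIndex_split _ L M hML, e]
      exact dvd_mul_left _ _
    have hl : l ∈ (M.subgroupOf L) ⊔ ((stabilizer H y).subgroupOf L) := by
      rw [Subgroup.index_eq_one.1 hidx1]; trivial
    obtain ⟨m, hm, s, hs, rfl⟩ := Subgroup.mem_sup_of_normal_left.1 hl
    refine ⟨⟨(m : H), hm⟩, ?_⟩
    show (m : H) • y = ((m * s : L) : H) • y
    rw [Subgroup.coe_mul, mul_smul]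
    rw [show (s : H) • y = y from hs]
  have hAs : Function.Surjective fA := fun q => by
    induction q using Quotient.inductionOn' with | _ x => exact ⟨Quotient.mk'' x, rfl⟩
  have hBs : Function.Surjective fB := fun q => by
    induction q using Quotient.inductionOn' with | _ x => exact ⟨Quotient.mk'' x, rfl⟩
  have hcard : Nat.card (Quotient (orbitRel M B)) = Nat.card (Quotient (orbitRel L B)) := by
    rw [← card_orbits_eq hfix M, ← card_orbits_eq hfix L,
      Nat.card_eq_of_bijective fA ⟨hAinj, hAs⟩]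
  have hBinj := ((Nat.bijective_iff_surjective_and_card fB).2 ⟨hBs, hcard⟩).1
  have htop : (M.subgroupOf L) ⊔ ((stabilizer H b).subgroupOf L) = ⊤ := by
    rw [eq_top_iff]
    intro l _
    have he : fB (Quotient.mk'' ((l : H) • b)) = fB (Quotient.mk'' b) :=
      Quotient.sound' ⟨l, rfl⟩
    obtain ⟨m, hm⟩ := (Quotient.eq''.1 (hBinj he) : orbitRel M B ((l : H) • b) b)
    have hm' : (m : H) • b = (l : H) • b := hm
    rw [← mul_inv_cancel_left (⟨(m : H), hML m.2⟩ : L) l]
    refine Subgroup.mul_mem_sup m.2 ?_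
    rw [Subgroup.mem_subgroupOf, mem_stabilizer_iff, Subgroup.coe_mul, Subgroup.coe_inv, mul_smul,
      ← hm', inv_smul_smul]
  rw [htop, Subgroup.index_top] at h
  exact (Fact.out : p.Prime).ne_one (Nat.dvd_one.1 h)

theorem primeOrbits_mono [Finite H] {p : ℕ} (L M : Subgroup H) (hML : M ≤ L)
    [(M.subgroupOf L).Normal] (hA : PrimeOrbits p L A) : PrimeOrbits p M A := fun a h => by
  apply hA a
  rw [relIndex_split _ L M hML]
  exact h.mul_right _

/-- The transfer of the property. -/
theorem primeOrbits_of_fix [Finite H] [Finite A] [Finite B] {p : ℕ} [Fact p.Prime]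
    (hfix : ∀ h : H, Nat.card (fixedBy A h) = Nat.card (fixedBy B h))
    (K W : Subgroup H) [K.Normal] [W.Normal] [Group.IsSolvable W]
    (hW : ∀ x : H, (∃ k, orderOf x = p ^ k) → x ∈ W) (hK : PrimeOrbits p K B) :
    ∀ n : ℕ, ∀ L : Subgroup H, K ≤ L → Nat.card L ≤ n → PrimeOrbits p L A → PrimeOrbits p L B := by
  classical
  have hp := (Fact.out : p.Prime)
  intro n
  induction n with
  | zero => intro L _ h; exact absurd h (Nat.not_le.2 Nat.card_pos)
  | succ n ih =>
  intro L hKL hcard hA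
  rcases eq_or_ne L K with rfl | hne
  · exact hK
  have key : ∀ M : Subgroup H, K ≤ M → M < L → (M.subgroupOf L).Normal →
      (¬ p ∣ M.relIndex L ∨ M.relIndex L = p) → PrimeOrbits p L B := by
    intro M hKM hlt hn hidx
    haveI := hn
    refine primeOrbits_step hfix L M hlt.le hidx hA (ih M hKM ?_ (primeOrbits_mono L M hlt.le hA))
    have h1 : Nat.card M < Nat.card L := by
      refine lt_of_le_of_ne (Subgroup.card_le_of_le hlt.le) fun e => ?_
      exact hlt.ne (Subgroup.eq_of_le_of_card_ge hlt.le e.ge)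
    omega
  obtain ⟨S, hS⟩ : ∃ S, (W ⊔ K) ⊓ L = S := ⟨_, rfl⟩
  have hSn : (S.subgroupOf L).Normal := by
    rw [← hS, Subgroup.inf_subgroupOf_right]; infer_instance
  have hSi : ¬ p ∣ S.relIndex L := by
    intro hd
    haveI := hSn
    have hd' : p ∣ Nat.card (L ⧸ S.subgroupOf L) := hd
    obtain ⟨q, hq⟩ := exists_prime_orderOf_dvd_card' p hd'
    obtain ⟨x, rfl⟩ := QuotientGroup.mk_surjective q
    obtain ⟨a, o, ho, hord⟩ := Nat.exists_eq_pow_mul_and_not_dvd (orderOf_pos x).ne' p hp.ne_one
    have hmem : x ^ o ∈ S.subgroupOf L := by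
      rw [Subgroup.mem_subgroupOf, ← hS]
      refine Subgroup.mem_inf.2 ⟨Subgroup.mem_sup_left (hW _ ?_), (x ^ o).2⟩
      obtain ⟨j, -, hj⟩ := (Nat.dvd_prime_pow hp).1 (orderOf_dvd_of_pow_eq_one
        (show (x ^ o) ^ p ^ a = 1 by rw [← pow_mul, mul_comm, ← hord, pow_orderOf_eq_one]))
      exact ⟨j, by rw [Subgroup.orderOf_coe, hj]⟩
    have h1 : ((x : L ⧸ S.subgroupOf L)) ^ o = 1 := by
      rw [← QuotientGroup.mk_pow]; exact (QuotientGroup.eq_one_iff _).2 hmem
    exact ho (hq ▸ orderOf_dvd_of_pow_eq_one h1)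
  have hSL : S ≤ L := hS ▸ inf_le_right
  have hKS : K ≤ S := hS ▸ le_inf le_sup_right hKL
  rcases hSL.lt_or_eq with hlt | heq
  · exact key S hKS hlt hSn (Or.inl hSi)
  -- `L / K` is solvable
  have hLW : L ≤ W ⊔ K := by rw [← heq, ← hS]; exact inf_le_left
  haveI : (K.subgroupOf L).Normal := inferInstance
  haveI : Nontrivial (L ⧸ K.subgroupOf L) := by
    rw [← Finite.one_lt_card_iff_nontrivial, ← Subgroup.index_eq_card]
    have h0 : (K.subgroupOf L).index ≠ 0 := Subgroup.index_ne_zero_of_finite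
    have h1 : (K.subgroupOf L).index ≠ 1 := fun e => hne (le_antisymm
      (Subgroup.relIndex_eq_one.1 e) hKL)
    omega
  haveI hsol : Group.IsSolvable (L ⧸ K.subgroupOf L) := by
    have hWK : Group.IsSolvable ((W ⊔ K : Subgroup H).map (QuotientGroup.mk' K)) := by
      rw [show (W ⊔ K : Subgroup H).map (QuotientGroup.mk' K) = W.map (QuotientGroup.mk' K) by
        rw [Subgroup.map_sup, QuotientGroup.map_mk'_self, sup_bot_eq]]
      exact Group.isSolvable_of_surjective (MonoidHom.subgroupMap_surjective (QuotientGroup.mk' K) W)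
    let g : L →* ((W ⊔ K : Subgroup H).map (QuotientGroup.mk' K)) :=
      ((QuotientGroup.mk' K).subgroupMap (W ⊔ K)).comp (Subgroup.inclusion hLW)
    have hker : g.ker = K.subgroupOf L := by
      ext x
      rw [MonoidHom.mem_ker, Subgroup.mem_subgroupOf, ← QuotientGroup.eq_one_iff, Subtype.ext_iff]
      rfl
    have : Group.IsSolvable g.range := inferInstance
    let e : L ⧸ K.subgroupOf L ≃* g.range :=
      (QuotientGroup.quotientMulEquivOfEq hker.symm).trans (QuotientGroup.quotientKerEquivRange g)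
    exact Group.isSolvable_of_surjective (f := e.symm.toMonoidHom) e.symm.surjective
  obtain ⟨Ab, hAb⟩ : ∃ Ab : Subgroup (L ⧸ K.subgroupOf L), commutator (L ⧸ K.subgroupOf L) = Ab :=
    ⟨_, rfl⟩
  have hlt' : Ab < ⊤ := hAb ▸ Group.IsSolvable.commutator_lt_top_of_nontrivial _
  obtain ⟨Mx, hMx, hAMx⟩ : ∃ Mx : Subgroup (L ⧸ K.subgroupOf L), IsCoatom Mx ∧ Ab ≤ Mx := by
    rcases eq_top_or_exists_le_coatom Ab with h | ⟨Mx, h1, h2⟩
    · exact absurd h hlt'.ne
    · exact ⟨Mx, h1, h2⟩
  haveI hMxn : Mx.Normal := ⟨fun x hx y => by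
    have : ⁅y, x⁆ ∈ Mx := hAMx (hAb ▸ by
      rw [_root_.commutator_def]
      exact Subgroup.commutator_mem_commutator (Subgroup.mem_top _) (Subgroup.mem_top _))
    have h := Mx.mul_mem this hx
    rwa [commutatorElement_def, inv_mul_cancel_right] at h⟩
  have hprime : Mx.index.Prime := by
    have hne1 : Mx.index ≠ 1 := fun e => hMx.1 (Subgroup.index_eq_one.1 e)
    obtain ⟨r, hr, hrd⟩ := Nat.exists_prime_and_dvd hne1
    have := Fact.mk hr
    obtain ⟨q, hq⟩ := exists_prime_orderOf_dvd_card' r (G := (L ⧸ K.subgroupOf L) ⧸ Mx)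
      (by rwa [← Subgroup.index_eq_card])
    have hgen : (Subgroup.zpowers q).comap (QuotientGroup.mk' Mx) = ⊤ := by
      refine hMx.2 _ (lt_of_le_of_ne (fun x hx => ?_) fun e => ?_)
      · rw [Subgroup.mem_comap, QuotientGroup.mk'_apply, (QuotientGroup.eq_one_iff x).2 hx]
        exact one_mem _
      · obtain ⟨x, hx⟩ := QuotientGroup.mk_surjective q
        have : x ∈ Mx := e ▸ (show (x : _ ⧸ Mx) ∈ Subgroup.zpowers q by rw [hx]; exact Subgroup.mem_zpowers q)
        rw [← hx, (QuotientGroup.eq_one_iff x).2 this, orderOf_one] at hq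
        exact hr.ne_one hq.symm
    have htop : Subgroup.zpowers q = ⊤ := by
      rw [← Subgroup.map_comap_eq_self_of_surjective (QuotientGroup.mk'_surjective Mx)
        (Subgroup.zpowers q), hgen, ← MonoidHom.range_eq_map, MonoidHom.range_eq_top]
      exact QuotientGroup.mk'_surjective Mx
    rw [Subgroup.index_eq_card, ← Subgroup.card_top, ← htop, Nat.card_zpowers, hq]
    exact hr
  obtain ⟨M, hM⟩ : ∃ M : Subgroup H, (Mx.comap (QuotientGroup.mk' (K.subgroupOf L))).map L.subtype = M :=
    ⟨_, rfl⟩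
  have hMs : M.subgroupOf L = Mx.comap (QuotientGroup.mk' (K.subgroupOf L)) := by
    rw [← hM, Subgroup.subgroupOf, Subgroup.comap_map_eq_self_of_injective L.subtype_injective]
  have hMi : M.relIndex L = Mx.index := by
    show (M.subgroupOf L).index = _
    rw [hMs, Subgroup.index_comap_of_surjective _ (QuotientGroup.mk'_surjective _)]
  have hKM : K ≤ M := fun x hx => by
    rw [← hM]
    refine ⟨⟨x, hKL hx⟩, ?_, rfl⟩
    rw [SetLike.mem_coe, Subgroup.mem_comap, QuotientGroup.mk'_apply,
      (QuotientGroup.eq_one_iff (⟨x, hKL hx⟩ : L)).2 hx]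
    exact one_mem _
  have hML : M ≤ L := hM ▸ Subgroup.map_subtype_le _
  refine key M hKM (lt_of_le_of_ne hML fun e => hprime.ne_one ?_) (hMs ▸ hMxn.comap _) ?_
  · rw [← hMi, e, Subgroup.relIndex_self]
  · by_cases hrp : Mx.index = p
    · exact Or.inr (hMi.trans hrp)
    · exact Or.inl fun hd => hrp ((Nat.prime_dvd_prime_iff_eq hp hprime).1 (hMi ▸ hd)).symm

end Cfsg.Agent.RealPrime
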