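import Cfsg.Agent.Char.FixedExt
import Cfsg.Agent.Char.Clifford
import Cfsg.Agent.Blocks.Congr
import Mathlib

/-!
Real characters over real characters of a normal subgroup of odd index
-/

set_option autoImplicit false
set_option linter.style.haveILetI false

namespace Cfsg.Agent.RealPrime

open Cfsg Cfsg.Agent Cfsg.Agent.Char
open scoped ComplexConjugate

universe u

variable {G : Type u} [Group G] [Fintype G] {H : Subgroup G} [H.Normal] [Fintype H]

/-- The character over another one. -/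
def Over (χ : G → ℂ) (θ : H → ℂ) : Prop := classInner (fun n : H => χ n) θ ≠ 0

omit [Fintype G] in
theorem over_conjFun {χ : G → ℂ} (hχ : IsClassFunction G χ) {θ : H → ℂ} (g : G)
    (h : Over χ θ) : Over χ (conjFun g θ) := by
  rwa [Over, ← conjFun_res g hχ, classInner_conjFun]

/-- There is exactly one real character over a real one; it is induced from an extension. -/
theorem exists_real_over (hodd : Odd H.index) {θ : H → ℂ} (hθ : IsIrrCharacter H θ)
    (hreal : ∀ n, (θ n).im = 0) :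
    ∃ χ : IrrCharacter G, (∀ g, ((χ : G → ℂ) g).im = 0) ∧ Over (χ : G → ℂ) θ ∧
      (χ : G → ℂ) 1 = ((inertia (G := G) θ).index : ℂ) * θ 1 ∧
      ∀ χ' : IrrCharacter G, (∀ g, ((χ' : G → ℂ) g).im = 0) → Over (χ' : G → ℂ) θ → χ' = χ := by
  classical
  have hσ : ∀ z : ℂ, z ^ Nat.card G = 1 →
      (starRingEnd ℂ) z = z ^ (Nat.card G - 1) := fun z hz => by
    have hnorm : ‖z‖ = 1 := by
      have h := congrArg norm hz
      rw [norm_pow, norm_one] at h
      exact (pow_eq_one_iff_of_nonneg (norm_nonneg z) Nat.card_pos.ne').1 h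
    rw [← Complex.inv_eq_conj hnorm]
    refine inv_eq_of_mul_eq_one_right ?_
    rw [← pow_succ', Nat.sub_add_cancel Nat.card_pos, hz]
  have hN1 : ∀ g : G, g ^ (Nat.card G - 1 + 1) ∈ H := fun g => by
    rw [Nat.sub_add_cancel Nat.card_pos, pow_card_eq_one']
    exact one_mem _
  have hfix : SigmaFixed (starRingEnd ℂ) θ := fun n => Complex.conj_eq_iff_im.2 (hreal n)
  obtain ⟨χ₀, -, huniq⟩ := exists_unique_fixed_over H hσ dvd_rfl hodd hN1 hθ hfix
  obtain ⟨T, hT⟩ : ∃ T, inertia (G := G) θ = T := ⟨_, rfl⟩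
  have hHT : H ≤ T := hT ▸ le_inertia (isClassFunction_of_isIrr hθ)
  letI := Fintype.ofFinite (H.subgroupOf T)
  obtain ⟨ψ, hψ, hψres, hψfix⟩ := exists_fixed_extension (H.subgroupOf T) hσ
    (Subgroup.card_subgroup_dvd_card T)
    (hodd.of_dvd_nat ⟨T.index, (Subgroup.relIndex_mul_index hHT).symm⟩)
    (fun g => by rw [Subgroup.mem_subgroupOf, Subgroup.coe_pow]; exact hN1 g)
    ((isIrrCharacter_comp_equiv (Subgroup.subgroupOfEquivOfLe hHT)).2 hθ)
    (fun n => hfix _)
    (fun g => funext fun n => congrFun (mem_inertia.1 (hT.ge g.2)) (Subgroup.subgroupOfEquivOfLe hHT n))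
  have hψN : ∀ n : H, ψ ⟨n, hHT n.2⟩ = θ n := fun n => hψres ⟨⟨n, hHT n.2⟩, n.2⟩
  have h2 : classInner (fun n : H => ψ ⟨n, hHT n.2⟩) θ ≠ 0 := by
    rw [funext hψN, classInner_irr_self hθ]
    exact one_ne_zero
  have hχ : IsIrrCharacter G (indFun T ψ) := ProjExt.exists_induced hθ hT hHT hψ h2
  have h1 : classInner (fun t : T => indFun T ψ t) ψ ≠ 0 := by
    have h := classInner_indFun_left T ψ (isClassFunction_of_isIrr hχ)
    rw [classInner_irr_self hχ, ← classInner_conj_symm] at h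
    intro h0
    rw [h0, map_zero] at h
    exact one_ne_zero h
  have hover : Over (indFun T ψ) θ := by
    show classInner (fun n : H => indFun T ψ n) θ ≠ 0
    rw [← (ProjExt.clifford_core hθ hT hHT hχ hψ h1 h2).2]
    exact h2
  have hχreal : ∀ g, (indFun T ψ g).im = 0 := fun g => by
    rw [← Complex.conj_eq_iff_im]
    simp only [indFun_apply, map_mul, map_inv₀, map_natCast, map_sum]
    congr 1
    refine Finset.sum_congr rfl fun x _ => ?_
    by_cases hx : x⁻¹ * g * x ∈ T
    · rw [extendByZero_of_mem _ _ hx]; exact hψfix _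
    · rw [extendByZero_of_not_mem _ _ hx, map_zero]
  have hχ0 := huniq _ hχ (fun g => Complex.conj_eq_iff_im.2 (hχreal g)) hover
  refine ⟨⟨_, hχ⟩, hχreal, hover, ?_, fun χ' h1' h2' => Subtype.ext ?_⟩
  · show indFun T ψ 1 = _
    rw [indFun_apply_one, hT]
    congr 1
    have := hψN 1
    exact this
  · exact (huniq _ χ'.2 (fun g => Complex.conj_eq_iff_im.2 (h1' g)) h2').trans hχ0.symm

/-- A real character has a real constituent on a normal subgroup of odd index. -/
theorem exists_real_constituent (hodd : Odd H.index) (χ : IrrCharacter G)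
    (hreal : ∀ g, ((χ : G → ℂ) g).im = 0) :
    ∃ θ : IrrCharacter H, (∀ n, ((θ : H → ℂ) n).im = 0) ∧ Over (χ : G → ℂ) (θ : H → ℂ) := by
  classical
  obtain ⟨φ, hφ⟩ := exists_constituent_res (N := H) χ.2
  let O := {η : IrrCharacter H // Over (χ : G → ℂ) (η : H → ℂ)}
  have hO : Nat.card O = (inertia (G := G) (φ : H → ℂ)).index := by
    rw [← card_orbit, ← Nat.card_eq_finsetCard]
    refine Nat.card_eq_of_bijective (fun η : O =>
      ⟨(η.1 : H → ℂ), constituent_mem_orbit χ.2 φ.2 η.1.2 hφ η.2⟩) ⟨fun a b e =>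
        Subtype.ext (Subtype.ext (congrArg Subtype.val e :)), fun ψ => ?_⟩
    obtain ⟨g, hg⟩ := mem_orbit.1 ψ.2
    refine ⟨⟨⟨ψ.1, hg ▸ isIrr_conjFun g φ.2⟩, ?_⟩, rfl⟩
    show Over (χ : G → ℂ) ψ.1
    rw [← hg]
    exact over_conjFun (isClassFunction_of_isIrr χ.2) g hφ
  have hconj : ∀ η : IrrCharacter H, Over (χ : G → ℂ) (η : H → ℂ) →
      Over (χ : G → ℂ) (conjIrr η : H → ℂ) := fun η hη h0 => hη (by
    have e : classInner (fun n : H => (χ : G → ℂ) n) (η : H → ℂ) =
        conj (classInner (fun n : H => (χ : G → ℂ) n) (conjIrr η : H → ℂ)) := by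
      simp only [classInner, map_mul, map_sum, map_inv₀, map_natCast, conjIrr_apply,
        Complex.conj_conj, Complex.conj_eq_iff_im.2 (hreal _)]
    rw [e, h0, map_zero])
  let σ : Equiv.Perm O :=
    { toFun := fun η => ⟨conjIrr η.1, hconj _ η.2⟩
      invFun := fun η => ⟨conjIrr η.1, hconj _ η.2⟩
      left_inv := fun η => Subtype.ext (conjIrr_conjIrr η.1)
      right_inv := fun η => Subtype.ext (conjIrr_conjIrr η.1) }
  haveI : Fact (Nat.Prime 2) := ⟨Nat.prime_two⟩
  have hoddI : Odd (inertia (G := G) (φ : H → ℂ)).index :=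
    hodd.of_dvd_nat (Subgroup.index_dvd_of_le (le_inertia (isClassFunction_of_isIrr φ.2)))
  have hnd : ¬ 2 ∣ Fintype.card O := by
    rw [← Nat.card_eq_fintype_card, hO, ← even_iff_two_dvd, Nat.not_even_iff_odd]
    exact hoddI
  obtain ⟨η, hη⟩ := Equiv.Perm.exists_fixed_point_of_prime (σ := σ) (n := 1) hnd (by
    rw [pow_one, pow_two]
    exact Equiv.ext fun η => Subtype.ext (conjIrr_conjIrr η.1))
  exact ⟨η.1, (conjIrr_eq_iff _).1 (congrArg Subtype.val hη), η.2⟩

/-- Constituents are conjugate. -/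
theorem exists_conjFun_eq {χ : IrrCharacter G} {θ θ' : IrrCharacter H}
    (h : Over (χ : G → ℂ) (θ : H → ℂ)) (h' : Over (χ : G → ℂ) (θ' : H → ℂ)) :
    ∃ g : G, conjFun g (θ : H → ℂ) = (θ' : H → ℂ) :=
  mem_orbit.1 (constituent_mem_orbit χ.2 θ.2 θ'.2 h h')

omit [Fintype H] [Fintype G] in
theorem conjFun_real {θ : H → ℂ} (h : ∀ n, (θ n).im = 0) (g : G) :
    ∀ n, (conjFun g θ n).im = 0 := fun _ => h _

end Cfsg.Agent.RealPrime
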