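import Cfsg.Agent.BlockChar.RealPrimeMain
import Cfsg.Agent.BlockChar.RealActions
import Cfsg.Agent.BlockChar.RealOrbit
import Cfsg.Agent.BlockChar.RealOver
import Cfsg.Agent.Char.Glauberman.Solvable
import Cfsg.Agent.Fg24.NormalSylowCorr.Main

/-!
Real classes and real characters of groups whose real characters have degree prime to `p`, and the
normalizer of a Sylow `p`-subgroup
-/

set_option autoImplicit false
set_option linter.style.haveILetI false
set_option linter.unusedSectionVars false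

namespace Cfsg.Agent.RealPrime

open Cfsg Cfsg.Agent Cfsg.Agent.Char
open Cfsg.Agent.Char.Glauberman (InvFun restrictOp quotOp Fixed)

universe u

variable {G : Type u} [Group G] [Finite G] {p : ℕ} [Fact p.Prime]

theorem gen_normal {q : ℕ} (hq : q.Prime) : (gen q G).Normal := by
  refine ⟨fun w hw y => ?_⟩
  exact (le_of_eq (gen_map _ (MulAut.conj y).surjective hq) :
    (gen q G).map (MulAut.conj y).toMonoidHom ≤ gen q G) ⟨w, hw, rfl⟩

theorem odd_index_gen2 : Odd (gen 2 G).index := by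
  haveI := gen_normal (G := G) Nat.prime_two
  rw [← Nat.not_even_iff_odd, even_iff_two_dvd, Subgroup.index_eq_card]
  intro h
  haveI : Fact (Nat.Prime 2) := ⟨Nat.prime_two⟩
  obtain ⟨q, hq⟩ := exists_prime_orderOf_dvd_card' 2 h
  obtain ⟨x, rfl⟩ := QuotientGroup.mk_surjective q
  obtain ⟨e, o, ho, hord⟩ := Nat.exists_eq_two_pow_mul_odd (orderOf_pos x).ne'
  have hxo : x ^ o ∈ gen 2 G := by
    obtain ⟨j, -, hj⟩ := (Nat.dvd_prime_pow Nat.prime_two).1 (orderOf_dvd_of_pow_eq_one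
      (show (x ^ o) ^ 2 ^ e = 1 by rw [← pow_mul, mul_comm, ← hord, pow_orderOf_eq_one]))
    exact Subgroup.subset_closure ⟨j, hj⟩
  have h1 := orderOf_dvd_of_pow_eq_one (show (x : G ⧸ gen 2 G) ^ o = 1 by
    rw [← QuotientGroup.mk_pow]; exact (QuotientGroup.eq_one_iff _).2 hxo)
  rw [hq] at h1
  exact (Nat.not_even_iff_odd.2 ho) (even_iff_two_dvd.2 h1)

/-- Real elements lie in the subgroup generated by the 2-elements and are real there. -/
theorem real_mem_gen2 {x : G} (hx : IsConj x x⁻¹) :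
    ∃ hxK : x ∈ gen 2 G, IsConj (⟨x, hxK⟩ : gen 2 G) (⟨x, hxK⟩ : gen 2 G)⁻¹ := by
  haveI := gen_normal (G := G) Nat.prime_two
  obtain ⟨c, hc⟩ := isConj_iff.1 hx
  obtain ⟨e, o, ho, hord⟩ := Nat.exists_eq_two_pow_mul_odd (orderOf_pos c).ne'
  obtain ⟨j, rfl⟩ := ho
  have hsq : Commute (c * c) x := by
    have h1 := congrArg (fun z => z⁻¹) hc
    simp only [mul_inv_rev, inv_inv, ← mul_assoc] at h1
    show c * c * x = x * (c * c)
    calc c * c * x = c * (c * x * c⁻¹) * c := by group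
      _ = c * x⁻¹ * c⁻¹ * (c * c) := by rw [hc]; group
      _ = _ := by rw [h1]
  have hd : c ^ (2 * j + 1) * x * (c ^ (2 * j + 1))⁻¹ = x⁻¹ := by
    rw [pow_succ', pow_mul, pow_two]
    calc c * (c * c) ^ j * x * (c * (c * c) ^ j)⁻¹
        = c * ((c * c) ^ j * x * ((c * c) ^ j)⁻¹) * c⁻¹ := by group
      _ = _ := by rw [(hsq.pow_left j).eq, mul_inv_cancel_right, hc]
  have hdK : c ^ (2 * j + 1) ∈ gen 2 G := by
    obtain ⟨i, -, hi⟩ := (Nat.dvd_prime_pow Nat.prime_two).1 (orderOf_dvd_of_pow_eq_one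
      (show (c ^ (2 * j + 1)) ^ 2 ^ e = 1 by
        rw [← pow_mul, mul_comm, ← hord, pow_orderOf_eq_one]))
    exact Subgroup.subset_closure ⟨i, hi⟩
  have hx2 : x ^ 2 ∈ gen 2 G := by
    have h : (c ^ (2 * j + 1) * (x * (c ^ (2 * j + 1))⁻¹ * x⁻¹))⁻¹ ∈ gen 2 G :=
      inv_mem (mul_mem hdK (Subgroup.Normal.conj_mem inferInstance _ (inv_mem hdK) x))
    rw [← mul_assoc, ← mul_assoc, hd] at h
    simpa [pow_two] using h
  have hxK : x ∈ gen 2 G := by
    obtain ⟨i, hi⟩ := odd_index_gen2 (G := G)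
    have h := Subgroup.pow_index_mem (gen 2 G) x
    rw [hi, pow_succ, pow_mul] at h
    have h2 := mul_mem (inv_mem (pow_mem hx2 i)) h
    rwa [inv_mul_cancel_left] at h2
  exact ⟨hxK, isConj_iff.2 ⟨⟨_, hdK⟩, Subtype.ext hd⟩⟩

/-- A `p`-group fixes a coset of a subgroup of index prime to `p`. -/
theorem exists_conj_le {H : Type u} [Group H] [Finite H] {S : Subgroup H} (hS : IsPGroup p S)
    (T : Subgroup H) (hT : ¬ p ∣ T.index) : ∃ g : H, ∀ x ∈ S, g⁻¹ * x * g ∈ T := by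
  obtain ⟨q, hq⟩ := hS.nonempty_fixed_point_of_prime_not_dvd_card (H ⧸ T)
    (by rwa [← Subgroup.index_eq_card])
  obtain ⟨g, rfl⟩ := QuotientGroup.mk_surjective q
  refine ⟨g, fun x hx => ?_⟩
  have h : ((x * g : H) : H ⧸ T) = (g : H ⧸ T) := hq ⟨x, hx⟩
  have h2 := inv_mem (QuotientGroup.eq.1 h)
  simpa [mul_assoc] using h2

theorem mem_normalizer_of_conj_mem (P : Subgroup G) {c : G} (h : ∀ x ∈ P, c * x * c⁻¹ ∈ P) :
    c ∈ Subgroup.normalizer (P : Set G) := by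
  rw [Subgroup.mem_normalizer_iff]
  intro x
  refine ⟨h x, fun hx => ?_⟩
  have hinj : Function.Injective fun y : P => (⟨c * y * c⁻¹, h y y.2⟩ : P) :=
    fun a b e => Subtype.ext (by simpa using congrArg Subtype.val e)
  obtain ⟨⟨y, hy⟩, hyx⟩ := Finite.injective_iff_surjective.1 hinj ⟨_, hx⟩
  have h3 : c * y * c⁻¹ = c * x * c⁻¹ := congrArg Subtype.val hyx
  simp only [mul_left_inj, mul_right_inj] at h3
  exact h3 ▸ hy

/-- Conjugates of `P` inside a subgroup differ by the normalizer. -/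
theorem exists_mem_normalizer (P : Sylow p G) (T : Subgroup G) (hPT : (P : Subgroup G) ≤ T) {g : G}
    (hg : ∀ x ∈ (P : Subgroup G), g * x * g⁻¹ ∈ T) :
    ∃ t ∈ T, t⁻¹ * g ∈ Subgroup.normalizer ((P : Subgroup G) : Set G) := by
  obtain ⟨S, hS⟩ : ∃ S, (P : Subgroup G).map (MulAut.conj g).toMonoidHom = S := ⟨_, rfl⟩
  have hSp : IsPGroup p S := hS ▸ P.2.map _
  have hidx : ¬ p ∣ ((P : Subgroup G).subgroupOf T).index := fun h =>
    P.not_dvd_index (h.trans ⟨T.index, (Subgroup.relIndex_mul_index hPT).symm⟩)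
  obtain ⟨t, ht⟩ := exists_conj_le (S := S.subgroupOf T)
    (hSp.comap_of_injective T.subtype T.subtype_injective) _ hidx
  refine ⟨t, t.2, mem_normalizer_of_conj_mem _ fun x hx => ?_⟩
  have h := ht ⟨_, hg x hx⟩ (by rw [Subgroup.mem_subgroupOf, ← hS]; exact ⟨x, hx, rfl⟩)
  rw [Subgroup.mem_subgroupOf] at h
  simpa [mul_assoc] using h

/-- The index in the normalizer of a Sylow subgroup is congruent modulo `p`. -/
theorem index_normalizer_modEq (P : Sylow p G) (T : Subgroup G) (hPT : (P : Subgroup G) ≤ T) :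
    (T.subgroupOf (Subgroup.normalizer ((P : Subgroup G) : Set G))).index ≡ T.index [MOD p] := by
  obtain ⟨N, hN⟩ : ∃ N, Subgroup.normalizer ((P : Subgroup G) : Set G) = N := ⟨_, rfl⟩
  rw [hN]
  refine ((P.2.card_modEq_card_fixedPoints (G ⧸ T)).trans ?_).symm
  refine congrArg (· % p) ?_
  rw [Subgroup.index_eq_card (T.subgroupOf N)]
  refine (Nat.card_eq_of_bijective (Quotient.lift (fun n : N =>
    (⟨((n : G) : G ⧸ T), fun x => ?_⟩ : MulAction.fixedPoints (P : Subgroup G) (G ⧸ T))) ?_)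
      ⟨?_, ?_⟩).symm
  · show (((x : G) * n : G) : G ⧸ T) = _
    refine QuotientGroup.eq.2 ?_
    have hn : (n : G)⁻¹ * (x : G)⁻¹ * n ∈ (P : Subgroup G) := by
      have hn' : (n : G) ∈ Subgroup.normalizer ((P : Subgroup G) : Set G) := hN.ge n.2
      have := (Subgroup.mem_normalizer_iff.1 (inv_mem hn') ((x : G)⁻¹)).1 (inv_mem x.2)
      simpa using this
    simpa [mul_assoc] using hPT hn
  · intro a b hab
    rw [← Quotient.eq_iff_equiv] at hab
    exact Subtype.ext (QuotientGroup.eq.2 (Subgroup.mem_subgroupOf.1 (QuotientGroup.eq.1 hab)))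
  · intro a b hab
    obtain ⟨a, rfl⟩ := QuotientGroup.mk_surjective a
    obtain ⟨b, rfl⟩ := QuotientGroup.mk_surjective b
    exact QuotientGroup.eq.2 (Subgroup.mem_subgroupOf.2
      (QuotientGroup.eq.1 (congrArg Subtype.val hab)))
  · rintro ⟨q, hq⟩
    obtain ⟨g, rfl⟩ := QuotientGroup.mk_surjective q
    obtain ⟨t, ht, htn⟩ := exists_mem_normalizer P T hPT (g := g⁻¹) (fun x hx => by
      have h : ((x * g : G) : G ⧸ T) = (g : G ⧸ T) := hq ⟨x, hx⟩
      have h2 := inv_mem (QuotientGroup.eq.1 h)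
      simpa [mul_assoc] using h2)
    have hm : (t⁻¹ * g⁻¹)⁻¹ ∈ N := hN ▸ inv_mem htn
    refine ⟨QuotientGroup.mk ⟨_, hm⟩, Subtype.ext ?_⟩
    refine QuotientGroup.eq.2 ?_
    simpa [mul_assoc] using inv_mem ht

/-- The subgroups attached to the hypothesis. -/
structure Data (P : Sylow p G) (K Q : Subgroup G) : Prop where
  nK : K.Normal
  nQ : Q.Normal
  oddK : Odd K.index
  QK : Q ≤ K
  Qp : IsPGroup p Q
  Qi : ¬ p ∣ Q.relIndex K
  QP : Q ≤ (P : Subgroup G)
  PK : ∀ x ∈ (P : Subgroup G), x ∈ K → x ∈ Q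

theorem exists_data (hyp : Hyp p G) (P : Sylow p G) : ∃ Q, Data P (gen 2 G) Q := by
  have hp := (Fact.out : p.Prime)
  haveI := gen_normal (G := G) Nat.prime_two
  obtain ⟨Q, hQn, hQK, hQp, hQi⟩ := exists_normal_sylow p (Nat.card G) G le_rfl hyp (gen 2 G)
    inferInstance le_rfl ⟨0, by rw [Subgroup.relIndex_self, pow_zero]⟩
  haveI := hQn
  refine ⟨Q, inferInstance, hQn, odd_index_gen2, hQK, hQp, hQi, ?_, fun x hx hxK => ?_⟩
  · have h := IsPGroup.to_sup_of_normal_left hQp P.2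
    exact le_sup_left.trans (P.3 h le_sup_right).le
  · obtain ⟨k, hk⟩ := IsPGroup.iff_orderOf.1 P.2 ⟨x, hx⟩
    rw [Subgroup.orderOf_mk] at hk
    have h1 : orderOf ((⟨x, hxK⟩ : gen 2 G) : gen 2 G ⧸ Q.subgroupOf (gen 2 G)) ∣ p ^ k := by
      rw [← hk, ← Subgroup.orderOf_mk (H := gen 2 G) x hxK]
      exact orderOf_map_dvd (QuotientGroup.mk' _) (⟨x, hxK⟩ : gen 2 G)
    have h2 : orderOf ((⟨x, hxK⟩ : gen 2 G) : gen 2 G ⧸ Q.subgroupOf (gen 2 G)) ∣
        Q.relIndex (gen 2 G) := by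
      rw [Subgroup.relIndex, Subgroup.index_eq_card]
      exact orderOf_dvd_natCard _
    exact Subgroup.mem_subgroupOf.1 ((QuotientGroup.eq_one_iff _).1 (orderOf_eq_one_iff.1
      (Nat.eq_one_of_dvd_coprimes ((hp.coprime_iff_not_dvd.2 hQi).pow_left k) h1 h2)))

/-- Real characters of the normal subgroup have degree and number of conjugates prime to `p`. -/
theorem real_theta [Fintype G] (hyp : Hyp p G) (K : Subgroup G) [K.Normal] [Fintype K]
    (hodd : Odd K.index) (θ : IrrCharacter K) (hθ : ∀ k, ((θ : K → ℂ) k).im = 0) :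
    ¬ p ∣ (inertia (G := G) (θ : K → ℂ)).index ∧ ¬ p ∣ charDegree (θ : K → ℂ) := by
  obtain ⟨χ, hχ, -, hdeg, -⟩ := exists_real_over hodd θ.2 hθ
  obtain ⟨n, -, hn⟩ := IsIrr.degree θ.2
  have hd : charDegree (χ : G → ℂ) = (inertia (G := G) (θ : K → ℂ)).index * n := by
    refine Blocks.charDegree_eq ?_
    rw [hdeg, hn, Nat.cast_mul]
  have h := hyp.2 χ hχ
  rw [hd] at h
  rw [Blocks.charDegree_eq hn]
  exact ⟨fun e => h (e.mul_right _), fun e => h (e.mul_left _)⟩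

/-- The normalizer of a Sylow subgroup meets every real class. -/
theorem exists_mem_normalizer_isConj (hyp : Hyp p G) (P : Sylow p G) {x : G} (hx : IsConj x x⁻¹) :
    ∃ y ∈ Subgroup.normalizer ((P : Subgroup G) : Set G), IsConj x y := by
  classical
  have hp := (Fact.out : p.Prime)
  letI := Fintype.ofFinite G
  obtain ⟨Q, D⟩ := exists_data hyp P
  obtain ⟨hxK, hxr⟩ := real_mem_gen2 hx
  generalize gen 2 G = K at D hxK hxr
  haveI := D.nK
  haveI := D.nQ
  letI := Fintype.ofFinite K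
  haveI : Finite (ConjClasses K) := Quotient.finite _
  haveI : (gen p G).Normal := gen_normal hp
  haveI : Group.IsSolvable (gen p G) := hyp.1
  have hA : PrimeOrbits p (⊤ : Subgroup G) (RealChar K) := fun θ => by
    rw [Subgroup.relIndex_top_right, show MulAction.stabilizer G θ = inertia (θ.1 : K → ℂ) from
      le_antisymm (fun g hg => ?_) (fun g hg => ?_)]
    · exact (real_theta hyp K D.oddK θ.1 θ.2).1
    · rw [← inv_mem_iff (x := g)]
      exact mem_inertia.2 (congrArg (fun η : RealChar K => (η.1 : K → ℂ))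
        (MulAction.mem_stabilizer_iff.1 hg))
    · refine Subtype.ext (Subtype.ext (funext fun k => ?_))
      rw [smul_realChar_apply]
      exact congrFun (mem_inertia.1 (inv_mem hg)) k
  have hB : PrimeOrbits p K (RealCls K) := fun C => by
    rw [Subgroup.relIndex_eq_one.2 (fun k hk => ?_)]
    · exact fun h => hp.ne_one (Nat.dvd_one.1 h)
    obtain ⟨C, hC⟩ := C
    obtain ⟨c, rfl⟩ := ConjClasses.mk_surjective C
    exact Subtype.ext (ConjClasses.mk_eq_mk_iff_isConj.2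
      (isConj_iff.2 ⟨⟨k, hk⟩, Subtype.ext rfl⟩).symm)
  have hT := primeOrbits_of_fix (card_fixedBy_eq K D.oddK) K (gen p G)
    (fun y hy => Subgroup.subset_closure hy) hB (Nat.card G) ⊤ le_top Subgroup.card_top.le hA
  obtain ⟨C, hC⟩ : ∃ C : RealCls K, C.1 = ConjClasses.mk ⟨x, hxK⟩ :=
    ⟨⟨ConjClasses.mk ⟨x, hxK⟩, ConjClasses.mk_eq_mk_iff_isConj.2 hxr.symm⟩, rfl⟩
  have hCi := hT C
  rw [Subgroup.relIndex_top_right] at hCi
  obtain ⟨g, hg⟩ := exists_conj_le P.2 _ hCi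
  obtain ⟨k', hk'⟩ : ∃ k', (MulAut.conjNormal g : MulAut K) ⟨x, hxK⟩ = k' := ⟨_, rfl⟩
  have hfix : ∀ t : (P : Subgroup G), IsConj k' ((MulAut.conjNormal (t : G) : MulAut K) k') := by
    intro t
    have h : (t : G) • (g • C) = g • C := by
      have := MulAction.mem_stabilizer_iff.1 (hg t t.2)
      rw [mul_smul, mul_smul, inv_smul_eq_iff] at this
      exact this
    have h2 := congrArg Subtype.val h
    change ConjClasses.map _ (ConjClasses.map _ C.1) = ConjClasses.map _ C.1 at h2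
    rw [hC] at h2
    refine (ConjClasses.mk_eq_mk_iff_isConj.1 ?_).symm
    rw [← hk']
    exact h2
  let a : (P : Subgroup G) →* MulAut K :=
    (MulAut.conjNormal : G →* MulAut K).comp (P : Subgroup G).subtype
  have hst : ∀ (t : (P : Subgroup G)), ∀ q ∈ Q.subgroupOf K, a t q ∈ Q.subgroupOf K :=
    fun t q hq => D.nQ.conj_mem _ hq (t : G)
  haveI : (Q.subgroupOf K).Normal := D.nQ.subgroupOf K
  obtain ⟨cb, hcb, hconj⟩ := Glauberman.exists_fixed_in_class (p := p)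
    (a := quotOp a (Q.subgroupOf K) hst) P.2
    (by rw [← Subgroup.index_eq_card]; exact D.Qi) (g := (k' : K ⧸ Q.subgroupOf K))
    (fun t => (QuotientGroup.mk' (Q.subgroupOf K)).map_isConj (hfix t))
  obtain ⟨d, hd⟩ := isConj_iff.1 hconj
  obtain ⟨d, rfl⟩ := QuotientGroup.mk_surjective d
  obtain ⟨c, hc⟩ : ∃ c, d * k' * d⁻¹ = c := ⟨_, rfl⟩
  have hcbc : cb = (c : K ⧸ Q.subgroupOf K) := by rw [← hd, ← hc]; rfl
  subst hcbc
  refine ⟨c, mem_normalizer_of_conj_mem _ fun t ht => ?_, isConj_iff.2 ⟨(d : G) * g, ?_⟩⟩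
  · have h1 : (((a ⟨t, ht⟩ c : K)) : K ⧸ Q.subgroupOf K) = (c : K ⧸ Q.subgroupOf K) :=
      hcb ⟨t, ht⟩
    have h2 := QuotientGroup.eq.1 h1.symm
    rw [Subgroup.mem_subgroupOf] at h2
    have h3 : (c : G)⁻¹ * (t * c * t⁻¹) ∈ (P : Subgroup G) := D.QP h2
    have h4 := mul_mem h3 ht
    have h5 : (c : G)⁻¹ * t * c ∈ (P : Subgroup G) := by simpa [mul_assoc] using h4
    have hinv : (c : G)⁻¹ ∈ Subgroup.normalizer ((P : Subgroup G) : Set G) := by
      refine mem_normalizer_of_conj_mem _ fun y hy => ?_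
      have h1' : (((a ⟨y, hy⟩ c : K)) : K ⧸ Q.subgroupOf K) = (c : K ⧸ Q.subgroupOf K) :=
        hcb ⟨y, hy⟩
      have h2' := D.QP (Subgroup.mem_subgroupOf.1 (QuotientGroup.eq.1 h1'.symm))
      simpa [mul_assoc] using mul_mem (show (c : G)⁻¹ * (y * c * y⁻¹) ∈ _ from h2') hy
    have h6 := (Subgroup.mem_normalizer_iff.1 (inv_mem hinv) t).1 ht
    simpa using h6
  · rw [← hc, ← hk']
    show (d : G) * g * x * ((d : G) * g)⁻¹ = (d : G) * (g * x * g⁻¹) * (d : G)⁻¹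
    group

section Corr

variable {P : Sylow p G} {K Q : Subgroup G} (D : Data P K Q)

/-- The normalizer. -/
abbrev nrm (P : Sylow p G) : Subgroup G := Subgroup.normalizer ((P : Subgroup G) : Set G)

/-- The set-up of the correspondence. -/
noncomputable def setup :
    haveI := D.nK
    Fg24.NormalSylowCorr.Setup p K (K.subgroupOf (nrm P)) (P : Subgroup G) :=
  haveI := D.nK
  haveI := D.nQ
  { a := (MulAut.conjNormal : G →* MulAut K).comp (P : Subgroup G).subtype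
    b := (MulAut.conjNormal : nrm P →* MulAut (K.subgroupOf (nrm P))).comp
      (Subgroup.inclusion Subgroup.le_normalizer)
    ι :=
      { toFun := fun d => ⟨((d : nrm P) : G), d.2⟩
        map_one' := rfl
        map_mul' := fun _ _ => rfl }
    Q := Q.subgroupOf K
    hA := P.2
    inj := fun d d' h => Subtype.ext (Subtype.ext (congrArg (fun k : K => (k : G)) h))
    compat := fun _ _ => Subtype.ext rfl
    mem_range := fun k => by
      constructor
      · rintro ⟨d, rfl⟩ t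
        rw [Subgroup.mem_subgroupOf]
        refine D.PK _ ?_ ?_
        · show (t : G) * ((d : nrm P) : G) * (t : G)⁻¹ * ((d : nrm P) : G)⁻¹ ∈ (P : Subgroup G)
          have h := (Subgroup.mem_normalizer_iff.1 (d : nrm P).2 (t : G)⁻¹).1 (inv_mem t.2)
          simpa [mul_assoc] using mul_mem t.2 h
        · exact Subtype.prop _
      · intro h
        refine ⟨⟨⟨(k : G), mem_normalizer_of_conj_mem _ fun x hx => ?_⟩, k.2⟩, Subtype.ext rfl⟩
        have h1 : x⁻¹ * (k : G) * x * (k : G)⁻¹ ∈ (P : Subgroup G) := by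
          simpa using D.QP (Subgroup.mem_subgroupOf.1 (h ⟨x⁻¹, inv_mem hx⟩))
        simpa [mul_assoc] using mul_mem hx h1
    normal := D.nQ.subgroupOf K
    pgroup := D.Qp.comap_of_injective K.subtype K.subtype_injective
    index := D.Qi
    stable := fun t q hq => D.nQ.conj_mem _ hq (t : G) }

/-- The correspondence of invariant characters. -/
def Corr [Fintype G] [Fintype K] [Fintype (K.subgroupOf (nrm P))] (θ : IrrCharacter K)
    (ξ : IrrCharacter (K.subgroupOf (nrm P))) : Prop :=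
  InvFun (setup D).a (θ : K → ℂ) ∧ InvFun (setup D).b (ξ : K.subgroupOf (nrm P) → ℂ) ∧
    ¬ p ∣ (setup D).m θ ξ

variable [Fintype G] [Fintype K] [Fintype (K.subgroupOf (nrm P))] [K.Normal]

theorem invFun_a_iff (φ : K → ℂ) :
    InvFun (setup D).a φ ↔ (P : Subgroup G) ≤ inertia (G := G) φ :=
  ⟨fun h t ht => funext fun k => h ⟨t, ht⟩ k, fun h t k => congrFun (mem_inertia.1 (h t.2)) k⟩

theorem invFun_b_iff (φ : K.subgroupOf (nrm P) → ℂ) :
    InvFun (setup D).b φ ↔ ((P : Subgroup G).subgroupOf (nrm P)) ≤ inertia (G := nrm P) φ :=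
  ⟨fun h n hn => funext fun k => h ⟨(n : G), hn⟩ k,
    fun h t k => congrFun (mem_inertia.1 (h (show Subgroup.inclusion Subgroup.le_normalizer t ∈
      (P : Subgroup G).subgroupOf (nrm P) from t.2))) k⟩

theorem corr_exists (θ : IrrCharacter K) (hθ : InvFun (setup D).a (θ : K → ℂ)) :
    ∃ ξ, Corr D θ ξ ∧ ((charDegree (ξ : K.subgroupOf (nrm P) → ℂ) : ZMod p) =
        charDegree (θ : K → ℂ) ∨ (charDegree (ξ : K.subgroupOf (nrm P) → ℂ) : ZMod p) =
        -(charDegree (θ : K → ℂ) : ZMod p)) := by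
  classical
  letI := Fintype.ofFinite (setup D).Q
  letI := Fintype.ofFinite (setup D).Qd
  obtain ⟨h1, -, -⟩ := (setup D).main
  obtain ⟨ξ, hξ, hm, ⟨dχ, dξ, e1, e2, e3⟩, -⟩ := h1 θ hθ
  refine ⟨ξ, ⟨hθ, hξ, fun hd => ?_⟩, ?_⟩
  · have h0 : ((setup D).m θ ξ : ZMod p) = 0 := (ZMod.natCast_eq_zero_iff _ _).2 hd
    rcases hm with h | h <;> rw [h0] at h
    · exact zero_ne_one h
    · exact neg_ne_zero.2 one_ne_zero h.symm
  · rw [Blocks.charDegree_eq e1, Blocks.charDegree_eq e2]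
    exact e3

theorem corr_surj (ξ : IrrCharacter (K.subgroupOf (nrm P)))
    (hξ : InvFun (setup D).b (ξ : K.subgroupOf (nrm P) → ℂ)) : ∃ θ, Corr D θ ξ := by
  classical
  letI := Fintype.ofFinite (setup D).Q
  letI := Fintype.ofFinite (setup D).Qd
  obtain ⟨-, h2, -⟩ := (setup D).main
  obtain ⟨θ, hθ, hm⟩ := h2 ξ hξ
  exact ⟨θ, hθ, hξ, hm⟩

theorem corr_right {θ : IrrCharacter K} {ξ ξ' : IrrCharacter (K.subgroupOf (nrm P))}
    (h : Corr D θ ξ) (h' : Corr D θ ξ') : ξ = ξ' := by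
  classical
  letI := Fintype.ofFinite (setup D).Q
  letI := Fintype.ofFinite (setup D).Qd
  obtain ⟨h1, -, -⟩ := (setup D).main
  obtain ⟨ξ₀, -, -, -, hu⟩ := h1 θ h.1
  exact (not_not.1 fun e => h.2.2 (hu ξ h.2.1 e)).trans
    (not_not.1 fun e => h'.2.2 (hu ξ' h'.2.1 e)).symm

theorem corr_left {θ θ' : IrrCharacter K} {ξ : IrrCharacter (K.subgroupOf (nrm P))}
    (h : Corr D θ ξ) (h' : Corr D θ' ξ) : θ = θ' := by
  classical
  letI := Fintype.ofFinite (setup D).Q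
  letI := Fintype.ofFinite (setup D).Qd
  obtain ⟨-, -, h3⟩ := (setup D).main
  exact h3 θ θ' h.1 h'.1 ξ h.2.1 h.2.2 h'.2.2

theorem corr_conj {θ : IrrCharacter K} {ξ : IrrCharacter (K.subgroupOf (nrm P))}
    (h : Corr D θ ξ) (n : nrm P) :
    Corr D ⟨conjFun (n : G) (θ : K → ℂ), isIrr_conjFun _ θ.2⟩
      ⟨conjFun n (ξ : K.subgroupOf (nrm P) → ℂ), isIrr_conjFun _ ξ.2⟩ := by
  obtain ⟨h1, h2, h3⟩ := h
  refine ⟨(invFun_a_iff D _).2 fun t ht => mem_inertia.2 ?_,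
    (invFun_b_iff D _).2 fun t ht => mem_inertia.2 ?_, ?_⟩
  · show conjFun t (conjFun (n : G) (θ : K → ℂ)) = conjFun (n : G) (θ : K → ℂ)
    rw [conjFun_conjFun, show (n : G) * t = ((n : G) * t * (n : G)⁻¹) * n by group,
      ← conjFun_conjFun, mem_inertia.1 ((invFun_a_iff D _).1 h1
        ((Subgroup.mem_normalizer_iff.1 n.2 t).1 ht))]
  · show conjFun t (conjFun n (ξ : K.subgroupOf (nrm P) → ℂ)) = conjFun n _
    rw [conjFun_conjFun, show n * t = (n * t * n⁻¹) * n by group, ← conjFun_conjFun,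
      mem_inertia.1 ((invFun_b_iff D _).1 h2
        (show n * t * n⁻¹ ∈ (P : Subgroup G).subgroupOf (nrm P) from
          (Subgroup.mem_normalizer_iff.1 n.2 (t : G)).1 ht))]
  · intro hd
    apply h3
    have he := classInner_conjFun (N := K.subgroupOf (nrm P)) n
      (fun d => (θ : K → ℂ) ((setup D).ι d)) (ξ : K.subgroupOf (nrm P) → ℂ)
    have e : conjFun n (fun d => (θ : K → ℂ) ((setup D).ι d)) =
        fun d => conjFun (n : G) (θ : K → ℂ) ((setup D).ι d) := funext fun d => rfl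
    rw [e, (setup D).m_spec θ ξ, (setup D).m_spec
      ⟨conjFun (n : G) (θ : K → ℂ), isIrr_conjFun _ θ.2⟩
      ⟨conjFun n (ξ : K.subgroupOf (nrm P) → ℂ), isIrr_conjFun _ ξ.2⟩, Nat.cast_inj] at he
    rwa [← he]

theorem corr_conjIrr {θ : IrrCharacter K} {ξ : IrrCharacter (K.subgroupOf (nrm P))}
    (h : Corr D θ ξ) : Corr D (conjIrr θ) (conjIrr ξ) := by
  obtain ⟨h1, h2, h3⟩ := h
  refine ⟨fun t k => ?_, fun t k => ?_, fun hd => h3 ?_⟩
  · rw [conjIrr_apply, conjIrr_apply, h1 t k]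
  · rw [conjIrr_apply, conjIrr_apply, h2 t k]
  have e : ((setup D).m (conjIrr θ) (conjIrr ξ) : ℂ) = ((setup D).m θ ξ : ℂ) := by
    rw [← (setup D).m_spec, ← map_natCast (starRingEnd ℂ), ← (setup D).m_spec]
    simp only [classInner, conjIrr_apply, map_mul, map_sum, map_inv₀, map_natCast]
  rwa [← Nat.cast_injective e]

theorem corr_real_iff {θ : IrrCharacter K} {ξ : IrrCharacter (K.subgroupOf (nrm P))}
    (h : Corr D θ ξ) :
    (∀ k, ((θ : K → ℂ) k).im = 0) ↔ ∀ k, ((ξ : K.subgroupOf (nrm P) → ℂ) k).im = 0 := by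
  rw [← conjIrr_eq_iff, ← conjIrr_eq_iff]
  constructor
  · intro e
    have h' := corr_conjIrr D h
    rw [e] at h'
    exact corr_right D h' h
  · intro e
    have h' := corr_conjIrr D h
    rw [e] at h'
    exact corr_left D h' h

theorem corr_inertia {θ : IrrCharacter K} {ξ : IrrCharacter (K.subgroupOf (nrm P))}
    (h : Corr D θ ξ) : inertia (G := nrm P) (ξ : K.subgroupOf (nrm P) → ℂ) =
      (inertia (G := G) (θ : K → ℂ)).subgroupOf (nrm P) := by
  ext n
  rw [Subgroup.mem_subgroupOf, mem_inertia, mem_inertia]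
  constructor
  · intro e
    have h' := corr_conj D h n
    rw [show (⟨conjFun n (ξ : K.subgroupOf (nrm P) → ℂ), isIrr_conjFun _ ξ.2⟩ :
      IrrCharacter (K.subgroupOf (nrm P))) = ξ from Subtype.ext e] at h'
    exact congrArg Subtype.val (corr_left D h' h)
  · intro e
    have h' := corr_conj D h n
    rw [show (⟨conjFun (n : G) (θ : K → ℂ), isIrr_conjFun _ θ.2⟩ : IrrCharacter K) = θ from
      Subtype.ext e] at h'
    exact congrArg Subtype.val (corr_right D h' h)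

end Corr

set_option maxHeartbeats 1600000 in
/-- The bijection of real characters. -/
theorem exists_bijection (hyp : Hyp p G) (P : Sylow p G) :
    ∃ f : {χ : IrrCharacter G // ∀ g : G, ((χ : G → ℂ) g).im = 0} →
        {η : IrrCharacter (nrm P) // (∀ n, ((η : nrm P → ℂ) n).im = 0) ∧
          ¬ p ∣ charDegree (η : nrm P → ℂ)},
      Function.Bijective f ∧ ∀ χ, ((charDegree ((f χ).1 : nrm P → ℂ) : ZMod p) =
          (charDegree (χ.1 : G → ℂ) : ZMod p) ∨
        (charDegree ((f χ).1 : nrm P → ℂ) : ZMod p) = -(charDegree (χ.1 : G → ℂ) : ZMod p)) := by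
  classical
  have hp := (Fact.out : p.Prime)
  letI := Fintype.ofFinite G
  obtain ⟨Q, D⟩ := exists_data hyp P
  generalize gen 2 G = K at D
  haveI := D.nK
  letI := Fintype.ofFinite K
  letI := Fintype.ofFinite (K.subgroupOf (nrm P))
  have hoddD : Odd (K.subgroupOf (nrm P)).index :=
    D.oddK.of_dvd_nat (Subgroup.relIndex_dvd_index_of_normal K (nrm P))
  have hPn : ((P : Subgroup G).subgroupOf (nrm P)).Normal := Subgroup.normal_in_normalizer
  have hPi : ¬ p ∣ ((P : Subgroup G).subgroupOf (nrm P)).index := fun h => P.not_dvd_index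
    (h.trans ⟨(nrm P).index, (Subgroup.relIndex_mul_index Subgroup.le_normalizer).symm⟩)
  -- the degree over a real character
  have hdegG : ∀ (θ : IrrCharacter K) (χ : IrrCharacter G), (∀ k, ((θ : K → ℂ) k).im = 0) →
      (∀ g, ((χ : G → ℂ) g).im = 0) → Over (χ : G → ℂ) (θ : K → ℂ) →
      charDegree (χ : G → ℂ) = (inertia (G := G) (θ : K → ℂ)).index * charDegree (θ : K → ℂ) := by
    intro θ χ hθ hχ ho
    obtain ⟨χ₀, -, -, hdeg, hu⟩ := exists_real_over D.oddK θ.2 hθ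
    obtain ⟨n, -, hn⟩ := IsIrr.degree θ.2
    rw [hu χ hχ ho, Blocks.charDegree_eq hn]
    exact Blocks.charDegree_eq (by rw [hdeg, hn, Nat.cast_mul])
  have hdegN : ∀ (ξ : IrrCharacter (K.subgroupOf (nrm P))) (η : IrrCharacter (nrm P)),
      (∀ k, ((ξ : K.subgroupOf (nrm P) → ℂ) k).im = 0) → (∀ g, ((η : nrm P → ℂ) g).im = 0) →
      Over (η : nrm P → ℂ) (ξ : K.subgroupOf (nrm P) → ℂ) →
      charDegree (η : nrm P → ℂ) = (inertia (G := nrm P) (ξ : K.subgroupOf (nrm P) → ℂ)).index *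
        charDegree (ξ : K.subgroupOf (nrm P) → ℂ) := by
    intro ξ η hξ hη ho
    obtain ⟨η₀, -, -, hdeg, hu⟩ := exists_real_over hoddD ξ.2 hξ
    obtain ⟨n, -, hn⟩ := IsIrr.degree ξ.2
    rw [hu η hη ho, Blocks.charDegree_eq hn]
    exact Blocks.charDegree_eq (by rw [hdeg, hn, Nat.cast_mul])
  -- degrees along the correspondence
  have hcong : ∀ (θ : IrrCharacter K) (ξ : IrrCharacter (K.subgroupOf (nrm P))), (∀ k, ((θ : K → ℂ) k).im = 0) → Corr D θ ξ →
      ((inertia (G := nrm P) (ξ : K.subgroupOf (nrm P) → ℂ)).index *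
          charDegree (ξ : K.subgroupOf (nrm P) → ℂ) : ℕ) ≠ 0 ∧
      (((inertia (G := nrm P) (ξ : K.subgroupOf (nrm P) → ℂ)).index *
          charDegree (ξ : K.subgroupOf (nrm P) → ℂ) : ℕ) : ZMod p) ≠ 0 ∧
      ((((inertia (G := nrm P) (ξ : K.subgroupOf (nrm P) → ℂ)).index *
          charDegree (ξ : K.subgroupOf (nrm P) → ℂ) : ℕ) : ZMod p) =
        (((inertia (G := G) (θ : K → ℂ)).index * charDegree (θ : K → ℂ) : ℕ) : ZMod p) ∨
       (((inertia (G := nrm P) (ξ : K.subgroupOf (nrm P) → ℂ)).index *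
          charDegree (ξ : K.subgroupOf (nrm P) → ℂ) : ℕ) : ZMod p) =
        -(((inertia (G := G) (θ : K → ℂ)).index * charDegree (θ : K → ℂ) : ℕ) : ZMod p)) := by
    intro θ ξ hθ hc
    obtain ⟨ξ', hc', hd⟩ := corr_exists D θ hc.1
    obtain rfl := corr_right D hc' hc
    have hI := (ZMod.natCast_eq_natCast_iff _ _ _).2
      (index_normalizer_modEq P _ ((invFun_a_iff D _).1 hc.1))
    rw [← corr_inertia D hc] at hI
    obtain ⟨hi, hdθ⟩ := real_theta hyp K D.oddK θ hθ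
    have h0 : (((inertia (G := G) (θ : K → ℂ)).index * charDegree (θ : K → ℂ) : ℕ) : ZMod p) ≠ 0 :=
      fun e => (hp.dvd_mul.1 ((ZMod.natCast_eq_zero_iff _ _).1 e)).elim hi hdθ
    have h1 : ((((inertia (G := nrm P) (ξ' : K.subgroupOf (nrm P) → ℂ)).index *
          charDegree (ξ' : K.subgroupOf (nrm P) → ℂ) : ℕ) : ZMod p) =
        (((inertia (G := G) (θ : K → ℂ)).index * charDegree (θ : K → ℂ) : ℕ) : ZMod p) ∨
       (((inertia (G := nrm P) (ξ' : K.subgroupOf (nrm P) → ℂ)).index *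
          charDegree (ξ' : K.subgroupOf (nrm P) → ℂ) : ℕ) : ZMod p) =
        -(((inertia (G := G) (θ : K → ℂ)).index * charDegree (θ : K → ℂ) : ℕ) : ZMod p)) := by
      rcases hd with e | e
      · exact Or.inl (by rw [Nat.cast_mul, Nat.cast_mul, hI, e])
      · exact Or.inr (by rw [Nat.cast_mul, Nat.cast_mul, hI, e, mul_neg])
    have h2 : (((inertia (G := nrm P) (ξ' : K.subgroupOf (nrm P) → ℂ)).index *
          charDegree (ξ' : K.subgroupOf (nrm P) → ℂ) : ℕ) : ZMod p) ≠ 0 := by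
      rcases h1 with e | e <;> rw [e]
      exacts [h0, neg_ne_zero.2 h0]
    exact ⟨fun e => h2 (by rw [e, Nat.cast_zero]), h2, h1⟩
  let Rel : IrrCharacter G → IrrCharacter (nrm P) → Prop := fun χ η =>
    ∃ (θ : IrrCharacter K) (ξ : IrrCharacter (K.subgroupOf (nrm P))),
      (∀ k, ((θ : K → ℂ) k).im = 0) ∧ Over (χ : G → ℂ) (θ : K → ℂ) ∧ Corr D θ ξ ∧
      Over (η : nrm P → ℂ) (ξ : K.subgroupOf (nrm P) → ℂ)
  have hdegR : ∀ (χ : IrrCharacter G) (η : IrrCharacter (nrm P)), (∀ g, ((χ : G → ℂ) g).im = 0) → (∀ g, ((η : nrm P → ℂ) g).im = 0) →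
      Rel χ η → ¬ p ∣ charDegree (η : nrm P → ℂ) ∧
        ((charDegree (η : nrm P → ℂ) : ZMod p) = (charDegree (χ : G → ℂ) : ZMod p) ∨
          (charDegree (η : nrm P → ℂ) : ZMod p) = -(charDegree (χ : G → ℂ) : ZMod p)) := by
    rintro χ η hχ hη ⟨θ, ξ, hθ, ho, hc, ho'⟩
    obtain ⟨-, h1, h2⟩ := hcong θ ξ hθ hc
    rw [hdegG θ χ hθ hχ ho, hdegN ξ η ((corr_real_iff D hc).1 hθ) hη ho']
    exact ⟨fun e => h1 ((ZMod.natCast_eq_zero_iff _ _).2 e), h2⟩
  have htotal : ∀ χ : {χ : IrrCharacter G // ∀ g : G, ((χ : G → ℂ) g).im = 0},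
      ∃ η : {η : IrrCharacter (nrm P) // (∀ n, ((η : nrm P → ℂ) n).im = 0) ∧
        ¬ p ∣ charDegree (η : nrm P → ℂ)}, Rel χ.1 η.1 := by
    rintro ⟨χ, hχ⟩
    obtain ⟨θ₀, hθ₀, ho₀⟩ := exists_real_constituent D.oddK χ hχ
    obtain ⟨g, hg⟩ := exists_conj_le P.2 _ (real_theta hyp K D.oddK θ₀ hθ₀).1
    obtain ⟨θ, hθe⟩ : ∃ θ : IrrCharacter K, (θ : K → ℂ) = conjFun g⁻¹ (θ₀ : K → ℂ) :=
      ⟨⟨_, isIrr_conjFun _ θ₀.2⟩, rfl⟩
    have hθr : ∀ k, ((θ : K → ℂ) k).im = 0 := by rw [hθe]; exact conjFun_real hθ₀ _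
    have hθP : InvFun (setup D).a (θ : K → ℂ) := by
      rw [invFun_a_iff, hθe]
      intro t ht
      show conjFun t (conjFun g⁻¹ (θ₀ : K → ℂ)) = _
      rw [conjFun_conjFun, show g⁻¹ * t = (g⁻¹ * t * g) * g⁻¹ by group, ← conjFun_conjFun,
        mem_inertia.1 (hg t ht)]
    obtain ⟨ξ, hc, -⟩ := corr_exists D θ hθP
    obtain ⟨η, hη, hoη, -, -⟩ := exists_real_over hoddD ξ.2 ((corr_real_iff D hc).1 hθr)
    have hR : Rel χ η := ⟨θ, ξ, hθr, hθe ▸ over_conjFun (isClassFunction_of_isIrr χ.2) _ ho₀, hc, hoη⟩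
    exact ⟨⟨η, hη, (hdegR χ η hχ hη hR).1⟩, hR⟩
  have hfun : ∀ (χ : IrrCharacter G) (η η' : IrrCharacter (nrm P)), (∀ g, ((η : nrm P → ℂ) g).im = 0) →
      (∀ g, ((η' : nrm P → ℂ) g).im = 0) → Rel χ η → Rel χ η' → η = η' := by
    rintro χ η η' hη hη' ⟨θ, ξ, hθ, ho, hc, hoη⟩ ⟨θ', ξ', hθ', ho', hc', hoη'⟩
    obtain ⟨g, hg⟩ := exists_conjFun_eq ho ho'
    obtain ⟨t, ht, htn⟩ := exists_mem_normalizer P _ ((invFun_a_iff D _).1 hc.1) (g := g)
      (fun x hx => mem_inertia.2 (conjFun_injective g (by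
        have h := mem_inertia.1 ((invFun_a_iff D _).1 hc'.1 hx)
        rw [← hg, conjFun_conjFun] at h
        rw [conjFun_conjFun, inv_mul_cancel_right]
        exact h)))
    have hcn := corr_conj D hc (⟨_, htn⟩ : nrm P)
    have heq : (⟨conjFun (t⁻¹ * g) (θ : K → ℂ), isIrr_conjFun _ θ.2⟩ : IrrCharacter K) = θ' := by
      refine Subtype.ext ?_
      show conjFun (t⁻¹ * g) (θ : K → ℂ) = _
      rw [← conjFun_conjFun, mem_inertia.1 (inv_mem ht), hg]
    rw [heq] at hcn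
    have hξ := corr_right D hcn hc'
    obtain ⟨η₀, -, -, -, hu⟩ := exists_real_over hoddD ξ'.2 ((corr_real_iff D hc').1 hθ')
    refine (hu η hη ?_).trans (hu η' hη' hoη').symm
    rw [← hξ]
    exact over_conjFun (isClassFunction_of_isIrr η.2) _ hoη
  have hinj : ∀ (χ χ' : IrrCharacter G) (η : IrrCharacter (nrm P)), (∀ g, ((χ : G → ℂ) g).im = 0) → (∀ g, ((χ' : G → ℂ) g).im = 0) →
      Rel χ η → Rel χ' η → χ = χ' := by
    rintro χ χ' η hχ hχ' ⟨θ, ξ, hθ, ho, hc, hoη⟩ ⟨θ', ξ', hθ', ho', hc', hoη'⟩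
    obtain ⟨n, hn⟩ := exists_conjFun_eq hoη hoη'
    have hcn := corr_conj D hc n
    rw [show (⟨conjFun n (ξ : K.subgroupOf (nrm P) → ℂ), isIrr_conjFun _ ξ.2⟩ :
      IrrCharacter (K.subgroupOf (nrm P))) = ξ' from Subtype.ext hn] at hcn
    have hθe := corr_left D hcn hc'
    obtain ⟨χ₀, -, -, -, hu⟩ := exists_real_over D.oddK θ'.2 hθ'
    refine (hu χ hχ ?_).trans (hu χ' hχ' ho').symm
    rw [← hθe]
    exact over_conjFun (isClassFunction_of_isIrr χ.2) _ ho
  choose f hf using htotal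
  refine ⟨f, ⟨fun χ χ' e => ?_, fun η => ?_⟩, fun χ => (hdegR _ _ χ.2 (f χ).2.1 (hf χ)).2⟩
  · exact Subtype.ext (hinj _ _ _ χ.2 χ'.2 (hf χ) (e ▸ hf χ'))
  · obtain ⟨ξ, hξ, hoη⟩ := exists_real_constituent hoddD η.1 η.2.1
    have hdvd : ¬ p ∣ (inertia (G := nrm P) (ξ : K.subgroupOf (nrm P) → ℂ)).index := fun e =>
      η.2.2 (hdegN ξ η.1 hξ η.2.1 hoη ▸ e.mul_right _)
    obtain ⟨g, hg⟩ := exists_conj_le (S := (P : Subgroup G).subgroupOf (nrm P))
      (P.2.comap_of_injective (nrm P).subtype (nrm P).subtype_injective) _ hdvd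
    have hξP : InvFun (setup D).b (ξ : K.subgroupOf (nrm P) → ℂ) := by
      rw [invFun_b_iff]
      intro x hx
      have := hg _ (hPn.conj_mem x hx g)
      simpa [mul_assoc] using this
    obtain ⟨θ, hc⟩ := corr_surj D ξ hξP
    have hθ := (corr_real_iff D hc).2 hξ
    obtain ⟨χ, hχ, ho, -, -⟩ := exists_real_over D.oddK θ.2 hθ
    exact ⟨⟨χ, hχ⟩, Subtype.ext (hfun χ _ _ (f ⟨χ, hχ⟩).2.1 η.2.1 (hf ⟨χ, hχ⟩)
      ⟨θ, ξ, hθ, ho, hc, hoη⟩)⟩

end Cfsg.Agent.RealPrime
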