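import Cfsg.Agent.Char.Clifford
import Cfsg.Agent.Char.Linear
import Cfsg.Agent.Char.FS
import Cfsg.Agent.Char.Perm
import Cfsg.Agent.ProjExt.Ratio
import Cfsg.Agent.S4911

/-!
Real characters over a normal subgroup
-/

set_option autoImplicit false

namespace Cfsg.Agent.RealPrime

open Cfsg.Agent Cfsg.Agent.Char

universe u

variable {G : Type u} [Group G] [Finite G] {M : Subgroup G} [M.Normal]

/-- An inverted element and lifts of the real classes of the quotient give a real character which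
is nontrivial on the subgroup. -/
theorem exists_real_ne (w : G) (hwM : w ∈ M) (hw1 : w ≠ 1) (hw : IsConj w w⁻¹)
    (hlift : ∀ x : G, IsConj (x : G ⧸ M) (x : G ⧸ M)⁻¹ →
      ∃ z : G, IsConj z z⁻¹ ∧ (z : G ⧸ M) = x) :
    ∃ χ : Cfsg.IrrCharacter G, (∀ g : G, ((χ : G → ℂ) g).im = 0) ∧
      ∃ m ∈ M, (χ : G → ℂ) m ≠ (χ : G → ℂ) 1 := by
  classical
  by_contra hno
  push Not at hno
  have hle : Nat.card {χ : Cfsg.IrrCharacter G // ∀ g, ((χ : G → ℂ) g).im = 0} ≤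
      Nat.card {φ : Cfsg.IrrCharacter (G ⧸ M) // ∀ g, ((φ : G ⧸ M → ℂ) g).im = 0} := by
    have hq : ∀ χ : {χ : Cfsg.IrrCharacter G // ∀ g, ((χ : G → ℂ) g).im = 0},
        ∃ φ : {φ : Cfsg.IrrCharacter (G ⧸ M) // ∀ g, ((φ : G ⧸ M → ℂ) g).im = 0},
          ∀ g, (χ.1 : G → ℂ) g = (φ.1 : G ⧸ M → ℂ) (g : G ⧸ M) := fun χ => by
      obtain ⟨φ, hφ, he⟩ := IsIrr.exists_quotient M χ.1.2 (hno χ.1 χ.2)
      refine ⟨⟨⟨φ, hφ⟩, fun q => ?_⟩, he⟩
      obtain ⟨g, rfl⟩ := QuotientGroup.mk_surjective q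
      show (φ g).im = 0
      rw [← he]; exact χ.2 g
    choose F hF using hq
    refine Nat.card_le_card_of_injective F fun a b e => Subtype.ext (Subtype.ext (funext fun g => ?_))
    rw [hF a, hF b, e]
  rw [S4911.card_real, S4911.card_real] at hle
  have hmap : ∀ C : {C : ConjClasses G // S4911.RealClass C},
      S4911.RealClass (C.1.map (QuotientGroup.mk' M)) := by
    rintro ⟨C, hC⟩
    obtain ⟨x, rfl⟩ := ConjClasses.mk_surjective C
    show S4911.RealClass (ConjClasses.mk (x : G ⧸ M))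
    rw [S4911.realClass_mk] at hC ⊢
    exact (QuotientGroup.mk' M).map_isConj hC
  obtain ⟨f, hf⟩ : ∃ f : {C : ConjClasses G // S4911.RealClass C} →
      {C : ConjClasses (G ⧸ M) // S4911.RealClass C},
      ∀ C, (f C).1 = C.1.map (QuotientGroup.mk' M) := ⟨fun C => ⟨_, hmap C⟩, fun _ => rfl⟩
  have hsurj : Function.Surjective f := by
    rintro ⟨D, hD⟩
    obtain ⟨q, rfl⟩ := ConjClasses.mk_surjective D
    obtain ⟨x, rfl⟩ := QuotientGroup.mk_surjective q
    obtain ⟨z, hz, hzx⟩ := hlift x (S4911.realClass_mk.1 hD)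
    refine ⟨⟨ConjClasses.mk z, S4911.realClass_mk.2 hz⟩, Subtype.ext ?_⟩
    rw [hf]
    show ConjClasses.mk (z : G ⧸ M) = _
    rw [hzx]
  have hcard : Nat.card {C : ConjClasses G // S4911.RealClass C} =
      Nat.card {C : ConjClasses (G ⧸ M) // S4911.RealClass C} :=
    le_antisymm hle (Nat.card_le_card_of_surjective f hsurj)
  have hinj := ((Nat.bijective_iff_surjective_and_card f).2 ⟨hsurj, hcard⟩).1
  have h1 : IsConj (1 : G) 1⁻¹ := by rw [inv_one]
  have h := congrArg Subtype.val (@hinj ⟨ConjClasses.mk w, S4911.realClass_mk.2 hw⟩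
    ⟨ConjClasses.mk 1, S4911.realClass_mk.2 h1⟩ (Subtype.ext (by
      rw [hf, hf]
      show ConjClasses.mk (w : G ⧸ M) = ConjClasses.mk ((1 : G) : G ⧸ M)
      rw [(QuotientGroup.eq_one_iff w).2 hwM, QuotientGroup.mk_one])))
  exact hw1 (isConj_one_left.1 (ConjClasses.mk_eq_mk_iff_isConj.1 h))

/-- Real classes lift over a normal subgroup of odd order. -/
theorem lift_of_odd (hodd : Odd (Nat.card M)) (x : G)
    (hx : IsConj (x : G ⧸ M) (x : G ⧸ M)⁻¹) : ∃ z : G, IsConj z z⁻¹ ∧ (z : G ⧸ M) = x := by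
  classical
  have h2 : Fact (Nat.Prime 2) := ⟨Nat.prime_two⟩
  obtain ⟨c, hc⟩ := isConj_iff.1 hx
  obtain ⟨y, rfl⟩ := QuotientGroup.mk_surjective c
  obtain ⟨e, o, ho, hord⟩ := Nat.exists_eq_two_pow_mul_odd (orderOf_pos y).ne'
  obtain ⟨j, rfl⟩ := ho
  obtain ⟨y', hy'⟩ : ∃ y', y ^ (2 * j + 1) = y' := ⟨_, rfl⟩
  have hy2 : y' ^ 2 ^ e = 1 := by
    rw [← hy', ← pow_mul, mul_comm, ← hord, pow_orderOf_eq_one]
  have hconj : (y' : G ⧸ M) * x * (y' : G ⧸ M)⁻¹ = (x : G ⧸ M)⁻¹ := by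
    have hsq : Commute ((y : G ⧸ M) * y) (x : G ⧸ M) := by
      have h1 := congrArg (fun z => z⁻¹) hc
      simp only [mul_inv_rev, inv_inv, ← mul_assoc] at h1
      show (y : G ⧸ M) * y * x = x * (y * y)
      calc (y : G ⧸ M) * y * x = y * (y * x * (y : G ⧸ M)⁻¹) * y := by group
        _ = y * (x : G ⧸ M)⁻¹ * (y : G ⧸ M)⁻¹ * (y * y) := by rw [hc]; group
        _ = _ := by rw [h1]
    rw [← hy', QuotientGroup.mk_pow, pow_succ', pow_mul, pow_two, mul_inv_rev]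
    calc (y : G ⧸ M) * ((y : G ⧸ M) * y) ^ j * x * (((((y : G ⧸ M) * y) ^ j))⁻¹ * (y : G ⧸ M)⁻¹)
        = y * ((((y : G ⧸ M) * y) ^ j) * x * ((((y : G ⧸ M) * y) ^ j))⁻¹) * (y : G ⧸ M)⁻¹ := by group
      _ = _ := by rw [(hsq.pow_left j).eq, mul_inv_cancel_right, hc]
  let D := {z : G // (z : G ⧸ M) = (x : G ⧸ M)}
  have hD : Nat.card D = Nat.card M := Nat.card_congr
    { toFun := fun z => ⟨x⁻¹ * z.1, QuotientGroup.eq.1 z.2.symm⟩
      invFun := fun m => ⟨x * m, by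
        rw [QuotientGroup.mk_mul, (QuotientGroup.eq_one_iff (m : G)).2 m.2, mul_one]⟩
      left_inv := fun z => Subtype.ext (by simp)
      right_inv := fun m => Subtype.ext (by simp) }
  obtain ⟨σ, hσ⟩ : ∃ σ : Equiv.Perm D, ∀ z : D, (σ z : G) = (y' * (z : G) * y'⁻¹)⁻¹ := by
    have hmem : ∀ z : D, (((y' * (z : G) * y'⁻¹)⁻¹ : G) : G ⧸ M) = (x : G ⧸ M) := fun z => by
      rw [QuotientGroup.mk_inv, QuotientGroup.mk_mul, QuotientGroup.mk_mul, QuotientGroup.mk_inv,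
        z.2, hconj, inv_inv]
    refine ⟨Equiv.ofBijective (fun z => ⟨_, hmem z⟩) (Finite.injective_iff_bijective.1 ?_),
      fun _ => rfl⟩
    intro a b h
    have := congrArg Subtype.val h
    simp only [inv_inj, mul_left_inj, mul_right_inj] at this
    exact Subtype.ext this
  have hσ2 : ∀ n : ℕ, ∀ z : D, ((σ ^ (2 * n)) z : G) = y' ^ (2 * n) * z * (y' ^ (2 * n))⁻¹ := by
    intro n
    induction n with
    | zero => intro z; simp
    | succ n ih =>
      intro z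
      rw [show 2 * (n + 1) = 2 + 2 * n by ring, pow_add, Equiv.Perm.mul_apply, pow_two,
        Equiv.Perm.mul_apply, hσ, hσ, ih]
      group
  have hP : IsPGroup 2 (Subgroup.zpowers σ) := by
    have h1 : σ ^ (2 * 2 ^ e) = 1 := Equiv.ext fun z => Subtype.ext (by
      rw [hσ2, mul_comm 2, pow_mul, hy2, one_pow, one_mul, inv_one, mul_one]; rfl)
    obtain ⟨k, -, hk⟩ := (Nat.dvd_prime_pow Nat.prime_two).1
      (show orderOf σ ∣ 2 ^ (e + 1) by rw [pow_succ']; exact orderOf_dvd_of_pow_eq_one h1)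
    exact IsPGroup.of_card (by rw [Nat.card_zpowers, hk])
  have := Fintype.ofFinite D
  have hnd : ¬ 2 ∣ Nat.card D := fun h => Nat.not_even_iff_odd.2 hodd (even_iff_two_dvd.2 (hD ▸ h))
  obtain ⟨z, hz⟩ := hP.nonempty_fixed_point_of_prime_not_dvd_card D hnd
  have h := congrArg Subtype.val (hz ⟨σ, Subgroup.mem_zpowers σ⟩)
  rw [show ((⟨σ, Subgroup.mem_zpowers σ⟩ : Subgroup.zpowers σ) • z : D) = σ z from rfl, hσ,
    inv_eq_iff_eq_inv] at h
  exact ⟨z.1, isConj_iff.2 ⟨y', h⟩, z.2⟩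

/-- Real classes lift along a complement. -/
theorem lift_of_complement (N : Subgroup G) (htop : M ⊔ N = ⊤) (hbot : M ⊓ N = ⊥) (x : G)
    (hx : IsConj (x : G ⧸ M) (x : G ⧸ M)⁻¹) : ∃ z : G, IsConj z z⁻¹ ∧ (z : G ⧸ M) = x := by
  have hrep : ∀ g : G, ∃ n ∈ N, (n : G ⧸ M) = g := fun g => by
    have hg : g ∈ N ⊔ M := by rw [sup_comm, htop]; trivial
    obtain ⟨n, hn, m, hm, rfl⟩ := Subgroup.mem_sup_of_normal_right.1 hg
    exact ⟨n, hn, by rw [QuotientGroup.mk_mul, (QuotientGroup.eq_one_iff m).2 hm, mul_one]⟩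
  obtain ⟨z, hzN, hz⟩ := hrep x
  obtain ⟨c, hc⟩ := isConj_iff.1 hx
  obtain ⟨c, rfl⟩ := QuotientGroup.mk_surjective c
  obtain ⟨y, hyN, hy⟩ := hrep c
  rw [← hz, ← hy, ← QuotientGroup.mk_inv, ← QuotientGroup.mk_mul, ← QuotientGroup.mk_inv,
    ← QuotientGroup.mk_mul, eq_comm, QuotientGroup.eq, inv_inv] at hc
  have h1 : z * (y * z * y⁻¹) ∈ M ⊓ N :=
    Subgroup.mem_inf.2 ⟨hc, N.mul_mem hzN (N.mul_mem (N.mul_mem hyN hzN) (N.inv_mem hyN))⟩
  rw [hbot, Subgroup.mem_bot] at h1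
  exact ⟨z, isConj_iff.2 ⟨y, eq_inv_of_mul_eq_one_right h1⟩, hz⟩

omit [M.Normal] in
/-- An element of two-power order moving a normal subgroup inverts some element of it. -/
theorem exists_inverted [M.Normal] {g : G} {a : ℕ} (hg : g ^ 2 ^ a = 1)
    (hne : ∃ m ∈ M, g * m * g⁻¹ ≠ m) : ∃ w ∈ M, w ≠ 1 ∧ IsConj w w⁻¹ := by
  induction a generalizing g with
  | zero =>
    rw [pow_zero, pow_one] at hg
    obtain ⟨m, -, h⟩ := hne
    simp [hg] at h
  | succ a ih =>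
    by_cases h2 : ∃ m ∈ M, g ^ 2 * m * (g ^ 2)⁻¹ ≠ m
    · exact ih (by rw [← pow_mul, ← pow_succ']; exact hg) h2
    push Not at h2
    obtain ⟨m, hm, hm'⟩ := hne
    refine ⟨m⁻¹ * (g * m * g⁻¹), mul_mem (inv_mem hm) (Subgroup.Normal.conj_mem inferInstance m hm g),
      fun e => hm' (inv_mul_eq_one.1 e).symm, isConj_iff.2 ⟨g, ?_⟩⟩
    have h3 := h2 m hm
    calc g * (m⁻¹ * (g * m * g⁻¹)) * g⁻¹ = (g * m * g⁻¹)⁻¹ * (g ^ 2 * m * (g ^ 2)⁻¹) := by group
      _ = _ := by rw [h3]; group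

/-- A constituent on a subgroup trivial on a normal subgroup forces triviality. -/
theorem trivial_of_constituent [Fintype G] {H : Subgroup G} [Fintype H] (hMH : M ≤ H)
    {χ : Cfsg.IrrCharacter G} {ψ : Cfsg.IrrCharacter H}
    (hψ : classInner (fun h : H => (χ : G → ℂ) h) (ψ : H → ℂ) ≠ 0)
    (hψM : ∀ m (hm : m ∈ M), (ψ : H → ℂ) ⟨m, hMH hm⟩ = (ψ : H → ℂ) 1) {m : G} (hm : m ∈ M) :
    (χ : G → ℂ) m = (χ : G → ℂ) 1 := by
  classical
  have := Fintype.ofFinite M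
  let one : Cfsg.IrrCharacter M := ⟨fun _ => 1, isIrrCharacter_one⟩
  have hres : ∀ {φ : G → ℂ}, Cfsg.IsCharacter G φ → Cfsg.IsCharacter H (fun h : H => φ h) :=
    fun h => isCharacter_res H h
  have hexp := classFun_expansion (isClassFunction_of_isCharacter (hres (IsIrr.isCharacter χ.2)))
  obtain ⟨i, hi⟩ : ∃ i : M →* H, ∀ x : M, (i x : G) = x := ⟨Subgroup.inclusion hMH, fun _ => rfl⟩
  have hnat : ∀ η : Cfsg.IrrCharacter H, ∃ n : ℕ,
      classInner (fun x : M => (η : H → ℂ) (i x)) (one : M → ℂ) = n := fun η =>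
    classInner_isCharacter_eq_natCast (isCharacter_comp i (IsIrr.isCharacter η.2))
      (IsIrr.isCharacter one.2)
  choose n hn using hnat
  choose a ha using fun η : Cfsg.IrrCharacter H =>
    classInner_isCharacter_eq_natCast (hres (IsIrr.isCharacter χ.2)) (IsIrr.isCharacter η.2)
  have hsum : classInner (fun x : M => (χ : G → ℂ) x) (one : M → ℂ) =
      ((∑ η, a η * n η : ℕ) : ℂ) := by
    have e : (fun x : M => (χ : G → ℂ) x) =
        ∑ η : Cfsg.IrrCharacter H, (a η : ℂ) • fun x : M => (η : H → ℂ) (i x) := by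
      funext x
      have := congrFun hexp (i x)
      simp only [hi, ha] at this
      rw [this]
      simp [Finset.sum_apply, smul_eq_mul]
    rw [e, classInner_sum_left, Nat.cast_sum]
    refine Finset.sum_congr rfl fun η _ => ?_
    rw [classInner_smul_left, hn, Nat.cast_mul]
  have hnψ : n ψ ≠ 0 := by
    intro h0
    have h := hn ψ
    rw [h0, Nat.cast_zero, classInner, Finset.sum_eq_card_nsmul (b := (ψ : H → ℂ) 1)] at h
    · obtain ⟨d, hd, e⟩ := IsIrr.degree ψ.2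
      simp [e] at h
      exact absurd h (by omega)
    · intro x _
      show (ψ : H → ℂ) (i x) * (starRingEnd ℂ) 1 = _
      rw [map_one, mul_one, show i x = ⟨x, hMH x.2⟩ from Subtype.ext (hi x), hψM _ x.2]
  have haψ : a ψ ≠ 0 := fun h0 => hψ (by rw [ha, h0, Nat.cast_zero])
  have hne : classInner (fun x : M => (χ : G → ℂ) x) (one : M → ℂ) ≠ 0 := by
    rw [hsum, Nat.cast_ne_zero]
    intro h0
    rw [Finset.sum_eq_zero_iff] at h0
    exact (mul_ne_zero haψ hnψ) (h0 ψ (Finset.mem_univ _))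
  have hcl := clifford χ.2 one.2 hne
  have horb : ∀ ψ' ∈ orbit (G := G) (one : M → ℂ), ψ' = fun _ => 1 := fun ψ' h => by
    obtain ⟨g, rfl⟩ := mem_orbit.1 h
    rfl
  have hv : ∀ x : M, (χ : G → ℂ) x = classInner (fun x : M => (χ : G → ℂ) x) (one : M → ℂ) *
      ((orbit (G := G) (one : M → ℂ)).card : ℂ) := fun x => by
    have := congrFun hcl x
    simp only [Pi.smul_apply, Finset.sum_apply, smul_eq_mul] at this
    rw [this, Finset.sum_congr rfl (fun ψ' h => show ψ' x = (1 : ℂ) by rw [horb ψ' h]), Finset.sum_const, nsmul_eq_mul,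
      mul_one]
  have h1 := hv ⟨m, hm⟩
  have h2 := hv 1
  exact h1.trans h2.symm

end Cfsg.Agent.RealPrime
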