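import Cfsg.Agent.BlockChar.RealPrimeBasic
import Cfsg.Agent.Core.PCore
import Cfsg.Agent.S4591
import Cfsg.Agent.Coprime.SchurZassenhaus
import Cfsg.Agent.CoprimeFitting.Basic
import Cfsg.Agent.Char.NormalAbelianSylow

/-!
Groups whose real characters have degree prime to `p`
-/

set_option autoImplicit false

namespace Cfsg.Agent.RealPrime

open Cfsg.Agent Cfsg.Agent.Char
open scoped commutatorElement

universe u

/-- The subgroup generated by the `q`-elements. -/
def gen (q : ℕ) (G : Type u) [Group G] : Subgroup G :=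
  Subgroup.closure {g : G | ∃ k : ℕ, orderOf g = q ^ k}

theorem gen_map {G : Type u} [Group G] [Finite G] {H : Type u} [Group H] (f : G →* H)
    (hf : Function.Surjective f) {q : ℕ} (hq : q.Prime) : (gen q G).map f = gen q H := by
  refine le_antisymm ?_ ?_
  · rw [gen, MonoidHom.map_closure]
    refine Subgroup.closure_mono ?_
    rintro _ ⟨x, ⟨k, hk⟩, rfl⟩
    obtain ⟨j, -, hj⟩ := (Nat.dvd_prime_pow hq).1 (hk ▸ orderOf_map_dvd f x)
    exact ⟨j, hj⟩
  · rw [gen, Subgroup.closure_le]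
    rintro y ⟨b, hb⟩
    obtain ⟨x, rfl⟩ := hf y
    obtain ⟨a, o, ho, hord⟩ := Nat.exists_eq_pow_mul_and_not_dvd (orderOf_pos x).ne' q hq.ne_one
    have hcop : Nat.Coprime (q ^ b) o := ((hq.coprime_iff_not_dvd.2 ho).pow_left b)
    obtain ⟨e, he1, he2⟩ := Nat.chineseRemainder hcop 1 0
    have hx : f (x ^ e) = f x := by
      rw [map_pow]
      conv_rhs => rw [← pow_one (f x)]
      rw [pow_eq_pow_iff_modEq, hb]
      exact he1
    rw [← hx]
    refine Subgroup.mem_map_of_mem f (Subgroup.subset_closure ?_)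
    obtain ⟨c, rfl⟩ := (Nat.modEq_zero_iff_dvd.1 he2)
    obtain ⟨j, -, hj⟩ := (Nat.dvd_prime_pow hq).1 (orderOf_dvd_of_pow_eq_one
      (show (x ^ (o * c)) ^ q ^ a = 1 by
        rw [← pow_mul, show o * c * q ^ a = orderOf x * c by rw [hord]; ring, pow_mul,
          pow_orderOf_eq_one, one_pow]))
    exact ⟨j, hj⟩

/-- The hypothesis on real characters. -/
def Hyp (p : ℕ) (G : Type u) [Group G] [Finite G] : Prop :=
  Group.IsSolvable (gen p G) ∧
    ∀ χ : Cfsg.IrrCharacter G, (∀ g : G, ((χ : G → ℂ) g).im = 0) → ¬ p ∣ Cfsg.charDegree (χ : G → ℂ)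

theorem Hyp.quotient {p : ℕ} (hp : p.Prime) {G : Type u} [Group G] [Finite G] (h : Hyp p G)
    (M : Subgroup G) [M.Normal] : Hyp p (G ⧸ M) := by
  constructor
  · rw [← gen_map (QuotientGroup.mk' M) (QuotientGroup.mk'_surjective M) hp]
    haveI := h.1
    exact Group.isSolvable_of_surjective (MonoidHom.subgroupMap_surjective (QuotientGroup.mk' M) (gen p G))
  · intro φ hφ
    exact h.2 ⟨_, isIrrCharacter_mk M φ.2⟩ fun g => hφ (g : G ⧸ M)

/-- A character of degree prime to `p` kills an abelian normal subgroup generated by commutators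
with a `p`-group, and a normal subgroup inside the derived subgroup of a `p`-group. -/
theorem trivial_of_commutators {G : Type u} [Group G] [Finite G] {p : ℕ} [Fact p.Prime]
    {M H : Subgroup G} [M.Normal] (hMH : M ≤ H) (hidx : ∃ a, M.relIndex H = p ^ a)
    (hlin : ∀ f : H →* ℂˣ, ∀ m (hm : m ∈ M), f ⟨m, hMH hm⟩ = 1)
    (hlinM : ∀ θ : Cfsg.IrrCharacter (M.subgroupOf H), (θ : M.subgroupOf H → ℂ) 1 = 1 ∨
      IsPGroup p H)
    {χ : Cfsg.IrrCharacter G} (hχ : ¬ p ∣ Cfsg.charDegree (χ : G → ℂ)) {m : G} (hm : m ∈ M) :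
    (χ : G → ℂ) m = (χ : G → ℂ) 1 := by
  classical
  have := Fintype.ofFinite G
  have := Fintype.ofFinite H
  obtain ⟨d, hd0, hd⟩ := IsIrr.degree χ.2
  have hd' : Cfsg.charDegree (χ : G → ℂ) = d := Blocks.charDegree_eq hd
  obtain ⟨ψ, hψp, hψ⟩ := S4591.exists_constituent_prime (p := p)
    (isCharacter_res H (IsIrr.isCharacter χ.2)) (n := d) hd (hd' ▸ hχ)
  refine trivial_of_constituent hMH hψ (fun m hm => ?_) hm
  obtain ⟨e, he0, he⟩ := IsIrr.degree ψ.2
  have he' : Cfsg.charDegree (ψ : H → ℂ) = e := Blocks.charDegree_eq he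
  have he1 : e = 1 := by
    obtain ⟨a, ha⟩ := hidx
    have key : ∃ b, e ∣ p ^ b := by
      have := Fintype.ofFinite (M.subgroupOf H)
      obtain ⟨θ, hθ⟩ := exists_constituent_res (N := M.subgroupOf H) ψ.2
      rcases hlinM θ with h1 | h1
      · obtain ⟨k, hk, hdvd⟩ := ProjExt.exists_ratio_dvd_index ψ.2 θ.2 hθ
        rw [h1, mul_one, he, Nat.cast_inj] at hk
        exact ⟨a, hk ▸ (ha ▸ hdvd)⟩
      · obtain ⟨b, hb⟩ := IsPGroup.iff_card.1 h1
        exact ⟨b, hb ▸ IsIrr.degree_dvd_card ψ.2 he⟩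
    obtain ⟨b, hb⟩ := key
    obtain ⟨j, -, hj⟩ := (Nat.dvd_prime_pow Fact.out).1 hb
    rcases Nat.eq_zero_or_pos j with h | h
    · rw [hj, h, pow_zero]
    · exact absurd (hj ▸ dvd_pow_self p h.ne') (he' ▸ hψp)
  obtain ⟨f, hf⟩ := IsChar.exists_hom (IsIrr.isCharacter ψ.2) (by rw [he, he1, Nat.cast_one])
  rw [hf]
  show (f ⟨m, hMH hm⟩ : ℂ) = (f 1 : ℂ)
  rw [hlin f m hm, map_one]

/-- The Sylow subgroup of a normal `p`-extension of the subgroup generated by the 2-elements is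
normal. -/
theorem exists_normal_sylow (p : ℕ) [Fact p.Prime] : ∀ n : ℕ, ∀ (G : Type u) [Group G] [Finite G],
    Nat.card G ≤ n → Hyp p G → ∀ U : Subgroup G, U.Normal → gen 2 G ≤ U →
      (∃ a, (gen 2 G).relIndex U ∣ p ^ a) →
      ∃ Q : Subgroup G, Q.Normal ∧ Q ≤ U ∧ IsPGroup p Q ∧ ¬ p ∣ Q.relIndex U := by
  intro n
  induction n with
  | zero => intro G _ _ h; exact absurd h (Nat.not_le.2 Nat.card_pos)
  | succ n ih =>
  intro G _ _ hcard hyp U hU hKU hUp
  classical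
  have hp := (Fact.out : p.Prime)
  haveI := hU
  by_cases hUbot : U = ⊥
  · subst hUbot
    exact ⟨⊥, inferInstance, le_rfl, IsPGroup.of_bot, by
      rw [Subgroup.relIndex_self]; exact fun h => hp.ne_one (Nat.dvd_one.1 h)⟩
  obtain ⟨M, hMn, hMU, hM1, hmin⟩ := CoprimeFitting.exists_minimal_normal hUbot
  haveI := hMn
  have hlt : Nat.card (G ⧸ M) ≤ n := by
    have h1 := Subgroup.card_eq_card_quotient_mul_card_subgroup M
    have h2 : 2 ≤ Nat.card M := by
      have : Nontrivial M := (Subgroup.nontrivial_iff_ne_bot M).2 hM1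
      exact Finite.one_lt_card
    have h3 : 0 < Nat.card (G ⧸ M) := Nat.card_pos
    nlinarith
  -- the quotient
  have hgen2 := gen_map (QuotientGroup.mk' M) (QuotientGroup.mk'_surjective M) Nat.prime_two
  obtain ⟨Qb, hQbn, hQbU, hQbp, hQbi⟩ := ih (G ⧸ M) hlt (hyp.quotient hp M)
    (U.map (QuotientGroup.mk' M)) (hU.map _ (QuotientGroup.mk'_surjective M))
    (by rw [← hgen2]; exact Subgroup.map_mono hKU)
    (by
      obtain ⟨a, ha⟩ := hUp
      refine ⟨a, dvd_trans ?_ ha⟩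
      rw [← hgen2, Subgroup.relIndex_map_map, QuotientGroup.ker_mk', sup_eq_left.2 hMU]
      exact Subgroup.relIndex_dvd_of_le_left _ le_sup_left)
  obtain ⟨L, hL⟩ : ∃ L, Qb.comap (QuotientGroup.mk' M) = L := ⟨_, rfl⟩
  haveI hLn : L.Normal := hL ▸ hQbn.comap _
  have hML : M ≤ L := fun x hx => by
    rw [← hL, Subgroup.mem_comap, QuotientGroup.mk'_apply, (QuotientGroup.eq_one_iff x).2 hx]
    exact one_mem _
  have hLU : L ≤ U := by
    rw [← hL]
    refine (Subgroup.comap_mono hQbU).trans ?_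
    rw [Subgroup.comap_map_eq, QuotientGroup.ker_mk', sup_eq_left.2 hMU]
  have hLmap : L.map (QuotientGroup.mk' M) = Qb := by
    rw [← hL, Subgroup.map_comap_eq_self_of_surjective (QuotientGroup.mk'_surjective M)]
  have hLi : ¬ p ∣ L.relIndex U := by
    have h : L.relIndex U = Qb.relIndex (U.map (QuotientGroup.mk' M)) := by
      rw [← hLmap, Subgroup.relIndex_map_map, QuotientGroup.ker_mk', sup_eq_left.2 hMU,
        sup_eq_left.2 hML]
    rw [h]; exact hQbi
  have hLp : ∀ x ∈ L, ∃ k, x ^ p ^ k ∈ M := fun x hx => by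
    obtain ⟨k, hk⟩ := hQbp ⟨(x : G ⧸ M), by rw [← hL] at hx; exact hx⟩
    refine ⟨k, (QuotientGroup.eq_one_iff _).1 ?_⟩
    rw [QuotientGroup.mk_pow]
    exact congrArg Subtype.val hk
  by_cases hMp : IsPGroup p M
  · refine ⟨L, inferInstance, hLU, fun x => ?_, hLi⟩
    obtain ⟨k, hk⟩ := hLp x x.2
    obtain ⟨j, hj⟩ := hMp ⟨_, hk⟩
    refine ⟨k + j, Subtype.ext ?_⟩
    rw [pow_add, pow_mul]
    have h := congrArg Subtype.val hj
    simpa using h
  -- `M` is not a `p`-group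
  obtain ⟨W, hW⟩ : ∃ W, gen p G = W := ⟨_, rfl⟩
  haveI hWn : W.Normal := hW ▸ by
    refine ⟨fun w hw y => ?_⟩
    have : (gen p G).map (MulAut.conj y).toMonoidHom ≤ gen p G :=
      le_of_eq (gen_map _ (MulAut.conj y).surjective hp)
    exact this ⟨w, hw, rfl⟩
  have hWs : Group.IsSolvable W := hW ▸ hyp.1
  have hpW : ∀ x : G, (∃ k, orderOf x = p ^ k) → x ∈ W := fun x hx => hW ▸ Subgroup.subset_closure hx
  have hMcop : ¬ p ∣ Nat.card M := by
    intro hd
    obtain ⟨⟨x, hxM⟩, hx⟩ := exists_prime_orderOf_dvd_card' p hd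
    rw [Subgroup.orderOf_mk] at hx
    have hne : M ⊓ W ≠ ⊥ := fun e => by
      have : x ∈ M ⊓ W := ⟨hxM, hpW x ⟨1, by rw [hx, pow_one]⟩⟩
      rw [e, Subgroup.mem_bot] at this
      rw [this, orderOf_one] at hx
      exact hp.ne_one hx.symm
    have hle : M ≤ W := (inf_eq_left.1 (hmin (M ⊓ W) inferInstance hne inf_le_left))
    obtain ⟨M', hM'n, hM'c, hM'M, hM'1⟩ := Coprime.exists_minimal_normal_abelian M hM1
      (Core.isSolvable_mono hWs hle)
    obtain rfl := hmin M' hM'n hM'1 hM'M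
    haveI := hM'c
    obtain ⟨P₀⟩ : Nonempty (Sylow p M') := inferInstance
    haveI : (P₀ : Subgroup M').Normal := Subgroup.normal_of_comm _
    haveI := P₀.characteristic_of_normal inferInstance
    have h1 := hmin ((P₀ : Subgroup M').map M'.subtype) inferInstance (fun e => by
      rw [Subgroup.map_eq_bot_iff_of_injective _ M'.subtype_injective] at e
      exact P₀.ne_bot_of_dvd_card hd e) (Subgroup.map_subtype_le _)
    exact hMp (h1 ▸ P₀.2.map _)
  -- a Sylow subgroup of `L`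
  obtain ⟨Q₀⟩ : Nonempty (Sylow p L) := inferInstance
  obtain ⟨Q, hQ⟩ : ∃ Q, (Q₀ : Subgroup L).map L.subtype = Q := ⟨_, rfl⟩
  have hQL : Q ≤ L := hQ ▸ Subgroup.map_subtype_le _
  have hQp : IsPGroup p Q := hQ ▸ Q₀.2.map _
  have hQi : ¬ p ∣ Q.relIndex L := by
    rw [← hQ, Subgroup.relIndex, Subgroup.subgroupOf,
      Subgroup.comap_map_eq_self_of_injective L.subtype_injective]
    exact Q₀.not_dvd_index
  have hQU : ¬ p ∣ Q.relIndex U := by
    rw [← Subgroup.relIndex_mul_relIndex Q L U hQL hLU]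
    exact fun h => (hp.dvd_mul.1 h).elim hQi hLi
  have hMQ : ∀ x, x ∈ M → x ∈ Q → x = 1 := fun x h1 h2 => by
    obtain ⟨k, hk⟩ := IsPGroup.iff_orderOf.1 hQp ⟨x, h2⟩
    rw [Subgroup.orderOf_mk] at hk
    refine orderOf_eq_one_iff.1 (Nat.eq_one_of_dvd_coprimes
      ((hp.coprime_iff_not_dvd.2 hMcop).pow_left k) (dvd_of_eq hk) ?_)
    rw [← Subgroup.orderOf_mk (H := M) x h1]
    exact orderOf_dvd_natCard _
  have hLMQ : L = M ⊔ Q := by
    refine le_antisymm ?_ (sup_le hML hQL)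
    obtain ⟨T, hT⟩ : ∃ T, M ⊔ Q = T := ⟨_, rfl⟩
    rw [hT]
    have hTL : T ≤ L := hT ▸ sup_le hML hQL
    have hd1 : T.relIndex L ∣ M.relIndex L := Subgroup.relIndex_dvd_of_le_left L (hT ▸ le_sup_left)
    have hd2 : T.relIndex L ∣ Q.relIndex L := Subgroup.relIndex_dvd_of_le_left L (hT ▸ le_sup_right)
    obtain ⟨b, hb⟩ : ∃ b, M.relIndex L = p ^ b := by
      have h : M.relIndex L = Nat.card Qb := by
        rw [← hLmap, ← MonoidHom.restrict_range, ← Subgroup.index_ker, MonoidHom.ker_restrict,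
          QuotientGroup.ker_mk']
        rfl
      rw [h]
      exact IsPGroup.iff_card.1 hQbp
    rw [hb] at hd1
    obtain ⟨c, -, hc⟩ := (Nat.dvd_prime_pow hp).1 hd1
    refine Subgroup.relIndex_eq_one.1 ?_
    rcases Nat.eq_zero_or_pos c with h | h
    · rw [hc, h, pow_zero]
    · exact absurd ((hc ▸ dvd_pow_self p h.ne').trans hd2) hQi
  by_cases hcomm : ∀ m ∈ M, ∀ q ∈ Q, m * q = q * m
  · -- `Q` is normal in `L`
    have hnorm : L ≤ Subgroup.normalizer (Q : Set G) := by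
      rw [hLMQ]
      refine sup_le (fun m hm => ?_) Subgroup.le_normalizer
      rw [Subgroup.mem_normalizer_iff]
      intro h
      constructor
      · intro hh; rw [hcomm m hm h hh, mul_inv_cancel_right]; exact hh
      · intro hh
        have h2 := hcomm m hm _ hh
        have h3 : h = m * h * m⁻¹ := by
          have := congrArg (fun z => m⁻¹ * z) h2
          simpa [mul_assoc, eq_comm] using this
        rw [h3]; exact hh
    haveI : (Q₀ : Subgroup L).Normal := by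
      have : (Q₀ : Subgroup L) = Q.subgroupOf L := by
        rw [← hQ, Subgroup.subgroupOf, Subgroup.comap_map_eq_self_of_injective L.subtype_injective]
      rw [this]
      exact Subgroup.normal_subgroupOf_of_le_normalizer hnorm
    haveI := Q₀.characteristic_of_normal inferInstance
    exact ⟨Q, hQ ▸ inferInstance, hQL.trans hLU, hQp, hQU⟩
  exfalso
  push Not at hcomm
  obtain ⟨m₀, hm₀, q₀, hq₀, hmq⟩ := hcomm
  have hcM : ⁅m₀, q₀⁆ ∈ M := by
    rw [commutatorElement_def, show m₀ * q₀ * m₀⁻¹ * q₀⁻¹ = m₀ * (q₀ * m₀⁻¹ * q₀⁻¹) by group]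
    exact mul_mem hm₀ (Subgroup.Normal.conj_mem inferInstance _ (inv_mem hm₀) q₀)
  have hcW : ⁅m₀, q₀⁆ ∈ W := by
    obtain ⟨k, hk⟩ := IsPGroup.iff_orderOf.1 hQp ⟨q₀, hq₀⟩
    rw [Subgroup.orderOf_mk] at hk
    rw [commutatorElement_def]
    exact mul_mem (Subgroup.Normal.conj_mem inferInstance _ (hpW q₀ ⟨k, hk⟩) m₀)
      (inv_mem (hpW q₀ ⟨k, hk⟩))
  have hc1 : ⁅m₀, q₀⁆ ≠ 1 := fun e => hmq (commutatorElement_eq_one_iff_mul_comm.1 e)
  have hMW : M ≤ W := inf_eq_left.1 (hmin (M ⊓ W) inferInstance (fun e => hc1 (by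
    have : ⁅m₀, q₀⁆ ∈ M ⊓ W := ⟨hcM, hcW⟩
    rw [e, Subgroup.mem_bot] at this
    exact this)) inf_le_left)
  obtain ⟨M', hM'n, hM'c, hM'M, hM'1⟩ := Coprime.exists_minimal_normal_abelian M hM1
    (Core.isSolvable_mono hWs hMW)
  obtain rfl := hmin M' hM'n hM'1 hM'M
  haveI := hM'c
  have hMc : ∀ x ∈ M', ∀ y ∈ M', x * y = y * x := fun x hx y hy =>
    congrArg Subtype.val (hM'c.is_comm.comm ⟨x, hx⟩ ⟨y, hy⟩)
  obtain ⟨N, hN⟩ : ∃ N, Subgroup.normalizer (Q : Set G) = N := ⟨_, rfl⟩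
  have htop : M' ⊔ N = ⊤ := by
    have h1 : N ⊔ L = ⊤ := by
      rw [← hN, ← hQ]
      exact Sylow.normalizer_sup_eq_top Q₀
    rw [eq_top_iff, ← h1]
    refine sup_le le_sup_right ?_
    rw [hLMQ]
    exact sup_le le_sup_left ((hN ▸ Subgroup.le_normalizer).trans le_sup_right)
  have hMN : ∀ x ∈ M', x ∈ N → ∀ q ∈ Q, x * q = q * x := by
    intro x hx hxN q hq
    have h1 : x * q * x⁻¹ ∈ Q := (Subgroup.mem_normalizer_iff.1 (hN ▸ hxN) q).1 hq
    have h2 : x * q * x⁻¹ * q⁻¹ = 1 := hMQ _ (by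
      rw [show x * q * x⁻¹ * q⁻¹ = x * (q * x⁻¹ * q⁻¹) by group]
      exact mul_mem hx (Subgroup.Normal.conj_mem inferInstance _ (inv_mem hx) q))
      (mul_mem h1 (inv_mem hq))
    exact commutatorElement_eq_one_iff_mul_comm.1 h2
  have hnormal : ∀ S : Subgroup G, S ≤ M' →
      (∀ g ∈ N, ∀ s ∈ S, g * s * g⁻¹ ∈ S) → S.Normal := by
    intro S hS hNS
    refine ⟨fun s hs g => ?_⟩
    have hg : g ∈ M' ⊔ N := by rw [htop]; trivial
    obtain ⟨m, hm, k, hk, rfl⟩ := Subgroup.mem_sup_of_normal_left.1 hg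
    have h1 := hNS k hk s hs
    rw [show m * k * s * (m * k)⁻¹ = m * (k * s * k⁻¹) * m⁻¹ by group,
      hMc m hm _ (hS h1), mul_inv_cancel_right]
    exact h1
  have hQN : ∀ g ∈ N, ∀ q ∈ Q, g * q * g⁻¹ ∈ Q := fun g hg q hq =>
    (Subgroup.mem_normalizer_iff.1 (hN ▸ hg) q).1 hq
  -- the complement
  have hbot : M' ⊓ N = ⊥ := by
    by_contra hne
    haveI : (M' ⊓ N).Normal := hnormal _ inf_le_left fun g hg s hs =>
      Subgroup.mem_inf.2 ⟨Subgroup.Normal.conj_mem inferInstance s hs.1 g, N.mul_mem (N.mul_mem hg hs.2) (N.inv_mem hg)⟩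
    have h := inf_eq_left.1 (hmin _ inferInstance hne inf_le_left)
    exact hmq (hMN m₀ hm₀ (h hm₀) q₀ hq₀)
  -- linear characters of `L` are trivial on `M`
  have hgenM : ⁅M', Q⁆ = M' := by
    have hle : ⁅M', Q⁆ ≤ M' := Subgroup.commutator_le_left M' Q
    haveI : (⁅M', Q⁆).Normal := by
      refine hnormal _ hle fun g hg s hs => ?_
      have h1 : (⁅M', Q⁆).map (MulAut.conj g).toMonoidHom ≤ ⁅M', Q⁆ := by
        rw [Subgroup.map_commutator]
        refine Subgroup.commutator_mono ?_ ?_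
        · rintro _ ⟨x, hx, rfl⟩; exact Subgroup.Normal.conj_mem inferInstance x hx g
        · rintro _ ⟨x, hx, rfl⟩; exact hQN g hg x hx
      exact h1 ⟨s, hs, rfl⟩
    refine hmin _ inferInstance (fun e => hc1 ?_) hle
    have := Subgroup.commutator_mem_commutator hm₀ hq₀
    rwa [e, Subgroup.mem_bot] at this
  have hlin : ∀ f : L →* ℂˣ, ∀ m (hm : m ∈ M'), f ⟨m, hML hm⟩ = 1 := by
    intro f m hm
    have key : ⁅M', Q⁆ ≤ f.ker.map L.subtype := by
      rw [Subgroup.commutator_le]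
      intro x hx y hy
      refine ⟨⁅(⟨x, hML hx⟩ : L), (⟨y, hQL hy⟩ : L)⁆, ?_, rfl⟩
      rw [SetLike.mem_coe, MonoidHom.mem_ker, map_commutatorElement,
        commutatorElement_eq_one_iff_mul_comm]
      exact mul_comm _ _
    rw [hgenM] at key
    obtain ⟨z, hz, hzm⟩ := key hm
    rw [show (⟨m, hML hm⟩ : L) = z from Subtype.ext hzm.symm]
    exact hz
  have hidx : ∃ b, M'.relIndex L = p ^ b := by
    have h : M'.relIndex L = Nat.card Qb := by
      rw [← hLmap, ← MonoidHom.restrict_range, ← Subgroup.index_ker, MonoidHom.ker_restrict,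
        QuotientGroup.ker_mk']
      rfl
    rw [h]
    exact IsPGroup.iff_card.1 hQbp
  have htriv : ∀ χ : Cfsg.IrrCharacter G, (∀ g : G, ((χ : G → ℂ) g).im = 0) →
      ∀ m ∈ M', (χ : G → ℂ) m = (χ : G → ℂ) 1 := fun χ hχ m hm =>
    trivial_of_commutators hML hidx hlin
      (fun θ => Or.inl (IsIrr.degree_one_of_comm θ.2 fun x y => Subtype.ext (Subtype.ext
        (hMc _ x.2 _ y.2)))) (hyp.2 χ hχ) hm
  -- but some real character is nontrivial on `M`
  have hreal : ∀ w ∈ M', w ≠ 1 → IsConj w w⁻¹ → False := by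
    intro w hw hw1 hwc
    obtain ⟨χ, hχ, m, hm, hne⟩ := exists_real_ne w hw hw1 hwc (lift_of_complement N htop hbot)
    exact hne (htriv χ hχ m hm)
  by_cases h2 : 2 ∣ Nat.card M'
  · haveI : Fact (Nat.Prime 2) := ⟨Nat.prime_two⟩
    obtain ⟨⟨w, hw⟩, hwo⟩ := exists_prime_orderOf_dvd_card' 2 h2
    rw [Subgroup.orderOf_mk] at hwo
    refine hreal w hw (fun e => by rw [e, orderOf_one] at hwo; omega) ?_
    rw [inv_eq_of_mul_eq_one_right (show w * w = 1 by rw [← pow_two, ← hwo, pow_orderOf_eq_one])]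
  by_cases hK : ∃ t : G, (∃ k, orderOf t = 2 ^ k) ∧ ∃ m ∈ M', t * m * t⁻¹ ≠ m
  · obtain ⟨t, ⟨k, hk⟩, hne⟩ := hK
    obtain ⟨w, hw, hw1, hwc⟩ := exists_inverted (a := k) (by rw [← hk, pow_orderOf_eq_one]) hne
    exact hreal w hw hw1 hwc
  push Not at hK
  have hKN : gen 2 G ≤ N := by
    rw [gen, Subgroup.closure_le]
    rintro t ⟨k, hk⟩
    have ht : t ∈ M' ⊔ N := by rw [htop]; trivial
    obtain ⟨m, hm, z, hz, rfl⟩ := Subgroup.mem_sup_of_normal_left.1 ht
    have hc := hK (m * z) ⟨k, hk⟩ m hm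
    have hcom : Commute m z := by
      show m * z = z * m
      rw [mul_inv_rev, show m * z * m * (z⁻¹ * m⁻¹) = m * (z * m * z⁻¹) * m⁻¹ by group] at hc
      have h3 : m * (z * m * z⁻¹) = m * m := mul_inv_eq_iff_eq_mul.1 hc
      exact (mul_inv_eq_iff_eq_mul.1 (mul_left_cancel h3)).symm
    have hpow : m ^ 2 ^ k * z ^ 2 ^ k = 1 := by
      rw [← hcom.mul_pow, ← hk, pow_orderOf_eq_one]
    have hm1 : m ^ 2 ^ k = 1 := by
      have h4 : m ^ 2 ^ k ∈ M' ⊓ N :=
        Subgroup.mem_inf.2 ⟨pow_mem hm _, by rw [eq_inv_of_mul_eq_one_left hpow]; exact N.inv_mem (pow_mem hz _)⟩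
      rwa [hbot, Subgroup.mem_bot] at h4
    have hm0 : m = 1 := orderOf_eq_one_iff.1 (Nat.eq_one_of_dvd_coprimes
      ((Nat.prime_two.coprime_iff_not_dvd.2 h2).pow_left k) (orderOf_dvd_of_pow_eq_one hm1)
      (by rw [← Subgroup.orderOf_mk (H := M') m hm]; exact orderOf_dvd_natCard _))
    rw [SetLike.mem_coe, hm0, one_mul]
    exact hz
  haveI : (gen 2 G).Normal := by
    refine ⟨fun w hw y => ?_⟩
    have : (gen 2 G).map (MulAut.conj y).toMonoidHom ≤ gen 2 G :=
      le_of_eq (gen_map _ (MulAut.conj y).surjective Nat.prime_two)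
    exact this ⟨w, hw, rfl⟩
  have hMK : M' ⊓ gen 2 G = ⊥ := le_bot_iff.1 ((inf_le_inf_left M' hKN).trans hbot.le)
  obtain ⟨a, ha⟩ := hUp
  have hdvd : Nat.card M' ∣ p ^ a := by
    refine dvd_trans ?_ ha
    have h1 : (gen 2 G).relIndex M' ∣ (gen 2 G).relIndex U := by
      haveI : ((gen 2 G).subgroupOf U).Normal := inferInstance
      rw [← Subgroup.relIndex_subgroupOf hMU]
      exact Subgroup.relIndex_dvd_index_of_normal _ _
    have h5 : (gen 2 G).relIndex M' = Nat.card M' := by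
      rw [← Subgroup.inf_relIndex_right, inf_comm, hMK, Subgroup.relIndex_bot_left]
    exact h5 ▸ h1
  obtain ⟨c, -, hc⟩ := (Nat.dvd_prime_pow hp).1 hdvd
  rcases Nat.eq_zero_or_pos c with h | h
  · rw [h, pow_zero] at hc
    exact hM1 (Subgroup.eq_bot_of_card_eq _ hc)
  · exact hMcop (hc ▸ dvd_pow_self p h.ne')

end Cfsg.Agent.RealPrime

namespace Cfsg.Agent.RealPrime

universe v

/-- A normal `p`-subgroup of index prime to `p` is the Sylow subgroup. -/
theorem sylow_normal_of {G : Type v} [Group G] [Finite G] {p : ℕ} [Fact p.Prime] {U Q : Subgroup G}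
    (hQn : Q.Normal) (hQU : Q ≤ U) (hQp : IsPGroup p Q) (hQi : ¬ p ∣ Q.relIndex U) (S : Sylow p U) :
    (S : Subgroup U).Normal := by
  haveI := hQn
  haveI : (Q.subgroupOf U).Normal := inferInstance
  have hp : IsPGroup p (Q.subgroupOf U) := hQp.comap_of_injective _ U.subtype_injective
  have hle : Q.subgroupOf U ≤ (S : Subgroup U) :=
    (Core.le_pCore hp).trans (Core.pCore_le_sylow S)
  have h1 : (S : Subgroup U).index ∣ (Q.subgroupOf U).index := Subgroup.index_dvd_of_le hle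
  have heq : Q.subgroupOf U = (S : Subgroup U) := by
    refine le_antisymm hle (Subgroup.relIndex_eq_one.1 ?_)
    obtain ⟨k, hk⟩ := IsPGroup.iff_card.1 S.2
    have h2 : (Q.subgroupOf U).relIndex (S : Subgroup U) ∣ p ^ k := hk ▸ Subgroup.index_dvd_card _
    have h3 : (Q.subgroupOf U).relIndex (S : Subgroup U) ∣ (Q.subgroupOf U).index :=
      Dvd.intro _ (Subgroup.relIndex_mul_index hle)
    obtain ⟨j, -, hj⟩ := (Nat.dvd_prime_pow Fact.out).1 h2
    rcases Nat.eq_zero_or_pos j with h | h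
    · rw [hj, h, pow_zero]
    · exact absurd ((hj ▸ dvd_pow_self p h.ne').trans h3) hQi
  exact heq ▸ inferInstance

end Cfsg.Agent.RealPrime
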