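import Cfsg.Agent.BlockChar.AlgStruct
import Cfsg.Agent.Blocks.LocalIdem
import Cfsg.Agent.Blocks.Sections
import Cfsg.Agent.CharArith.Basic
import Cfsg.Agent.BlockThms.OrderP.Residue

/-!
# The reduction of a block algebra modulo `M`

The reduction modulo `M` of the idempotent of a block cuts out an algebra over the residue field
whose dimension is the sum of the squared degrees of the block; for a block with two characters
it is symmetric, indecomposable and has a two-dimensional centre, so that sum is twice a square.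
-/

set_option autoImplicit false

namespace Cfsg.Agent.BlockChar.ResidueBlock

open scoped ComplexConjugate
open Module Cfsg.Agent Cfsg.Agent.Blocks

universe u

attribute [local instance] Ideal.Quotient.field

set_option maxHeartbeats 4000000
set_option synthInstance.maxHeartbeats 400000

variable {G : Type u} [Group G] [Fintype G] {p : ℕ} {M : Ideal Cfsg.AlgInt}

omit [Fintype G] in
/-- Lifts of a linearly independent family are linearly independent. -/
theorem linearIndependent_lift [M.IsMaximal] (hM : Cfsg.IsPModular p M) {r : ℕ} {ι : Type*}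
    [Fintype ι] (v : Fin r → ι → Cfsg.AlgInt ⧸ M) (hv : LinearIndependent (Cfsg.AlgInt ⧸ M) v)
    (V : Fin r → ι → ℂ) (hVR : ∀ i x, Cfsg.MemLocalRing M (V i x))
    (hV : ∀ i x, resFun hM (V i x) = v i x) : LinearIndependent ℂ V := by
  classical
  obtain ⟨L, hL⟩ := (Fintype.linearCombination (Cfsg.AlgInt ⧸ M) v).exists_leftInverse_of_injective
    (LinearMap.ker_eq_bot.2 (linearIndependent_iff_injective_fintypeLinearCombination.1 hv))
  have hLv : ∀ i, L (v i) = Pi.single i 1 := fun i => by
    have := LinearMap.congr_fun hL (Pi.single i 1)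
    simpa using this
  let lift : Cfsg.AlgInt ⧸ M → Cfsg.AlgInt := Function.surjInv Ideal.Quotient.mk_surjective
  let l : ι → Fin r → ℂ := fun x j => (lift (L (Pi.single x 1) j) : ℂ)
  have hlR : ∀ x j, Cfsg.MemLocalRing M (l x j) := fun x j => memLocalRing_coe hM _
  have hl : ∀ x j, resFun hM (l x j) = L (Pi.single x 1) j := fun x j => by
    rw [resFun_coe]; exact Function.surjInv_eq _ _
  let W : Matrix (Fin r) (Fin r) (localRing hM) := fun i j =>
    ⟨∑ x, V i x * l x j, (localRing hM).sum_mem fun x _ =>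
      (localRing hM).mul_mem (hVR i x) (hlR x j)⟩
  have hW : W.map (residue hM) = 1 := by
    ext i j
    rw [Matrix.map_apply]
    show residue hM (W i j) = _
    rw [residue_apply]
    show resFun hM (∑ x, V i x * l x j) = _
    rw [BlockThms.OrderP.resFun_sum hM _ fun x _ => (localRing hM).mul_mem (hVR i x) (hlR x j)]
    simp only [resFun_mul hM (hVR _ _) (hlR _ _), hV, hl]
    have hexp : v i = ∑ x, v i x • (Pi.single x (1 : Cfsg.AlgInt ⧸ M) : ι → Cfsg.AlgInt ⧸ M) := by
      funext y
      simp [Pi.single_apply]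
    have h1 := congrFun (congrArg L hexp) j
    rw [hLv, map_sum, Finset.sum_apply] at h1
    simp only [map_smul, Pi.smul_apply, smul_eq_mul] at h1
    rw [← h1, Matrix.one_apply, Pi.single_apply]
    simp [eq_comm]
  have hdet : (W.map (localRing hM).subtype).det ≠ 0 := by
    intro h0
    rw [show W.map (localRing hM).subtype = (localRing hM).subtype.mapMatrix W from rfl,
      ← RingHom.map_det] at h0
    have h1 : W.det = 0 := Subtype.val_injective h0
    have h2 := congrArg (residue hM) h1
    rw [RingHom.map_det, map_zero,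
      show (residue hM).mapMatrix W = W.map (residue hM) from rfl, hW, Matrix.det_one] at h2
    exact one_ne_zero h2
  refine Fintype.linearIndependent_iff.2 fun c hc => ?_
  refine congrFun (Matrix.eq_zero_of_vecMul_eq_zero hdet (v := c) ?_)
  funext j
  show ∑ i, c i * ∑ x, V i x * l x j = 0
  simp only [Finset.mul_sum]
  rw [Finset.sum_comm]
  refine Finset.sum_eq_zero fun x _ => ?_
  have := congrFun hc x
  simp only [Finset.sum_apply, Pi.smul_apply, smul_eq_mul, Pi.zero_apply] at this
  simp only [← mul_assoc, ← Finset.sum_mul, this, zero_mul]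

/-- The element with reduced coefficients. -/
noncomputable def res (hM : Cfsg.IsPModular p M) (f : G → ℂ) :
    MonoidAlgebra (Cfsg.AlgInt ⧸ M) G :=
  ∑ g : G, MonoidAlgebra.single g (resFun hM (f g))

theorem coeff_res (hM : Cfsg.IsPModular p M) (f : G → ℂ) (g : G) :
    (res hM f).coeff g = resFun hM (f g) := by
  classical
  rw [res, MonoidAlgebra.coeff_sum, Finsupp.finsetSum_apply]
  simp [Finsupp.single_apply]

theorem res_conv [M.IsMaximal] (hM : Cfsg.IsPModular p M) {f h : G → ℂ}
    (hf : ∀ x, Cfsg.MemLocalRing M (f x)) (hh : ∀ x, Cfsg.MemLocalRing M (h x)) :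
    res hM (conv f h) = res hM f * res hM h := by
  classical
  refine MonoidAlgebra.coeff_injective (Finsupp.ext fun z => ?_)
  conv_rhs => rw [res, Finset.sum_mul, MonoidAlgebra.coeff_sum, Finsupp.finsetSum_apply]
  simp only [MonoidAlgebra.coeff_single_mul_apply, coeff_res]
  rw [conv, BlockThms.OrderP.resFun_sum hM _ fun g _ => (localRing hM).mul_mem (hf g) (hh _)]
  exact Finset.sum_congr rfl fun g _ => resFun_mul hM (hf g) (hh _)

/-- A lift of the coefficients of an element. -/
noncomputable def lift (x : MonoidAlgebra (Cfsg.AlgInt ⧸ M) G) : G → ℂ := fun g =>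
  (Function.surjInv Ideal.Quotient.mk_surjective (x.coeff g) : Cfsg.AlgInt)

omit [Fintype G] in
theorem memLocalRing_lift (hM : Cfsg.IsPModular p M) (x : MonoidAlgebra (Cfsg.AlgInt ⧸ M) G)
    (g : G) : Cfsg.MemLocalRing M (lift x g) := memLocalRing_coe hM _

theorem res_lift (hM : Cfsg.IsPModular p M) (x : MonoidAlgebra (Cfsg.AlgInt ⧸ M) G) :
    res hM (lift x) = x := by
  refine MonoidAlgebra.coeff_injective (Finsupp.ext fun g => ?_)
  rw [coeff_res, lift, resFun_coe]
  exact Function.surjInv_eq _ _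

/-- Elements in the centre have class functions as coefficient lifts. -/
theorem isClassFunction_lift {x : MonoidAlgebra (Cfsg.AlgInt ⧸ M) G}
    (hx : ∀ y, x * y = y * x) : Cfsg.IsClassFunction G (lift x) := fun g c => by
  classical
  have h := congrArg (fun a : MonoidAlgebra (Cfsg.AlgInt ⧸ M) G => a.coeff (c * g))
    (hx (MonoidAlgebra.single c 1))
  simp only [MonoidAlgebra.coeff_mul_single_apply, MonoidAlgebra.coeff_single_mul_apply, one_mul,
    mul_one, inv_mul_cancel_left] at h
  simp only [lift, h]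

/-- Left convolution. -/
noncomputable def convMap (a : G → ℂ) : (G → ℂ) →ₗ[ℂ] (G → ℂ) where
  toFun f := conv a f
  map_add' f f' := by
    funext z
    simp [conv, mul_add, Finset.sum_add_distrib]
  map_smul' c f := by
    funext z
    simp [conv, Finset.mul_sum, mul_left_comm]

theorem conv_assoc (a b f : G → ℂ) : conv a (conv b f) = conv (conv a b) f := by
  funext z
  simp only [conv, Finset.mul_sum, Finset.sum_mul]
  conv_rhs => rw [Finset.sum_comm]
  refine Finset.sum_congr rfl fun g _ => ?_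
  refine Fintype.sum_equiv (Equiv.mulLeft g) _ _ fun l => ?_
  simp only [Equiv.coe_mulLeft, inv_mul_cancel_left, mul_inv_rev, mul_assoc]

theorem trace_convMap (a : G → ℂ) :
    LinearMap.trace ℂ (G → ℂ) (convMap a) = (Nat.card G : ℂ) * a 1 := by
  classical
  rw [LinearMap.trace_eq_matrix_trace ℂ (Pi.basisFun ℂ G), Matrix.trace]
  have h : ∀ z, (LinearMap.toMatrix (Pi.basisFun ℂ G) (Pi.basisFun ℂ G) (convMap a)).diag z =
      a 1 := fun z => by
    rw [Matrix.diag, LinearMap.toMatrix_apply, Pi.basisFun_apply, Pi.basisFun_repr]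
    show ∑ g, a g * (Pi.single z (1 : ℂ) : G → ℂ) (g⁻¹ * z) = a 1
    rw [Finset.sum_eq_single 1]
    · simp
    · intro g _ hg
      rw [Pi.single_eq_of_ne (by simpa using hg), mul_zero]
    · simp
  rw [Finset.sum_congr rfl fun z _ => h z, Finset.sum_const, Finset.card_univ,
    ← Nat.card_eq_fintype_card, nsmul_eq_mul]

omit [Fintype G] in
/-- A subspace with local lifts in a complex subspace is no bigger. -/
theorem finrank_le_of_lifts [Finite G] [M.IsMaximal] (hM : Cfsg.IsPModular p M)
    (S : Submodule (Cfsg.AlgInt ⧸ M) (MonoidAlgebra (Cfsg.AlgInt ⧸ M) G))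
    (T : Submodule ℂ (G → ℂ))
    (h : ∀ x ∈ S, ∃ f ∈ T, (∀ g, Cfsg.MemLocalRing M (f g)) ∧
      ∀ g, resFun hM (f g) = x.coeff g) :
    Module.finrank (Cfsg.AlgInt ⧸ M) S ≤ Module.finrank ℂ T := by
  classical
  have := Fintype.ofFinite G
  let b := Module.finBasis (Cfsg.AlgInt ⧸ M) S
  let v : Fin (Module.finrank (Cfsg.AlgInt ⧸ M) S) → G → Cfsg.AlgInt ⧸ M :=
    fun i g => (b i : MonoidAlgebra (Cfsg.AlgInt ⧸ M) G).coeff g
  have hv : LinearIndependent (Cfsg.AlgInt ⧸ M) v := by
    refine Fintype.linearIndependent_iff.2 fun c hc => Fintype.linearIndependent_iff.1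
      b.linearIndependent c (Subtype.ext (MonoidAlgebra.coeff_injective (Finsupp.ext fun g => ?_)))
    have := congrFun hc g
    simpa [v, Finset.sum_apply, Finsupp.finsetSum_apply] using this
  choose F hFT hFR hF using fun i => h (b i : MonoidAlgebra (Cfsg.AlgInt ⧸ M) G) (b i).2
  have hli : LinearIndependent ℂ F := linearIndependent_lift hM v hv F hFR fun i g => hF i g
  have hli' : LinearIndependent ℂ (fun i => (⟨F i, hFT i⟩ : T)) :=
    LinearIndependent.of_comp T.subtype hli
  simpa using hli'.fintype_card_le_finrank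

theorem omega_ideal (hM : Cfsg.IsPModular p M) {χ f : G → ℂ} (hχ : Cfsg.IsIrrCharacter G χ)
    (hf : Cfsg.IsClassFunction G f) (hfM : ∀ g, Cfsg.MemLocalIdeal M (f g)) :
    Cfsg.MemLocalIdeal M (omega χ f) := by
  have : Finite (ConjClasses G) := Quotient.finite _
  have := Fintype.ofFinite (ConjClasses G)
  rw [omega_eq_sum_classes (Char.isClassFunction_of_isIrr hχ) hf]
  exact memLocalIdeal_sum hM _ fun C _ =>
    memLocalIdeal_mul_right hM (hfM _) (memLocalRing_centralChar hM hχ _)

open scoped Classical in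
/-- The sum of the squared degrees of a block with two characters is twice a square. -/
theorem exists_sum_sq_eq [Fact p.Prime] (hM : Cfsg.IsPModular p M)
    {B : Set (Cfsg.IrrCharacter G)} (hB : Cfsg.IsPBlock M B) (hk : Nat.card B = 2) :
    ∃ n : ℕ, ∑ χ ∈ B.toFinite.toFinset, Cfsg.charDegree (χ : G → ℂ) ^ 2 = 2 * n ^ 2 := by
  have : M.IsMaximal := hM.2.1
  have := BlockThms.OrderP.isAlgClosed_residue (M := M)
  set a := Cfsg.blockCoeff B with ha
  have haR : ∀ g, Cfsg.MemLocalRing M (a g) := memLocalRing_blockCoeff hM hB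
  have hac : Cfsg.IsClassFunction G a := isClassFunction_blockCoeff B
  have haa : conv a a = a := blockCoeff_conv B
  set ε := res hM a with hε
  have hεε : ε * ε = ε := by rw [hε, ← res_conv hM haR haR, haa]
  have hεc : ∀ x, ε * x = x * ε := by
    intro x
    induction x using MonoidAlgebra.induction_on with
    | of g =>
      refine MonoidAlgebra.coeff_injective (Finsupp.ext fun z => ?_)
      simp only [MonoidAlgebra.of_apply, MonoidAlgebra.coeff_single_mul_apply,
        MonoidAlgebra.coeff_mul_single_apply, hε, coeff_res, one_mul, mul_one]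
      rw [← hac (g⁻¹ * z) g]
      congr 2
      group
    | add x y hx hy => rw [mul_add, add_mul, hx, hy]
    | smul r x hx => rw [mul_smul_comm, smul_mul_assoc, hx]
  -- lifts
  have hliftε : ∀ x, (∀ g, Cfsg.MemLocalRing M (conv a (lift x) g)) ∧
      res hM (conv a (lift x)) = ε * x := fun x =>
    ⟨memLocalRing_conv hM haR (memLocalRing_lift hM x), by
      rw [res_conv hM haR (memLocalRing_lift hM x), res_lift, hε]⟩
  have hliftε' : ∀ x, (∀ g, Cfsg.MemLocalRing M ((lift x - conv a (lift x)) g)) ∧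
      ∀ g, resFun hM ((lift x - conv a (lift x)) g) = (x - ε * x).coeff g := fun x => by
    have h1 := fun g => memLocalRing_lift hM x g
    have h2 := (hliftε x).1
    refine ⟨fun g => (localRing hM).sub_mem (h1 g) (h2 g), fun g => ?_⟩
    have h3 : resFun hM (lift x g - conv a (lift x) g) + resFun hM (conv a (lift x) g) =
        resFun hM (lift x g) := by
      rw [← resFun_add hM ((localRing hM).sub_mem (h1 g) (h2 g)) (h2 g), sub_add_cancel]
    rw [Pi.sub_apply, MonoidAlgebra.coeff_sub, Finsupp.sub_apply, eq_sub_iff_add_eq]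
    rw [← (hliftε x).2, coeff_res, h3, ← coeff_res hM (lift x) g, res_lift]
  -- dimension of the block algebra
  set P := convMap a with hP
  have hPP : ∀ f, P (P f) = P f := fun f => by
    show conv a (conv a f) = conv a f
    rw [conv_assoc, haa]
  have hproj : LinearMap.IsProj (LinearMap.range P) P :=
    ⟨fun f => ⟨f, rfl⟩, fun f ⟨f', hf'⟩ => by rw [← hf', hPP]⟩
  set D := Module.finrank ℂ (LinearMap.range P) with hD
  have hDsum : D = ∑ χ ∈ B.toFinite.toFinset, Cfsg.charDegree (χ : G → ℂ) ^ 2 := by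
    have h1 := hproj.trace
    rw [hP, trace_convMap, ha, Cfsg.blockCoeff, finsum_mem_eq_finite_toFinset_sum _ B.toFinite,
      ← mul_assoc, mul_inv_cancel₀ (Nat.cast_ne_zero.2 Nat.card_pos.ne'), one_mul] at h1
    have h2 : ∀ χ : Cfsg.IrrCharacter G, (χ : G → ℂ) 1 * conj ((χ : G → ℂ) 1) =
        ((Cfsg.charDegree (χ : G → ℂ) ^ 2 : ℕ) : ℂ) := fun χ => by
      rw [(CharArith.irr_degree_spec χ).1, Complex.conj_natCast, Nat.cast_pow, sq]
    simp only [h2, ← Nat.cast_sum] at h1
    rw [hD, hP]
    exact_mod_cast h1.symm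
  let L : MonoidAlgebra (Cfsg.AlgInt ⧸ M) G →ₗ[Cfsg.AlgInt ⧸ M]
      MonoidAlgebra (Cfsg.AlgInt ⧸ M) G := LinearMap.mulLeft _ ε
  have hL : ∀ x, L x = ε * x := fun _ => rfl
  have hdimA : Module.finrank (Cfsg.AlgInt ⧸ M) (MonoidAlgebra (Cfsg.AlgInt ⧸ M) G) =
      Fintype.card G :=
    Module.finrank_eq_card_basis (Finsupp.basisSingleOne.map
      (MonoidAlgebra.coeffLinearEquiv _).symm)
  have hr1 : Module.finrank (Cfsg.AlgInt ⧸ M) (LinearMap.range L) ≤ D :=
    finrank_le_of_lifts hM _ _ (by
      rintro _ ⟨y, rfl⟩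
      refine ⟨conv a (lift y), ⟨lift y, rfl⟩, (hliftε y).1, fun g => ?_⟩
      rw [← coeff_res, (hliftε y).2, hL])
  have hr2 : Module.finrank (Cfsg.AlgInt ⧸ M) (LinearMap.ker L) ≤
      Module.finrank ℂ (LinearMap.ker P) :=
    finrank_le_of_lifts hM _ _ (fun x hx => by
      refine ⟨lift x - conv a (lift x), ?_, (hliftε' x).1, fun g => ?_⟩
      · rw [LinearMap.mem_ker, map_sub]
        show P (lift x) - P (P (lift x)) = 0
        rw [hPP, sub_self]
      · rw [(hliftε' x).2, ← hL, LinearMap.mem_ker.1 hx, sub_zero])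
  have hrange : Module.finrank (Cfsg.AlgInt ⧸ M) (LinearMap.range L) = D := by
    have h1 := LinearMap.finrank_range_add_finrank_ker L
    have h2 := LinearMap.finrank_range_add_finrank_ker P
    rw [Module.finrank_fintype_fun_eq_card] at h2
    omega
  -- the block algebra
  set I : Ideal (MonoidAlgebra (Cfsg.AlgInt ⧸ M) G) := Ideal.span {1 - ε} with hI
  have hmem : ∀ x, x ∈ I ↔ ε * x = 0 := by
    intro x
    rw [hI, Ideal.span, Submodule.mem_span_singleton]
    constructor
    · rintro ⟨r, rfl⟩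
      rw [smul_eq_mul, ← mul_assoc, hεc r, mul_assoc, mul_sub, mul_one, hεε, sub_self, mul_zero]
    · intro h
      exact ⟨x, by rw [smul_eq_mul, mul_sub, mul_one, ← hεc, h, sub_zero]⟩
  have : I.IsTwoSided := ⟨fun {x} y hx => (hmem _).2 (by rw [← mul_assoc, (hmem x).1 hx, zero_mul])⟩
  set A := MonoidAlgebra (Cfsg.AlgInt ⧸ M) G ⧸ I with hA
  let π : MonoidAlgebra (Cfsg.AlgInt ⧸ M) G →ₐ[Cfsg.AlgInt ⧸ M] A := Ideal.Quotient.mkₐ _ I
  have hπs : Function.Surjective π := Ideal.Quotient.mkₐ_surjective _ I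
  have hπker : ∀ x, π x = 0 ↔ ε * x = 0 := fun x => by
    rw [← hmem]; exact Ideal.Quotient.eq_zero_iff_mem
  have hkerle : LinearMap.ker π.toLinearMap ≤ LinearMap.ker L := fun x hx =>
    LinearMap.mem_ker.2 ((hπker x).1 (LinearMap.mem_ker.1 hx))
  choose sec hsec using hπs
  let ψ : A →ₗ[Cfsg.AlgInt ⧸ M] MonoidAlgebra (Cfsg.AlgInt ⧸ M) G :=
    { toFun := fun b => ε * sec b
      map_add' := fun b b' => by
        have := (hπker (sec (b + b') - (sec b + sec b'))).1 (by
          rw [map_sub, map_add, hsec, hsec, hsec, sub_self])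
        rw [mul_sub, sub_eq_zero] at this
        rw [this, mul_add]
      map_smul' := fun c b => by
        have := (hπker (sec (c • b) - c • sec b)).1 (by
          rw [map_sub, map_smul, hsec, hsec, sub_self])
        rw [mul_sub, sub_eq_zero] at this
        rw [this, RingHom.id_apply, mul_smul_comm] }
  have hψπ : ∀ x, ψ (π x) = ε * x := fun x => by
    have := (hπker (sec (π x) - x)).1 (by rw [map_sub, hsec, sub_self])
    rwa [mul_sub, sub_eq_zero] at this
  have hψmul : ∀ b b', ψ (b * b') = ψ b * ψ b' := fun b b' => by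
    conv_lhs => rw [← hsec b, ← hsec b', ← map_mul, hψπ]
    show _ = ε * sec b * (ε * sec b')
    rw [mul_assoc ε (sec b), ← mul_assoc (sec b), ← hεc (sec b), mul_assoc ε (sec b),
      ← mul_assoc ε ε, hεε]
  have hψinj : Function.Injective ψ := (injective_iff_map_eq_zero _).2 fun b hb => by
    rw [← hsec b]; exact (hπker _).2 hb
  have hψrange : LinearMap.range ψ = LinearMap.range L := by
    refine le_antisymm ?_ ?_
    · rintro _ ⟨b, rfl⟩; exact ⟨sec b, rfl⟩
    · rintro _ ⟨x, rfl⟩; exact ⟨π x, hψπ x⟩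
  have hdimB : Module.finrank (Cfsg.AlgInt ⧸ M) A = D := by
    rw [← LinearMap.finrank_range_of_inj hψinj, hψrange, hrange]
  -- the centre
  let Z : Submodule (Cfsg.AlgInt ⧸ M) (MonoidAlgebra (Cfsg.AlgInt ⧸ M) G) :=
    (Subalgebra.center (Cfsg.AlgInt ⧸ M) (MonoidAlgebra (Cfsg.AlgInt ⧸ M) G)).toSubmodule
  have hZmem : ∀ x, x ∈ Z ↔ ∀ y, y * x = x * y := fun x =>
    Subalgebra.mem_center_iff (R := Cfsg.AlgInt ⧸ M) (a := x)
  have hψcenter : (Subalgebra.center (Cfsg.AlgInt ⧸ M) A).toSubmodule.map ψ =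
      Z ⊓ LinearMap.range L := by
    refine le_antisymm ?_ ?_
    · rintro _ ⟨b, hb, rfl⟩
      refine ⟨(hZmem _).2 fun y => ?_, sec b, rfl⟩
      have h := congrArg ψ ((Subalgebra.mem_center_iff (R := Cfsg.AlgInt ⧸ M) (a := b)).1 hb (π y))
      rw [hψmul, hψmul, hψπ] at h
      have hεψ : ε * ψ b = ψ b := by
        show ε * (ε * sec b) = ε * sec b
        rw [← mul_assoc, hεε]
      rw [show y * ψ b = ε * y * ψ b by rw [hεc, mul_assoc, hεψ], h, ← mul_assoc, ← hεc, hεψ]
    · rintro x ⟨hx, y, rfl⟩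
      refine ⟨π (ε * y), ?_, by rw [hψπ, ← mul_assoc, hεε, hL]⟩
      show π (ε * y) ∈ Subalgebra.center (Cfsg.AlgInt ⧸ M) A
      rw [Subalgebra.mem_center_iff]
      intro b
      rw [← hsec b, ← map_mul, ← map_mul, ← hL, (hZmem _).1 hx]
  let Cf : Submodule ℂ (G → ℂ) :=
    { carrier := {f | Cfsg.IsClassFunction G f}
      zero_mem' := fun g c => rfl
      add_mem' := fun {f f'} hf hf' g c => by
        show f _ + f' _ = f _ + f' _
        rw [hf, hf']
      smul_mem' := fun r f hf g c => by
        show r * f _ = r * f _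
        rw [hf] }
  have hom : ∀ (χ : Cfsg.IrrCharacter G) (f : G → ℂ), Cfsg.IsClassFunction G f →
      omega (χ : G → ℂ) (P f) = (if χ ∈ B then 1 else 0) * omega (χ : G → ℂ) f := fun χ f hf => by
    show omega (χ : G → ℂ) (conv a f) = _
    rw [omega_conv χ.2 hac hf, ha, omega_blockCoeff]
  let T₁ : Submodule ℂ (G → ℂ) := Cf ⊓ LinearMap.range P
  let T₂ : Submodule ℂ (G → ℂ) := Cf ⊓ LinearMap.ker P
  have hT : ∀ (T : Submodule ℂ (G → ℂ)) (S : Set (Cfsg.IrrCharacter G)), T ≤ Cf →
      (∀ f ∈ T, ∀ χ ∉ S, omega (χ : G → ℂ) f = 0) → Module.finrank ℂ T ≤ Nat.card S := by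
    intro T S hTC hz
    let Φ : T →ₗ[ℂ] (S → ℂ) :=
      { toFun := fun f χ => omega ((χ : Cfsg.IrrCharacter G) : G → ℂ) (f : G → ℂ)
        map_add' := fun f f' => funext fun χ => omega_add _ _ _
        map_smul' := fun c f => funext fun χ => omega_smul _ _ _ }
    have hinj : Function.Injective Φ := (injective_iff_map_eq_zero _).2 fun f hf => by
      refine Subtype.ext (classFun_ext_omega (hTC f.2) (Submodule.zero_mem Cf) fun χ => ?_)
      rw [show omega (χ : G → ℂ) ((0 : T) : G → ℂ) = 0 by simp [omega]]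
      by_cases hχ : χ ∈ S
      · exact congrFun hf ⟨χ, hχ⟩
      · exact hz f f.2 χ hχ
    refine (LinearMap.finrank_le_finrank_of_injective hinj).trans ?_
    rw [Module.finrank_fintype_fun_eq_card, Nat.card_eq_fintype_card]
  have hT₁ : Module.finrank ℂ T₁ ≤ 2 := by
    refine hk ▸ hT T₁ B inf_le_left fun f hf χ hχ => ?_
    have hPf : P f = f := hproj.map_id f hf.2
    rw [← hPf, hom χ f hf.1, if_neg hχ, zero_mul]
  have hT₂ : Module.finrank ℂ T₂ ≤ Nat.card (ConjClasses G) - 2 := by
    refine le_trans (hT T₂ Bᶜ inf_le_left fun f hf χ hχ => ?_) ?_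
    · have h := hom χ f hf.1
      rw [LinearMap.mem_ker.1 hf.2, if_pos (not_not.1 hχ), one_mul] at h
      rw [← h]; simp [omega]
    · rw [← Char.card_irrCharacter, ← hk, Nat.card_coe_set_eq, Nat.card_coe_set_eq,
        Set.ncard_compl]
  have hZ₁ : Module.finrank (Cfsg.AlgInt ⧸ M)
      (Z ⊓ LinearMap.range L : Submodule (Cfsg.AlgInt ⧸ M) (MonoidAlgebra (Cfsg.AlgInt ⧸ M) G)) ≤ 2 :=
    (finrank_le_of_lifts hM _ T₁ fun x hx => by
      obtain ⟨hxZ, y, rfl⟩ := hx
      refine ⟨conv a (lift (L y)), ⟨isClassFunction_conv hac (isClassFunction_lift fun z =>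
        ((hZmem _).1 hxZ z).symm), ⟨lift (L y), rfl⟩⟩, (hliftε _).1, fun g => ?_⟩
      rw [← coeff_res, (hliftε _).2, hL, ← mul_assoc, hεε]).trans hT₁
  have hZ₂ : Module.finrank (Cfsg.AlgInt ⧸ M)
      (Z ⊓ LinearMap.ker L : Submodule (Cfsg.AlgInt ⧸ M) (MonoidAlgebra (Cfsg.AlgInt ⧸ M) G)) ≤
        Nat.card (ConjClasses G) - 2 :=
    (finrank_le_of_lifts hM _ T₂ fun x hx => by
      obtain ⟨hxZ, hxL⟩ := hx
      have hc := isClassFunction_lift fun z => ((hZmem _).1 hxZ z).symm
      refine ⟨lift x - conv a (lift x), ⟨Submodule.sub_mem Cf hc (isClassFunction_conv hac hc), ?_⟩,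
        (hliftε' x).1, fun g => ?_⟩
      · rw [SetLike.mem_coe, LinearMap.mem_ker, map_sub]
        show P (lift x) - P (P (lift x)) = 0
        rw [hPP, sub_self]
      · rw [(hliftε' x).2, ← hL, LinearMap.mem_ker.1 hxL, sub_zero]).trans hT₂
  have : Finite (ConjClasses G) := Quotient.finite _
  have := Fintype.ofFinite (ConjClasses G)
  have hclasses : Nat.card (ConjClasses G) ≤ Module.finrank (Cfsg.AlgInt ⧸ M) Z := by
    let K : ConjClasses G → Z := fun C => ⟨res hM (classInd C.out), (hZmem _).2 fun y => by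
      induction y using MonoidAlgebra.induction_on with
      | of g =>
        refine MonoidAlgebra.coeff_injective (Finsupp.ext fun z => ?_)
        simp only [MonoidAlgebra.of_apply, MonoidAlgebra.coeff_single_mul_apply,
          MonoidAlgebra.coeff_mul_single_apply, coeff_res, one_mul, mul_one]
        rw [← isClassFunction_classInd C.out (g⁻¹ * z) g]
        congr 2
        group
      | add x y hx hy => rw [mul_add, add_mul, hx, hy]
      | smul r x hx => rw [mul_smul_comm, smul_mul_assoc, hx]⟩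
    have hK : LinearIndependent (Cfsg.AlgInt ⧸ M) K := by
      refine Fintype.linearIndependent_iff.2 fun c hc C => ?_
      have h := congrArg (fun x : Z => (x : MonoidAlgebra (Cfsg.AlgInt ⧸ M) G).coeff C.out) hc
      simp only [AddSubmonoidClass.coe_finsetSum, SetLike.val_smul, MonoidAlgebra.coeff_sum,
        Finsupp.finsetSum_apply, MonoidAlgebra.coeff_smul_apply, K, coeff_res, ZeroMemClass.coe_zero,
        MonoidAlgebra.coeff_zero, Finsupp.zero_apply, classInd_apply, smul_eq_mul] at h
      rw [Finset.sum_eq_single C] at h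
      · rw [if_pos (IsConj.refl _)] at h
        rw [← residue_apply hM ⟨1, (localRing hM).one_mem⟩,
          show (⟨1, _⟩ : localRing hM) = 1 from rfl, map_one, mul_one] at h
        exact h
      · intro C' _ hne
        rw [if_neg fun hc' => hne (by
          rw [← Quotient.out_eq C', ← Quotient.out_eq C]
          exact ConjClasses.mk_eq_mk_iff_isConj.2 hc')]
        rw [(resFun_eq_zero_iff hM (localRing hM).zero_mem).2 (memLocalIdeal_zero hM), mul_zero]
      · simp
    rw [Nat.card_eq_fintype_card]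
    exact hK.fintype_card_le_finrank
  have hsup : Z ≤ (Z ⊓ LinearMap.range L) ⊔ (Z ⊓ LinearMap.ker L) := fun x hx => by
    have hεx : ε * x ∈ Z := (hZmem _).2 fun y => by
      rw [← mul_assoc, ← hεc, mul_assoc, (hZmem x).1 hx, mul_assoc]
    refine Submodule.mem_sup.2 ⟨ε * x, ⟨hεx, x, rfl⟩, x - ε * x,
      ⟨Z.sub_mem hx hεx, ?_⟩, add_sub_cancel _ _⟩
    rw [SetLike.mem_coe, LinearMap.mem_ker, hL, mul_sub, ← mul_assoc, hεε, sub_self]
  have hk2 : 2 ≤ Nat.card (ConjClasses G) := by
    rw [← Char.card_irrCharacter, ← hk, Nat.card_coe_set_eq]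
    exact (Set.ncard_le_ncard (Set.subset_univ B)).trans (Set.ncard_univ _).le
  have hcenter : Module.finrank (Cfsg.AlgInt ⧸ M) (Subalgebra.center (Cfsg.AlgInt ⧸ M) A) = 2 := by
    have h1 := (Submodule.finrank_mono hsup).trans (Submodule.finrank_add_le_finrank_add_finrank _ _)
    have h2 := (Submodule.equivMapOfInjective ψ hψinj
      (Subalgebra.center (Cfsg.AlgInt ⧸ M) A).toSubmodule).finrank_eq
    rw [hψcenter] at h2
    show Module.finrank (Cfsg.AlgInt ⧸ M) (Subalgebra.center (Cfsg.AlgInt ⧸ M) A).toSubmodule = 2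
    omega
  -- the symmetrising form
  let τ : A →ₗ[Cfsg.AlgInt ⧸ M] Cfsg.AlgInt ⧸ M :=
    { toFun := fun b => (ψ b).coeff 1
      map_add' := fun b b' => by simp
      map_smul' := fun c b => by simp }
  have hτ : ∀ b b', τ (b * b') = τ (b' * b) := by
    intro b b'
    show (ψ (b * b')).coeff 1 = (ψ (b' * b)).coeff 1
    rw [hψmul, hψmul]
    generalize ψ b = x
    generalize ψ b' = y
    induction x using MonoidAlgebra.induction_on with
    | of g =>
      simp only [MonoidAlgebra.of_apply, MonoidAlgebra.coeff_single_mul_apply,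
        MonoidAlgebra.coeff_mul_single_apply, one_mul, mul_one]
    | add x x' hx hx' => simp only [add_mul, mul_add, MonoidAlgebra.coeff_add, Finsupp.add_apply,
        hx, hx']
    | smul r x hx => simp only [smul_mul_assoc, mul_smul_comm, MonoidAlgebra.coeff_smul_apply, hx]
  have hnd : ∀ b, (∀ b', τ (b * b') = 0) → b = 0 := by
    intro b hb
    refine hψinj (MonoidAlgebra.coeff_injective (Finsupp.ext fun g => ?_))
    have h : (ψ (b * π (MonoidAlgebra.single g⁻¹ 1))).coeff 1 = 0 := hb _
    rw [hψmul, hψπ, ← mul_assoc, ← hεc] at h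
    rw [show ε * ψ b = ψ b by show ε * (ε * sec b) = ε * sec b; rw [← mul_assoc, hεε],
      MonoidAlgebra.coeff_mul_single_apply, inv_inv, one_mul, mul_one] at h
    rw [h, map_zero, MonoidAlgebra.coeff_zero, Finsupp.zero_apply]
  have hidem : ∀ f : A, IsIdempotentElem f → (∀ b, Commute f b) → f = 0 ∨ f = 1 := by
    intro f hf hfc
    set x := ψ f with hx
    have hxmem : x ∈ Z ⊓ LinearMap.range L := hψcenter ▸
      ⟨f, show f ∈ Subalgebra.center (Cfsg.AlgInt ⧸ M) A from
        Subalgebra.mem_center_iff.2 fun b => (hfc b).symm.eq, rfl⟩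
    have hxx : x * x = x := by rw [hx, ← hψmul, hf.eq]
    have hεx : ε * x = x := by
      show ε * (ε * sec f) = ε * sec f
      rw [← mul_assoc, hεε]
    have hc := isClassFunction_lift fun z => ((hZmem _).1 hxmem.1 z).symm
    set F := conv a (lift x) with hF
    have hFc : Cfsg.IsClassFunction G F := isClassFunction_conv hac hc
    have hFR : ∀ g, Cfsg.MemLocalRing M (F g) := (hliftε x).1
    have hFres : ∀ g, resFun hM (F g) = x.coeff g := fun g => by
      rw [← coeff_res, hF, (hliftε x).2, hεx]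
    have hFF : ∀ g, Cfsg.MemLocalIdeal M (conv F F g - F g) := fun g => by
      have h1 := memLocalRing_conv hM hFR hFR g
      have h2 : resFun hM (conv F F g) = resFun hM (F g) := by
        rw [← coeff_res, res_conv hM hFR hFR,
          show res hM F = x by rw [hF, (hliftε x).2, hεx], hxx, hFres]
      exact (residue_eq_iff hM ⟨_, h1⟩ ⟨_, hFR g⟩).1 h2
    set Φ : Cfsg.IrrCharacter G → ℂ := fun χ => omega (χ : G → ℂ) F with hΦ
    have hΦR : ∀ χ, Cfsg.MemLocalRing M (Φ χ) := fun χ => memLocalRing_omega hM χ.2 hFc hFR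
    have hΦ01 : ∀ χ, Cfsg.MemLocalIdeal M (Φ χ) ∨ Cfsg.MemLocalIdeal M (Φ χ - 1) := fun χ => by
      have h1 := omega_ideal hM χ.2 (f := fun g => conv F F g - F g)
        (fun g c => by simp only [isClassFunction_conv hFc hFc g c, hFc g c]) hFF
      rw [show (fun g => conv F F g - F g) = conv F F - F from rfl, omega_sub,
        omega_conv χ.2 hFc hFc, show Φ χ * Φ χ - Φ χ = Φ χ * (Φ χ - 1) by ring] at h1
      exact memLocalIdeal_of_mul hM (hΦR χ)
        ((localRing hM).sub_mem (hΦR χ) (localRing hM).one_mem) h1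
    have hout : ∀ χ ∉ B, Cfsg.MemLocalIdeal M (Φ χ) := fun χ hχ => by
      have : Φ χ = 0 := by
        rw [hΦ]
        show omega (χ : G → ℂ) (P (lift x)) = 0
        rw [hom χ _ hc, if_neg hχ, zero_mul]
      rw [this]; exact memLocalIdeal_zero hM
    have hconst : ∀ χ ∈ B, ∀ η ∈ B, Cfsg.MemLocalIdeal M (Φ χ - Φ η) := fun χ hχ η hη =>
      memLocalIdeal_omega_sub hM χ.2 η.2 hFc hFR (IsPBlock.sameBlock hM hB hχ hη)
    obtain ⟨χ₀, hχ₀⟩ := IsPBlock.nonempty hM hB
    rcases hΦ01 χ₀ with h0 | h1
    · left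
      refine hψinj (MonoidAlgebra.coeff_injective (Finsupp.ext fun g => ?_))
      rw [map_zero, MonoidAlgebra.coeff_zero, Finsupp.zero_apply, ← hFres,
        resFun_eq_zero_iff hM (hFR g)]
      have h := memLocalIdeal_sub_blockCoeff hM hFc hFR hFF (A := ∅)
        (fun y => by rw [show Cfsg.blockCoeff (∅ : Set (Cfsg.IrrCharacter G)) y = 0 by
          simp [Cfsg.blockCoeff]]; exact (localRing hM).zero_mem)
        (fun χ => by
          rw [if_neg (Set.notMem_empty χ), sub_zero]
          by_cases hχ : χ ∈ B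
          · have := memLocalIdeal_add hM h0 (hconst χ hχ χ₀ hχ₀)
            simpa [hΦ] using this
          · exact hout χ hχ) g
      simpa [Cfsg.blockCoeff] using h
    · right
      refine hψinj (MonoidAlgebra.coeff_injective (Finsupp.ext fun g => ?_))
      rw [show (1 : A) = π 1 from (map_one π).symm, hψπ, mul_one, hε, coeff_res, ← hFres]
      have h := memLocalIdeal_sub_blockCoeff hM hFc hFR hFF (A := B) haR
        (fun χ => by
          by_cases hχ : χ ∈ B
          · rw [if_pos hχ]
            have := memLocalIdeal_add hM h1 (hconst χ hχ χ₀ hχ₀)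
            simpa [hΦ] using this
          · rw [if_neg hχ, sub_zero]
            exact hout χ hχ) g
      exact (residue_eq_iff hM ⟨_, hFR g⟩ ⟨_, haR g⟩).2 h
  obtain ⟨n, hn⟩ := AlgStruct.exists_finrank_eq τ hτ hnd hidem hcenter
  exact ⟨n, by rw [← hDsum, ← hdimB, hn]⟩

end Cfsg.Agent.BlockChar.ResidueBlock
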