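import Cfsg.Agent.Char.Clifford
import Cfsg.Agent.Char.Ortho
import Cfsg.Agent.Char.TwoDegreesAbelian
import Cfsg.Agent.Char.FeitThompsonIneq
import Cfsg.Agent.ProjExt.CliffordCorr
import Cfsg.Agent.Char.NormalAbelianSylow
import Cfsg.Agent.Core.PCore
import Mathlib

/-!
A faithful character whose values at `p`-singular elements are roots of unity, with a non-trivial
`p`-core
-/

set_option autoImplicit false
set_option linter.style.haveILetI false
set_option linter.unusedSectionVars false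

namespace Cfsg.Agent.RootUnity

open Cfsg Cfsg.Agent Cfsg.Agent.Char
open scoped ComplexConjugate

universe u

variable {G : Type u} [Group G] [Fintype G] {p : ℕ} [Fact p.Prime]

/-- The hypotheses. -/
structure Hyp (p : ℕ) (χ : IrrCharacter G) : Prop where
  faith : ∀ g : G, (χ : G → ℂ) g = (χ : G → ℂ) 1 → g = 1
  nl : (χ : G → ℂ) 1 ≠ 1
  root : ∀ g : G, p ∣ orderOf g → ∃ n : ℕ, 0 < n ∧ ((χ : G → ℂ) g) ^ n = 1

theorem Hyp.mul_conj {χ : IrrCharacter G} (h : Hyp p χ) {g : G} (hg : p ∣ orderOf g) :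
    (χ : G → ℂ) g * conj ((χ : G → ℂ) g) = 1 := by
  obtain ⟨n, hn, e⟩ := h.root g hg
  rw [Complex.mul_conj, Complex.normSq_eq_norm_sq, Complex.norm_eq_one_of_pow_eq_one e hn.ne']
  simp

/-- An element of maximal absolute value is central. -/
theorem Hyp.mem_center {χ : IrrCharacter G} (h : Hyp p χ) {d : ℕ} (hd : (χ : G → ℂ) 1 = d) {g : G}
    (hg : (χ : G → ℂ) g * conj ((χ : G → ℂ) g) = (d : ℂ) ^ 2) : g ∈ Subgroup.center G := by
  have hfaith := h.faith
  obtain ⟨n, ρ, hρ, hc⟩ := χ.2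
  rw [← hc] at hd hg hfaith
  have hfin : (Module.finrank ℂ (Fin n → ℂ) : ℂ) = (d : ℂ) := by rw [← hd, ρ.char_one]
  have hnd : Module.finrank ℂ (Fin n → ℂ) = d := by exact_mod_cast hfin
  have hnorm : ‖ρ.character g‖ = (Module.finrank ℂ (Fin n → ℂ) : ℝ) := by
    rw [hnd]
    rw [Complex.mul_conj, Complex.normSq_eq_norm_sq] at hg
    have h2 : ‖ρ.character g‖ ^ 2 = (d : ℝ) ^ 2 := by exact_mod_cast hg
    exact (sq_eq_sq₀ (norm_nonneg _) (Nat.cast_nonneg _)).1 h2
  obtain ⟨w, hw, -⟩ := scalar_of_norm_character_eq ρ g hnorm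
  rw [Subgroup.mem_center_iff]
  intro a
  have hcomm : ρ (a * g) = ρ (g * a) := by
    rw [map_mul, map_mul, hw]
    ext v
    simp
  have h1 : ρ (a * g * (g * a)⁻¹) = ρ 1 := by rw [map_mul, hcomm, ← map_mul, mul_inv_cancel]
  have h2 := hfaith (a * g * (g * a)⁻¹) (by simp only [Representation.character, h1])
  exact mul_inv_eq_one.1 h2

theorem Hyp.center_prime {χ : IrrCharacter G} (h : Hyp p χ) {z : G} (hz : z ∈ Subgroup.center G) :
    ¬ p ∣ orderOf z := by
  intro hd
  obtain ⟨a, ha, hv⟩ := exists_scalar_of_center χ.2 hz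
  obtain ⟨d, hd0, hdd⟩ := IsIrr.degree χ.2
  have h1 := h.mul_conj hd
  rw [show (χ : G → ℂ) z = a * d by rw [← hdd, ← hv, mul_one]] at h1
  rw [map_mul, Complex.conj_natCast, mul_mul_mul_comm, Complex.mul_conj, Complex.normSq_eq_norm_sq,
    ha] at h1
  have h2 : d * d = 1 := by
    have h3 : ((d * d : ℕ) : ℂ) = ((1 : ℕ) : ℂ) := by push_cast; simpa using h1
    exact_mod_cast h3
  exact h.nl (by rw [hdd, Nat.eq_one_of_mul_eq_one_right h2, Nat.cast_one])

section Core

variable {P : Subgroup G} [P.Normal] [Fintype P]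

/-- Conjugates of a linear character. -/
def conjL (x : G) (l : P →* ℂˣ) : P →* ℂˣ :=
  l.comp (MulAut.conjNormal x : MulAut P).toMonoidHom

theorem conjFun_hom (x : G) (l : P →* ℂˣ) :
    conjFun x (fun y : P => (l y : ℂ)) = fun y => (conjL x l y : ℂ) := rfl

theorem conjL_one (l : P →* ℂˣ) : conjL (1 : G) l = l :=
  MonoidHom.ext fun y => congrArg l (by rw [map_one]; rfl)

theorem conjL_mul (x y : G) (l : P →* ℂˣ) : conjL (x * y) l = conjL y (conjL x l) :=
  MonoidHom.ext fun z => congrArg l (by rw [map_mul]; rfl)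

theorem conjL_ne_one (x : G) {l : P →* ℂˣ} (hl : l ≠ 1) : conjL x l ≠ 1 := fun e => hl (by
  rw [← conjL_one l, ← mul_inv_cancel x, conjL_mul, e]
  rfl)

theorem hom_ext_coe {l m : P →* ℂˣ} (h : (fun y => (l y : ℂ)) = fun y => (m y : ℂ)) : l = m :=
  MonoidHom.ext fun y => Units.ext (congrFun h y)

open scoped _root_.Classical in
theorem sum_hom_mul_conj (l m : P →* ℂˣ) :
    ∑ y : P, (l y : ℂ) * conj (m y : ℂ) = if l = m then (Nat.card P : ℂ) else 0 := by
  have h := classInner_irrChar ⟨_, isIrrCharacter_hom l⟩ ⟨_, isIrrCharacter_hom m⟩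
  rw [classInner, inv_mul_eq_iff_eq_mul₀ (Nat.cast_ne_zero.2 Nat.card_pos.ne')] at h
  rw [h]
  by_cases e : l = m
  · subst e; simp
  · rw [if_neg e, if_neg, mul_zero]
    exact fun e' => e (hom_ext_coe (congrArg Subtype.val e'))

/-- What is known about the p-core. -/
structure Data (p : ℕ) (χ : IrrCharacter G) (P : Subgroup G) [P.Normal] [Fintype P] : Prop where
  deg : (χ : G → ℂ) 1 = ((Nat.card P - 1 : ℕ) : ℂ)
  two : 2 ≤ Nat.card P - 1
  ab : ∀ x ∈ P, ∀ y ∈ P, x * y = y * x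
  trans : ∀ l m : P →* ℂˣ, l ≠ 1 → m ≠ 1 → ∃ g : G, conjL g l = m
  exists_ne : ∀ y : P, y ≠ 1 → ∃ l : P →* ℂˣ, l y ≠ 1
  num : Nat.card {m : P →* ℂˣ // m ≠ 1} = Nat.card P - 1
  form : ∀ g : G, ∑ y : P, (χ : G → ℂ) (g * y) * conj ((χ : G → ℂ) (g * y)) =
    (Nat.card P : ℂ) * (Nat.card {m : P →* ℂˣ // m ≠ 1 ∧ conjL g m = m} : ℂ)

theorem exists_data {χ : IrrCharacter G} (h : Hyp p χ) (hP : IsPGroup p P) (hne : P ≠ ⊥) :
    Data p χ P := by
  classical
  have hp := (Fact.out : p.Prime)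
  have hppos : 1 < Nat.card P := by
    haveI : Nontrivial P := (Subgroup.nontrivial_iff_ne_bot P).2 hne
    exact Finite.one_lt_card
  obtain ⟨a, ha⟩ := IsPGroup.iff_card.1 hP
  have hpd : ∀ y : P, y ≠ 1 → p ∣ orderOf (y : G) := by
    intro y hy
    obtain ⟨k, hk⟩ := IsPGroup.iff_orderOf.1 hP y
    rw [Subgroup.orderOf_coe, hk]
    refine dvd_pow_self p fun e => hy ?_
    rwa [e, pow_zero, orderOf_eq_one_iff] at hk
  obtain ⟨θ, hθ⟩ := exists_constituent_res (N := P) χ.2
  obtain ⟨e, he⟩ := classInner_isCharacter_eq_natCast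
    (isCharacter_res P (IsIrr.isCharacter χ.2)) (IsIrr.isCharacter θ.2)
  have hres : ∀ y : P, (χ : G → ℂ) y = (e : ℂ) * ∑ ψ ∈ orbit (G := G) (θ : P → ℂ), ψ y := fun y => by
    have := congrFun (clifford χ.2 θ.2 hθ) y
    simp only [Pi.smul_apply, Finset.sum_apply, smul_eq_mul, he] at this
    exact this
  obtain ⟨f, hf0, hf⟩ := IsIrr.degree θ.2
  obtain ⟨d, hd0, hd⟩ := IsIrr.degree χ.2
  obtain ⟨t, ht⟩ : ∃ t, (orbit (G := G) (θ : P → ℂ)).card = t := ⟨_, rfl⟩
  have hdeg : d = e * t * f := by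
    have h1 := degree_eq_of_clifford χ.2 θ.2 hθ
    rw [he, hd, hf, ← card_orbit, ht] at h1
    exact_mod_cast h1
  -- the norm of the restriction
  have hnorm : classInner (fun y : P => (χ : G → ℂ) y) (fun y : P => (χ : G → ℂ) y) =
      (e : ℂ) * ((t : ℂ) * e) := by
    conv_lhs => arg 1; rw [clifford χ.2 θ.2 hθ]
    rw [classInner_smul_left, classInner_sum_left, he,
      Finset.sum_congr rfl (g := fun _ => (e : ℂ)) fun ψ hψ => by
        obtain ⟨g, rfl⟩ := mem_orbit.1 hψ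
        rw [← classInner_conj_symm, ← conjFun_res g (isClassFunction_of_isIrr χ.2),
          classInner_conjFun, he, Complex.conj_natCast],
      Finset.sum_const, ht, nsmul_eq_mul]
  have hlhs : ∑ y : P, (χ : G → ℂ) y * conj ((χ : G → ℂ) y) =
      (d : ℂ) ^ 2 + ((Nat.card P - 1 : ℕ) : ℂ) := by
    rw [← Finset.add_sum_erase _ _ (Finset.mem_univ (1 : P)),
      Finset.sum_congr rfl (g := fun _ => (1 : ℂ)) fun y hy =>
        h.mul_conj (hpd y (Finset.ne_of_mem_erase hy)),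
      Finset.sum_const, Finset.card_erase_of_mem (Finset.mem_univ _), Finset.card_univ,
      ← Nat.card_eq_fintype_card, nsmul_eq_mul, mul_one, OneMemClass.coe_one, hd,
      Complex.conj_natCast]
    ring
  rw [classInner, inv_mul_eq_iff_eq_mul₀ (Nat.cast_ne_zero.2 Nat.card_pos.ne'), hlhs] at hnorm
  have hnat : d ^ 2 + (Nat.card P - 1) = Nat.card P * (e * (t * e)) := by exact_mod_cast hnorm
  -- the constituent is linear
  have hpd' : ¬ p ∣ d := by
    intro hpd'
    have h1 : p ∣ Nat.card P := by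
      rw [ha]; refine dvd_pow_self p ?_
      rintro rfl; rw [pow_zero] at ha; omega
    have h2 : p ∣ Nat.card P - 1 :=
      (Nat.dvd_add_right (dvd_pow hpd' two_ne_zero)).1 (hnat ▸ h1.mul_right _)
    have h3 := Nat.dvd_sub h1 h2
    rw [show Nat.card P - (Nat.card P - 1) = 1 by omega] at h3
    exact hp.ne_one (Nat.dvd_one.1 h3)
  have hf1 : f = 1 := by
    have h1 := IsIrr.degree_dvd_card θ.2 hf
    rw [ha] at h1
    obtain ⟨j, -, hj⟩ := (Nat.dvd_prime_pow hp).1 h1
    rcases Nat.eq_zero_or_pos j with h2 | h2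
    · rw [hj, h2, pow_zero]
    · exact absurd ((dvd_pow_self p h2.ne').trans (hj ▸ Dvd.intro_left _ hdeg.symm)) hpd'
  subst hf1
  rw [mul_one] at hdeg
  have he0 : 0 < e := Nat.pos_of_ne_zero fun e0 => by rw [e0, zero_mul] at hdeg; omega
  have ht0 : 0 < t := Nat.pos_of_ne_zero fun e0 => by rw [e0, mul_zero] at hdeg; omega
  have hd2 : 2 ≤ d := by
    rcases Nat.lt_or_ge d 2 with h1 | h1
    · exact absurd (by rw [hd, show d = 1 by omega, Nat.cast_one]) h.nl
    · exact h1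
  obtain ⟨q, hq⟩ : ∃ q, Nat.card P = q := ⟨_, rfl⟩
  rw [hq] at hnat hppos
  have htq : t < q := by
    by_contra hh
    push Not at hh
    rw [hdeg] at hnat
    have h1 : q * (e * (t * e)) ≤ (e * t) ^ 2 := by
      rw [show q * (e * (t * e)) = (e * e * t) * q by ring,
        show (e * t) ^ 2 = (e * e * t) * t by ring]
      exact Nat.mul_le_mul_left _ hh
    omega
  obtain ⟨s, hs⟩ : ∃ s, q = t + (s + 1) := ⟨q - t - 1, by omega⟩
  have hes : e = 1 ∧ s = 0 := by
    rw [hdeg, hs, show t + (s + 1) - 1 = t + s by omega] at hnat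
    have h2 : t + s = e * e * t * (s + 1) := by nlinarith
    have h3 : t * (s + 1) ≤ e * e * t * (s + 1) := by
      have : 1 ≤ e * e := Nat.mul_pos he0 he0
      calc t * (s + 1) = 1 * (t * (s + 1)) := (one_mul _).symm
        _ ≤ (e * e) * (t * (s + 1)) := Nat.mul_le_mul_right _ this
        _ = _ := by ring
    rcases Nat.eq_zero_or_pos s with hs0 | hs0
    · subst hs0
      refine ⟨?_, rfl⟩
      have h4 : e * e = 1 :=
        Nat.eq_of_mul_eq_mul_right ht0 (by rw [one_mul]; linarith)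
      exact Nat.eq_one_of_mul_eq_one_right h4
    · exfalso
      have ht1 : t = 1 := by
        by_contra ht1
        have : 2 ≤ t := by omega
        nlinarith
      rw [ht1] at h2
      have h4 : e * e = 1 := Nat.eq_of_mul_eq_mul_right (show 0 < 1 + s by omega)
        (by rw [one_mul]; linarith)
      rw [Nat.eq_one_of_mul_eq_one_right h4, ht1] at hdeg
      omega
  obtain ⟨rfl, rfl⟩ := hes
  rw [one_mul] at hdeg
  have htc : t = Nat.card P - 1 := by omega
  -- homomorphisms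
  obtain ⟨lam, hlam⟩ := IsChar.exists_hom (IsIrr.isCharacter θ.2)
    (show (θ : P → ℂ) 1 = 1 by rw [hf, Nat.cast_one])
  have horb : ∀ ψ ∈ orbit (G := G) (θ : P → ℂ), ∃ g : G, ψ = fun y => (conjL g lam y : ℂ) := by
    intro ψ hψ
    obtain ⟨g, rfl⟩ := mem_orbit.1 hψ
    exact ⟨g, by rw [hlam]; rfl⟩
  have hab : ∀ x ∈ P, ∀ y ∈ P, x * y = y * x := by
    intro x hx y hy
    have hz : x * y * x⁻¹ * y⁻¹ ∈ P := mul_mem (mul_mem (mul_mem hx hy) (inv_mem hx)) (inv_mem hy)
    have h1 := h.faith _ (show (χ : G → ℂ) (x * y * x⁻¹ * y⁻¹) = (χ : G → ℂ) 1 by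
      have e1 := hres ⟨_, hz⟩
      have e2 := hres 1
      rw [OneMemClass.coe_one] at e2
      rw [show (χ : G → ℂ) (x * y * x⁻¹ * y⁻¹) = _ from e1, e2]
      congr 1
      refine Finset.sum_congr rfl fun ψ hψ => ?_
      obtain ⟨g, rfl⟩ := horb ψ hψ
      have : conjL g lam ⟨_, hz⟩ = 1 := by
        rw [show (⟨_, hz⟩ : P) = ⟨x, hx⟩ * ⟨y, hy⟩ * (⟨x, hx⟩ : P)⁻¹ * (⟨y, hy⟩ : P)⁻¹ from rfl]
        rw [map_mul, map_mul, map_mul, map_inv, map_inv, mul_comm (conjL g lam ⟨x, hx⟩),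
          mul_inv_cancel_right, mul_inv_cancel]
      show ((conjL g lam ⟨_, hz⟩ : ℂˣ) : ℂ) = ((conjL g lam 1 : ℂˣ) : ℂ)
      rw [this, map_one])
    exact mul_inv_eq_iff_eq_mul.1 (mul_inv_eq_one.1 h1)
  have hcard : Nat.card (IrrCharacter P) = Nat.card P := by
    rw [card_irrCharacter]
    refine (Nat.card_eq_of_bijective (fun x : P => ConjClasses.mk x)
      ⟨fun x y hxy => ?_, ConjClasses.mk_surjective⟩).symm
    obtain ⟨c, hc⟩ := isConj_iff.1 (ConjClasses.mk_eq_mk_iff_isConj.1 hxy)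
    rw [← hc]
    refine Subtype.ext ?_
    show (x : G) = c * x * (c : G)⁻¹
    rw [hab c c.2 x x.2, mul_inv_cancel_right]
  have hlam1 : lam ≠ 1 := by
    intro e1
    have hsub : orbit (G := G) (θ : P → ℂ) ⊆ {fun _ => 1} := by
      intro ψ hψ
      obtain ⟨g, rfl⟩ := horb ψ hψ
      rw [Finset.mem_singleton, e1]; rfl
    have := Finset.card_le_card hsub
    rw [ht, Finset.card_singleton] at this
    omega
  have hmem : ∀ m : P →* ℂˣ, m ≠ 1 → (fun y => (m y : ℂ)) ∈ orbit (G := G) (θ : P → ℂ) := by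
    intro m hm
    let one : IrrCharacter P := ⟨fun _ => 1, isIrrCharacter_one⟩
    let ι : {ψ // ψ ∈ orbit (G := G) (θ : P → ℂ)} → {η : IrrCharacter P // η ≠ one} := fun ψ => by
      refine ⟨⟨ψ.1, ?_⟩, ?_⟩
      · obtain ⟨g, hg⟩ := horb ψ.1 ψ.2
        rw [hg]; exact isIrrCharacter_hom _
      · intro e1
        obtain ⟨g, hg⟩ := horb ψ.1 ψ.2
        refine conjL_ne_one g hlam1 (hom_ext_coe ?_)
        rw [← hg]
        exact (congrArg Subtype.val e1).trans (funext fun _ => rfl)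
    have hinj : Function.Injective ι := fun a b e1 =>
      Subtype.ext (congrArg (fun η : {η : IrrCharacter P // η ≠ one} => (η.1 : P → ℂ)) e1)
    have hc : Nat.card {η : IrrCharacter P // η ≠ one} = t := by
      rw [Nat.card_eq_fintype_card, Fintype.card_subtype_compl, Fintype.card_subtype_eq,
        ← Nat.card_eq_fintype_card, hcard]
      omega
    have hsurj : Function.Surjective ι :=
      ((Nat.bijective_iff_injective_and_card ι).2 ⟨hinj, by
        rw [hc, Nat.card_eq_fintype_card, Fintype.card_coe, ht]⟩).2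
    obtain ⟨ψ, hψ⟩ := hsurj ⟨⟨_, isIrrCharacter_hom m⟩, fun e1 => hm (hom_ext_coe
      ((congrArg Subtype.val e1).trans (funext fun _ => rfl)))⟩
    have e2 : ψ.1 = fun y => (m y : ℂ) :=
      congrArg (fun η : {η : IrrCharacter P // η ≠ one} => (η.1 : P → ℂ)) hψ
    exact e2 ▸ ψ.2
  have horb1 : ∀ m : P →* ℂˣ, m ≠ 1 → ∃ g : G, conjL g lam = m := by
    intro m hm
    obtain ⟨g, hg⟩ := horb _ (hmem m hm)
    exact ⟨g, (hom_ext_coe hg).symm⟩
  have hnum : Nat.card {m : P →* ℂˣ // m ≠ 1} = t := by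
    rw [← ht, ← Nat.card_eq_finsetCard]
    refine Nat.card_eq_of_bijective (fun m => ⟨_, hmem m.1 m.2⟩)
      ⟨fun a b e1 => Subtype.ext (hom_ext_coe (congrArg Subtype.val e1)), fun ψ => ?_⟩
    obtain ⟨g, hg⟩ := horb ψ.1 ψ.2
    exact ⟨⟨conjL g lam, conjL_ne_one g hlam1⟩, Subtype.ext hg.symm⟩
  -- the correspondent
  obtain ⟨T, hT⟩ : ∃ T, inertia (G := G) (θ : P → ℂ) = T := ⟨_, rfl⟩
  have hPT : P ≤ T := hT ▸ le_inertia (isClassFunction_of_isIrr θ.2)
  obtain ⟨ψ, hψ, hind, hc2⟩ := ProjExt.exists_correspondent θ.2 hT hPT χ.2 hθ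
  rw [he, Nat.cast_one] at hc2
  obtain ⟨hψ1, hψP⟩ := ProjExt.degree_over_invariant (T := T) hPT θ.2
    (fun x => mem_inertia.1 (hT.ge x.2)) hψ (by rw [hc2]; exact one_ne_zero)
  rw [hc2, one_mul, hf, Nat.cast_one] at hψ1
  obtain ⟨μ, hμ⟩ := IsChar.exists_hom (IsIrr.isCharacter hψ) hψ1
  have hμP : ∀ y : P, (μ ⟨y, hPT y.2⟩ : ℂ) = (lam y : ℂ) := fun y => by
    have := hψP y
    rw [hc2, one_mul, hμ, hlam] at this
    exact this
  have hTiff : ∀ x : G, x ∈ T ↔ conjL x lam = lam := fun x => by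
    rw [← hT, mem_inertia, hlam]
    exact ⟨fun e1 => hom_ext_coe e1, fun e1 => by rw [conjFun_hom, e1]⟩
  refine ⟨by rw [hd, hdeg, htc], by omega, hab,
    fun l m hl hm => ?_, fun y hy => ?_, by omega, fun g => ?_⟩
  · obtain ⟨a, rfl⟩ := horb1 l hl
    obtain ⟨b, rfl⟩ := horb1 m hm
    exact ⟨a⁻¹ * b, by rw [← conjL_mul, mul_inv_cancel_left]⟩
  · obtain ⟨l, -, hl⟩ := exists_hom_ne_one_of_not_mem (A := P)
      (fun x z => Subtype.ext (hab x x.2 z z.2)) ⊥
      (fun hh => hy (Subgroup.mem_bot.1 hh))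
    exact ⟨l, hl⟩
  -- the formula
  obtain ⟨a, ha'⟩ : ∃ a : G → ℂ,
      a = fun x => extendByZero T (fun x => (μ x : ℂ)) (x * g * x⁻¹) := ⟨_, rfl⟩
  have hval : ∀ y : P, (χ : G → ℂ) (g * y) =
      (Nat.card T : ℂ)⁻¹ * ∑ x : G, a x * (conjL x lam y : ℂ) := by
    intro y
    rw [← hind, hμ, indFun_apply]
    congr 1
    refine Fintype.sum_equiv (Equiv.inv G) _ _ fun x => ?_
    show extendByZero T (fun x => (μ x : ℂ)) (x⁻¹ * (g * y) * x) = _
    rw [ha']
    simp only [Equiv.inv_apply, inv_inv]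
    have hy : x⁻¹ * (y : G) * x ∈ P := by
      simpa using (inferInstance : P.Normal).conj_mem _ y.2 x⁻¹
    by_cases hm : x⁻¹ * g * x ∈ T
    · have hm' : x⁻¹ * (g * y) * x ∈ T := by
        have := mul_mem hm (hPT hy)
        simpa [mul_assoc] using this
      rw [extendByZero_of_mem _ _ hm', extendByZero_of_mem _ _ hm]
      have h1 : (⟨_, hm'⟩ : T) = ⟨_, hm⟩ * ⟨_, hPT hy⟩ :=
        Subtype.ext (by simp [mul_assoc])
      have h2 : (μ ⟨_, hPT hy⟩ : ℂ) = (conjL x⁻¹ lam y : ℂ) := by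
        refine (hμP ⟨_, hy⟩).trans (congrArg (fun z => (lam z : ℂ)) (Subtype.ext ?_))
        show _ = x⁻¹ * (y : G) * x⁻¹⁻¹
        rw [inv_inv]
      rw [h1, map_mul, Units.val_mul, h2]
    · rw [extendByZero_of_not_mem _ _ hm, zero_mul, extendByZero_of_not_mem]
      intro hm'
      apply hm
      have := mul_mem hm' (inv_mem (hPT hy))
      simpa [mul_assoc] using this
  have hfib : ∀ x : G, (Finset.univ.filter fun x' : G => conjL x' lam = conjL x lam).card =
      Nat.card T := by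
    intro x
    rw [← Fintype.card_subtype, ← Nat.card_eq_fintype_card]
    refine (Nat.card_congr ((Equiv.mulRight x).subtypeEquiv fun z => ?_)).symm
    show z ∈ T ↔ conjL (z * x) lam = conjL x lam
    rw [hTiff, conjL_mul]
    exact ⟨fun e1 => by rw [e1], fun e1 => by
      have := congrArg (conjL x⁻¹) e1
      rwa [← conjL_mul, ← conjL_mul, mul_inv_cancel, mul_one, ← conjL_mul, mul_inv_cancel,
        conjL_one] at this⟩
  have hconst : ∀ x x', conjL x' lam = conjL x lam → a x' = a x := by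
    intro x x' e1
    have hz : x' * x⁻¹ ∈ T := (hTiff _).2 (by rw [conjL_mul, e1, ← conjL_mul, mul_inv_cancel, conjL_one])
    rw [ha']
    dsimp only
    by_cases hm : x * g * x⁻¹ ∈ T
    · have hm' : x' * g * x'⁻¹ ∈ T := by
        have := mul_mem (mul_mem hz hm) (inv_mem hz)
        simpa [mul_assoc] using this
      rw [extendByZero_of_mem _ _ hm', extendByZero_of_mem _ _ hm,
        show (⟨_, hm'⟩ : T) = ⟨_, hz⟩ * ⟨_, hm⟩ * (⟨_, hz⟩ : T)⁻¹ from
          Subtype.ext (by simp [mul_assoc]), map_mul, map_mul, map_inv, mul_comm (μ ⟨_, hz⟩),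
        mul_inv_cancel_right]
    · rw [extendByZero_of_not_mem _ _ hm, extendByZero_of_not_mem]
      intro hm'
      apply hm
      have := mul_mem (mul_mem (inv_mem hz) hm') hz
      simpa [mul_assoc] using this
  have hfix : ∀ x : G, conjL g (conjL x lam) = conjL x lam ↔ x * g * x⁻¹ ∈ T := by
    intro x
    rw [hTiff, ← conjL_mul]
    constructor
    · intro e1; rw [conjL_mul, e1, ← conjL_mul, mul_inv_cancel, conjL_one]
    · intro e1
      have := congrArg (conjL x) e1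
      rwa [← conjL_mul, inv_mul_cancel_right] at this
  have hcount : (Finset.univ.filter fun x : G => x * g * x⁻¹ ∈ T).card =
      Nat.card T * Nat.card {m : P →* ℂˣ // m ≠ 1 ∧ conjL g m = m} := by
    haveI : Finite {m : P →* ℂˣ // m ≠ 1} := Nat.finite_of_card_ne_zero (by omega)
    haveI : Finite {m : P →* ℂˣ // m ≠ 1 ∧ conjL g m = m} :=
      Finite.of_injective (fun m => (⟨m.1, m.2.1⟩ : {m : P →* ℂˣ // m ≠ 1}))
        fun a b e1 => Subtype.ext (congrArg Subtype.val e1 :)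
    letI := Fintype.ofFinite {m : P →* ℂˣ // m ≠ 1 ∧ conjL g m = m}
    rw [Nat.card_eq_fintype_card (α := {m : P →* ℂˣ // m ≠ 1 ∧ conjL g m = m})]
    rw [← Finset.card_univ, ← Finset.card_image_of_injective Finset.univ Subtype.val_injective
      (β := P →* ℂˣ) (α := {m : P →* ℂˣ // m ≠ 1 ∧ conjL g m = m})]
    rw [Finset.card_eq_sum_card_fiberwise (f := fun x => conjL x lam)
      (t := (Finset.univ : Finset {m : P →* ℂˣ // m ≠ 1 ∧ conjL g m = m}).image Subtype.val)
      fun x hx => Finset.mem_image.2 ⟨⟨_, conjL_ne_one x hlam1,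
        (hfix x).2 (Finset.mem_filter.1 hx).2⟩, Finset.mem_univ _, rfl⟩]
    rw [Finset.sum_congr rfl (g := fun _ => Nat.card T) fun m hm => ?_, Finset.sum_const,
      smul_eq_mul, mul_comm]
    obtain ⟨⟨m, hm1, hm2⟩, -, rfl⟩ := Finset.mem_image.1 hm
    obtain ⟨x, rfl⟩ := horb1 m hm1
    rw [← hfib x, Finset.filter_filter]
    refine congrArg _ (Finset.filter_congr fun x' _ => ⟨fun e1 => e1.2, fun e1 => ⟨?_, e1⟩⟩)
    rw [← hfix, e1]; exact hm2
  have hsq : ∀ x, a x * conj (a x) = if x * g * x⁻¹ ∈ T then 1 else 0 := by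
    intro x
    rw [ha']
    dsimp only
    by_cases hm : x * g * x⁻¹ ∈ T
    · rw [if_pos hm, extendByZero_of_mem _ _ hm, Complex.mul_conj, Complex.normSq_eq_norm_sq,
        Complex.norm_eq_one_of_pow_eq_one (show (μ ⟨_, hm⟩ : ℂ) ^ Nat.card T = 1 by
          rw [← Units.val_pow_eq_pow_val, ← map_pow, pow_card_eq_one', map_one, Units.val_one])
          Nat.card_pos.ne']
      simp
    · rw [if_neg hm, extendByZero_of_not_mem _ _ hm, zero_mul]
  have hTne : (Nat.card T : ℂ) ≠ 0 := Nat.cast_ne_zero.2 Nat.card_pos.ne'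
  calc ∑ y : P, (χ : G → ℂ) (g * y) * conj ((χ : G → ℂ) (g * y))
      = ((Nat.card T : ℂ)⁻¹) ^ 2 * ∑ x : G, ∑ x' : G, a x * conj (a x') *
          ∑ y : P, (conjL x lam y : ℂ) * conj (conjL x' lam y : ℂ) := by
        simp only [hval, map_mul, map_inv₀, Complex.conj_natCast, map_sum, Finset.mul_sum,
          Finset.sum_mul]
        rw [Finset.sum_comm]
        conv_rhs => rw [Finset.sum_comm]
        refine Finset.sum_congr rfl fun x _ => ?_
        rw [Finset.sum_comm]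
        exact Finset.sum_congr rfl fun x' _ => Finset.sum_congr rfl fun y _ => by ring
    _ = ((Nat.card T : ℂ)⁻¹) ^ 2 * ∑ x : G,
          (a x * conj (a x)) * ((Nat.card P : ℂ) * (Nat.card T : ℂ)) := by
        congr 1
        refine Finset.sum_congr rfl fun x _ => ?_
        simp only [sum_hom_mul_conj, mul_ite, mul_zero]
        rw [← Finset.sum_filter, Finset.sum_congr rfl
          (g := fun _ => a x * conj (a x) * (Nat.card P : ℂ)) fun x' hx' => by
            rw [hconst x x' (Finset.mem_filter.1 hx').2.symm],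
          Finset.sum_const, nsmul_eq_mul,
          Finset.filter_congr (q := fun x' => conjL x' lam = conjL x lam) fun x' _ => eq_comm,
          hfib x]
        ring
    _ = _ := by
        rw [Finset.sum_congr rfl fun x _ => by rw [hsq x], ← Finset.sum_mul, Finset.sum_boole, hcount]
        push_cast
        field_simp

end Core

end Cfsg.Agent.RootUnity
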