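import Cfsg.Agent.BlockChar.RootUnityCore

/-!
The structure of a group with a faithful character whose values at `p`-singular elements are roots
of unity and with a non-trivial `p`-core
-/

set_option autoImplicit false
set_option linter.style.haveILetI false
set_option linter.unusedSectionVars false

namespace Cfsg.Agent.RootUnity

open Cfsg Cfsg.Agent Cfsg.Agent.Char
open scoped ComplexConjugate

universe u

variable {G : Type u} [Group G] [Fintype G] {p : ℕ} [Fact p.Prime]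
variable {P : Subgroup G} [P.Normal] [Fintype P] {χ : IrrCharacter G}

instance omegaAction : MulAction G {m : P →* ℂˣ // m ≠ 1} where
  smul g m := ⟨conjL g⁻¹ m.1, conjL_ne_one _ m.2⟩
  one_smul m := Subtype.ext (by show conjL (1 : G)⁻¹ m.1 = m.1; rw [inv_one, conjL_one])
  mul_smul g h m := Subtype.ext (by
    show conjL (g * h)⁻¹ m.1 = conjL g⁻¹ (conjL h⁻¹ m.1)
    rw [mul_inv_rev, conjL_mul])

theorem smul_omega (g : G) (m : {m : P →* ℂˣ // m ≠ 1}) : (g • m).1 = conjL g⁻¹ m.1 := rfl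

theorem conjL_mul_hom (g : G) (l m : P →* ℂˣ) : conjL g (l * m) = conjL g l * conjL g m := rfl

theorem fix_all_iff (D : Data p χ P) {g : G} :
    g ∈ Subgroup.centralizer (P : Set G) ↔ ∀ m : P →* ℂˣ, conjL g m = m := by
  rw [Subgroup.mem_centralizer_iff]
  constructor
  · intro h m
    refine MonoidHom.ext fun y => congrArg m (Subtype.ext ?_)
    show g * (y : G) * g⁻¹ = y
    rw [← h y y.2, mul_inv_cancel_right]
  · intro h y hy
    obtain ⟨z, hz⟩ : ∃ z, (MulAut.conjNormal g : MulAut P) ⟨y, hy⟩ * (⟨y, hy⟩ : P)⁻¹ = z := ⟨_, rfl⟩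
    by_cases hz1 : z = 1
    · rw [← hz, mul_inv_eq_one] at hz1
      have e : g * y * g⁻¹ = y := congrArg Subtype.val hz1
      exact (mul_inv_eq_iff_eq_mul.1 e).symm
    · obtain ⟨l, hl⟩ := D.exists_ne z hz1
      exfalso; apply hl
      rw [← hz, map_mul, map_inv]
      exact mul_inv_eq_one.2 (DFunLike.congr_fun (h l) ⟨y, hy⟩)

theorem card_fix_of_centralizes (D : Data p χ P) {g : G}
    (hg : g ∈ Subgroup.centralizer (P : Set G)) :
    Nat.card {m : P →* ℂˣ // m ≠ 1 ∧ conjL g m = m} = Nat.card P - 1 := by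
  rw [← D.num]
  exact Nat.card_congr (Equiv.subtypeEquivRight fun m =>
    ⟨fun h => h.1, fun h => ⟨h, (fix_all_iff D).1 hg m⟩⟩)

variable (h : Hyp p χ) (hP : IsPGroup p P) (D : Data p χ P)

include h hP D

/-- A `p`-element outside fixes exactly one nontrivial linear character. -/
theorem card_fix_outside {g : G} (hg : ∃ k, orderOf g = p ^ k) (hgP : g ∉ P) :
    Nat.card {m : P →* ℂˣ // m ≠ 1 ∧ conjL g m = m} = 1 := by
  have hp := (Fact.out : p.Prime)
  have hsing : ∀ y : P, p ∣ orderOf (g * (y : G)) := by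
    intro y
    obtain ⟨k, hk⟩ := hg
    have h1 : ((g * y : G) : G ⧸ P) ^ p ^ k = 1 := by
      rw [QuotientGroup.mk_mul, (QuotientGroup.eq_one_iff (y : G)).2 y.2, mul_one,
        ← QuotientGroup.mk_pow, ← hk, pow_orderOf_eq_one, QuotientGroup.mk_one]
    obtain ⟨j, hj⟩ := hP ⟨_, (QuotientGroup.eq_one_iff _).1
      ((QuotientGroup.mk_pow P (g * y : G) (p ^ k)).trans h1)⟩
    have h2 : (g * (y : G)) ^ p ^ (k + j) = 1 := by
      rw [pow_add, pow_mul]
      simpa using congrArg Subtype.val hj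
    obtain ⟨i, -, hi⟩ := (Nat.dvd_prime_pow hp).1 (orderOf_dvd_of_pow_eq_one h2)
    rw [hi]
    refine dvd_pow_self p fun e => hgP ?_
    rw [e, pow_zero, orderOf_eq_one_iff] at hi
    rw [eq_inv_of_mul_eq_one_left hi]
    exact inv_mem y.2
  have h1 := D.form g
  rw [Finset.sum_congr rfl (g := fun _ => (1 : ℂ)) (fun y _ => h.mul_conj (hsing y)),
    Finset.sum_const, Finset.card_univ, ← Nat.card_eq_fintype_card, nsmul_eq_mul, mul_one] at h1
  have h2 : Nat.card P * 1 = Nat.card P * Nat.card {m : P →* ℂˣ // m ≠ 1 ∧ conjL g m = m} := by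
    rw [mul_one]; exact_mod_cast h1
  exact (Nat.eq_of_mul_eq_mul_left Nat.card_pos h2).symm

theorem pElement_centralizes_mem {g : G} (hg : ∃ k, orderOf g = p ^ k)
    (hgC : g ∈ Subgroup.centralizer (P : Set G)) : g ∈ P := by
  by_contra hgP
  have := card_fix_outside h hP D hg hgP
  rw [card_fix_of_centralizes D hgC] at this
  have := D.two
  omega

theorem inf_center : P ⊓ Subgroup.center G = ⊥ := by
  rw [Subgroup.eq_bot_iff_forall]
  intro z hz
  obtain ⟨k, hk⟩ := IsPGroup.iff_orderOf.1 hP ⟨z, hz.1⟩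
  rw [Subgroup.orderOf_mk] at hk
  rcases Nat.eq_zero_or_pos k with hk0 | hk0
  · rwa [hk0, pow_zero, orderOf_eq_one_iff] at hk
  · exact absurd (hk ▸ dvd_pow_self p hk0.ne') (h.center_prime hz.2)

theorem centralizer_eq : Subgroup.centralizer (P : Set G) = P ⊔ Subgroup.center G := by
  have hp := (Fact.out : p.Prime)
  refine le_antisymm (fun g hg => ?_) (sup_le ?_ ?_)
  swap
  · intro x hx
    rw [Subgroup.mem_centralizer_iff]
    exact fun y hy => D.ab y hy x hx
  swap
  · intro x hx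
    rw [Subgroup.mem_centralizer_iff]
    exact fun y _ => Subgroup.mem_center_iff.1 hx y
  obtain ⟨a, o, ho, hord⟩ := Nat.exists_eq_pow_mul_and_not_dvd (orderOf_pos g).ne' p hp.ne_one
  have hgo : g ^ o ∈ P := by
    refine pElement_centralizes_mem h hP D ?_ (pow_mem hg _)
    obtain ⟨j, -, hj⟩ := (Nat.dvd_prime_pow hp).1 (orderOf_dvd_of_pow_eq_one
      (show (g ^ o) ^ p ^ a = 1 by rw [← pow_mul, mul_comm, ← hord, pow_orderOf_eq_one]))
    exact ⟨j, hj⟩
  obtain ⟨w, hw⟩ : ∃ w, g ^ p ^ a = w := ⟨_, rfl⟩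
  have hwC : w ∈ Subgroup.centralizer (P : Set G) := hw ▸ pow_mem hg _
  have hwo : ¬ p ∣ orderOf w := fun hd => ho (hd.trans (orderOf_dvd_of_pow_eq_one (by
    rw [← hw, ← pow_mul, ← hord, pow_orderOf_eq_one])))
  have hsing : ∀ y : P, y ≠ 1 → p ∣ orderOf (w * (y : G)) := by
    intro y hy
    obtain ⟨k, hk⟩ := IsPGroup.iff_orderOf.1 hP y
    have hc : Commute w (y : G) := (Subgroup.mem_centralizer_iff.1 hwC y y.2).symm
    rw [hc.orderOf_mul_eq_mul_orderOf_of_coprime]
    · refine Dvd.dvd.mul_left ?_ _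
      rw [Subgroup.orderOf_coe, hk]
      exact dvd_pow_self p fun e => hy (by rwa [e, pow_zero, orderOf_eq_one_iff] at hk)
    · rw [Subgroup.orderOf_coe, hk]
      exact ((hp.coprime_iff_not_dvd.2 hwo).symm).pow_right k
  have hwZ : w ∈ Subgroup.center G := by
    refine h.mem_center D.deg ?_
    classical
    have h1 := D.form w
    rw [card_fix_of_centralizes D hwC, ← Finset.add_sum_erase _ _ (Finset.mem_univ (1 : P)),
      Finset.sum_congr rfl (g := fun _ => (1 : ℂ)) (fun y hy =>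
        h.mul_conj (hsing y (Finset.ne_of_mem_erase hy))),
      Finset.sum_const, Finset.card_erase_of_mem (Finset.mem_univ _), Finset.card_univ,
      ← Nat.card_eq_fintype_card, nsmul_eq_mul, mul_one, OneMemClass.coe_one, mul_one,
      Nat.cast_sub Nat.card_pos, Nat.cast_one] at h1
    rw [Nat.cast_sub Nat.card_pos, Nat.cast_one]
    linear_combination h1
  obtain ⟨i, j, hij⟩ : ∃ i j : ℤ, (o : ℤ) * i + ((p ^ a : ℕ) : ℤ) * j = 1 := by
    have := Nat.isCoprime_iff_coprime.2 ((hp.coprime_iff_not_dvd.2 ho).symm.pow_right a)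
    obtain ⟨i, j, e⟩ := this
    exact ⟨i, j, by rw [← e]; ring⟩
  rw [← zpow_one g, ← hij, zpow_add, zpow_mul, zpow_mul, zpow_natCast, zpow_natCast, hw]
  exact Subgroup.mul_mem_sup (zpow_mem hgo _) (zpow_mem hwZ _)

theorem elementary : IsElementaryAbelian p P := by
  refine ⟨⟨⟨fun x y => Subtype.ext (D.ab x x.2 y y.2)⟩⟩, fun x hx => ?_⟩
  have hp := (Fact.out : p.Prime)
  have hcomm : ∀ a b : P, a * b = b * a := fun a b => Subtype.ext (D.ab a a.2 b b.2)
  let B : Subgroup P :=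
    { carrier := Set.range fun z : P => z ^ p
      one_mem' := ⟨1, one_pow p⟩
      mul_mem' := by
        rintro _ _ ⟨a, rfl⟩ ⟨b, rfl⟩
        exact ⟨a * b, Commute.mul_pow (hcomm a b) p⟩
      inv_mem' := by
        rintro _ ⟨a, rfl⟩
        exact ⟨a⁻¹, inv_pow a p⟩ }
  obtain ⟨s, hs⟩ : ∃ s : P, s ∉ B := by
    by_contra hall
    push Not at hall
    have hsur : Function.Surjective fun z : P => z ^ p := hall
    have hd : p ∣ Nat.card P := by
      obtain ⟨k, hk⟩ := IsPGroup.iff_card.1 hP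
      rw [hk]; refine dvd_pow_self p fun e => ?_
      have := D.two
      rw [hk, e, pow_zero] at this
      omega
    obtain ⟨z, hz⟩ := exists_prime_orderOf_dvd_card' p hd
    have := Finite.injective_iff_surjective.2 hsur (a₁ := z) (a₂ := 1)
      (show z ^ p = 1 ^ p by rw [one_pow, ← hz, pow_orderOf_eq_one])
    rw [this, orderOf_one] at hz
    exact hp.ne_one hz.symm
  obtain ⟨μ, hμB, hμs⟩ := exists_hom_ne_one_of_not_mem hcomm B hs
  by_contra hne
  obtain ⟨l, hl⟩ := D.exists_ne ((⟨x, hx⟩ : P) ^ p) fun e => hne (by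
    simpa using congrArg Subtype.val e)
  obtain ⟨g, hg⟩ := D.trans μ l (fun e => hμs (by rw [e, MonoidHom.one_apply]))
    (fun e => hl (by rw [e, MonoidHom.one_apply]))
  apply hl
  rw [← hg]
  exact hμB _ ⟨(MulAut.conjNormal g : MulAut P) ⟨x, hx⟩, (map_pow (MulAut.conjNormal g : MulAut P) _ p).symm⟩

/-- Either there are no `p`-elements outside, or we are in the octahedral case. -/
theorem cases_outside {g : G} (hg : ∃ k, orderOf g = p ^ k) (hgP : g ∉ P) :
    p = 2 ∧ Nat.card P = 4 ∧ ∃ t : G, (∃ k, orderOf t = p ^ k) ∧ t ∉ P ∧ t ^ 2 ∈ P := by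
  have hp := (Fact.out : p.Prime)
  have hel := elementary h hP D
  have hpow : ∀ (m : P →* ℂˣ) (y : P), m y ^ p = 1 := fun m y => by
    rw [← map_pow, show y ^ p = 1 from Subtype.ext (by simpa using hel.2 y y.2), map_one]
  have huniq : ∀ {t : G}, (∃ k, orderOf t = p ^ k) → t ∉ P → ∀ m m' : P →* ℂˣ, m ≠ 1 → m' ≠ 1 →
      conjL t m = m → conjL t m' = m' → m = m' := by
    intro t ht htP m m' hm hm' e e'
    haveI := (Nat.card_eq_one_iff_unique.1 (card_fix_outside h hP D ht htP)).1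
    exact congrArg Subtype.val (Subsingleton.elim
      (⟨m, hm, e⟩ : {m : P →* ℂˣ // m ≠ 1 ∧ conjL t m = m}) ⟨m', hm', e'⟩)
  obtain ⟨⟨⟨μ, hμ1, hμf⟩⟩⟩ : Nonempty {m : P →* ℂˣ // m ≠ 1 ∧ conjL g m = m} ∧ True :=
    ⟨(Nat.card_eq_one_iff_unique.1 (card_fix_outside h hP D hg hgP)).2, trivial⟩
  have hp2 : p = 2 := by
    by_contra hp2
    have hsq1 : μ * μ ≠ 1 := by
      intro e
      refine hμ1 (MonoidHom.ext fun y => ?_)
      have h2 : μ y ^ 2 = 1 := by rw [pow_two]; exact DFunLike.congr_fun e y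
      have h3 := pow_gcd_eq_one.2 ⟨h2, hpow μ y⟩
      rwa [Nat.Coprime.gcd_eq_one ((Nat.coprime_primes Nat.prime_two hp).2 (Ne.symm hp2)),
        pow_one] at h3
    have := huniq hg hgP μ (μ * μ) hμ1 hsq1 hμf (by rw [conjL_mul_hom, hμf])
    exact hμ1 (MonoidHom.ext fun y => mul_eq_left.1 (DFunLike.congr_fun this.symm y))
  subst hp2
  obtain ⟨t, ht, htP, ht2⟩ : ∃ t : G, (∃ k, orderOf t = 2 ^ k) ∧ t ∉ P ∧ t ^ 2 ∈ P := by
    obtain ⟨k, hk⟩ := hg
    classical
    have hex : ∃ i, g ^ 2 ^ i ∈ P := ⟨k, by rw [← hk, pow_orderOf_eq_one]; exact one_mem _⟩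
    obtain ⟨i, hi⟩ := Nat.exists_eq_succ_of_ne_zero (n := Nat.find hex) fun e => hgP (by
      have := Nat.find_spec hex; rwa [e, pow_zero, pow_one] at this)
    refine ⟨g ^ 2 ^ i, ?_, Nat.find_min hex (by omega), ?_⟩
    · obtain ⟨j, -, hj⟩ := (Nat.dvd_prime_pow hp).1 (orderOf_dvd_of_pow_eq_one
        (show (g ^ 2 ^ i) ^ 2 ^ k = 1 by
          rw [← pow_mul, mul_comm, pow_mul, ← hk, pow_orderOf_eq_one, one_pow]))
      exact ⟨j, hj⟩
    · rw [← pow_mul, ← pow_succ]
      have := Nat.find_spec hex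
      rwa [hi] at this
  refine ⟨rfl, ?_, t, ht, htP, ht2⟩
  obtain ⟨⟨⟨ν, hν1, hνf⟩⟩⟩ : Nonempty {m : P →* ℂˣ // m ≠ 1 ∧ conjL t m = m} ∧ True :=
    ⟨(Nat.card_eq_one_iff_unique.1 (card_fix_outside h hP D ht htP)).2, trivial⟩
  have hinv : ∀ m : P →* ℂˣ, m * m = 1 := fun m => MonoidHom.ext fun y => by
    rw [MonoidHom.mul_apply, MonoidHom.one_apply, ← pow_two]; exact hpow m y
  have htt : ∀ m : P →* ℂˣ, conjL t (conjL t m) = m := fun m => by
    rw [← conjL_mul, ← pow_two]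
    refine (fix_all_iff D).1 ?_ m
    rw [Subgroup.mem_centralizer_iff]
    exact fun y hy => D.ab y hy _ ht2
  have hmov : ∀ m : P →* ℂˣ, m ≠ 1 → m ≠ ν → conjL t m = m * ν := by
    intro m hm hmν
    obtain ⟨w, hw⟩ : ∃ w, m * conjL t m = w := ⟨_, rfl⟩
    by_cases hw1 : w = 1
    · exfalso
      apply hmν
      refine huniq ht htP m ν hm hν1 ?_ hνf
      rw [hw1, ← hinv m] at hw
      exact mul_left_cancel hw
    · have := huniq ht htP w ν hw1 hν1 (by
        rw [← hw, conjL_mul_hom, htt]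
        exact MonoidHom.ext fun y => mul_comm _ _) hνf
      rw [← this, ← hw]
      refine MonoidHom.ext fun y => ?_
      simp only [MonoidHom.mul_apply]
      rw [← mul_assoc, show m y * m y = 1 from DFunLike.congr_fun (hinv m) y, one_mul]
  have key : ∀ m m' : P →* ℂˣ, m ≠ 1 → m ≠ ν → m' ≠ 1 → m' ≠ ν → m' ≠ m → m' = m * ν := by
    intro m m' a1 a2 b1 b2 hne
    obtain ⟨w, hw⟩ : ∃ w, m * m' = w := ⟨_, rfl⟩
    have hw1 : w ≠ 1 := fun e => hne (mul_left_cancel (a := m) (by rw [hw, e, hinv]))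
    have := huniq ht htP w ν hw1 hν1 (by
      rw [← hw, conjL_mul_hom, hmov m a1 a2, hmov m' b1 b2]
      refine MonoidHom.ext fun y => ?_
      simp only [MonoidHom.mul_apply]
      rw [mul_mul_mul_comm, show ν y * ν y = 1 from DFunLike.congr_fun (hinv ν) y, mul_one]) hνf
    rw [← this, ← hw]
    refine MonoidHom.ext fun y => ?_
    simp only [MonoidHom.mul_apply]
    rw [← mul_assoc, show m y * m y = 1 from DFunLike.congr_fun (hinv m) y, one_mul]
  classical
  haveI : Finite {m : P →* ℂˣ // m ≠ 1} := Nat.finite_of_card_ne_zero (by have := D.num; have := D.two; omega)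
  letI := Fintype.ofFinite {m : P →* ℂˣ // m ≠ 1}
  have hcard : Fintype.card {m : P →* ℂˣ // m ≠ 1} ≤ 3 := by
    by_contra hh
    push Not at hh
    obtain ⟨m, hm⟩ : ∃ m : {m : P →* ℂˣ // m ≠ 1}, m ≠ ⟨ν, hν1⟩ :=
      Fintype.exists_ne_of_one_lt_card (by omega) _
    have hmν : m.1 ≠ ν := fun e => hm (Subtype.ext e)
    have hsub : (Finset.univ : Finset {m : P →* ℂˣ // m ≠ 1}) ⊆
        {⟨ν, hν1⟩, m, ⟨m.1 * ν, fun e => hmν (mul_right_cancel (e.trans (hinv ν).symm))⟩} := by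
      intro x _
      simp only [Finset.mem_insert, Finset.mem_singleton]
      by_cases e1 : x.1 = ν
      · exact Or.inl (Subtype.ext e1)
      by_cases e2 : x.1 = m.1
      · exact Or.inr (Or.inl (Subtype.ext e2))
      exact Or.inr (Or.inr (Subtype.ext (key m.1 x.1 m.2 hmν x.2 e1 e2)))
    have h3 := (Finset.card_le_card hsub).trans Finset.card_le_three
    rw [Finset.card_univ] at h3
    omega
  obtain ⟨k, hk⟩ := IsPGroup.iff_card.1 hP
  have hnum := D.num
  have htwo := D.two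
  rw [Nat.card_eq_fintype_card (α := {m : P →* ℂˣ // m ≠ 1})] at hnum
  rcases k with _ | _ | _ | k
  · rw [hk] at htwo; norm_num at htwo
  · rw [hk] at htwo; norm_num at htwo
  · rw [hk]; norm_num
  · have : 8 ≤ Nat.card P := by
      rw [hk]
      calc 8 = 2 ^ 3 := by norm_num
        _ ≤ _ := Nat.pow_le_pow_right (by norm_num) (by omega)
    omega

end Cfsg.Agent.RootUnity
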