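import Cfsg.Agent.BlockChar.RootUnityMain

/-!
The octahedral case
-/

set_option autoImplicit false
set_option linter.style.haveILetI false
set_option linter.unusedSectionVars false

namespace Cfsg.Agent.RootUnity

open Cfsg Cfsg.Agent Cfsg.Agent.Char

universe u

set_option synthInstance.maxSize 2000 in
theorem perm_three_comm : ∀ s c : Equiv.Perm (Fin 3), s * s = 1 → s ≠ 1 → c * c * c = 1 → c ≠ 1 →
    (s * c * s⁻¹ * c⁻¹) ^ 3 = 1 ∧ s * c * s⁻¹ * c⁻¹ ≠ 1 := by
  decide +kernel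

set_option synthInstance.maxSize 2000 in
theorem perm_three_indep : ∀ s c : Equiv.Perm (Fin 3), s * s = 1 → s ≠ 1 → c ^ 3 = 1 → c ≠ 1 →
    ∀ i j : Fin 6, c ^ (i : ℕ) * s ^ (j : ℕ) = 1 → (i : ℕ) % 3 = 0 ∧ (j : ℕ) % 2 = 0 := by
  decide +kernel

variable {G : Type u} [Group G] [Fintype G]
variable {P : Subgroup G} [P.Normal] [Fintype P] {χ : IrrCharacter G}

set_option maxHeartbeats 1000000 in
/-- With an element of order dividing a power of two outside, the group is `S₄` times the centre. -/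
theorem octahedral [Fact (Nat.Prime 2)] (h : Hyp 2 χ) (hP : IsPGroup 2 P) (D : Data 2 χ P)
    (hq : Nat.card P = 4) {t : G} (ht : ∃ k, orderOf t = 2 ^ k) (htP : t ∉ P) (ht2 : t ^ 2 ∈ P) :
    Odd (Nat.card ↥(Subgroup.center G)) ∧ ∃ H : Subgroup G,
      Nonempty (↥H ≃* Equiv.Perm (Fin 4)) ∧ H ⊓ Subgroup.center G = ⊥ ∧
        H ⊔ Subgroup.center G = ⊤ := by
  classical
  refine ⟨?_, ?_⟩
  · rw [← Nat.not_even_iff_odd, even_iff_two_dvd]
    intro hd
    obtain ⟨z, hz⟩ := exists_prime_orderOf_dvd_card' 2 hd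
    exact h.center_prime z.2 (by rw [Subgroup.orderOf_coe, hz])
  have hΩ : Nat.card {m : P →* ℂˣ // m ≠ 1} = 3 := by rw [D.num, hq]
  haveI : Finite {m : P →* ℂˣ // m ≠ 1} := Nat.finite_of_card_ne_zero (by omega)
  obtain ⟨π, hπ⟩ : ∃ π : G →* Equiv.Perm (Fin 3), ∀ g, π g = 1 ↔
      g ∈ Subgroup.centralizer (P : Set G) := by
    refine ⟨((Finite.equivFinOfCardEq hΩ).permCongrHom.toMonoidHom).comp
      (MulAction.toPermHom G {m : P →* ℂˣ // m ≠ 1}), fun g => ?_⟩
    rw [MonoidHom.comp_apply, MulEquiv.coe_toMonoidHom, MulEquiv.map_eq_one_iff]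
    constructor
    · intro e
      rw [← inv_mem_iff, fix_all_iff D]
      intro m
      by_cases hm : m = 1
      · rw [hm]; rfl
      · have := congrArg Subtype.val (Equiv.ext_iff.1 e ⟨m, hm⟩)
        exact this
    · intro hg
      refine Equiv.ext fun m => Subtype.ext ?_
      show conjL g⁻¹ m.1 = m.1
      exact (fix_all_iff D).1 (inv_mem hg) m.1
  have hC := centralizer_eq h hP D
  -- elements of order two and three
  have htC : t ∉ Subgroup.centralizer (P : Set G) := fun e =>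
    htP (pElement_centralizes_mem h hP D ht e)
  have hP_C : P ≤ Subgroup.centralizer (P : Set G) := hC ▸ le_sup_left
  have hs2 : π t * π t = 1 := by
    rw [← map_mul, hπ, ← pow_two]; exact hP_C ht2
  have hs1 : π t ≠ 1 := fun e => htC ((hπ t).1 e)
  have h3 : 3 ∣ Nat.card π.range := by
    obtain ⟨⟨⟨ν, hν⟩⟩⟩ : Nonempty {m : P →* ℂˣ // m ≠ 1} ∧ True :=
      ⟨(Nat.card_pos_iff.1 (by omega : 0 < Nat.card {m : P →* ℂˣ // m ≠ 1})).1, trivial⟩
    haveI : MulAction.IsPretransitive G {m : P →* ℂˣ // m ≠ 1} := ⟨fun l m => by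
      obtain ⟨g, hg⟩ := D.trans l.1 m.1 l.2 m.2
      exact ⟨g⁻¹, Subtype.ext (by rw [smul_omega, inv_inv]; exact hg)⟩⟩
    have e1 := MulAction.index_stabilizer_of_transitive G (⟨ν, hν⟩ : {m : P →* ℂˣ // m ≠ 1})
    rw [hΩ] at e1
    rw [← Subgroup.index_ker]
    refine (dvd_of_eq e1.symm).trans (Subgroup.index_dvd_of_le fun g hg => ?_)
    rw [MonoidHom.mem_ker, hπ] at hg
    rw [MulAction.mem_stabilizer_iff]
    exact Subtype.ext ((fix_all_iff D).1 (inv_mem hg) ν)
  haveI : Fact (Nat.Prime 3) := ⟨Nat.prime_three⟩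
  obtain ⟨⟨σ, hσ⟩, hσ3⟩ := exists_prime_orderOf_dvd_card' 3 h3
  obtain ⟨c₀, hc₀⟩ := hσ
  replace hσ3 : orderOf σ = 3 := (Subgroup.orderOf_coe (⟨σ, _⟩ : π.range)).trans hσ3
  have hσ1 : π c₀ ≠ 1 := fun e => by rw [← hc₀, e, orderOf_one] at hσ3; omega
  have hσc : π c₀ * π c₀ * π c₀ = 1 := by
    rw [hc₀, ← pow_two, ← pow_succ, show 2 + 1 = orderOf σ from hσ3.symm, pow_orderOf_eq_one]
  obtain ⟨c, hc⟩ : ∃ c, t * c₀ * t⁻¹ * c₀⁻¹ = c := ⟨_, rfl⟩
  obtain ⟨hc3, hc1⟩ := perm_three_comm _ _ hs2 hs1 hσc hσ1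
  rw [← map_inv, ← map_inv, ← map_mul, ← map_mul, ← map_mul, hc] at hc3 hc1
  -- in the quotient by `P`
  obtain ⟨f, hf⟩ : ∃ f : G →* G ⧸ P, f = QuotientGroup.mk' P := ⟨_, rfl⟩
  have hker : ∀ g, f g = 1 ↔ g ∈ P := fun g => by rw [hf]; exact QuotientGroup.eq_one_iff g
  have hft : f t * f t = 1 := by rw [← map_mul, hker, ← pow_two]; exact ht2
  have hftinv : (f t)⁻¹ = f t := inv_eq_of_mul_eq_one_right hft
  have hinv : f t * f c * (f t)⁻¹ = (f c)⁻¹ := by
    rw [← hc]
    simp only [map_mul, map_inv, mul_inv_rev, inv_inv, hftinv]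
    calc f t * (f t * f c₀ * f t * (f c₀)⁻¹) * f t
        = (f t * f t) * f c₀ * f t * (f c₀)⁻¹ * f t := by group
      _ = _ := by rw [hft, one_mul]; group
  have hfc : f c ^ 3 = 1 := by
    have h1 : c ^ 3 ∈ P ⊔ Subgroup.center G := by rw [← hC, ← hπ, map_pow]; exact hc3
    obtain ⟨y, hy, z, hz, hyz⟩ := Subgroup.mem_sup_of_normal_right.1 h1
    have h2 : f c ^ 3 = f z := by rw [← map_pow, ← hyz, map_mul, (hker y).2 hy, one_mul]
    have h4 : f t * f z * (f t)⁻¹ = f z := by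
      rw [← map_mul, ← map_inv, ← map_mul, Subgroup.mem_center_iff.1 hz t, mul_inv_cancel_right]
    rw [← h2, ← conj_pow, hinv, inv_pow] at h4
    have h5 : f z ^ 2 = 1 := by
      rw [← h2, pow_two]
      nth_rewrite 1 [← h4]
      exact inv_mul_cancel _
    have h6 : f z ^ orderOf z = 1 := by rw [← map_pow, pow_orderOf_eq_one, map_one]
    have h7 := pow_gcd_eq_one.2 ⟨h5, h6⟩
    rw [((Nat.prime_two.coprime_iff_not_dvd).2 (h.center_prime hz)).gcd_eq_one, pow_one] at h7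
    rw [h2, h7]
  have hswap : ∀ j i : ℕ, ∃ i', f t ^ j * f c ^ i = f c ^ i' * f t ^ j := by
    intro j
    induction j with
    | zero => intro i; exact ⟨i, by simp⟩
    | succ j ih =>
      intro i
      obtain ⟨i', hi'⟩ := ih i
      refine ⟨2 * i', ?_⟩
      have e : f t * f c ^ i' = f c ^ (2 * i') * f t := by
        have e1 : (f t * f c * (f t)⁻¹) ^ i' = f t * f c ^ i' * (f t)⁻¹ := conj_pow
        rw [hinv, show (f c)⁻¹ = f c ^ 2 from inv_eq_of_mul_eq_one_right
          (by rw [← pow_succ']; exact hfc), ← pow_mul] at e1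
        rw [e1, inv_mul_cancel_right]
      rw [pow_succ', mul_assoc, hi', ← mul_assoc, e, mul_assoc]
  obtain ⟨S, hS⟩ : ∃ S : Subgroup (G ⧸ P), Subgroup.closure {f c, f t} = S := ⟨_, rfl⟩
  have hmul : ∀ x y : G ⧸ P, (∃ i j : ℕ, x = f c ^ i * f t ^ j) → (∃ i j : ℕ, y = f c ^ i * f t ^ j) →
      ∃ i j : ℕ, x * y = f c ^ i * f t ^ j := by
    rintro _ _ ⟨i, j, rfl⟩ ⟨k, l, rfl⟩
    obtain ⟨k', hk'⟩ := hswap j k
    refine ⟨i + k', j + l, ?_⟩
    rw [pow_add, pow_add, mul_assoc, ← mul_assoc (f t ^ j), hk', mul_assoc, mul_assoc]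
  have hform : ∀ x ∈ S, ∃ i j : ℕ, x = f c ^ i * f t ^ j := by
    intro x hx
    rw [← hS] at hx
    induction hx using Subgroup.closure_induction with
    | mem y hy =>
      rcases hy with rfl | hy
      · exact ⟨1, 0, by simp⟩
      · rw [Set.mem_singleton_iff] at hy; exact ⟨0, 1, by simp [hy]⟩
    | one => exact ⟨0, 0, by simp⟩
    | mul a b _ _ ha hb => exact hmul a b ha hb
    | inv a _ ha =>
      have hp : ∀ n : ℕ, ∃ i j : ℕ, a ^ n = f c ^ i * f t ^ j := by
        intro n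
        induction n with
        | zero => exact ⟨0, 0, by simp⟩
        | succ n ih => rw [pow_succ]; exact hmul _ _ ih ha
      rw [show a⁻¹ = a ^ (orderOf a - 1) from inv_eq_of_mul_eq_one_right (by
        rw [← pow_succ', Nat.sub_add_cancel (orderOf_pos a), pow_orderOf_eq_one])]
      exact hp _
  obtain ⟨H, hH⟩ : ∃ H : Subgroup G, S.comap f = H := ⟨_, rfl⟩
  have hHP : P ≤ H := fun y hy => by rw [← hH, Subgroup.mem_comap, (hker y).2 hy]; exact one_mem _
  have hkerH : ∀ g ∈ H, π g = 1 → g ∈ P := by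
    intro g hg hg1
    rw [← hH, Subgroup.mem_comap] at hg
    obtain ⟨i, j, hij⟩ := hform _ hg
    have hd : g * (c ^ i * t ^ j)⁻¹ ∈ P := by
      rw [← hker, map_mul, map_inv, map_mul, map_pow, map_pow, ← hij, mul_inv_cancel]
    have h1 : π c ^ i * π t ^ j = 1 := by
      have := (hπ _).2 (hP_C hd)
      rw [map_mul, map_inv, hg1, one_mul, inv_eq_one, map_mul, map_pow, map_pow] at this
      exact this
    have e1 : π c ^ i = π c ^ (i % 3) := pow_eq_pow_mod i hc3
    have e2 : π t ^ j = π t ^ (j % 2) := pow_eq_pow_mod j (by rw [pow_two]; exact hs2)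
    rw [e1, e2] at h1
    have := perm_three_indep _ _ hs2 hs1 hc3 hc1 ⟨i % 3, by omega⟩ ⟨j % 2, by omega⟩ h1
    rw [← hker, hij, pow_eq_pow_mod i hfc, pow_eq_pow_mod j (show f t ^ 2 = 1 by rw [pow_two]; exact hft),
      show i % 3 = 0 by simpa using this.1, show j % 2 = 0 by simpa using this.2]
    simp
  have hmap : H.map π = ⊤ := by
    have hcH : c ∈ H := by rw [← hH, Subgroup.mem_comap, ← hS]; exact Subgroup.subset_closure (Or.inl rfl)
    have htH : t ∈ H := by rw [← hH, Subgroup.mem_comap, ← hS]; exact Subgroup.subset_closure (Or.inr rfl)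
    have d3 : 3 ∣ Nat.card (H.map π) := by
      refine (dvd_of_eq (orderOf_eq_prime hc3 hc1).symm).trans ?_
      rw [← Subgroup.orderOf_mk (H := H.map π) _ ⟨c, hcH, rfl⟩]
      exact orderOf_dvd_natCard _
    have d2 : 2 ∣ Nat.card (H.map π) := by
      refine (dvd_of_eq (orderOf_eq_prime (show π t ^ 2 = 1 by rw [pow_two]; exact hs2) hs1).symm).trans ?_
      rw [← Subgroup.orderOf_mk (H := H.map π) _ ⟨t, htH, rfl⟩]
      exact orderOf_dvd_natCard _
    refine Subgroup.eq_top_of_le_card _ ?_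
    rw [show Nat.card (Equiv.Perm (Fin 3)) = 6 by rw [Nat.card_perm]; simp [Nat.factorial]]
    exact Nat.le_of_dvd Nat.card_pos (Nat.Coprime.mul_dvd_of_dvd_of_dvd (by decide) d2 d3)
  refine ⟨H, ?_, ?_, ?_⟩
  rotate_left
  · rw [Subgroup.eq_bot_iff_forall]
    intro g hg
    have hgP := hkerH g hg.1 ((hπ g).2 (hC ▸ Subgroup.mem_sup_right hg.2))
    have : g ∈ P ⊓ Subgroup.center G := ⟨hgP, hg.2⟩
    rwa [inf_center h hP D, Subgroup.mem_bot] at this
  · rw [eq_top_iff]
    intro g _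
    obtain ⟨k, hk, hkg⟩ : π g ∈ H.map π := hmap ▸ Subgroup.mem_top _
    have h1 : k⁻¹ * g ∈ P ⊔ Subgroup.center G := by
      rw [← hC, ← hπ, map_mul, map_inv, hkg, inv_mul_cancel]
    have h2 : k⁻¹ * g ∈ H ⊔ Subgroup.center G := sup_le_sup_right hHP _ h1
    simpa using Subgroup.mul_mem _ (Subgroup.mem_sup_left hk) h2
  -- the isomorphism with `S₄`
  obtain ⟨φ, hφ⟩ : ∃ φ : H →* Equiv.Perm (Fin 3), φ = π.comp H.subtype := ⟨_, rfl⟩
  have hφker : φ.ker = P.subgroupOf H := by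
    ext x
    rw [MonoidHom.mem_ker, Subgroup.mem_subgroupOf, hφ]
    exact ⟨fun e => hkerH _ x.2 e, fun e => (hπ _).2 (hP_C e)⟩
  have hcardH : Nat.card H = 24 := by
    have h1 := Subgroup.card_mul_index φ.ker
    rw [Subgroup.index_ker, hφ, MonoidHom.range_eq_map, ← Subgroup.map_map,
      ← MonoidHom.range_eq_map, Subgroup.range_subtype, hmap, Subgroup.card_top,
      show Nat.card (Equiv.Perm (Fin 3)) = 6 by rw [Nat.card_perm]; simp [Nat.factorial], ← hφ,
      hφker, Nat.card_congr (Subgroup.subgroupOfEquivOfLe hHP).toEquiv, hq] at h1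
    omega
  obtain ⟨R⟩ : Nonempty (Sylow 3 H) := inferInstance
  have hRc : Nat.card (R : Subgroup H) = 3 := by
    rw [R.card_eq_multiplicity, hcardH, show (24 : ℕ) = 2 ^ 3 * 3 ^ 1 by norm_num,
      Nat.factorization_mul (by norm_num) (by norm_num), Finsupp.add_apply,
      Nat.Prime.factorization_pow Nat.prime_two, Nat.Prime.factorization_pow Nat.prime_three]
    simp
  have hdisj : ∀ y : H, y ∈ P.subgroupOf H → y ∈ (R : Subgroup H) → y = 1 := by
    intro y h1 h2
    have d1 : orderOf y ∣ 4 := by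
      rw [← hq, ← Nat.card_congr (Subgroup.subgroupOfEquivOfLe hHP).toEquiv,
        ← Subgroup.orderOf_mk (H := P.subgroupOf H) y h1]
      exact orderOf_dvd_natCard _
    have d2 : orderOf y ∣ 3 := by
      rw [← hRc, ← Subgroup.orderOf_mk (H := (R : Subgroup H)) y h2]
      exact orderOf_dvd_natCard _
    exact orderOf_eq_one_iff.1 (Nat.eq_one_of_dvd_coprimes (by decide) d1 d2)
  obtain ⟨⟨r, hr⟩, hr3⟩ := exists_prime_orderOf_dvd_card' 3 (dvd_of_eq hRc.symm)
  rw [Subgroup.orderOf_mk] at hr3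
  have hrC : (r : G) ∉ Subgroup.centralizer (P : Set G) := fun e => by
    have h1 : r ∈ P.subgroupOf H := hφker ▸ (by rw [MonoidHom.mem_ker, hφ]; exact (hπ _).2 e)
    rw [hdisj r h1 hr, orderOf_one] at hr3
    omega
  have hfixno : ∀ x ∈ P, (r : G) * x * (r : G)⁻¹ = x → x = 1 := by
    intro x hx hfx
    by_contra hx1
    apply hrC
    rw [Subgroup.mem_centralizer_iff]
    intro y hy
    obtain ⟨w, hw⟩ : ∃ w, (r : G) * y * (r : G)⁻¹ = w := ⟨_, rfl⟩
    have hwP : w ∈ P := hw ▸ (inferInstance : P.Normal).conj_mem y hy _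
    by_cases hy1 : y = 1
    · simp [hy1]
    by_cases hyx : y = x
    · subst hyx; exact (mul_inv_eq_iff_eq_mul.1 hfx).symm
    have hel := elementary h hP D
    have hxx : x * x = 1 := by rw [← pow_two]; exact hel.2 x hx
    have huniv : ({1, ⟨x, hx⟩, ⟨y, hy⟩, ⟨x, hx⟩ * ⟨y, hy⟩} : Finset P) = Finset.univ := by
      refine Finset.eq_univ_of_card _ ?_
      rw [← Nat.card_eq_fintype_card, hq]
      have n1 : (1 : P) ≠ ⟨x, hx⟩ := fun e => hx1 (congrArg Subtype.val e).symm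
      have n2 : (1 : P) ≠ ⟨y, hy⟩ := fun e => hy1 (congrArg Subtype.val e).symm
      have n3 : (1 : P) ≠ ⟨x, hx⟩ * ⟨y, hy⟩ := fun e => hyx (by
        have e' : 1 = x * y := congrArg Subtype.val e
        exact mul_left_cancel (e'.symm.trans hxx.symm))
      have n4 : (⟨x, hx⟩ : P) ≠ ⟨y, hy⟩ := fun e => hyx (congrArg Subtype.val e).symm
      have n5 : (⟨x, hx⟩ : P) ≠ ⟨x, hx⟩ * ⟨y, hy⟩ := fun e => n2 (mul_eq_left.1 e.symm).symm
      have n6 : (⟨y, hy⟩ : P) ≠ ⟨x, hx⟩ * ⟨y, hy⟩ := fun e => n1 (mul_eq_right.1 e.symm).symm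
      rw [Finset.card_insert_of_notMem (by
          simp only [Finset.mem_insert, Finset.mem_singleton, not_or]; exact ⟨n1, n2, n3⟩),
        Finset.card_insert_of_notMem (by
          simp only [Finset.mem_insert, Finset.mem_singleton, not_or]; exact ⟨n4, n5⟩),
        Finset.card_insert_of_notMem (by simp only [Finset.mem_singleton]; exact n6),
        Finset.card_singleton]
    have hwm : (⟨w, hwP⟩ : P) ∈ ({1, ⟨x, hx⟩, ⟨y, hy⟩, ⟨x, hx⟩ * ⟨y, hy⟩} : Finset P) :=
      huniv ▸ Finset.mem_univ _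
    simp only [Finset.mem_insert, Finset.mem_singleton] at hwm
    rcases hwm with e | e | e | e <;> replace e := congrArg Subtype.val e <;> simp only at e
    · exfalso; apply hy1
      rw [← hw] at e
      simpa using e
    · exfalso; apply hyx
      rw [← hw, ← hfx] at e
      simpa using e
    · rw [← hw] at e
      exact (mul_inv_eq_iff_eq_mul.1 e).symm
    · exfalso
      have e' : w = x * y := e
      have hr3' : (r : G) ^ 3 = 1 := by
        rw [← Subgroup.coe_pow, ← hr3, pow_orderOf_eq_one]; rfl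
      have h2 : (r : G) * w * (r : G)⁻¹ = y := by
        rw [e', show (r : G) * (x * y) * (r : G)⁻¹ = ((r : G) * x * (r : G)⁻¹) * ((r : G) * y * (r : G)⁻¹) by group,
          hfx, hw, e', ← mul_assoc, hxx, one_mul]
      have h4 : (r : G) ^ 3 * y * ((r : G) ^ 3)⁻¹ = w := by
        rw [pow_succ, pow_two]
        calc (r : G) * r * r * y * ((r : G) * r * r)⁻¹
            = r * (r * (r * y * (r : G)⁻¹) * (r : G)⁻¹) * (r : G)⁻¹ := by group
          _ = w := by rw [hw, h2, hw]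
      rw [hr3', one_mul, inv_one, mul_one] at h4
      rw [← h4] at e'
      exact hx1 (mul_eq_right.1 e'.symm)
  have hn4 : Nat.card (Sylow 3 H) = 4 := by
    have hd := R.card_dvd_index
    have hi := Subgroup.card_mul_index (R : Subgroup H)
    rw [hRc, hcardH] at hi
    rw [show (R : Subgroup H).index = 8 by omega] at hd
    have hm := card_sylow_modEq_one 3 H
    have hne1 : Nat.card (Sylow 3 H) ≠ 1 := by
      intro e1
      haveI : Subsingleton (Sylow 3 H) := (Nat.card_eq_one_iff_unique.1 e1).1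
      haveI : (R : Subgroup H).Normal := Sylow.normal_of_subsingleton R
      apply hrC
      rw [Subgroup.mem_centralizer_iff]
      intro y hy
      exact congrArg Subtype.val (Subgroup.commute_of_normal_of_disjoint (P.subgroupOf H)
        (R : Subgroup H) inferInstance inferInstance (disjoint_iff.2 ((Subgroup.eq_bot_iff_forall _).2
          fun z hz => hdisj z hz.1 hz.2)) ⟨y, hHP hy⟩ r hy hr)
    generalize Nat.card (Sylow 3 H) = n at hd hm hne1
    obtain ⟨i, hi, rfl⟩ := (Nat.dvd_prime_pow Nat.prime_two).1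
      (hd.trans (dvd_of_eq (by norm_num : (8 : ℕ) = 2 ^ 3)))
    unfold Nat.ModEq at hm
    interval_cases i <;> omega
  haveI : Finite (Sylow 3 H) := Nat.finite_of_card_ne_zero (by omega)
  obtain ⟨ψ, hψ⟩ : ∃ ψ : H →* Equiv.Perm (Sylow 3 H), ψ = MulAction.toPermHom H (Sylow 3 H) :=
    ⟨_, rfl⟩
  have hinj : Function.Injective ψ := by
    rw [← MonoidHom.ker_eq_bot_iff]
    have hKR : ∀ k ∈ ψ.ker, k ∈ Subgroup.normalizer ((R : Subgroup H) : Set H) := fun k hk => by
      rw [MonoidHom.mem_ker, hψ] at hk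
      exact Sylow.smul_eq_iff_mem_normalizer.1 (Equiv.ext_iff.1 hk R)
    have hKP : ∀ k ∈ ψ.ker, k ∈ P.subgroupOf H → k = 1 := by
      intro k hk hkP
      have h1 : k * r * k⁻¹ * r⁻¹ ∈ (R : Subgroup H) :=
        mul_mem ((Subgroup.mem_normalizer_iff.1 (hKR k hk) r).1 hr) (inv_mem hr)
      have h2 : k * r * k⁻¹ * r⁻¹ ∈ P.subgroupOf H := by
        rw [show k * r * k⁻¹ * r⁻¹ = k * (r * k⁻¹ * r⁻¹) by group]
        exact mul_mem hkP (Subgroup.Normal.conj_mem inferInstance _ (inv_mem hkP) r)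
      have h3 := hdisj _ h2 h1
      refine Subtype.ext (hfixno _ hkP ?_)
      have h4 : k * r = r * k := mul_inv_eq_iff_eq_mul.1 (mul_inv_eq_one.1 h3)
      rw [← Subgroup.coe_mul, ← h4, Subgroup.coe_mul, mul_inv_cancel_right]
    rw [Subgroup.eq_bot_iff_forall]
    intro k hk
    refine hKP k hk ?_
    rw [← hφker, MonoidHom.mem_ker, hφ]
    refine (hπ _).2 ?_
    rw [Subgroup.mem_centralizer_iff]
    intro y hy
    exact congrArg Subtype.val (Subgroup.commute_of_normal_of_disjoint (P.subgroupOf H) ψ.ker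
      inferInstance inferInstance (disjoint_iff.2 ((Subgroup.eq_bot_iff_forall _).2
        fun z hz => hKP z hz.2 hz.1)) ⟨y, hHP hy⟩ k hy hk)
  have hbij : Function.Bijective ψ :=
    (Nat.bijective_iff_injective_and_card ψ).2 ⟨hinj, by rw [hcardH, Nat.card_perm, hn4]; rfl⟩
  exact ⟨(MulEquiv.ofBijective ψ hbij).trans (Finite.equivFinOfCardEq hn4).permCongrHom⟩

end Cfsg.Agent.RootUnity
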