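import Mathlib.Algebra.BigOperators.Fin
import Mathlib.Analysis.Complex.Basic
import Mathlib.GroupTheory.GroupAction.CardCommute
import Mathlib.GroupTheory.GroupAction.Quotient
import Mathlib.GroupTheory.Index
import Mathlib.Data.ZMod.Basic
import Mathlib.Data.Nat.Prime.Basic

/-!
# Rotating the factors of a product of `p ^ N` elements

The sum, over the tuples with product in a conjugation invariant set containing no `p ^ a`-th
power, of the products of weights is divisible by `p ^ (N - a)`.
-/

namespace Cfsg.Agent.BlockChar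

universe u

variable {G : Type u} [Group G] {q : ℕ}

/-- The product of `n` consecutive entries of a cyclic tuple, from position `s` on. -/
def word (t : ZMod q → G) (s : ZMod q) (n : ℕ) : G :=
  ((List.range n).map fun i : ℕ => t (s + (i : ZMod q))).prod

@[simp] theorem word_zero (t : ZMod q → G) (s : ZMod q) : word t s 0 = 1 := rfl

theorem word_succ (t : ZMod q → G) (s : ZMod q) (n : ℕ) :
    word t s (n + 1) = word t s n * t (s + (n : ZMod q)) := by
  simp [word, List.range_succ]

theorem word_add (t : ZMod q → G) (s : ZMod q) (m n : ℕ) :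
    word t s (m + n) = word t s m * word t (s + (m : ZMod q)) n := by
  induction n with
  | zero => simp
  | succ n ih => rw [← Nat.add_assoc, word_succ, ih, word_succ, mul_assoc, Nat.cast_add, add_assoc]

theorem word_periodic (t : ZMod q → G) (d : ℕ) (h : ∀ i, t (i + (d : ZMod q)) = t i)
    (s : ZMod q) (k : ℕ) : word t s (d * k) = word t s d ^ k := by
  have hper : ∀ (n : ℕ) (s : ZMod q), word t (s + (d : ZMod q)) n = word t s n := by
    intro n
    induction n with
    | zero => intro; simp
    | succ n ih =>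
      intro s
      rw [word_succ, word_succ, ih, add_right_comm, h]
  induction k with
  | zero => simp
  | succ k ih => rw [Nat.mul_succ, Nat.add_comm, word_add, hper, ih, pow_succ']

theorem isConj_word_succ [NeZero q] (t : ZMod q → G) (s : ZMod q) :
    IsConj (word t s q) (word t (s + 1) q) := by
  obtain ⟨k, hk⟩ := Nat.exists_eq_succ_of_ne_zero (NeZero.ne q)
  have h0 : s + 1 + (k : ZMod q) = s := by
    have h : ((k.succ : ℕ) : ZMod q) = 0 := by rw [← hk]; exact ZMod.natCast_self q
    rw [Nat.cast_succ] at h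
    rw [add_assoc, add_comm (1 : ZMod q), h, add_zero]
  have h1 : word t s (1 + k) = t s * word t (s + 1) k := by
    rw [word_add]
    simp [word]
  have h2 : word t s q = t s * word t (s + 1) k := by
    rw [← h1]; exact congrArg _ (by omega)
  have h3 : word t (s + 1) q = word t (s + 1) k * t s := by
    have h4 := word_succ t (s + 1) k
    rw [h0] at h4
    rw [← h4]; exact congrArg _ (by omega)
  rw [h2, h3]
  exact isConj_iff.2 ⟨(t s)⁻¹, by group⟩

theorem isConj_word [NeZero q] (t : ZMod q → G) (s : ZMod q) :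
    IsConj (word t 0 q) (word t s q) := by
  suffices ∀ m : ℕ, IsConj (word t 0 q) (word t (m : ZMod q) q) by
    simpa using this s.val
  intro m
  induction m with
  | zero => rw [Nat.cast_zero]
  | succ m ih =>
    rw [Nat.cast_succ]
    exact ih.trans (isConj_word_succ t _)

/-- A cyclic tuple. -/
structure Tup (q : ℕ) (G : Type u) where
  /-- the entries -/
  val : ZMod q → G

/-- cyclic tuples are functions -/
def Tup.equiv : Tup q G ≃ (ZMod q → G) := ⟨Tup.val, Tup.mk, fun _ => rfl, fun _ => rfl⟩

noncomputable instance [NeZero q] [Finite G] : Fintype (Tup q G) :=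
  haveI := Fintype.ofFinite G
  haveI := Classical.decEq (ZMod q)
  Fintype.ofEquiv _ Tup.equiv.symm

instance : AddAction (ZMod q) (Tup q G) where
  vadd s t := ⟨fun i => t.val (i + s)⟩
  zero_vadd t := by
    show Tup.mk (fun i => t.val (i + 0)) = t
    simp
  add_vadd a b t := by
    show Tup.mk (fun i => t.val (i + (a + b))) = Tup.mk (fun i => t.val (i + a + b))
    simp [add_assoc]

omit [Group G] in
theorem vadd_val (s : ZMod q) (t : Tup q G) (i : ZMod q) : (s +ᵥ t).val i = t.val (i + s) := rfl

theorem word_vadd (s : ZMod q) (t : Tup q G) (n : ℕ) :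
    word (s +ᵥ t).val 0 n = word t.val s n := by
  simp [word, vadd_val, add_comm]

/-- `z` is `p ^ n` times a member of the subring `R`. -/
def DvdIn (R : Subring ℂ) (p n : ℕ) (z : ℂ) : Prop := ∃ c ∈ R, z = (p : ℂ) ^ n * c

/-- The rotation lemma. -/
theorem dvdIn_sum_tuples [Finite G] {p : ℕ} (hp : p.Prime) (N a : ℕ) [NeZero (p ^ N)]
    (R : Subring ℂ) (f : G → ℂ) (hf : ∀ g, f g ∈ R) (P : G → Prop) [DecidablePred P]
    (hP : ∀ x y, IsConj x y → P x → P y) (hpow : ∀ w : G, ¬ P (w ^ p ^ a)) :
    DvdIn R p (N - a)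
      (∑ t : Tup (p ^ N) G,
        if P (word t.val 0 (p ^ N)) then ∏ i, f (t.val i) else 0) := by
  classical
  set W : Tup (p ^ N) G → ℂ :=
    fun t => if P (word t.val 0 (p ^ N)) then ∏ i, f (t.val i) else 0 with hW
  have hinv : ∀ (s : ZMod (p ^ N)) t, W (s +ᵥ t) = W t := by
    intro s t
    simp only [hW]
    rw [word_vadd]
    refine if_congr ⟨hP _ _ (isConj_word t.val s).symm, hP _ _ (isConj_word t.val s)⟩ ?_ rfl
    exact Fintype.prod_equiv (Equiv.addRight s) _ _ fun i => by simp [vadd_val]
  have hWR : ∀ t, W t ∈ R := by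
    intro t
    simp only [hW]
    split
    · exact R.prod_mem fun i _ => hf _
    · exact R.zero_mem
  let Ω := Quotient (AddAction.orbitRel (ZMod (p ^ N)) (Tup (p ^ N) G))
  have horb : ∀ t : Tup (p ^ N) G, ∃ c ∈ R,
      ((AddAction.orbit (ZMod (p ^ N)) t).ncard : ℂ) * W t = (p : ℂ) ^ (N - a) * c := by
    intro t
    rw [← AddAction.index_stabilizer]
    obtain ⟨j, hjN, hj⟩ := (Nat.dvd_prime_pow hp).1 (by
      simpa [Nat.card_zmod] using (AddAction.stabilizer (ZMod (p ^ N)) t).index_dvd_card)
    rw [hj]
    rcases le_or_gt (N - a) j with h | h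
    · obtain ⟨r, rfl⟩ := Nat.exists_eq_add_of_le h
      exact ⟨(p : ℂ) ^ r * W t, R.mul_mem (R.pow_mem (natCast_mem R p) r) (hWR t),
        by push_cast; rw [pow_add, mul_assoc]⟩
    · have hs : ((p ^ j : ℕ) : ZMod (p ^ N)) ∈ AddAction.stabilizer (ZMod (p ^ N)) t := by
        have := AddSubgroup.nsmul_index_mem (AddAction.stabilizer (ZMod (p ^ N)) t)
          (1 : ZMod (p ^ N))
        rwa [hj, nsmul_one] at this
      have hper : ∀ i, t.val (i + ((p ^ j : ℕ) : ZMod (p ^ N))) = t.val i := fun i => by
        conv_rhs => rw [← AddAction.mem_stabilizer_iff.1 hs]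
        rw [vadd_val]
      have hw : W t = 0 := by
        simp only [hW]
        rw [if_neg]
        have hsplit : p ^ N = p ^ j * (p ^ (N - j - a) * p ^ a) := by
          rw [← pow_add, ← pow_add]
          congr 1
          omega
        have e : word t.val 0 (p ^ N) = (word t.val 0 (p ^ j) ^ p ^ (N - j - a)) ^ p ^ a := by
          conv_lhs => arg 3; rw [hsplit]
          rw [word_periodic _ _ hper, pow_mul]
        rw [e]
        exact hpow _
      exact ⟨0, R.zero_mem, by rw [hw, mul_zero, mul_zero]⟩
  choose c hcR hc using horb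
  refine ⟨∑ ω : Ω, c ω.out, R.sum_mem fun ω _ => hcR _, ?_⟩
  rw [Finset.mul_sum]
  change ∑ t, W t = _
  rw [← (AddAction.selfEquivSigmaOrbits (ZMod (p ^ N)) (Tup (p ^ N) G)).symm.sum_comp,
    Fintype.sum_sigma]
  refine Finset.sum_congr rfl fun ω _ => ?_
  rw [← hc, Finset.sum_congr rfl (g := fun _ => W ω.out), Finset.sum_const, nsmul_eq_mul,
    Finset.card_univ, ← Nat.card_eq_fintype_card, Nat.card_coe_set_eq]
  · rintro ⟨x, s, rfl⟩ -
    exact hinv s _

end Cfsg.Agent.BlockChar
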