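import Cfsg.Agent.BlockChar.SixtyDegrees
import Cfsg.Agent.BlockChar.Support
import Cfsg.Agent.Blocks.Modular
import Cfsg.Agent.Blocks.ClassAlgebra
import Cfsg.Agent.Blocks.Principal
import Cfsg.Agent.Char.Basic
import Mathlib.Analysis.Complex.Trigonometric
import Mathlib.RingTheory.RootsOfUnity.Complex

/-!
A simple group of order `p ^ a * q ^ b * g₀` has `p < 6 ^ (g₀ - 1)`.
-/

namespace Cfsg.Agent.BlockChar

open scoped ComplexConjugate
open Cfsg.Agent Cfsg.Agent.Blocks

/-- Complex roots of unity of order dividing `p`: some power brings few of them close together. -/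
theorem exists_pow_close {p : ℕ} (hp : p.Prime) (T : Finset ℂ) (hT : ∀ c ∈ T, c ^ p = 1) {c₀ : ℂ}
    (h0 : c₀ ∈ T) (hcard : 6 ^ (T.card - 1) < p) :
    ∃ δ : ℕ, ¬ p ∣ δ ∧ ∀ c ∈ T, ‖c ^ δ - c₀ ^ δ‖ < 1 := by
  classical
  haveI : NeZero p := ⟨hp.ne_zero⟩
  have hc0 : c₀ ≠ 0 := fun h => by simpa [h, hp.ne_zero] using hT c₀ h0
  have hn0 : ‖c₀‖ = 1 := Complex.norm_eq_one_of_pow_eq_one (hT c₀ h0) hp.ne_zero
  have hex : ∀ c : ↥(T.erase c₀), ∃ i < p,
      Complex.exp (2 * Real.pi * Complex.I / p) ^ i = (c : ℂ) / c₀ := fun c =>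
    (Complex.isPrimitiveRoot_exp p hp.ne_zero).eq_pow_of_pow_eq_one (by
      rw [div_pow, hT _ (Finset.mem_of_mem_erase c.2), hT c₀ h0, div_one])
  choose t _ ht using hex
  obtain ⟨F, hF⟩ : ∃ F : Fin p → ↥(T.erase c₀) → Fin 6, ∀ k c,
      ((F k c : ℕ) : ℕ) = ⌊6 * Int.fract (((k : ℕ) : ℝ) * t c / p)⌋₊ :=
    ⟨fun k c => ⟨⌊6 * Int.fract (((k : ℕ) : ℝ) * t c / p)⌋₊, by
      rw [Nat.floor_lt' (by norm_num)]
      have := Int.fract_lt_one (((k : ℕ) : ℝ) * t c / p)
      push_cast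
      linarith⟩, fun _ _ => rfl⟩
  obtain ⟨a, b, hab, hF2⟩ : ∃ a b : Fin p, a < b ∧ F a = F b := by
    have hlt : Fintype.card (↥(T.erase c₀) → Fin 6) < Fintype.card (Fin p) := by
      simpa [Finset.card_erase_of_mem h0] using hcard
    obtain ⟨a, b, hne, h⟩ := Fintype.exists_ne_map_eq_of_card_lt F hlt
    rcases lt_or_gt_of_ne hne with h' | h'
    · exact ⟨a, b, h', h⟩
    · exact ⟨b, a, h', h.symm⟩
  refine ⟨b.val - a.val, fun h => ?_, fun c hc => ?_⟩
  · have := Nat.le_of_dvd (Nat.sub_pos_of_lt hab) h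
    omega
  rcases eq_or_ne c c₀ with rfl | hne
  · simp
  set d : ↥(T.erase c₀) := ⟨c, Finset.mem_erase.2 ⟨hne, hc⟩⟩ with hd
  have h2 := congrArg Fin.val (congrFun hF2 d)
  rw [hF, hF] at h2
  obtain ⟨u, hu⟩ : ∃ u : ℝ, u = Int.fract (((a : ℕ) : ℝ) * t d / p) := ⟨_, rfl⟩
  obtain ⟨v, hv⟩ : ∃ v : ℝ, v = Int.fract (((b : ℕ) : ℝ) * t d / p) := ⟨_, rfl⟩
  rw [← hu, ← hv] at h2
  have hu0 : 0 ≤ 6 * u := by rw [hu]; positivity
  have hv0 : 0 ≤ 6 * v := by rw [hv]; positivity
  have hu1 := Nat.floor_le hu0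
  have hu2 := Nat.lt_floor_add_one (6 * u)
  have hv1 := Nat.floor_le hv0
  have hv2 := Nat.lt_floor_add_one (6 * v)
  rw [h2] at hu1 hu2
  have hdiff : |v - u| < 1 / 6 := by rw [abs_lt]; constructor <;> linarith
  have he : (c / c₀) ^ (b.val - a.val) = Complex.exp (Complex.I * ((2 * Real.pi * (v - u) : ℝ) : ℂ)) := by
    have hper : ∀ k : ℤ, Complex.exp (2 * Real.pi * Complex.I * k) = 1 := fun k => by
      rw [mul_comm]; exact Complex.exp_int_mul_two_pi_mul_I k
    rw [show c / c₀ = ((d : ℂ)) / c₀ from rfl, ← ht d, ← pow_mul, ← Complex.exp_nat_mul, hu, hv]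
    have e1 : Int.fract (((b : ℕ) : ℝ) * t d / p) - Int.fract (((a : ℕ) : ℝ) * t d / p) =
        ((t d * (b.val - a.val) : ℕ) : ℝ) / p -
          ((⌊((b : ℕ) : ℝ) * t d / p⌋ - ⌊((a : ℕ) : ℝ) * t d / p⌋ : ℤ) : ℝ) := by
      rw [Int.fract, Int.fract, Nat.cast_mul, Nat.cast_sub hab.le]
      push_cast
      ring
    rw [e1]
    obtain ⟨K, hK⟩ : ∃ K : ℤ, K = ⌊((b : ℕ) : ℝ) * t d / p⌋ - ⌊((a : ℕ) : ℝ) * t d / p⌋ := ⟨_, rfl⟩
    rw [← hK]
    conv_rhs => rw [← mul_one (Complex.exp _), ← hper K, ← Complex.exp_add]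
    congr 1
    push_cast
    ring
  have h3 : c ^ (b.val - a.val) - c₀ ^ (b.val - a.val) =
      c₀ ^ (b.val - a.val) * ((c / c₀) ^ (b.val - a.val) - 1) := by
    rw [mul_sub, mul_one, ← mul_pow, mul_div_cancel₀ c hc0]
  rw [h3, norm_mul, norm_pow, hn0, one_pow, one_mul, he, Complex.norm_exp_I_mul_ofReal_sub_one,
    Real.norm_eq_abs, abs_mul, abs_two]
  have hx : |2 * Real.pi * (v - u) / 2| < Real.pi / 6 := by
    rw [show 2 * Real.pi * (v - u) / 2 = Real.pi * (v - u) by ring, abs_mul,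
      abs_of_pos Real.pi_pos]
    nlinarith [Real.pi_pos]
  have hs : |Real.sin (2 * Real.pi * (v - u) / 2)| < 1 / 2 := by
    rw [abs_lt] at hx ⊢
    have h4 := Real.pi_pos
    constructor
    · rw [← Real.sin_pi_div_six, ← Real.sin_neg]
      exact Real.sin_lt_sin_of_lt_of_le_pi_div_two (by linarith) (by linarith) hx.1
    · rw [← Real.sin_pi_div_six]
      exact Real.sin_lt_sin_of_lt_of_le_pi_div_two (by linarith) (by linarith) hx.2
  linarith

theorem lt_six_pow {G : Type*} [Group G] [Finite G] [IsSimpleGroup G] {p q a b g₀ : ℕ}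
    (hp : p.Prime) (hq : q.Prime) (hpq : p ≠ q) (ha : 0 < a)
    (hG : Nat.card G = p ^ a * q ^ b * g₀) (hcop : ¬ p ∣ g₀) (hne : Nat.card G ≠ p) :
    p < 6 ^ (g₀ - 1) := by
  classical
  by_contra hcon
  rw [not_lt] at hcon
  haveI := Fact.mk hp
  cases nonempty_fintype G
  have hg0 : 0 < g₀ := Nat.pos_of_ne_zero fun h => hcop (h ▸ dvd_zero p)
  have hbound : 6 ^ (g₀ - 1) < p := by
    refine lt_of_le_of_ne hcon fun h => ?_
    rcases Nat.eq_zero_or_pos (g₀ - 1) with h0 | h0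
    · rw [h0, pow_zero] at h; exact hp.one_lt.ne h
    · obtain ⟨k, hk⟩ : ∃ k, g₀ - 1 = k + 1 := ⟨g₀ - 1 - 1, by omega⟩
      have h6 : 6 ∣ p := by rw [← h, hk, pow_succ]; exact dvd_mul_left _ _
      have h2 : 2 ∣ p := (by norm_num : 2 ∣ 6).trans h6
      have h3 : 3 ∣ p := (by norm_num : 3 ∣ 6).trans h6
      have := (Nat.prime_dvd_prime_iff_eq Nat.prime_two hp).1 h2
      have := (Nat.prime_dvd_prime_iff_eq Nat.prime_three hp).1 h3
      omega
  have hgp : g₀ < p := by
    have : g₀ - 1 < 6 ^ (g₀ - 1) := Nat.lt_pow_self (by norm_num)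
    omega
  -- non-abelian, trivial centre
  have hpG : p ∣ Nat.card G := by
    rw [hG, mul_assoc]; exact dvd_mul_of_dvd_left (dvd_pow_self p ha.ne') _
  have hcen : Subgroup.center G = ⊥ := by
    refine ((inferInstance : (Subgroup.center G).Normal).eq_bot_or_eq_top).resolve_right fun h => ?_
    haveI : IsMulCommutative G := ⟨⟨fun x y => by
      exact Subgroup.mem_center_iff.1 (h ▸ Subgroup.mem_top y) x⟩⟩
    obtain ⟨y, hy⟩ := exists_prime_orderOf_dvd_card' p hpG
    have hn : (Subgroup.zpowers y).Normal := inferInstance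
    rcases hn.eq_bot_or_eq_top with h1 | h1
    · rw [Subgroup.zpowers_eq_bot] at h1
      rw [h1, orderOf_one] at hy
      exact hp.one_lt.ne hy
    · refine hne ?_
      rw [← Subgroup.card_top, ← h1, Nat.card_zpowers, hy]
  -- a central element of order `p` of a Sylow subgroup
  obtain ⟨P⟩ := (inferInstance : Nonempty (Sylow p G))
  haveI : Nontrivial (P : Subgroup G) := by
    rw [← Finite.one_lt_card_iff_nontrivial]
    exact (Nat.one_lt_pow ((hp.factorization_pos_of_dvd Nat.card_pos.ne' hpG).ne') hp.one_lt).trans_eq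
      (Sylow.card_eq_multiplicity P).symm
  haveI := P.2.center_nontrivial
  obtain ⟨⟨⟨z, hzP⟩, hzc⟩, hz⟩ := exists_prime_orderOf_dvd_card' p
    ((IsPGroup.iff_card.1 (P.2.to_subgroup (Subgroup.center (P : Subgroup G)))).elim fun n hn =>
      hn ▸ dvd_pow_self p (fun h0 => by
        have := Finite.one_lt_card (α := Subgroup.center (P : Subgroup G))
        rw [hn, h0, pow_zero] at this
        exact this.false))
  rw [Subgroup.orderOf_mk, Subgroup.orderOf_mk] at hz
  have hz1 : z ≠ 1 := fun h => by rw [h, orderOf_one] at hz; exact hp.one_lt.ne hz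
  have hPC : (P : Subgroup G) ≤ Subgroup.centralizer ({z} : Set G) := fun y hy =>
    Subgroup.mem_centralizer_singleton_iff.2
      (congrArg Subtype.val (Subgroup.mem_center_iff.1 hzc ⟨y, hy⟩))
  obtain ⟨k, hk⟩ : ∃ k : ℕ, (Subgroup.centralizer ({z} : Set G)).index = k := ⟨_, rfl⟩
  have hpk : ¬ p ∣ k := fun h => P.not_dvd_index (h.trans (hk ▸ Subgroup.index_dvd_of_le hPC))
  have hkdvd : k ∣ q ^ b * g₀ := by
    have h1 : k ∣ p ^ a * (q ^ b * g₀) := by
      rw [← mul_assoc, ← hG, ← hk]; exact Subgroup.index_dvd_card _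
    exact ((hp.coprime_iff_not_dvd.2 hpk).symm.pow_right a).dvd_of_dvd_mul_left h1
  -- a character of the principal block
  obtain ⟨M, hM⟩ := Blocks.exists_isPModular p hp
  have hB := isPBlock_principalBlock (G := G) M
  set one : Cfsg.IrrCharacter G := ⟨fun _ => 1, Char.isIrrCharacter_one⟩ with hone
  have h1B : one ∈ Cfsg.principalBlock M G := by
    show Cfsg.SameBlock M (fun _ : G => (1 : ℂ)) (fun _ : G => (1 : ℂ))
    intro g
    rw [sub_self]
    exact memLocalIdeal_zero hM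
  have hsum := sum_block_degree_mul_eq_zero hM hB (y := z) (fun h => h (by rw [hz]))
  obtain ⟨χ, hχB, hχ1, hχq⟩ : ∃ χ ∈ Cfsg.principalBlock M G, χ ≠ one ∧
      ¬ q ∣ Cfsg.charDegree (χ : G → ℂ) := by
    by_contra hall
    push Not at hall
    rw [Finset.sum_eq_add_sum_sdiff_singleton_of_mem (Finset.mem_univ one), if_pos h1B] at hsum
    have hint : IsIntegral ℤ (((-1 : ℚ) / q : ℚ) : ℂ) := by
      have e : ((((-1 : ℚ) / q : ℚ)) : ℂ) = ∑ χ ∈ Finset.univ \ {one},
          if χ ∈ Cfsg.principalBlock M G then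
            ((Cfsg.charDegree (χ : G → ℂ) / q : ℕ) : ℂ) * (χ : G → ℂ) z else 0 := by
        push_cast
        rw [div_eq_iff (Nat.cast_ne_zero.2 hq.ne_zero), Finset.sum_mul]
        have h1 : (one : G → ℂ) 1 * (one : G → ℂ) z = 1 := by show (1 : ℂ) * 1 = 1; ring
        rw [h1] at hsum
        rw [← sub_eq_zero]
        refine Eq.trans ?_ (neg_eq_zero.2 hsum)
        rw [neg_add, sub_eq_add_neg, ← Finset.sum_neg_distrib, ← Finset.sum_neg_distrib]
        congr 1
        refine Finset.sum_congr rfl fun χ hχ => ?_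
        split_ifs with h
        · have hne : χ ≠ one := by simpa using hχ
          obtain ⟨k, hk⟩ := hall χ h hne
          rw [hk, Nat.mul_div_cancel_left _ hq.pos, (CharArith.irr_degree_spec χ).1, hk]
          push_cast
          ring
        · simp
      rw [e]
      refine IsIntegral.sum _ fun χ _ => ?_
      split
      · exact (Blocks.isIntegral_natCast _).mul (Char.IsChar.isIntegral (Char.IsIrr.isCharacter χ.2) z)
      · exact isIntegral_zero
    obtain ⟨w, hw⟩ := Char.exists_int_of_isIntegral_rat hint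
    rw [eq_div_iff (Nat.cast_ne_zero.2 hq.ne_zero)] at hw
    have : (q : ℤ) ∣ 1 := ⟨-w, by exact_mod_cast (by linear_combination hw : (1 : ℚ) = q * -w)⟩
    exact hq.ne_one (Nat.eq_one_of_dvd_one (Int.natCast_dvd_natCast.1 this))
  obtain ⟨n, hn⟩ : ∃ n : ℕ, Cfsg.charDegree (χ : G → ℂ) = n := ⟨_, rfl⟩
  have hχd : (χ : G → ℂ) 1 = (n : ℂ) := hn ▸ (CharArith.irr_degree_spec χ).1
  have hn0 : 0 < n := hn ▸ (CharArith.irr_degree_spec χ).2
  have hnC : (n : ℂ) ≠ 0 := Nat.cast_ne_zero.2 hn0.ne'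
  obtain ⟨g, hg⟩ : ∃ g : ℕ, Nat.gcd n k = g := ⟨_, rfl⟩
  have hgk : g ∣ k := hg ▸ Nat.gcd_dvd_right n k
  have hgpos : 0 < g := hg ▸ Nat.gcd_pos_of_pos_left _ hn0
  have hgle : g ≤ g₀ := by
    refine Nat.le_of_dvd hg0 ?_
    have h1 : ¬ q ∣ g := fun h => hχq (hn.symm ▸ h.trans (hg ▸ Nat.gcd_dvd_left n k))
    exact ((hq.coprime_iff_not_dvd.2 h1).symm.pow_right b).dvd_of_dvd_mul_left (hgk.trans hkdvd)
  have hgp' : ¬ p ∣ g := fun h => absurd (Nat.le_of_dvd hgpos h) (by omega)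
  -- eigenvalues
  obtain ⟨m, ρ, hirr, hρ⟩ := χ.2
  obtain ⟨μ, bs, hbs, hμ, hsum1⟩ := Char.exists_eigenbasis ρ z
  rw [hz] at hμ
  obtain ⟨hfin⟩ : Nonempty (Module.finrank ℂ (Fin m → ℂ) = n) := ⟨by
    have h := ρ.char_one
    rw [hρ, hχd] at h
    exact_mod_cast h.symm⟩
  have hbsj : ∀ j : ℕ, ∀ i, ρ (z ^ j) (bs i) = μ i ^ j • bs i := by
    intro j i
    induction j with
    | zero => simp
    | succ j ih => rw [pow_succ', map_mul, Module.End.mul_apply, ih, map_smul, hbs, smul_smul, pow_succ]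
  have hpow : ∀ j : ℕ, (χ : G → ℂ) (z ^ j) = ∑ i, μ i ^ j := fun j => by
    rw [← hρ]
    exact Char.trace_eq_sum_of_eigenbasis _ bs _ (hbsj j)
  have hαint : ∀ j : ℕ, j < p → j ≠ 0 → IsIntegral ℤ ((χ : G → ℂ) (z ^ j) * g / n) ∧
      Cfsg.MemLocalIdeal M ((χ : G → ℂ) (z ^ j) * g / n - g) := by
    intro j hj hj0
    have hcent : Subgroup.centralizer ({z ^ j} : Set G) = Subgroup.centralizer ({z} : Set G) := by
      have hco : j.Coprime (orderOf z) := by
        rw [hz]
        exact ((hp.coprime_iff_not_dvd).2 fun h => absurd (Nat.le_of_dvd (by omega) h) (by omega)).symm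
      obtain ⟨i, hi⟩ := exists_pow_eq_self_of_coprime hco
      ext y
      simp only [Subgroup.mem_centralizer_singleton_iff]
      constructor
      · intro h; rw [← hi]; exact (Commute.pow_right h i)
      · intro h; exact Commute.pow_right h j
    have hom : Cfsg.centralChar (χ : G → ℂ) (z ^ j) = (k : ℂ) * (χ : G → ℂ) (z ^ j) / n := by
      rw [Cfsg.centralChar, hcent, hk, hχd]
    constructor
    · have h1 := isIntegral_centralChar χ.2 (z ^ j)
      rw [hom] at h1
      have hbz := Nat.gcd_eq_gcd_ab n k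
      rw [hg] at hbz
      have hbz' : (g : ℂ) = (n : ℂ) * ((Nat.gcdA n k : ℤ) : ℂ) + (k : ℂ) * ((Nat.gcdB n k : ℤ) : ℂ) := by
        exact_mod_cast hbz
      have e : (χ : G → ℂ) (z ^ j) * g / n = ((Nat.gcdA n k : ℤ) : ℂ) * (χ : G → ℂ) (z ^ j) +
          ((Nat.gcdB n k : ℤ) : ℂ) * ((k : ℂ) * (χ : G → ℂ) (z ^ j) / n) := by
        rw [hbz']; field_simp
      rw [e]
      exact ((isIntegral_algebraMap (R := ℤ) (x := Nat.gcdA n k)).mul
        (Char.IsChar.isIntegral (Char.IsIrr.isCharacter χ.2) _)).add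
        ((isIntegral_algebraMap (R := ℤ) (x := Nat.gcdB n k)).mul h1)
    · have h1 : Cfsg.MemLocalIdeal M (Cfsg.centralChar (fun _ : G => (1 : ℂ)) (z ^ j) -
          Cfsg.centralChar (χ : G → ℂ) (z ^ j)) := hχB (z ^ j)
      rw [hom, Cfsg.centralChar, hcent, hk] at h1
      obtain ⟨l, hl⟩ := hgk
      have hpl : ¬ p ∣ l := fun h => hpk (hl ▸ dvd_mul_of_dvd_right h g)
      have h2 : Cfsg.MemLocalRing M ((l : ℂ)⁻¹) :=
        memLocalRing_inv (memLocalRing_natCast hM l) (fun h => hpl ((memLocalIdeal_natCast_iff hM l).1 h))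
      have hlC : (l : ℂ) ≠ 0 := Nat.cast_ne_zero.2 fun h => hpl (h ▸ dvd_zero p)
      have h3 := memLocalIdeal_neg (memLocalIdeal_mul_left hM h2 h1)
      have e : (χ : G → ℂ) (z ^ j) * g / n - g =
          -((l : ℂ)⁻¹ * ((k : ℂ) * 1 / 1 - (k : ℂ) * (χ : G → ℂ) (z ^ j) / n)) := by
        rw [hl]; push_cast; field_simp; ring
      rw [e]
      exact h3
  -- each multiplicity is a multiple of `n / g`
  have hmult : ∀ c : ℂ, c ^ p = 1 →
      ∃ t : ℕ, (Finset.univ.filter fun i => μ i = c).card * g = n * t := by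
    intro c hc
    obtain ⟨N, hN⟩ : ∃ N : ℕ, (Finset.univ.filter fun i => μ i = c).card = N := ⟨_, rfl⟩
    rw [hN]
    have hc0 : c ≠ 0 := fun h => by simpa [h, hp.ne_zero] using hc
    have hgeom : ∀ d : ℂ, d ^ p = 1 →
        ∑ j ∈ Finset.range p, d ^ j = if d = 1 then (p : ℂ) else 0 := by
      intro d hd
      split_ifs with h
      · simp [h]
      · have h2 := geom_sum_mul d p
        rw [hd, sub_self] at h2
        exact (mul_eq_zero.1 h2).resolve_right (sub_ne_zero.2 h)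
    obtain ⟨r, hr⟩ : ∃ r : ℂ, r = (((p : ℚ) * N * g / n : ℚ) : ℂ) := ⟨_, rfl⟩
    have key : r = ∑ j ∈ Finset.range p, ((χ : G → ℂ) (z ^ j) * g / n) * c⁻¹ ^ j := by
      have h1 : ∑ j ∈ Finset.range p, (χ : G → ℂ) (z ^ j) * c⁻¹ ^ j = (p : ℂ) * N := by
        rw [Finset.sum_congr rfl fun j _ => by rw [hpow j, Finset.sum_mul], Finset.sum_comm,
          Finset.sum_congr rfl fun i _ => by
            rw [Finset.sum_congr rfl fun j _ => (mul_pow (μ i) c⁻¹ j).symm,
              hgeom _ (by rw [mul_pow, hμ i, inv_pow, hc, inv_one, one_mul])],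
          ← Finset.sum_filter, Finset.sum_const, nsmul_eq_mul, mul_comm]
        congr 1
        rw [← hN]
        congr 2
        refine Finset.filter_congr fun i _ => ?_
        rw [mul_inv_eq_one₀ hc0]
      rw [hr]
      push_cast
      rw [← h1, Finset.sum_mul, Finset.sum_div]
      exact Finset.sum_congr rfl fun j _ => by ring
    have hint : IsIntegral ℤ r := by
      rw [key]
      refine IsIntegral.sum _ fun j hj => IsIntegral.mul ?_ ?_
      · rcases eq_or_ne j 0 with rfl | hj0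
        · rw [pow_zero, hχd, mul_div_cancel_left₀ _ hnC]; exact Blocks.isIntegral_natCast g
        · exact (hαint j (Finset.mem_range.1 hj) hj0).1
      · refine IsIntegral.pow ⟨Polynomial.X ^ p - 1, Polynomial.monic_X_pow_sub_C 1 hp.ne_zero, ?_⟩ j
        simp [inv_pow, hc]
    obtain ⟨w, hw'⟩ := Char.exists_int_of_isIntegral_rat (hr ▸ hint)
    have hw := hw'.symm
    clear hw'
    have hmem : Cfsg.MemLocalIdeal M r := by
      have e : r = (∑ j ∈ Finset.range p, ((χ : G → ℂ) (z ^ j) * g / n - g) * c⁻¹ ^ j) +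
          (g : ℂ) * ∑ j ∈ Finset.range p, c⁻¹ ^ j := by
        rw [key, Finset.mul_sum, ← Finset.sum_add_distrib]
        exact Finset.sum_congr rfl fun j _ => by ring
      rw [e]
      refine memLocalIdeal_add hM (memLocalIdeal_sum hM _ fun j hj => ?_) ?_
      · rcases eq_or_ne j 0 with rfl | hj0
        · rw [pow_zero, hχd, mul_div_cancel_left₀ _ hnC, sub_self, zero_mul]
          exact memLocalIdeal_zero hM
        · refine memLocalIdeal_mul_right hM (hαint j (Finset.mem_range.1 hj) hj0).2 ?_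
          refine memLocalRing_of_isIntegral hM (IsIntegral.pow ⟨Polynomial.X ^ p - 1, Polynomial.monic_X_pow_sub_C 1 hp.ne_zero, ?_⟩ j)
          simp [inv_pow, hc]
      · rw [hgeom _ (by rw [inv_pow, hc, inv_one])]
        refine memLocalIdeal_mul_left hM (memLocalRing_natCast hM g) ?_
        split_ifs
        · exact (memLocalIdeal_natCast_iff hM p).2 dvd_rfl
        · exact memLocalIdeal_zero hM
    have hw0 : 0 ≤ w := by
      have : (0 : ℚ) ≤ (w : ℚ) := by rw [← hw]; positivity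
      exact_mod_cast this
    obtain ⟨w', rfl⟩ := Int.eq_ofNat_of_zero_le hw0
    rw [hr, hw] at hmem
    push_cast at hmem
    obtain ⟨t, rfl⟩ := (memLocalIdeal_natCast_iff hM w').1 hmem
    refine ⟨t, ?_⟩
    rw [div_eq_iff (Nat.cast_ne_zero.2 hn0.ne')] at hw
    have h2 : (p : ℚ) * ((N * g : ℕ) : ℚ) = (p : ℚ) * ((n * t : ℕ) : ℚ) := by
      push_cast at hw ⊢
      linear_combination hw
    exact_mod_cast mul_left_cancel₀ (Nat.cast_ne_zero.2 hp.ne_zero) h2
  -- few eigenvalues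
  obtain ⟨T, hT⟩ : ∃ T : Finset ℂ, Finset.univ.image μ = T := ⟨_, rfl⟩
  have hTp : ∀ c ∈ T, c ^ p = 1 := fun c hc => by
    obtain ⟨i, -, rfl⟩ := Finset.mem_image.1 (hT ▸ hc)
    exact hμ i
  have hTg : T.card ≤ g := by
    have h1 : n * T.card ≤ n * g := by
      calc n * T.card = ∑ _c ∈ T, n := by rw [Finset.sum_const, smul_eq_mul, mul_comm]
        _ ≤ ∑ c ∈ T, (Finset.univ.filter fun i => μ i = c).card * g := Finset.sum_le_sum fun c hc => by
          obtain ⟨t, ht⟩ := hmult c (hTp c hc)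
          rw [ht]
          refine Nat.le_mul_of_pos_right n (Nat.pos_of_ne_zero fun h0 => ?_)
          rw [h0, mul_zero, mul_eq_zero, Finset.card_eq_zero] at ht
          obtain ⟨i, -, hi⟩ := Finset.mem_image.1 (hT ▸ hc)
          refine ht.elim (fun h => ?_) hgpos.ne'
          exact Finset.notMem_empty i (h ▸ Finset.mem_filter.2 ⟨Finset.mem_univ i, hi⟩)
        _ = n * g := by
          rw [← Finset.sum_mul, ← hT, ← Finset.card_eq_sum_card_image, Finset.card_univ,
            Fintype.card_fin, hfin]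
    exact Nat.le_of_mul_le_mul_left h1 hn0
  obtain ⟨i₀⟩ : Nonempty (Fin (Module.finrank ℂ (Fin m → ℂ))) := ⟨⟨0, hfin.symm ▸ hn0⟩⟩
  obtain ⟨δ, hδ, hclose⟩ := exists_pow_close hp T hTp
    (hT ▸ Finset.mem_image_of_mem μ (Finset.mem_univ i₀))
    (lt_of_le_of_lt (Nat.pow_le_pow_right (by norm_num) (by omega)) hbound)
  refine blichfeldt_sixty ρ (fun v hv => ?_) (x := z ^ δ) (fun h => ?_) bs (fun i => μ i ^ δ)
    (hbsj δ) i₀ (fun i => hclose _ (hT ▸ Finset.mem_image_of_mem μ (Finset.mem_univ i)))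
  · -- no fixed vectors
    have hir : Cfsg.classInner (χ : G → ℂ) (fun _ => 1) = 0 :=
      Char.classInner_irr_ne χ.2 Char.isIrrCharacter_one (fun h => hχ1 (Subtype.ext h))
    have htr := (Representation.isProj_averageMap ρ).trace
    have h0 : Module.finrank ℂ (Representation.invariants ρ) = 0 := by
      have e : LinearMap.trace ℂ (Fin m → ℂ) (Representation.averageMap ρ) =
          Cfsg.classInner (χ : G → ℂ) (fun _ => 1) := by
        simp [Cfsg.classInner, GroupAlgebra.average, Representation.averageMap, map_sum,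
          ← hρ, Representation.character]
      rw [e, hir] at htr
      exact_mod_cast htr.symm
    have : v ∈ Representation.invariants ρ := fun g => hv g
    rw [Submodule.finrank_eq_zero.1 h0, Submodule.mem_bot] at this
    exact this
  · rw [hcen, Subgroup.mem_bot] at h
    exact hδ (hz ▸ orderOf_dvd_of_pow_eq_one h)

end Cfsg.Agent.BlockChar
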