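import Cfsg.Agent.Char.NormalAbelianSylow
import Cfsg.Agent.Char.Clifford
import Cfsg.Agent.Char.TwoDegreesAbelian
import Cfsg.Agent.Core.Frattini
import Cfsg.Agent.Core.Fitting
import Cfsg.Agent.S4458
import Mathlib

/-!
Solvable groups with squarefree character degrees
-/

set_option autoImplicit false
set_option linter.style.haveILetI false
set_option linter.unusedSectionVars false

namespace Cfsg.Agent.SqfreeDeg

open Cfsg Cfsg.Agent
open scoped commutatorElement

universe u

/-- All character degrees are squarefree. -/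
def Hyp (G : Type u) [Group G] : Prop :=
  ∀ χ : IrrCharacter G, Squarefree (charDegree (χ : G → ℂ))

variable {G : Type u} [Group G] [Finite G]

theorem Hyp.normal (h : Hyp G) (N : Subgroup G) [N.Normal] : Hyp N := by
  intro θ
  classical
  letI := Fintype.ofFinite G
  letI := Fintype.ofFinite N
  obtain ⟨χ, hχ⟩ := Char.exists_over N θ
  obtain ⟨k, hk, -⟩ := ProjExt.exists_ratio_dvd_index χ.2 θ.2 hχ
  rw [Char.charDegree_spec', Char.charDegree_spec', ← Nat.cast_mul, Nat.cast_inj] at hk
  exact (h χ).squarefree_of_dvd (Dvd.intro_left k hk.symm)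

theorem Hyp.quotient (h : Hyp G) (N : Subgroup G) [N.Normal] : Hyp (G ⧸ N) := by
  intro θ
  have h' := h ⟨_, Char.isIrrCharacter_comp (QuotientGroup.mk' N) (QuotientGroup.mk'_surjective N) θ.2⟩
  have e : charDegree (fun g => (θ : G ⧸ N → ℂ) (QuotientGroup.mk' N g)) =
      charDegree (θ : G ⧸ N → ℂ) := by simp [charDegree]
  exact e ▸ h'

/-- The derived subgroup of a `p`-group with squarefree degrees is abelian. -/
theorem pgroup_derived_two {p : ℕ} [Fact p.Prime] (hG : IsPGroup p G) (h : Hyp G) :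
    derivedSeries G 2 = ⊥ := by
  classical
  letI := Fintype.ofFinite G
  have hcd : ∀ χ : IrrCharacter G,
      charDegree (χ : G → ℂ) = 1 ∨ charDegree (χ : G → ℂ) = p := by
    intro χ
    obtain ⟨a, ha⟩ := IsPGroup.iff_card.1 hG
    obtain ⟨n, -, hn⟩ := Char.IsIrr.degree χ.2
    have hd := Char.IsIrr.degree_dvd_card χ.2 hn
    rw [ha] at hd
    obtain ⟨j, -, hj⟩ := (Nat.dvd_prime_pow Fact.out).1 hd
    have hs := h χ
    rw [Blocks.charDegree_eq hn] at hs ⊢
    rcases j with _ | _ | j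
    · exact Or.inl (by rw [hj, pow_zero])
    · exact Or.inr (by rw [hj, zero_add, pow_one])
    · exfalso
      exact (Fact.out : p.Prime).not_isUnit (hs p ⟨p ^ j, by rw [hj]; ring⟩)
  by_cases hex : ∃ χ : IrrCharacter G, charDegree (χ : G → ℂ) = p
  · have hab := S4458.result p hcd hex (Fact.out : p.Prime).ne_one
    rw [derivedSeries_succ, derivedSeries_one, Subgroup.commutator_eq_bot_iff_le_centralizer]
    intro a ha
    rw [Subgroup.mem_centralizer_iff]
    exact fun b hb => hab b hb a ha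
  · push Not at hex
    rw [eq_bot_iff]
    refine (derivedSeries_antitone G (show 1 ≤ 2 by omega)).trans ?_
    rw [derivedSeries_one]
    intro g hg
    rw [Subgroup.mem_bot]
    refine Char.eq_one_of_forall_irr fun χ => ?_
    have h1 : (χ : G → ℂ) 1 = 1 := by
      rw [Char.charDegree_spec', (hcd χ).resolve_right (hex χ), Nat.cast_one]
    obtain ⟨f, hf⟩ := Char.IsChar.exists_hom (Char.IsIrr.isCharacter χ.2) h1
    rw [hf]
    simp [Char.hom_commutator_eq_one f hg]

/-- The Fitting subgroup is metabelian. -/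
theorem fitting_derived_two (h : Hyp G) : derivedSeries (fittingSubgroup G) 2 = ⊥ := by
  classical
  have hcomm : Pairwise fun p q : (Nat.card G).primeFactors =>
      ∀ x y : G, x ∈ pCore (p : ℕ) G → y ∈ pCore (q : ℕ) G → Commute x y := by
    intro p q hne x y hx hy
    have := Fact.mk (Nat.prime_of_mem_primeFactors p.2)
    have := Fact.mk (Nat.prime_of_mem_primeFactors q.2)
    exact Subgroup.commute_of_normal_of_disjoint _ _ inferInstance inferInstance
      (IsPGroup.disjoint_of_ne (p : ℕ) (q : ℕ) (Subtype.coe_injective.ne hne) _ _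
        Core.pCore_isPGroup Core.pCore_isPGroup) x y hx hy
  let φ := Subgroup.noncommPiCoprod (H := fun p : (Nat.card G).primeFactors => pCore (p : ℕ) G) hcomm
  have hr : φ.range = fittingSubgroup G := by
    rw [Subgroup.noncommPiCoprod_range, Core.fittingSubgroup_eq_iSup_pCore,
      Core.iSup_pCore_eq_iSup_primeFactors]
  have h0 : derivedSeries (∀ p : (Nat.card G).primeFactors, ↥(pCore (p : ℕ) G)) 2 = ⊥ := by
    rw [eq_bot_iff]
    intro x hx
    rw [Subgroup.mem_bot]
    funext p
    have := Fact.mk (Nat.prime_of_mem_primeFactors p.2)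
    haveI : (pCore (p : ℕ) G).Normal := inferInstance
    have h2 := pgroup_derived_two (p := (p : ℕ)) Core.pCore_isPGroup (h.normal (pCore (p : ℕ) G))
    have h3 := map_derivedSeries_le_derivedSeries
      (Pi.evalMonoidHom (fun p : (Nat.card G).primeFactors => ↥(pCore (p : ℕ) G)) p) 2 ⟨x, hx, rfl⟩
    rwa [h2, Subgroup.mem_bot] at h3
  rw [← hr, ← map_derivedSeries_eq φ.rangeRestrict_surjective 2, h0, Subgroup.map_bot]

section Orbits

variable {V : Subgroup G} [V.Normal]

/-- Conjugation of linear characters. -/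
def conjHom (g : G) (l : V →* ℂˣ) : V →* ℂˣ :=
  l.comp (MulAut.conjNormal g : MulAut V).toMonoidHom

theorem conjHom_mul (x y : G) (l : V →* ℂˣ) : conjHom (x * y) l = conjHom y (conjHom x l) :=
  MonoidHom.ext fun v => congrArg l (by rw [map_mul]; rfl)

theorem conjHom_one (l : V →* ℂˣ) : conjHom (1 : G) l = l :=
  MonoidHom.ext fun v => congrArg l (by rw [map_one]; rfl)

theorem conjHom_mul_hom (g : G) (l m : V →* ℂˣ) :
    conjHom g (l * m) = conjHom g l * conjHom g m := rfl

/-- The stabiliser of a linear character. -/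
def stab (l : V →* ℂˣ) : Subgroup G where
  carrier := {g | conjHom g l = l}
  one_mem' := conjHom_one l
  mul_mem' := fun {a b} (ha : conjHom a l = l) (hb : conjHom b l = l) =>
    show conjHom (a * b) l = l by rw [conjHom_mul, ha, hb]
  inv_mem' := fun {a} (ha : conjHom a l = l) => by
    show conjHom a⁻¹ l = l
    conv_lhs => rw [← ha]
    rw [← conjHom_mul, mul_inv_cancel, conjHom_one]

theorem mem_stab {l : V →* ℂˣ} {g : G} : g ∈ stab l ↔ conjHom g l = l := Iff.rfl

theorem stab_index_sqfree (h : Hyp G) (l : V →* ℂˣ) : Squarefree (stab l).index := by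
  classical
  letI := Fintype.ofFinite G
  letI := Fintype.ofFinite V
  obtain ⟨θ, hθ⟩ : ∃ θ : IrrCharacter V, (θ : V → ℂ) = fun v => (l v : ℂ) :=
    ⟨⟨_, Char.isIrrCharacter_hom l⟩, rfl⟩
  obtain ⟨χ, hχ⟩ := Char.exists_over V θ
  have hd := Char.degree_eq_of_clifford χ.2 θ.2 hχ
  obtain ⟨e, he⟩ := Char.classInner_isCharacter_eq_natCast
    (Char.isCharacter_res V (Char.IsIrr.isCharacter χ.2)) (Char.IsIrr.isCharacter θ.2)
  rw [he, Char.charDegree_spec', Char.charDegree_spec',
    show charDegree (θ : V → ℂ) = 1 from Blocks.charDegree_eq (by simp [hθ]),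
    Nat.cast_one, mul_one, ← Nat.cast_mul, Nat.cast_inj] at hd
  have hI : Char.inertia (G := G) (θ : V → ℂ) = stab l := by
    ext g
    rw [Char.mem_inertia, mem_stab, hθ]
    exact ⟨fun e => MonoidHom.ext fun v => Units.ext (congrFun e v),
      fun e => funext fun v => congrArg Units.val (DFunLike.congr_fun e v)⟩
  rw [← hI]
  exact (h χ).squarefree_of_dvd (Dvd.intro_left e hd.symm)

/-- The linear characters killing the `p`-elements. -/
def PPrime (p : ℕ) (l : V →* ℂˣ) : Prop := ∀ v : V, (∃ k, orderOf v = p ^ k) → l v = 1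

theorem eq_one_of_pow {p : ℕ} [Fact p.Prime] {l : V →* ℂˣ} (hl : PPrime p l)
    (h : ∀ v, l v ^ p = 1) :
    l = 1 := by
  ext v
  obtain ⟨a, o, ho, hord⟩ :=
    Nat.exists_eq_pow_mul_and_not_dvd (orderOf_pos v).ne' p (Fact.out : p.Prime).ne_one
  have h1 : l v ^ o = 1 := by
    rw [← map_pow]
    refine hl _ ?_
    obtain ⟨j, -, hj⟩ := (Nat.dvd_prime_pow Fact.out).1 (orderOf_dvd_of_pow_eq_one
      (show (v ^ o) ^ p ^ a = 1 by rw [← pow_mul, mul_comm, ← hord, pow_orderOf_eq_one]))
    exact ⟨j, hj⟩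
  have h2 : l v ^ p = 1 := h v
  have h3 : l v ^ Nat.gcd p o = 1 := pow_gcd_eq_one.2 ⟨h2, h1⟩
  rw [((Fact.out : p.Prime).coprime_iff_not_dvd.2 ho).gcd_eq_one, pow_one] at h3
  rw [h3]; rfl

/-- The normal `p`-extensions fix all `p'`-characters up to index `p`. -/
theorem exists_fixing {p : ℕ} [Fact p.Prime] (hGV : IsPGroup p (G ⧸ V))
    (hVc : ∀ a ∈ V, ∀ b ∈ V, a * b = b * a) (h : Hyp G) :
    ∃ T : Subgroup G, T.index ∣ p ∧ ∀ t ∈ T, ∀ l : V →* ℂˣ, PPrime p l → conjHom t l = l := by
  classical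
  have hp := (Fact.out : p.Prime)
  have hle : ∀ l : V →* ℂˣ, V ≤ stab l := fun l v hv => MonoidHom.ext fun w => congrArg l
    (Subtype.ext (show v * (w : G) * v⁻¹ = w by rw [hVc v hv w w.2, mul_inv_cancel_right]))
  have hidx : ∀ l : V →* ℂˣ, (stab l).index ∣ p := by
    intro l
    obtain ⟨n, hn⟩ := IsPGroup.iff_card.1 hGV
    have hd := Subgroup.index_dvd_of_le (hle l)
    rw [Subgroup.index_eq_card V, hn] at hd
    obtain ⟨j, -, hj⟩ := (Nat.dvd_prime_pow hp).1 hd
    have hs := stab_index_sqfree h l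
    rw [hj] at hs ⊢
    rcases j with _ | _ | j
    · rw [pow_zero]; exact one_dvd _
    · rw [zero_add, pow_one]
    · exact absurd (hs p ⟨p ^ j, by ring⟩) hp.not_isUnit
  have hnorm : ∀ l : V →* ℂˣ, (stab l).Normal := by
    intro l
    rcases (Nat.dvd_prime hp).1 (hidx l) with h1 | h1
    · rw [Subgroup.index_eq_one.1 h1]; infer_instance
    · obtain ⟨S, hS⟩ : ∃ S, (stab l).map (QuotientGroup.mk' V) = S := ⟨_, rfl⟩
      have hSi : S.index = p := by
        rw [← hS, Subgroup.index_map_eq _ (QuotientGroup.mk'_surjective V)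
          (by rw [QuotientGroup.ker_mk']; exact hle l), h1]
      have hScoat : IsCoatom S := by
        refine ⟨fun e => hp.ne_one (by rw [← hSi, e, Subgroup.index_top]), fun U hU => ?_⟩
        have h2 := Subgroup.relIndex_mul_index hU.le
        rw [hSi] at h2
        rcases (Nat.dvd_prime hp).1 (Dvd.intro_left _ h2) with h3 | h3
        · exact Subgroup.index_eq_one.1 h3
        · rw [h3] at h2
          exact absurd (Subgroup.relIndex_eq_one.1
            (Nat.eq_of_mul_eq_mul_right hp.pos (h2.trans (one_mul p).symm))) hU.not_ge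
      have hSc : S.Normal := (Core.index_eq_of_isCoatom hGV hScoat).1
      have e : stab l = S.comap (QuotientGroup.mk' V) := by
        rw [← hS, Subgroup.comap_map_eq, QuotientGroup.ker_mk', sup_eq_left.2 (hle l)]
      rw [e]; exact hSc.comap _
  by_cases hall : ∀ l : V →* ℂˣ, PPrime p l → stab l = ⊤
  · exact ⟨⊤, by rw [Subgroup.index_top]; exact one_dvd _,
      fun t _ l hl => mem_stab.1 ((hall l hl).symm ▸ Subgroup.mem_top t)⟩
  push Not at hall
  obtain ⟨l, hl, hltop⟩ := hall
  refine ⟨stab l, hidx l, fun a ha m hm => ?_⟩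
  by_contra ham
  have hli : (stab l).index = p := ((Nat.dvd_prime hp).1 (hidx l)).resolve_left
    fun e => hltop (Subgroup.index_eq_one.1 e)
  obtain ⟨b, hb, hbl⟩ : ∃ b ∈ stab m, b ∉ stab l := by
    by_contra hno
    push Not at hno
    have hmi : (stab m).index = p := ((Nat.dvd_prime hp).1 (hidx m)).resolve_left fun e =>
      ham (mem_stab.1 ((Subgroup.index_eq_one.1 e).symm ▸ Subgroup.mem_top a))
    have hle' : stab m ≤ stab l := hno
    have h1 := Subgroup.relIndex_mul_index hle'
    rw [hli, hmi] at h1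
    have heq : stab m = stab l := le_antisymm hle' (Subgroup.relIndex_eq_one.1
      (Nat.eq_of_mul_eq_mul_right hp.pos (by rw [h1, one_mul])))
    exact ham (mem_stab.1 (heq.ge ha))
  have haν : a ∉ stab (l * m) := fun e => ham (by
    have e' := mem_stab.1 e
    rw [conjHom_mul_hom, mem_stab.1 ha] at e'
    exact mul_left_cancel e')
  have hνi : (stab (l * m)).index = p := ((Nat.dvd_prime hp).1 (hidx _)).resolve_left fun e =>
    haν ((Subgroup.index_eq_one.1 e).symm ▸ Subgroup.mem_top a)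
  haveI := hnorm (l * m)
  obtain ⟨i, hi⟩ : ∃ i : ℤ, a ^ i * b ∈ stab (l * m) := by
    have hcard : Nat.card (G ⧸ stab (l * m)) = p := by rw [← Subgroup.index_eq_card, hνi]
    haveI := Fact.mk hp
    have hgen : (b⁻¹ : G ⧸ stab (l * m)) ∈ Subgroup.zpowers (a : G ⧸ stab (l * m)) :=
      mem_zpowers_of_prime_card hcard fun e => haν ((QuotientGroup.eq_one_iff a).1 e)
    obtain ⟨i, hi⟩ := hgen
    refine ⟨i, (QuotientGroup.eq_one_iff _).1 ?_⟩
    rw [QuotientGroup.mk_mul, QuotientGroup.mk_zpow]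
    rw [show (a : G ⧸ stab (l * m)) ^ i = (b : G ⧸ stab (l * m))⁻¹ from hi, inv_mul_cancel]
  obtain ⟨x, hx⟩ : ∃ x, a ^ i = x := ⟨_, rfl⟩
  rw [hx] at hi
  have hxl : x ∈ stab l := hx ▸ Subgroup.zpow_mem _ ha i
  have hbx : conjHom b (conjHom x m) = conjHom x m := by
    haveI := hnorm m
    have : x * b * x⁻¹ ∈ stab m := Subgroup.Normal.conj_mem inferInstance b hb x
    rw [← conjHom_mul, show x * b = x * b * x⁻¹ * x by group, conjHom_mul, mem_stab.1 this]
  have key : conjHom b l * conjHom x m = l * m := by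
    have e := mem_stab.1 hi
    rw [conjHom_mul, conjHom_mul_hom, conjHom_mul_hom, mem_stab.1 hxl, hbx] at e
    exact e
  obtain ⟨d, hd⟩ : ∃ d, m * (conjHom x m)⁻¹ = d := ⟨_, rfl⟩
  have hbl' : conjHom b l = l * d := by
    rw [← hd]
    ext v
    have e := congrArg Units.val (DFunLike.congr_fun key v)
    simp only [MonoidHom.mul_apply, Units.val_mul, MonoidHom.inv_apply] at e ⊢
    rw [← mul_assoc, ← e, mul_assoc, Units.mul_inv, mul_one]
  have hdfix : ∀ v, d ((MulAut.conjNormal b : MulAut V) v) = d v := by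
    intro v
    have e1 : m ((MulAut.conjNormal b : MulAut V) v) = m v := DFunLike.congr_fun (mem_stab.1 hb) v
    have e2 : conjHom x m ((MulAut.conjNormal b : MulAut V) v) = conjHom x m v :=
      DFunLike.congr_fun hbx v
    rw [← hd]
    simp only [MonoidHom.mul_apply, MonoidHom.inv_apply, e1, e2]
  have hpow : ∀ (n : ℕ) (v : V), conjHom (b ^ n) l v = l v * d v ^ n := by
    intro n
    induction n with
    | zero => intro v; rw [pow_zero, conjHom_one, pow_zero, mul_one]
    | succ n ih =>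
      intro v
      rw [pow_succ, conjHom_mul]
      show conjHom (b ^ n) l ((MulAut.conjNormal b : MulAut V) v) = _
      rw [ih, hdfix, show l ((MulAut.conjNormal b : MulAut V) v) = l v * d v from
        DFunLike.congr_fun hbl' v, pow_succ', mul_assoc]
  have hbp : b ^ p ∈ stab l := by
    haveI := hnorm l
    rw [← hli]
    exact Subgroup.pow_index_mem _ _
  have hd1 : d = 1 := by
    refine eq_one_of_pow (p := p) (fun v hv => ?_) ?_
    · rw [← hd, MonoidHom.mul_apply, MonoidHom.inv_apply, hm v hv]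
      have hv' : ∃ k, orderOf ((MulAut.conjNormal x : MulAut V) v) = p ^ k := by
        rw [MulEquiv.orderOf_eq]; exact hv
      rw [show conjHom x m v = 1 from hm _ hv', inv_one, mul_one]
    · intro v
      have e := (hpow p v).symm.trans (DFunLike.congr_fun (mem_stab.1 hbp) v)
      exact mul_left_cancel (e.trans (mul_one (l v)).symm)
  refine hbl (mem_stab.2 ?_)
  ext v
  rw [hbl', hd1, MonoidHom.mul_apply, MonoidHom.one_apply, mul_one]

end Orbits

/-- Normal `p`-extensions of a self-centralizing abelian Fitting subgroup have index at most `p`. -/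
theorem relIndex_dvd [Group.IsSolvable G] (h : Hyp G) {p : ℕ} [Fact p.Prime]
    (hVc : ∀ a ∈ fittingSubgroup G, ∀ b ∈ fittingSubgroup G, a * b = b * a) (R : Subgroup G)
    [R.Normal] (hVR : fittingSubgroup G ≤ R)
    (hR : IsPGroup p (R ⧸ (fittingSubgroup G).subgroupOf R)) :
    (fittingSubgroup G).relIndex R ∣ p := by
  classical
  obtain ⟨V, hV⟩ : ∃ V, fittingSubgroup G = V := ⟨_, rfl⟩
  rw [hV] at hVc hVR ⊢
  haveI : V.Normal := hV ▸ inferInstance
  obtain ⟨T, hTi, hT⟩ := exists_fixing (G := R) (V := V.subgroupOf R) (p := p)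
    (hV ▸ hR) (fun a ha b hb => Subtype.ext (hVc _ ha _ hb)) (h.normal R)
  obtain ⟨W, hW⟩ : ∃ W : Subgroup G, R ⊓ Subgroup.centralizer {v : G | v ∈ V ∧ ¬ p ∣ orderOf v} = W :=
    ⟨_, rfl⟩
  haveI hWn : W.Normal := hW ▸ by
    haveI : (Subgroup.centralizer {v : G | v ∈ V ∧ ¬ p ∣ orderOf v}).Normal := by
      refine ⟨fun x hx g => ?_⟩
      rw [Subgroup.mem_centralizer_iff] at hx ⊢
      rintro v ⟨hv, hvo⟩
      have hw : g⁻¹ * v * g ∈ {v : G | v ∈ V ∧ ¬ p ∣ orderOf v} := by
        refine ⟨by simpa using (inferInstance : V.Normal).conj_mem v hv g⁻¹, ?_⟩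
        rwa [show orderOf (g⁻¹ * v * g) = orderOf v by
          simpa using (MulEquiv.orderOf_eq (MulAut.conj g⁻¹) v)]
      have e := hx _ hw
      calc v * (g * x * g⁻¹) = g * ((g⁻¹ * v * g) * x) * g⁻¹ := by group
        _ = g * (x * (g⁻¹ * v * g)) * g⁻¹ := by rw [e]
        _ = _ := by group
    infer_instance
  have hVW : V ≤ W := fun v hv => hW ▸ Subgroup.mem_inf.2 ⟨hVR hv,
    Subgroup.mem_centralizer_iff.2 fun w hw => hVc w hw.1 v hv⟩
  have hTW : T.map R.subtype ≤ W := by
    rintro _ ⟨t, ht, rfl⟩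
    refine hW ▸ Subgroup.mem_inf.2 ⟨t.2, Subgroup.mem_centralizer_iff.2 ?_⟩
    rintro v ⟨hv, hvo⟩
    obtain ⟨w, hw⟩ : ∃ w : V.subgroupOf R, ((w : R) : G) = v := ⟨⟨⟨v, hVR hv⟩, hv⟩, rfl⟩
    obtain ⟨c, hc⟩ : ∃ c, (MulAut.conjNormal t : MulAut (V.subgroupOf R)) w * w⁻¹ = c := ⟨_, rfl⟩
    have hcomm : ∀ a b : V.subgroupOf R, a * b = b * a := fun a b =>
      Subtype.ext (Subtype.ext (hVc _ a.2 _ b.2))
    let Pp : Subgroup (V.subgroupOf R) :=
      { carrier := {z | ∃ k, orderOf z = p ^ k}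
        one_mem' := ⟨0, by rw [orderOf_one, pow_zero]⟩
        mul_mem' := fun {x y} ⟨i, hi⟩ ⟨j, hj⟩ => by
          obtain ⟨k, -, hk⟩ := (Nat.dvd_prime_pow Fact.out).1 (show orderOf (x * y) ∣ p ^ (i + j) by
            rw [pow_add, ← hi, ← hj]
            exact (Commute.orderOf_mul_dvd_lcm (hcomm x y)).trans (Nat.lcm_dvd_mul _ _))
          exact ⟨k, hk⟩
        inv_mem' := fun {x} ⟨i, hi⟩ => ⟨i, by rw [orderOf_inv, hi]⟩ }
    have hcP : c ∈ Pp := by
      by_contra hcP
      obtain ⟨l, hl1, hl2⟩ := Char.exists_hom_ne_one_of_not_mem hcomm Pp hcP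
      apply hl2
      have e := DFunLike.congr_fun (hT t ht l fun z hz => hl1 z hz) w
      rw [← hc, map_mul, map_inv]
      exact mul_inv_eq_one.2 e
    obtain ⟨k, hk⟩ := hcP
    have hwo : orderOf w = orderOf v := by
      rw [← hw, ← Subgroup.orderOf_coe w, ← Subgroup.orderOf_coe (w : R)]
    have hcd : orderOf c ∣ orderOf w := by
      refine orderOf_dvd_of_pow_eq_one ?_
      rw [← hc, Commute.mul_pow (hcomm _ _), ← map_pow, inv_pow, pow_orderOf_eq_one,
        map_one, inv_one, mul_one]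
    rw [hk, hwo] at hcd
    have hk0 : k = 0 := by
      by_contra hk0
      exact hvo ((dvd_pow_self p hk0).trans hcd)
    rw [hk0, pow_zero, orderOf_eq_one_iff, ← hc, mul_inv_eq_one] at hk
    have e : (t : G) * v * (t : G)⁻¹ = v := by
      rw [← hw]
      exact congrArg (fun z : V.subgroupOf R => ((z : R) : G)) hk
    exact (mul_inv_eq_iff_eq_mul.1 e).symm
  have hWnil : Group.IsNilpotent W := by
    haveI : IsPGroup p (W ⧸ Subgroup.center W) → Group.IsNilpotent (W ⧸ Subgroup.center W) :=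
      fun hh => hh.isNilpotent
    refine Group.of_quotient_center_nilpotent (this ?_)
    intro q
    obtain ⟨x, rfl⟩ := QuotientGroup.mk_surjective q
    have hxR : (x : G) ∈ R := (Subgroup.mem_inf.1 (hW.ge x.2)).1
    obtain ⟨a, o, ho, hord⟩ :=
      Nat.exists_eq_pow_mul_and_not_dvd (orderOf_pos x).ne' p (Fact.out : p.Prime).ne_one
    refine ⟨a, ?_⟩
    rw [← QuotientGroup.mk_pow, QuotientGroup.eq_one_iff]
    have ho' : ¬ p ∣ orderOf ((x : G) ^ p ^ a) := fun hd => ho (hd.trans
      (orderOf_dvd_of_pow_eq_one (by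
        rw [← pow_mul, ← hord, ← Subgroup.orderOf_coe, pow_orderOf_eq_one])))
    have hV' : (x : G) ^ p ^ a ∈ V := by
      obtain ⟨j, hj⟩ := (hV ▸ hR : IsPGroup p (R ⧸ V.subgroupOf R))
        ((⟨(x : G) ^ p ^ a, pow_mem hxR _⟩ : R) : R ⧸ V.subgroupOf R)
      rw [← QuotientGroup.mk_pow, QuotientGroup.eq_one_iff, Subgroup.mem_subgroupOf] at hj
      obtain ⟨y, hy⟩ : ∃ y, (x : G) ^ p ^ a = y := ⟨_, rfl⟩
      rw [hy] at ho' ⊢
      have hj' : y ^ p ^ j ∈ V := by simpa [hy] using hj
      have hcop : Nat.Coprime (p ^ j) (orderOf y) :=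
        ((Fact.out : p.Prime).coprime_iff_not_dvd.2 ho').pow_left j
      obtain ⟨i, hi⟩ := exists_pow_eq_self_of_coprime hcop
      rw [← hi]; exact pow_mem hj' i
    rw [Subgroup.mem_center_iff]
    intro z
    exact Subtype.ext ((Subgroup.mem_centralizer_iff.1 (Subgroup.mem_inf.1 (hW.ge z.2)).2 _
      ⟨hV', ho'⟩).symm)
  have hWV : W ≤ V := hV ▸ Core.le_fittingSubgroup hWnil
  have hTV : T ≤ V.subgroupOf R := fun t ht => hWV (hTW ⟨t, ht, rfl⟩)
  exact (Subgroup.index_dvd_of_le hTV).trans hTi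

/-- A solvable group whose `p`-cores have order dividing `p` is metabelian. -/
theorem derived_two_of_cores [Group.IsSolvable G]
    (h : ∀ p : ℕ, p.Prime → Nat.card (pCore p G) ∣ p) : derivedSeries G 2 = ⊥ := by
  classical
  have hcyc : ∀ p : ℕ, p.Prime → IsCyclic (pCore p G) := by
    intro p hp
    haveI := Fact.mk hp
    rcases (Nat.dvd_prime hp).1 (h p hp) with h1 | h1
    · haveI := (Nat.card_eq_one_iff_unique.1 h1).1
      infer_instance
    · exact isCyclic_of_prime_card h1
  have hcomm : ∀ p : ℕ, p.Prime → commutator G ≤ Subgroup.centralizer (pCore p G : Set G) := by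
    intro p hp
    haveI := Fact.mk hp
    haveI := hcyc p hp
    have hab : ∀ a b : MulAut (pCore p G), a * b = b * a := fun a b =>
      (IsCyclic.mulAutMulEquiv (pCore p G)).injective (by rw [map_mul, map_mul, mul_comm])
    obtain ⟨φ, hφ⟩ : ∃ φ : G →* MulAut (pCore p G), φ = MulAut.conjNormal := ⟨_, rfl⟩
    have hker : commutator G ≤ φ.ker := by
      rw [commutator_def, Subgroup.commutator_le]
      intro a _ b _
      rw [MonoidHom.mem_ker, map_commutatorElement, commutatorElement_eq_one_iff_mul_comm]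
      exact hab _ _
    intro g hg
    rw [Subgroup.mem_centralizer_iff]
    intro v hv
    have e := congrArg Subtype.val (DFunLike.congr_fun (MonoidHom.mem_ker.1 (hker hg) : φ g = 1) ⟨v, hv⟩)
    rw [hφ] at e
    have e' : g * v * g⁻¹ = v := e
    exact (mul_inv_eq_iff_eq_mul.1 e').symm
  have hFc : ∀ p : ℕ, p.Prime → fittingSubgroup G ≤ Subgroup.centralizer (pCore p G : Set G) := by
    intro p hp
    rw [Core.fittingSubgroup_eq_iSup_pCore]
    refine iSup_le fun q => ?_
    intro x hx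
    rw [Subgroup.mem_centralizer_iff]
    intro y hy
    haveI := Fact.mk hp
    haveI := Fact.mk q.2
    by_cases hpq : p = (q : ℕ)
    · subst hpq
      haveI := hcyc _ q.2
      letI := IsCyclic.commGroup (α := pCore (q : ℕ) G)
      exact congrArg Subtype.val (mul_comm (⟨y, hy⟩ : pCore (q : ℕ) G) ⟨x, hx⟩)
    · exact Subgroup.commute_of_normal_of_disjoint _ _ inferInstance inferInstance
        (IsPGroup.disjoint_of_ne p (q : ℕ) hpq _ _ Core.pCore_isPGroup Core.pCore_isPGroup) y x hy hx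
  have hcF : ∀ H : Subgroup G, (∀ p : ℕ, p.Prime → H ≤ Subgroup.centralizer (pCore p G : Set G)) →
      H ≤ Subgroup.centralizer (fittingSubgroup G : Set G) := by
    intro H hH
    rw [Subgroup.le_centralizer_iff, Core.fittingSubgroup_eq_iSup_pCore]
    exact iSup_le fun q => Subgroup.le_centralizer_iff.1 (hH q q.2)
  have hFF := hcF _ hFc
  have hle : commutator G ≤ fittingSubgroup G :=
    (hcF _ hcomm).trans Core.centralizer_fittingSubgroup_le
  rw [derivedSeries_succ, derivedSeries_one, Subgroup.commutator_eq_bot_iff_le_centralizer]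
  exact hle.trans (hFF.trans (Subgroup.centralizer_le hle))

/-- The second derived subgroup lies in the Fitting subgroup. -/
theorem derived_two_le_fitting [Group.IsSolvable G] (h : Hyp G) :
    derivedSeries G 2 ≤ fittingSubgroup G := by
  classical
  obtain ⟨D, hD⟩ : ∃ D, frattini G = D := ⟨_, rfl⟩
  haveI : D.Normal := hD ▸ inferInstance
  have hDle : D ≤ frattini G := hD.ge
  have hmap := Core.map_fittingSubgroup_frattini hDle
  have hVc : ∀ a ∈ fittingSubgroup (G ⧸ D), ∀ b ∈ fittingSubgroup (G ⧸ D), a * b = b * a := by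
    rw [← hmap]
    rintro _ ⟨a, ha, rfl⟩ _ ⟨b, hb, rfl⟩
    rw [← commutatorElement_eq_one_iff_mul_comm, ← map_commutatorElement, QuotientGroup.mk'_apply,
      QuotientGroup.eq_one_iff]
    refine hD ▸ Core.frattini_le_of_normal (fittingSubgroup G) ?_
    refine ⟨⁅(⟨a, ha⟩ : fittingSubgroup G), ⟨b, hb⟩⁆, Core.commutator_le_frattini ?_, rfl⟩
    rw [commutator_def]
    exact Subgroup.commutator_mem_commutator (Subgroup.mem_top _) (Subgroup.mem_top _)
  obtain ⟨V, hV⟩ : ∃ V, fittingSubgroup (G ⧸ D) = V := ⟨_, rfl⟩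
  haveI : V.Normal := hV ▸ inferInstance
  have hH : derivedSeries ((G ⧸ D) ⧸ V) 2 = ⊥ := by
    refine derived_two_of_cores fun p hp => ?_
    haveI := Fact.mk hp
    obtain ⟨R, hR⟩ : ∃ R, (pCore p ((G ⧸ D) ⧸ V)).comap (QuotientGroup.mk' V) = R := ⟨_, rfl⟩
    haveI : R.Normal := hR ▸ (inferInstance : (pCore p ((G ⧸ D) ⧸ V)).Normal).comap _
    have hVR : V ≤ R := fun v hv => by
      rw [← hR, Subgroup.mem_comap, QuotientGroup.mk'_apply, (QuotientGroup.eq_one_iff v).2 hv]
      exact one_mem _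
    have hRp : IsPGroup p (R ⧸ V.subgroupOf R) := by
      intro q
      obtain ⟨x, rfl⟩ := QuotientGroup.mk_surjective q
      have hx : ((x : G ⧸ D) : (G ⧸ D) ⧸ V) ∈ pCore p ((G ⧸ D) ⧸ V) := hR.ge x.2
      obtain ⟨k, hk⟩ := Core.pCore_isPGroup (p := p) (G := (G ⧸ D) ⧸ V) ⟨_, hx⟩
      refine ⟨k, ?_⟩
      rw [← QuotientGroup.mk_pow, QuotientGroup.eq_one_iff, Subgroup.mem_subgroupOf,
        ← QuotientGroup.eq_one_iff]
      exact congrArg Subtype.val hk
    have hd : V.relIndex R ∣ p := by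
      subst hV
      exact relIndex_dvd (h.quotient D) hVc R hVR hRp
    have hmapR : R.map (QuotientGroup.mk' V) = pCore p ((G ⧸ D) ⧸ V) := by
      rw [← hR, Subgroup.map_comap_eq_self_of_surjective (QuotientGroup.mk'_surjective V)]
    rw [← hmapR]
    have : Nat.card (R.map (QuotientGroup.mk' V)) = V.relIndex R := by
      rw [← MonoidHom.restrict_range, ← Subgroup.index_ker, MonoidHom.ker_restrict,
        QuotientGroup.ker_mk']
      rfl
    rw [this]; exact hd
  intro g hg
  have h1 := map_derivedSeries_le_derivedSeries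
    ((QuotientGroup.mk' V).comp (QuotientGroup.mk' D)) 2 ⟨g, hg, rfl⟩
  rw [hH, Subgroup.mem_bot] at h1
  have h2 : (g : G ⧸ D) ∈ V := (QuotientGroup.eq_one_iff _).1 h1
  rw [← hV, ← hmap] at h2
  obtain ⟨f, hf, hfg⟩ := h2
  have h3 : f⁻¹ * g ∈ D := QuotientGroup.eq.1 hfg
  have h4 := mul_mem hf (Core.frattini_le_fittingSubgroup (hD ▸ h3))
  rwa [mul_inv_cancel_left] at h4

/-- The derived length is at most four. -/
theorem derived_four [Group.IsSolvable G] (h : Hyp G) : derivedSeries G 4 = ⊥ := by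
  have h2 := derived_two_le_fitting h
  have hF := fitting_derived_two h
  obtain ⟨F, hF'⟩ : ∃ F, fittingSubgroup G = F := ⟨_, rfl⟩
  rw [hF'] at h2 hF
  have h3 : derivedSeries G 3 ≤ (derivedSeries F 1).map F.subtype := by
    rw [derivedSeries_one, commutator_def, Subgroup.map_commutator,
      ← MonoidHom.range_eq_map, Subgroup.range_subtype, derivedSeries_succ G 2]
    exact Subgroup.commutator_mono h2 h2
  rw [eq_bot_iff, derivedSeries_succ G 3, ← Subgroup.map_bot F.subtype, ← hF,
    derivedSeries_succ F 1, Subgroup.map_commutator]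
  exact Subgroup.commutator_mono h3 h3

end Cfsg.Agent.SqfreeDeg
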