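import Cfsg.Agent.BlockThms.Kulshammer
import Cfsg.Agent.BlockChar.Nilpotent

/-!
# The Brauer map sends the principal block idempotent to the principal block idempotent

By Külshammer's congruence both coefficients are quotients of counts of elements and of pairs
of elements, and a p-subgroup fixes modulo `p` the same numbers.
-/

namespace Cfsg.Agent.BlockChar

open scoped ComplexConjugate
open Cfsg.Agent Cfsg.Agent.Blocks

universe u

variable {G : Type u} [Group G] [Finite G] {p : ℕ} {M : Ideal Cfsg.AlgInt}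

theorem card_modEq_fixed (hp : p.Prime) (Q : Subgroup G) (hQ : IsPGroup p Q) (P : G → Prop)
    (hP : ∀ u ∈ Q, ∀ y, P y → P (u * y * u⁻¹)) :
    Nat.card {y : G // P y} ≡
      Nat.card {c : Subgroup.centralizer (Q : Set G) // P c} [MOD p] := by
  haveI := Fact.mk hp
  letI : MulAction Q {y : G // P y} :=
    { smul := fun u y => ⟨(u : G) * y.1 * (u : G)⁻¹, hP u u.2 y.1 y.2⟩
      one_smul := fun y => Subtype.ext (by
        show ((1 : Q) : G) * y.1 * ((1 : Q) : G)⁻¹ = y.1
        simp)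
      mul_smul := fun u v y => Subtype.ext (by
        show ((u * v : Q) : G) * y.1 * ((u * v : Q) : G)⁻¹ =
          (u : G) * ((v : G) * y.1 * (v : G)⁻¹) * (u : G)⁻¹
        simp [mul_assoc]) }
  refine (hQ.card_modEq_card_fixedPoints {y : G // P y}).trans ?_
  refine (congrArg (· % p) ?_ : _ % p = _ % p)
  exact Nat.card_congr
    { toFun := fun y => ⟨⟨y.1.1, Subgroup.mem_centralizer_iff.2 fun u hu =>
        mul_inv_eq_iff_eq_mul.1 (congrArg Subtype.val (y.2 ⟨u, hu⟩))⟩, y.1.2⟩
      invFun := fun c => ⟨⟨c.1.1, c.2⟩, fun u => Subtype.ext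
        (mul_inv_eq_iff_eq_mul.2 ((Subgroup.mem_centralizer_iff.1 c.1.2) u u.2))⟩
      left_inv := fun _ => rfl
      right_inv := fun _ => rfl }

/-- `Br_Q (e_{B₀}) = e_{B₀(C(Q))}` modulo `M`. -/
theorem blockCoeff_principal_congr (hM : Cfsg.IsPModular p M) (Q : Subgroup G) (hQ : IsPGroup p Q)
    (c : Subgroup.centralizer (Q : Set G)) :
    Cfsg.MemLocalIdeal M (Cfsg.blockCoeff (Cfsg.principalBlock M G) (c : G) -
      Cfsg.blockCoeff (Cfsg.principalBlock M ↥(Subgroup.centralizer (Q : Set G))) c) := by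
  classical
  have := Fintype.ofFinite G
  haveI : Fintype (Subgroup.centralizer (Q : Set G)) := Fintype.ofFinite _
  by_cases hreg : Cfsg.IsPRegular p (c : G)
  swap
  · rw [blockCoeff_eq_zero hM (isPBlock_principalBlock M) hreg,
      blockCoeff_eq_zero hM (isPBlock_principalBlock M) (fun h => hreg (by
        rwa [Cfsg.IsPRegular, Subgroup.orderOf_coe])), sub_self]
    exact memLocalIdeal_zero hM
  have hregC : ¬ p ∣ orderOf c := by rwa [← Subgroup.orderOf_coe]
  set R := Nat.card {y : G // ¬ p ∣ orderOf y}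
  set R' := Nat.card {y : Subgroup.centralizer (Q : Set G) // ¬ p ∣ orderOf y}
  set N := Nat.card {xy : G × G //
    (∃ k : ℕ, orderOf xy.1 = p ^ k) ∧ ¬ p ∣ orderOf xy.2 ∧ xy.1 * xy.2 = (c : G)}
  set N' := Nat.card {xy : Subgroup.centralizer (Q : Set G) × Subgroup.centralizer (Q : Set G) //
    (∃ k : ℕ, orderOf xy.1 = p ^ k) ∧ ¬ p ∣ orderOf xy.2 ∧ xy.1 * xy.2 = c}
  have hord : ∀ (u y : G), orderOf (u * y * u⁻¹) = orderOf y := fun u y =>
    orderOf_injective (MulAut.conj u).toMonoidHom (MulAut.conj u).injective y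
  have hR : R ≡ R' [MOD p] := by
    refine (card_modEq_fixed hM.1 Q hQ (fun y => ¬ p ∣ orderOf y)
      (fun u _ y h => by rwa [hord])).trans ?_
    refine (congrArg (· % p) ?_ : _ % p = _ % p)
    exact Nat.card_congr (Equiv.subtypeEquivRight fun y => by rw [Subgroup.orderOf_coe])
  have hN : N ≡ N' [MOD p] := by
    have e : N = Nat.card {x : G //
        (∃ k : ℕ, orderOf x = p ^ k) ∧ ¬ p ∣ orderOf (x⁻¹ * (c : G))} := Nat.card_congr
      { toFun := fun xy => ⟨xy.1.1, xy.2.1, by
          rw [show xy.1.1⁻¹ * (c : G) = xy.1.2 from inv_mul_eq_iff_eq_mul.2 xy.2.2.2.symm]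
          exact xy.2.2.1⟩
        invFun := fun x => ⟨(x.1, x.1⁻¹ * (c : G)), x.2.1, x.2.2, mul_inv_cancel_left _ _⟩
        left_inv := fun xy => Subtype.ext (Prod.ext rfl (by
          exact inv_mul_eq_iff_eq_mul.2 xy.2.2.2.symm))
        right_inv := fun _ => rfl }
    rw [e]
    refine (card_modEq_fixed hM.1 Q hQ
      (fun x => (∃ k : ℕ, orderOf x = p ^ k) ∧ ¬ p ∣ orderOf (x⁻¹ * (c : G)))
      (fun u hu x ⟨h1, h2⟩ => ⟨by rwa [hord], ?_⟩)).trans ?_
    swap
    refine (congrArg (· % p) ?_ : _ % p = _ % p)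
    swap
    · have hcomm : u * (c : G) = (c : G) * u := (Subgroup.mem_centralizer_iff.1 c.2) u hu
      have e2 : (u * x * u⁻¹)⁻¹ * (c : G) = u * (x⁻¹ * (c : G)) * u⁻¹ := by
        calc (u * x * u⁻¹)⁻¹ * (c : G) = u * x⁻¹ * u⁻¹ * ((c : G) * u) * u⁻¹ := by group
          _ = u * x⁻¹ * u⁻¹ * (u * (c : G)) * u⁻¹ := by rw [hcomm]
          _ = u * (x⁻¹ * (c : G)) * u⁻¹ := by group
      rwa [e2, hord]
    · exact Nat.card_congr
        { toFun := fun x => ⟨(x.1, x.1⁻¹ * c), by simpa only [Subgroup.orderOf_coe] using x.2.1, by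
            have := x.2.2
            rwa [← Subgroup.coe_inv, ← Subgroup.coe_mul, Subgroup.orderOf_coe] at this,
            mul_inv_cancel_left _ _⟩
          invFun := fun xy => ⟨xy.1.1, by simpa only [Subgroup.orderOf_coe] using xy.2.1, by
            rw [← Subgroup.coe_inv, ← Subgroup.coe_mul, Subgroup.orderOf_coe,
              show xy.1.1⁻¹ * c = xy.1.2 from inv_mul_eq_iff_eq_mul.2 xy.2.2.2.symm]
            exact xy.2.2.1⟩
          left_inv := fun _ => rfl
          right_inv := fun xy => Subtype.ext (Prod.ext rfl (by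
            exact inv_mul_eq_iff_eq_mul.2 xy.2.2.2.symm)) }
  have hRp : ¬ p ∣ R := by
    set fR := BlockThms.eta p ((triv G : Cfsg.IrrCharacter G) : G → ℂ)
    have hr' : omega ((triv G : Cfsg.IrrCharacter G) : G → ℂ) fR = (R : ℂ) := by
      show omega _ fR = ((Nat.card {y : G // ¬ p ∣ orderOf y} : ℕ) : ℂ)
      rw [Nat.card_eq_fintype_card, Fintype.card_subtype,
        Finset.natCast_card_filter, omega]
      simp only [triv, mul_one, div_one]
      refine Finset.sum_congr rfl fun x _ => ?_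
      by_cases hx : Cfsg.IsPRegular p x
      · show BlockThms.eta p ((triv G : Cfsg.IrrCharacter G) : G → ℂ) x = _
        rw [BlockThms.eta_of_regular _ hx, if_pos (show ¬ p ∣ orderOf x from hx)]
        simp [triv]
      · show BlockThms.eta p ((triv G : Cfsg.IrrCharacter G) : G → ℂ) x = _
        rw [BlockThms.eta_of_singular _ hx, if_neg (show ¬ ¬ p ∣ orderOf x from hx)]
    rw [← memLocalIdeal_natCast_iff hM, ← hr']
    exact BlockThms.not_memLocalIdeal_omega_eta hM _ (BlockThms.blockHeight_triv hM)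
  have hR'p : ¬ p ∣ R' := fun h => hRp (hR.dvd_iff dvd_rfl |>.2 h)
  have k1 := BlockThms.kulshammer hM (c : G) hreg
  have k2 := BlockThms.kulshammer hM c hregC
  have hR0 : (R : ℂ) ≠ 0 := Nat.cast_ne_zero.2 fun h => hRp (h ▸ dvd_zero p)
  have hR'0 : (R' : ℂ) ≠ 0 := Nat.cast_ne_zero.2 fun h => hR'p (h ▸ dvd_zero p)
  have hdiff : Cfsg.MemLocalIdeal M ((N : ℂ) / (R : ℂ) - (N' : ℂ) / (R' : ℂ)) := by
    have e : (N : ℂ) / (R : ℂ) - (N' : ℂ) / (R' : ℂ) =
        (((((N * R' : ℕ) : ℤ) - ((N' * R : ℕ) : ℤ)) : ℤ) : ℂ) * ((R : ℂ)⁻¹ * (R' : ℂ)⁻¹) := by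
      push_cast
      field_simp
    rw [e]
    refine memLocalIdeal_mul_right hM ((memLocalIdeal_intCast_iff hM _).2 ?_)
      ((localRing hM).mul_mem (memLocalRing_natCast_inv hM hRp) (memLocalRing_natCast_inv hM hR'p))
    exact Nat.modEq_iff_dvd.1 (hN.symm.mul hR : N' * R ≡ N * R' [MOD p])
  have h := memLocalIdeal_sub hM (memLocalIdeal_add hM k1 hdiff) k2
  convert h using 1
  ring

/-- The Brauer pairs of the principal block. -/
theorem isBrauerPairOf_principal_iff (hM : Cfsg.IsPModular p M) (Q : Subgroup G)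
    (hQ : IsPGroup p Q) {e : Set (Cfsg.IrrCharacter (Subgroup.centralizer (Q : Set G)))}
    (he : Cfsg.IsPBlock M e) :
    Cfsg.IsBrauerPairOf p M (Cfsg.principalBlock M G) Q e ↔
      e = Cfsg.principalBlock M ↥(Subgroup.centralizer (Q : Set G)) := by
  classical
  have := Fintype.ofFinite G
  set C := Subgroup.centralizer (Q : Set G) with hC
  haveI : Fintype C := Fintype.ofFinite C
  set aC := Cfsg.blockCoeff (Cfsg.principalBlock M C) with haC
  have key : ∀ ξ : Cfsg.IrrCharacter C, Cfsg.MemLocalIdeal M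
      (Cfsg.brauerOmega Q (Cfsg.blockCoeff (Cfsg.principalBlock M G)) (ξ : C → ℂ) -
        if ξ ∈ Cfsg.principalBlock M C then 1 else 0) := fun ξ => by
    let f : C → ℂ := fun x => Cfsg.blockCoeff (Cfsg.principalBlock M G) (x : G) - aC x
    have hfcl : Cfsg.IsClassFunction C f := fun x k => by
      simp only [f, Subgroup.coe_mul, Subgroup.coe_inv,
        isClassFunction_blockCoeff (Cfsg.principalBlock M G) (x : G) (k : G), haC,
        isClassFunction_blockCoeff (Cfsg.principalBlock M C) x k]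
    have h1 : Cfsg.MemLocalIdeal M (omega (ξ : C → ℂ) f) := by
      have : Finite (ConjClasses C) := Quotient.finite _
      letI := Fintype.ofFinite (ConjClasses C)
      rw [omega_eq_sum_classes (Char.isClassFunction_of_isIrr ξ.2) hfcl]
      exact memLocalIdeal_sum hM _ fun D _ => memLocalIdeal_mul_right hM
        (blockCoeff_principal_congr hM Q hQ D.out) (memLocalRing_centralChar hM ξ.2 _)
    have h2 : Cfsg.brauerOmega Q (Cfsg.blockCoeff (Cfsg.principalBlock M G)) (ξ : C → ℂ) =
        omega (ξ : C → ℂ) f + omega (ξ : C → ℂ) aC := by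
      rw [← omega_add, Cfsg.brauerOmega, finsum_eq_sum_of_fintype, omega, Finset.sum_div]
      exact Finset.sum_congr rfl fun x _ => by simp [f]
    rw [h2, haC, omega_blockCoeff, add_sub_cancel_right]
    exact h1
  constructor
  · intro h
    obtain ⟨ξ, hξ⟩ := IsPBlock.nonempty hM he
    have hmem : ξ ∈ Cfsg.principalBlock M C := by
      by_contra hn
      have h1 := key ξ
      rw [if_neg hn, sub_zero] at h1
      have h2 := memLocalIdeal_sub hM h1 (h.2.2 ξ hξ)
      exact not_memLocalIdeal_one hM (by simpa using h2)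
    rw [IsPBlock.eq_blockOf hM he hξ, IsPBlock.eq_blockOf hM (isPBlock_principalBlock M) hmem]
  · rintro rfl
    refine ⟨⟨hQ, he⟩, isPBlock_principalBlock M, fun ξ hξ => ?_⟩
    have h1 := key ξ
    rwa [if_pos hξ] at h1

end Cfsg.Agent.BlockChar
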