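import Cfsg.Agent.BlockChar.PositiveHeight
import Cfsg.Agent.BlockChar.Support
import Cfsg.Agent.Blocks.Modular
import Cfsg.Agent.Blocks.Principal
import Cfsg.Agent.Char.UniqueDivisible
import Cfsg.Agent.S0144

/-!
# Groups of order `p^a q^b r^c` with `a ≤ 2`: a character of `q`-power degree
-/

namespace Cfsg.Agent.BlockChar

open scoped ComplexConjugate
open Cfsg.Agent Cfsg.Agent.Blocks

theorem exists_degree_eq_pow {G : Type*} [Group G] [Finite G] [Nontrivial G] {p q r a b c : ℕ}
    (hp : p.Prime) (hq : q.Prime) (hr : r.Prime) (hpq : p ≠ q) (hpr : p ≠ r) (ha : a ≤ 2)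
    (hG : Nat.card G = p ^ a * q ^ b * r ^ c) :
    ∃ χ : Cfsg.IrrCharacter G, (χ : G → ℂ) ≠ (fun _ => 1) ∧
      ∃ k : ℕ, Cfsg.charDegree (χ : G → ℂ) = q ^ k := by
  classical
  rcases Nat.eq_zero_or_pos a with rfl | hapos
  · have hsol : Group.IsSolvable G := by
      refine Cfsg.Agent.S0144.result q r b c hq hr ?_
      rw [hG, pow_zero, one_mul]
    obtain ⟨f, hf⟩ := Char.exists_linear_ne_one hsol
    have hirr : Cfsg.IsIrrCharacter G (fun g => (f g : ℂ)) := Char.isIrrCharacter_hom f
    refine ⟨⟨_, hirr⟩, fun h => hf (MonoidHom.ext fun g => Units.ext (congrFun h g)), 0, ?_⟩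
    have h1 := (CharArith.irr_degree_spec (⟨_, hirr⟩ : Cfsg.IrrCharacter G)).1
    simp only [map_one, Units.val_one] at h1
    rw [pow_zero]
    exact_mod_cast h1.symm
  haveI := Fact.mk hp
  have := Fintype.ofFinite G
  obtain ⟨M, hM⟩ := Blocks.exists_isPModular p hp
  have hB := isPBlock_principalBlock (G := G) M
  set one : Cfsg.IrrCharacter G := ⟨fun _ => 1, Char.isIrrCharacter_one⟩ with hone
  have h1B : one ∈ Cfsg.principalBlock M G := by
    show Cfsg.SameBlock M (fun _ : G => (1 : ℂ)) (fun _ : G => (1 : ℂ))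
    intro g
    rw [sub_self]
    exact memLocalIdeal_zero hM
  have hone1 : Cfsg.charDegree (one : G → ℂ) = 1 := by
    have h1 := (CharArith.irr_degree_spec one).1
    have h2 : (one : G → ℂ) 1 = 1 := rfl
    rw [h2] at h1
    exact_mod_cast h1.symm
  have hmin : minVal p (Cfsg.principalBlock M G) = 0 := by
    have := minVal_le (p := p) h1B
    rw [hone1, Nat.factorization_one] at this
    exact Nat.le_zero.1 this
  have hdG : ∀ χ : Cfsg.IrrCharacter G, Cfsg.charDegree (χ : G → ℂ) ∣ Nat.card G := fun χ =>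
    CharArith.charDegree_dvd_card χ.2
  have hpd : ∀ χ ∈ Cfsg.principalBlock M G,
      (Cfsg.charDegree (χ : G → ℂ)).factorization p = 0 := by
    intro χ hχ
    have hh := height_le_defect_sub_two hM hB hχ
    have hd := blockDefect_eq (p := p) (B := Cfsg.principalBlock M G)
    have hht := blockHeight_eq (p := p) (B := Cfsg.principalBlock M G) (χ : G → ℂ)
    have hfa : (Nat.card G).factorization p ≤ 2 := by
      by_contra h
      rw [not_le] at h
      have h3 : p ^ 3 ∣ p ^ a * (q ^ b * r ^ c) := by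
        rw [← mul_assoc, ← hG]
        exact (hp.pow_dvd_iff_le_factorization Nat.card_pos.ne').2 h
      have hco : Nat.Coprime (p ^ 3) (q ^ b * r ^ c) :=
        Nat.Coprime.mul_right ((Nat.coprime_primes hp hq).2 hpq |>.pow _ _)
          ((Nat.coprime_primes hp hr).2 hpr |>.pow _ _)
      have := Nat.pow_dvd_pow_iff_le_right hp.one_lt |>.1 (hco.dvd_of_dvd_mul_right h3)
      omega
    rcases hh with h | ⟨h2, h3⟩ <;> omega
  -- a non-principal member of degree prime to `r`
  obtain ⟨y, hy⟩ : ∃ y : G, ¬ Cfsg.IsPRegular p y := by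
    obtain ⟨y, hy⟩ := exists_prime_orderOf_dvd_card' (G := G) p
      (by rw [hG]; exact dvd_mul_of_dvd_left (dvd_mul_of_dvd_left (dvd_pow_self p hapos.ne') _) _)
    exact ⟨y, fun h => h (by rw [hy])⟩
  have hsum := sum_block_degree_mul_eq_zero hM hB hy
  obtain ⟨χ, hχB, hχ1, hχr⟩ : ∃ χ ∈ Cfsg.principalBlock M G, χ ≠ one ∧
      ¬ r ∣ Cfsg.charDegree (χ : G → ℂ) := by
    by_contra hall
    push Not at hall
    rw [Finset.sum_eq_add_sum_sdiff_singleton_of_mem (Finset.mem_univ one), if_pos h1B] at hsum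
    have hint : IsIntegral ℤ (((-1 : ℚ) / r : ℚ) : ℂ) := by
      have e : ((((-1 : ℚ) / r : ℚ)) : ℂ) = ∑ χ ∈ Finset.univ \ {one},
          if χ ∈ Cfsg.principalBlock M G then
            ((Cfsg.charDegree (χ : G → ℂ) / r : ℕ) : ℂ) * (χ : G → ℂ) y else 0 := by
        push_cast
        rw [div_eq_iff (Nat.cast_ne_zero.2 hr.ne_zero), Finset.sum_mul]
        have h1 : (one : G → ℂ) 1 * (one : G → ℂ) y = 1 := by show (1 : ℂ) * 1 = 1; ring
        rw [h1] at hsum
        rw [← sub_eq_zero]
        refine Eq.trans ?_ (neg_eq_zero.2 hsum)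
        rw [neg_add, sub_eq_add_neg, ← Finset.sum_neg_distrib, ← Finset.sum_neg_distrib]
        congr 1
        refine Finset.sum_congr rfl fun χ hχ => ?_
        split_ifs with h
        · have hne : χ ≠ one := by simpa using hχ
          obtain ⟨k, hk⟩ := hall χ h hne
          rw [hk, Nat.mul_div_cancel_left _ hr.pos, (CharArith.irr_degree_spec χ).1, hk]
          push_cast
          ring
        · simp
      rw [e]
      refine IsIntegral.sum _ fun χ _ => ?_
      split
      · exact (Blocks.isIntegral_natCast _).mul (Char.IsChar.isIntegral (Char.IsIrr.isCharacter χ.2) y)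
      · exact isIntegral_zero
    obtain ⟨z, hz⟩ := Char.exists_int_of_isIntegral_rat hint
    rw [eq_div_iff (Nat.cast_ne_zero.2 hr.ne_zero)] at hz
    have : (r : ℤ) ∣ 1 := ⟨-z, by exact_mod_cast (by linear_combination hz : (1 : ℚ) = r * -z)⟩
    exact hr.ne_one (Nat.eq_one_of_dvd_one (Int.natCast_dvd_natCast.1 this))
  refine ⟨χ, fun h => hχ1 (Subtype.ext h), ?_⟩
  have hne := (CharArith.irr_degree_spec χ).2.ne'
  refine ⟨_, Nat.eq_prime_pow_of_unique_prime_dvd hne ?_⟩
  intro s hs hsd
  have hsG := hsd.trans (hdG χ)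
  rw [hG] at hsG
  rcases hs.dvd_mul.1 hsG with h | h
  · rcases hs.dvd_mul.1 h with h' | h'
    · have e := (Nat.prime_dvd_prime_iff_eq hs hp).1 (hs.dvd_of_dvd_pow h')
      subst e
      exact absurd (hpd χ hχB) (hs.factorization_pos_of_dvd hne hsd).ne'
    · exact (Nat.prime_dvd_prime_iff_eq hs hq).1 (hs.dvd_of_dvd_pow h')
  · have e := (Nat.prime_dvd_prime_iff_eq hs hr).1 (hs.dvd_of_dvd_pow h)
    subst e
    exact absurd hsd hχr

end Cfsg.Agent.BlockChar
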