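import Cfsg.Agent.BlockChar.TransitiveQuat
import Cfsg.Agent.FPF25.Basics
import Cfsg.Agent.Core.Fitting
import Cfsg.Agent.Core.PCore

/-!
Solvable groups acting without fixed points of prime-to-p order, with the largest possible order
-/

set_option autoImplicit false

namespace Cfsg.Agent.TransFpf

open Cfsg.Agent
open QuaternionGroup (a xa)
open scoped commutatorElement

variable {H : Type*} [Group H] [Finite H] {V : Type*} [CommGroup V] [Finite V] [Nontrivial V]

/-- No quaternion group of order eight extended to a Sylow subgroup of order at least sixteen in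
characteristic three. -/
theorem no_sixteen (φ : H →* MulAut V) (hV : ∀ v : V, v ^ 3 = 1)
    (hfpf : ∀ h : H, ¬ 3 ∣ orderOf h → h ≠ 1 → ∀ v : V, φ h v = v → v = 1)
    (hcard : ∀ r : ℕ, r.Prime → r ≠ 3 → (Nat.card H).factorization r = (Nat.card V - 1).factorization r)
    (i j : H) (hi : orderOf (i * i) = 2) (hij : i * i = j * j) (hconj : j * i * j⁻¹ = i⁻¹)
    (hcent : ∀ r : ℕ, r.Prime → 5 ≤ r → ∀ h : H, (∃ t, orderOf h = r ^ t) → Commute h i ∧ Commute h j)
    (h16 : 16 ∣ Nat.card H) : False := by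
  classical
  have hp3 : Fact (Nat.Prime 3) := ⟨by norm_num⟩
  have hzv : ∀ v, φ (i * i) v = v⁻¹ := fun v => by
    have hz1 : i * i ≠ 1 := fun e => by rw [e, orderOf_one] at hi; omega
    have hzz : (i * i) * (i * i) = 1 := by rw [← pow_two, ← hi, pow_orderOf_eq_one]
    have h := hfpf (i * i) (by rw [hi]; norm_num) hz1 (v * φ (i * i) v) (by
      rw [map_mul, ← MulAut.mul_apply, ← map_mul, hzz, map_one, MulAut.one_apply, mul_comm])
    exact (inv_eq_of_mul_eq_one_right h).symm
  obtain ⟨I, hI⟩ : ∃ I : V →* V, ∀ v, I v = φ i v := ⟨(φ i).toMonoidHom, fun _ => rfl⟩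
  obtain ⟨J, hJ⟩ : ∃ J : V →* V, ∀ v, J v = φ j v := ⟨(φ j).toMonoidHom, fun _ => rfl⟩
  have hII : ∀ v, I (I v) = v⁻¹ := fun v => by rw [hI, hI, ← MulAut.mul_apply, ← map_mul, hzv]
  have hJJ : ∀ v, J (J v) = v⁻¹ := fun v => by rw [hJ, hJ, ← MulAut.mul_apply, ← map_mul, ← hij, hzv]
  have hJI : ∀ v, J (I v) = (I (J v))⁻¹ := fun v => by
    have e : j * i = (i * i) * (i * j) := by
      have h4 : (i * i) * (i * i) = 1 := by rw [← pow_two, ← hi, pow_orderOf_eq_one]
      have hinv : i⁻¹ = i * i * i := inv_eq_of_mul_eq_one_right (by rw [← mul_assoc, ← mul_assoc, mul_assoc (i * i)]; exact h4)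
      calc j * i = j * i * j⁻¹ * j := by group
        _ = i * i * i * j := by rw [hconj, hinv]
        _ = _ := by group
    rw [hI, hJ, ← MulAut.mul_apply, ← map_mul, e, map_mul, MulAut.mul_apply, hzv, map_mul,
      MulAut.mul_apply, ← hI, ← hJ]
  obtain ⟨f, hf⟩ : ∃ f : V →* V, ∀ v, f v = I v * J v := ⟨I * J, fun _ => rfl⟩
  obtain ⟨g, hg⟩ : ∃ g : V →* V, ∀ v, g v = I (J v) := ⟨I.comp J, fun _ => rfl⟩
  have hsq : ∀ v : V, v⁻¹ * v⁻¹ = v := fun v => by
    rw [← mul_inv_rev, inv_eq_iff_mul_eq_one, ← pow_two, ← pow_succ]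
    exact hV v
  have hff : ∀ v, f (f v) = v := fun v => by
    rw [hf v, map_mul, hf, hf, hII, hJI, hJJ]
    rw [show v⁻¹ * (I (J v))⁻¹ * (I (J v) * v⁻¹) = v⁻¹ * v⁻¹ by group, hsq]
  have hfg : ∀ v, f (g v) = (g (f v))⁻¹ := fun v => by
    rw [hg, hg, hf, hf, map_mul, map_mul, hII, hJI, hJJ, hJI, map_inv, map_inv, hII, inv_inv]
    simp [mul_comm]
  obtain ⟨U, hU⟩ : ∃ U : Subgroup V, ∀ v, v ∈ U ↔ f v = v :=
    ⟨MonoidHom.eqLocus f (MonoidHom.id V), fun _ => Iff.rfl⟩
  have hginj : Function.Injective g := fun x y h => by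
    rw [hg, hg, hI, hI, hJ, hJ] at h
    exact (φ j).injective ((φ i).injective h)
  -- the decomposition
  have hcardV : Nat.card V = Nat.card U * Nat.card U := by
    rw [← Nat.card_prod]
    refine (Nat.card_congr (Equiv.ofBijective (fun q : U × U => (q.1 : V) * g q.2) ⟨?_, ?_⟩)).symm
    · rintro ⟨⟨x, hx⟩, ⟨y, hy⟩⟩ ⟨⟨x', hx'⟩, ⟨y', hy'⟩⟩ h
      simp only at h
      have h2 := congrArg f h
      rw [map_mul, map_mul, hfg, hfg, (hU x).1 hx, (hU x').1 hx', (hU y).1 hy, (hU y').1 hy'] at h2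
      have h3 : x * x = x' * x' := by
        calc x * x = (x * g y) * (x * (g y)⁻¹) := by rw [mul_mul_mul_comm, mul_inv_cancel, mul_one]
          _ = (x' * g y') * (x' * (g y')⁻¹) := by rw [h, h2]
          _ = _ := by rw [mul_mul_mul_comm, mul_inv_cancel, mul_one]
      have hxx : x = x' := by
        rw [← hsq x, ← hsq x', ← mul_inv_rev, ← mul_inv_rev, h3]
      subst hxx
      have := hginj (mul_left_cancel h)
      subst this
      rfl
    · intro v
      obtain ⟨w, hw⟩ : ∃ w, g w = (v * (f v)⁻¹) * (v * (f v)⁻¹) :=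
        ((Finite.injective_iff_surjective.1 hginj) _)
      refine ⟨(⟨(v * f v) * (v * f v), (hU _).2 ?_⟩, ⟨w, (hU _).2 ?_⟩), ?_⟩
      · rw [map_mul, map_mul, hff, mul_comm (f v) v]
      · apply hginj
        have h1 : g (f w) = (f (g w))⁻¹ := by rw [hfg, inv_inv]
        rw [h1, hw, map_mul, map_mul, map_inv, hff]
        simp [mul_comm]
      · show (v * f v) * (v * f v) * g w = v
        rw [hw]
        calc v * f v * (v * f v) * (v * (f v)⁻¹ * (v * (f v)⁻¹))
            = (v * v * v) * v * (f v * (f v)⁻¹) * (f v * (f v)⁻¹) := by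
              simp only [mul_comm, mul_left_comm, mul_assoc]
          _ = v := by rw [← pow_two, ← pow_succ, hV, one_mul, mul_inv_cancel, mul_one, mul_one]
  obtain ⟨m, hm⟩ : ∃ m, Nat.card U = 3 ^ m := by
    have : IsPGroup 3 U := fun u => ⟨1, Subtype.ext (by simp [hV])⟩
    exact IsPGroup.iff_card.1 this
  obtain ⟨u, hu⟩ : ∃ u, Nat.card U = u := ⟨_, rfl⟩
  rw [hu] at hcardV hm
  -- free actions on the fixed space
  have hdiv : ∀ r : ℕ, r.Prime → 5 ≤ r → r ^ (Nat.card H).factorization r ∣ u - 1 := by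
    intro r hr h5
    have := Fact.mk hr
    obtain ⟨R⟩ : Nonempty (Sylow r H) := inferInstance
    have hR3 : ∀ h : (R : Subgroup H), ¬ 3 ∣ orderOf (h : H) := fun h hd => by
      obtain ⟨t, ht⟩ := IsPGroup.iff_orderOf.1 R.2 h
      rw [Subgroup.orderOf_coe, ht] at hd
      have := (Nat.prime_dvd_prime_iff_eq (by norm_num) hr).1
        ((Nat.prime_three).dvd_of_dvd_pow hd)
      omega
    have hcomm : ∀ h : (R : Subgroup H), ∀ x : V, f (φ (h : H) x) = φ (h : H) (f x) := by
      intro h x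
      obtain ⟨t, ht⟩ := IsPGroup.iff_orderOf.1 R.2 h
      obtain ⟨c1, c2⟩ := hcent r hr h5 (h : H) ⟨t, by rw [Subgroup.orderOf_coe, ht]⟩
      rw [hf, hf, hI, hJ, hI, hJ, map_mul, ← MulAut.mul_apply, ← map_mul, ← c1.eq,
        ← MulAut.mul_apply, ← map_mul, ← c2.eq]
      simp [map_mul, MulAut.mul_apply]
    let S := {x : V // x ∈ U ∧ x ≠ 1}
    letI : MulAction (R : Subgroup H) S :=
      { smul := fun h x => ⟨φ (h : H) x.1,
          (hU _).2 (by rw [hcomm, (hU _).1 x.2.1]),
          fun e => x.2.2 ((φ (h : H)).injective (e.trans (map_one _).symm))⟩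
        one_smul := fun x => Subtype.ext (by
          show φ ((1 : (R : Subgroup H)) : H) x.1 = x.1
          rw [Subgroup.coe_one, map_one, MulAut.one_apply])
        mul_smul := fun h k x => Subtype.ext (by
          show φ ((h * k : (R : Subgroup H)) : H) x.1 = φ (h : H) (φ (k : H) x.1)
          rw [Subgroup.coe_mul, map_mul, MulAut.mul_apply]) }
    have hfree : ∀ x : S, MulAction.stabilizer (R : Subgroup H) x = ⊥ := fun x => by
      rw [eq_bot_iff]
      intro h hh
      rw [Subgroup.mem_bot]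
      by_contra hne
      exact x.2.2 (hfpf (h : H) (hR3 h) (fun e => hne (Subtype.ext e)) x.1
        (congrArg Subtype.val (MulAction.mem_stabilizer_iff.1 hh)))
    have hS : Nat.card S = u - 1 := by
      rw [← hu]
      have h1 : Nat.card S = ((U : Set V) \ {1}).ncard := by
        rw [← Nat.card_coe_set_eq]; rfl
      rw [h1, Set.ncard_diff_singleton_of_mem (one_mem U), ← Nat.card_coe_set_eq]
      rfl
    rw [← hS, ← R.card_eq_multiplicity,
      Nat.card_congr (MulAction.selfEquivOrbitsQuotientProd hfree), Nat.card_prod]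
    exact dvd_mul_left _ _
  have hu1 : u ≠ 1 := fun e => by
    rw [e, one_mul] at hcardV
    exact (Finite.one_lt_card (α := V)).ne' hcardV
  have hmpos : 1 ≤ m := Nat.one_le_iff_ne_zero.2 fun e => hu1 (by rw [hm, e, pow_zero])
  have h3 : 3 ∣ u := hm ▸ dvd_pow_self 3 (by omega)
  have hu0 : 3 ≤ u := Nat.le_of_dvd (by rw [hm]; positivity) h3
  have hprod : Nat.card V - 1 = (u - 1) * (u + 1) := by
    rw [hcardV]
    obtain ⟨w, rfl⟩ : ∃ w, u = w + 1 := ⟨u - 1, by omega⟩
    simp only [Nat.add_sub_cancel]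
    rw [Nat.sub_eq_iff_eq_add (Nat.one_le_iff_ne_zero.2 (by positivity))]
    ring
  have hno : ∀ r : ℕ, r.Prime → r ∣ u + 1 → r = 2 := by
    intro r hr hd
    by_contra h2
    have hr3 : r ≠ 3 := fun e => by subst e; omega
    have h5 : 5 ≤ r := by
      by_contra h4
      have := hr.two_le
      interval_cases r <;> first | omega | norm_num at hr
    have h := hdiv r hr h5
    rw [hr.pow_dvd_iff_le_factorization (by omega), hcard r hr hr3, hprod,
      Nat.factorization_mul (by omega) (by omega), Finsupp.coe_add, Pi.add_apply] at h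
    have := hr.factorization_pos_of_dvd (by omega) hd
    omega
  obtain ⟨k, hk⟩ : ∃ k, u + 1 = 2 ^ k := ⟨_, Nat.eq_prime_pow_of_unique_prime_dvd (by omega)
    fun {r} hr hd => hno r hr hd⟩
  have h8 : u % 8 = 1 ∨ u % 8 = 3 := by
    rw [hm]
    clear hk h3 hu0 hmpos hm
    induction m with
    | zero => simp
    | succ m ih => rw [pow_succ]; omega
  have hk2 : k ≤ 2 := by
    by_contra hk3
    have : 2 ^ 3 ∣ 2 ^ k := pow_dvd_pow 2 (by omega)
    omega
  have hu3 : u = 3 := by interval_cases k <;> omega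
  have h4 := (Nat.prime_two.pow_dvd_iff_le_factorization Nat.card_pos.ne').1
    (show 2 ^ 4 ∣ Nat.card H from h16)
  rw [hcard 2 Nat.prime_two (by norm_num), hprod, hu3] at h4
  have h5 : 2 ^ 4 ∣ (3 - 1) * (3 + 1) :=
    (Nat.prime_two.pow_dvd_iff_le_factorization (by norm_num)).2 h4
  norm_num at h5

variable {p : ℕ} [Fact p.Prime]

/-- The commutator subgroup has order prime to `p`. -/
theorem not_dvd_card_commutator [Group.IsSolvable H] (φ : H →* MulAut V) (hV : ∀ v : V, v ^ p = 1)
    (hcore : Cfsg.pCore p H = ⊥)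
    (hfpf : ∀ h : H, ¬ p ∣ orderOf h → h ≠ 1 → ∀ v : V, φ h v = v → v = 1)
    (hcard : ∀ r : ℕ, r.Prime → r ≠ p → (Nat.card H).factorization r = (Nat.card V - 1).factorization r) :
    ¬ p ∣ Nat.card (commutator H) := by
  classical
  intro hd
  obtain ⟨⟨y, hyc⟩, hy⟩ := exists_prime_orderOf_dvd_card' p hd
  rw [Subgroup.orderOf_mk] at hy
  have hp := (Fact.out : p.Prime)
  suffices key : ∀ r : Nat.Primes, ∀ x ∈ Cfsg.pCore (r : ℕ) H, x * y = y * x by
    have hyC : y ∈ Subgroup.centralizer (Cfsg.fittingSubgroup H : Set H) := by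
      rw [Core.fittingSubgroup_eq_iSup_pCore, Subgroup.mem_centralizer_iff]
      intro x hx
      refine Subgroup.iSup_induction (fun r : Nat.Primes => Cfsg.pCore (r : ℕ) H)
        (C := fun x => x * y = y * x) hx key (by simp) fun a b ha hb => ?_
      rw [mul_assoc, hb, ← mul_assoc, ha, mul_assoc]
    have hyF := Core.centralizer_fittingSubgroup_le hyC
    -- `F` has order prime to `p`
    have hfree : ∀ r : Nat.Primes, IsPGroup p (Cfsg.pCore (r : ℕ) H) → Cfsg.pCore (r : ℕ) H = ⊥ :=
      fun r hr => le_bot_iff.1 (hcore ▸ Core.le_pCore hr)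
    have hF : IsPGroup p (Subgroup.zpowers y) :=
      IsPGroup.of_card (n := 1) (by rw [Nat.card_zpowers, hy, pow_one])
    have hnil : Group.IsNilpotent (Cfsg.fittingSubgroup H) := Core.fittingSubgroup_isNilpotent
    obtain ⟨P, hP⟩ := (hF.comap_of_injective (Cfsg.fittingSubgroup H).subtype
      (Subgroup.subtype_injective _)).exists_le_sylow
    have hPn : (P : Subgroup (Cfsg.fittingSubgroup H)).Normal :=
      Sylow.normal_of_normalizerCondition Group.normalizerCondition_of_isNilpotent P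
    haveI := P.characteristic_of_normal hPn
    have hbot : (P : Subgroup _).map (Cfsg.fittingSubgroup H).subtype = ⊥ := by
      haveI : ((P : Subgroup _).map (Cfsg.fittingSubgroup H).subtype).Normal :=
        ConjAct.normal_of_characteristic_of_normal
      exact le_bot_iff.1 (hcore ▸ Core.le_pCore (P.2.map _))
    have hy1 : y = 1 := by
      have := Subgroup.mem_map_of_mem (Cfsg.fittingSubgroup H).subtype
        (hP (show (⟨y, hyF⟩ : Cfsg.fittingSubgroup H) ∈ _ from
          Subgroup.mem_comap.2 (Subgroup.mem_zpowers y)))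
      rw [hbot] at this
      exact Subgroup.mem_bot.1 this
    rw [hy1, orderOf_one] at hy
    exact hp.ne_one hy.symm
  rintro ⟨r, hr⟩ x hx
  by_cases hrp : r = p
  · subst hrp
    rw [hcore, Subgroup.mem_bot] at hx
    subst hx
    simp
  have := Fact.mk hr
  obtain ⟨R, hR⟩ : ∃ R : Subgroup H, Cfsg.pCore r H = R := ⟨_, rfl⟩
  simp only at hx
  rw [hR] at hx
  haveI hRn : R.Normal := hR ▸ inferInstance
  have hRp : IsPGroup r R := hR ▸ Core.pCore_isPGroup
  have hRfree : ∀ g : R, g ≠ 1 → ¬ p ∣ orderOf (g : H) := fun g _ hd' => by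
    obtain ⟨t, ht⟩ := IsPGroup.iff_orderOf.1 hRp g
    rw [Subgroup.orderOf_coe, ht] at hd'
    exact hrp ((Nat.prime_dvd_prime_iff_eq hp hr).1 (hp.dvd_of_dvd_pow hd')).symm
  let ρ : H →* MulAut R := MulAut.conjNormal
  suffices hρ : ρ y = 1 by
    have := congrArg Subtype.val (DFunLike.congr_fun hρ (⟨x, hx⟩ : R))
    simp only [ρ, MulAut.conjNormal_apply, MulAut.one_apply] at this
    exact (mul_inv_eq_iff_eq_mul.1 this).symm
  have hρp : (ρ y) ^ p = 1 := by rw [← map_pow, ← hy, pow_orderOf_eq_one, map_one]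
  have hcommker : ∀ {A : Type} [Group A] (θ : H →* A), (∀ g h : H, Commute (θ g) (θ h)) → θ y = 1 := by
    intro A _ θ hθ
    have hle : commutator H ≤ θ.ker := by
      rw [_root_.commutator_def, Subgroup.commutator_le]
      intro g _ h _
      rw [MonoidHom.mem_ker, map_commutatorElement, commutatorElement_eq_one_iff_commute]
      exact hθ g h
    exact MonoidHom.mem_ker.1 (hle hyc)
  have hfpfR : FPF25.HasFPF R := FPF25.hasFPF_of_fpf (φ.comp R.subtype) fun g hg k hk =>
    hfpf (g : H) (hRfree g hg) (fun e => hg (Subtype.ext e)) k hk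
  have hpow_one : ∀ {A : Type} [Group A] (z : A) (n : ℕ), z ^ p = 1 → z ^ n = 1 → ¬ p ∣ n → z = 1 := by
    intro A _ z n h1 h2 hn
    exact orderOf_eq_one_iff.1 (Nat.eq_one_of_dvd_coprimes (hp.coprime_iff_not_dvd.2 hn)
      (orderOf_dvd_of_pow_eq_one h1) (orderOf_dvd_of_pow_eq_one h2))
  obtain ⟨P, hP⟩ : ∃ P : Subgroup R, P = ⊤ := ⟨⊤, rfl⟩
  rcases hfpfR.cyclic_or_quaternion (p := r) (P := P) (hRp.to_subgroup P) with hc | ⟨hr2, k, hk, ⟨e'⟩⟩
  · subst hP
    haveI : IsCyclic R := (MulEquiv.isCyclic Subgroup.topEquiv).1 hc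
    let e := (IsCyclic.mulAutMulEquiv R).toMonoidHom
    have h := hcommker (e.comp ρ) fun g h => mul_comm _ _
    exact (IsCyclic.mulAutMulEquiv R).injective (h.trans (map_one (IsCyclic.mulAutMulEquiv R)).symm)
  subst hP
  subst hr2
  let e : R ≃* QuaternionGroup (2 ^ k) := Subgroup.topEquiv.symm.trans e'
  let ψ : H →* MulAut (QuaternionGroup (2 ^ k)) := (MulAut.congr e).toMonoidHom.comp ρ
  suffices hψ : ψ y = 1 from (MulAut.congr e).injective (hψ.trans (map_one (MulAut.congr e)).symm)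
  have hψp : ψ y ^ p = 1 := by
    show (MulAut.congr e) (ρ y) ^ p = 1
    rw [← map_pow, hρp, map_one]
  have hp2 : p ≠ 2 := fun e => hrp e.symm
  rcases Nat.lt_or_ge k 2 with hk1 | hk2
  swap
  · exact hpow_one _ _ hψp (TransQuat.pow_eq_one_quaternion hk2 _) fun hd' =>
      hp2 ((Nat.prime_dvd_prime_iff_eq hp Nat.prime_two).1 (hp.dvd_of_dvd_pow hd'))
  obtain rfl : k = 1 := by omega
  have hcardA : Nat.card (MulAut (QuaternionGroup 2)) ∣ 96 := TransQuat.card_aut_dvd
  have hpow96 : ∀ q : MulAut (QuaternionGroup 2), q ^ 96 = 1 := fun q =>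
    orderOf_dvd_iff_pow_eq_one.1 ((orderOf_dvd_natCard q).trans hcardA)
  by_cases hp3 : p = 3
  swap
  · refine hpow_one _ _ hψp (hpow96 _) fun hd' => ?_
    rw [show (96 : ℕ) = 2 ^ 5 * 3 by norm_num] at hd'
    rcases hp.dvd_mul.1 hd' with h | h
    · exact hp2 ((Nat.prime_dvd_prime_iff_eq hp Nat.prime_two).1 (hp.dvd_of_dvd_pow h))
    · exact hp3 ((Nat.prime_dvd_prime_iff_eq hp Nat.prime_three).1 h)
  subst hp3
  have hψR : ∀ g : R, ψ (g : H) = MulAut.conj (e g) := fun g => MulEquiv.ext fun z => by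
    obtain ⟨w, rfl⟩ := e.surjective z
    show e (ρ (g : H) (e.symm (e w))) = _
    rw [MulEquiv.symm_apply_apply, MulAut.conj_apply, ← map_inv, ← map_mul, ← map_mul]
    exact congrArg e (Subtype.ext (MulAut.conjNormal_apply (g : H) w))
  obtain ⟨i, hi⟩ := e.surjective (a 1)
  obtain ⟨j, hj⟩ := e.surjective (xa 0)
  have hz : ψ ((i : H) * i) = 1 := by
    have : ψ (((i * i : R)) : H) = 1 := by
      rw [hψR, map_mul, hi]
      exact MulEquiv.ext fun w => by revert w; decide
    simpa using this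
  have hzo : orderOf ((i : H) * i) = 2 := by
    rw [← Subgroup.coe_mul, Subgroup.orderOf_coe, ← MulEquiv.orderOf_eq e, map_mul, hi]
    exact orderOf_eq_prime (by decide) (by decide)
  let θ := TransQuat.toQuot.comp ψ
  -- the image in the outer automorphisms is odd
  have hodd : ¬ 2 ∣ Nat.card θ.range := by
    intro h2
    refine no_sixteen φ hV hfpf hcard (i : H) j hzo ?_ ?_ ?_ ?_
    · rw [← Subgroup.coe_mul, ← Subgroup.coe_mul]
      exact congrArg _ (e.injective (by rw [map_mul, map_mul, hi, hj]; decide))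
    · rw [← Subgroup.coe_inv, ← Subgroup.coe_mul, ← Subgroup.coe_inv, ← Subgroup.coe_mul]
      exact congrArg _ (e.injective (by rw [map_mul, map_mul, map_inv, map_inv, hi, hj]; decide))
    · intro q hq h5 h ⟨t, ht⟩
      have h1 : ψ h = 1 := by
        refine orderOf_eq_one_iff.1 (Nat.eq_one_of_dvd_coprimes (a := q ^ t) (b := 96) ?_ ?_ ?_)
        · refine Nat.Coprime.pow_left _ ((Nat.prime_iff_prime_int.1 hq) |> fun _ => ?_)
          refine hq.coprime_iff_not_dvd.2 fun hd' => ?_
          rw [show (96 : ℕ) = 2 ^ 5 * 3 by norm_num] at hd'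
          rcases hq.dvd_mul.1 hd' with h | h
          · have := (Nat.prime_dvd_prime_iff_eq hq Nat.prime_two).1 (hq.dvd_of_dvd_pow h); omega
          · have := (Nat.prime_dvd_prime_iff_eq hq Nat.prime_three).1 h; omega
        · exact ht ▸ orderOf_map_dvd ψ h
        · exact orderOf_dvd_iff_pow_eq_one.2 (hpow96 _)
      have hc : ∀ g : R, Commute h (g : H) := fun g => by
        have h2 : ρ h = 1 := (MulAut.congr e).injective (h1.trans (map_one (MulAut.congr e)).symm)
        have := congrArg Subtype.val (DFunLike.congr_fun h2 g)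
        simp only [ρ, MulAut.conjNormal_apply, MulAut.one_apply] at this
        exact mul_inv_eq_iff_eq_mul.1 this
      exact ⟨hc i, hc j⟩
    · have hK : Nat.card θ.ker = Nat.card θ.ker := rfl
      have h8 : 8 ∣ Nat.card θ.ker := by
        -- `R` is contained in the kernel
        have hRle : R ≤ θ.ker := fun g hg => by
          rw [MonoidHom.mem_ker]
          show TransQuat.toQuot (ψ g) = 1
          rw [hψR ⟨g, hg⟩, ← MonoidHom.mem_ker, TransQuat.ker_toQuot]
          exact ⟨_, rfl⟩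
        refine dvd_trans (dvd_of_eq ?_) (Subgroup.card_dvd_of_le hRle)
        rw [Nat.card_congr e.toEquiv, Nat.card_eq_fintype_card, QuaternionGroup.card]
        rfl
      rw [← θ.ker.card_mul_index, Subgroup.index_ker, show (16 : ℕ) = 8 * 2 by norm_num]
      exact Nat.mul_dvd_mul h8 h2
  have hdvd24 : Nat.card θ.range ∣ 24 :=
    (Subgroup.card_subgroup_dvd_card _).trans TransQuat.card_quot_aut_dvd
  have hθcomm : ∀ g h : H, Commute (θ g) (θ h) := fun g h => by
    have hle : Nat.card θ.range = 1 ∨ Nat.card θ.range = 3 := by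
      have h1 : Nat.card θ.range ∣ 3 :=
        Nat.Coprime.dvd_of_dvd_mul_left (n := 3) (m := 8)
          (Nat.Coprime.pow_right 3 (Nat.coprime_two_right.2 (Nat.odd_iff.2 (by omega)))) hdvd24
      exact (Nat.dvd_prime Nat.prime_three).1 h1
    have hcyc : IsCyclic θ.range := by
      rcases hle with h | h
      · have : Subsingleton θ.range := Finite.card_le_one_iff_subsingleton.1 h.le
        infer_instance
      · exact isCyclic_of_prime_card (p := 3) h
    exact congrArg Subtype.val ((IsCyclic.commutative (α := θ.range)).is_comm.comm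
      ⟨θ g, g, rfl⟩ ⟨θ h, h, rfl⟩)
  have hθy : θ y = 1 := hcommker θ hθcomm
  have hin : ψ y ∈ TransQuat.toQuot.ker := MonoidHom.mem_ker.2 hθy
  rw [TransQuat.ker_toQuot] at hin
  refine hpow_one _ 4 hψp ?_ (by norm_num)
  have := pow_card_eq_one' (x := (⟨ψ y, hin⟩ : (MulAut.conj : QuaternionGroup 2 →* _).range))
  rw [TransQuat.card_inner] at this
  exact congrArg Subtype.val this

end Cfsg.Agent.TransFpf
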