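import Mathlib

/-!
The automorphisms of generalised quaternion groups
-/

set_option autoImplicit false

namespace Cfsg.Agent.TransQuat

open QuaternionGroup

theorem a_pow {n : ℕ} [NeZero n] (i : ZMod (2 * n)) (j : ℕ) : (a i) ^ j = a ((j : ZMod (2 * n)) * i) := by
  induction j with
  | zero => rw [pow_zero, Nat.cast_zero, zero_mul, one_def]
  | succ j ih => rw [pow_succ, ih, a_mul_a, Nat.cast_succ, add_mul, one_mul]

/-- An automorphism of the quaternion group of order at least sixteen has two-power order. -/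
theorem pow_eq_one_quaternion {k : ℕ} (hk : 2 ≤ k) (φ : MulAut (QuaternionGroup (2 ^ k))) :
    φ ^ (2 ^ (2 * k + 1)) = 1 := by
  haveI : NeZero (2 ^ k) := ⟨pow_ne_zero _ two_ne_zero⟩
  obtain ⟨u, hu⟩ : ∃ u, φ (a 1) = a u := by
    have hord : orderOf (φ (a 1)) = 2 * 2 ^ k := by
      rw [MulEquiv.orderOf_eq, orderOf_a_one]
    generalize φ (a 1) = z at hord
    cases z with
    | a i => exact ⟨i, rfl⟩
    | xa i =>
      rw [orderOf_xa] at hord
      have : (2 : ℕ) ^ 2 ≤ 2 ^ k := Nat.pow_le_pow_right two_pos hk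
      omega
  obtain ⟨w, hw⟩ : ∃ w, φ (xa 0) = xa w := by
    obtain ⟨z, hz⟩ : ∃ z, φ (xa 0) = z := ⟨_, rfl⟩
    cases z with
    | xa i => exact ⟨i, hz⟩
    | a i =>
      exfalso
      have hc : Commute (φ (xa 0)) (φ (a 1)) := by
        rw [hz, hu]
        show a i * a u = a u * a i
        simp [add_comm]
      have h := φ.injective (show φ (xa 0 * a 1) = φ (a 1 * xa 0) by rw [map_mul, map_mul, hc.eq])
      simp only [xa_mul_a, a_mul_xa, xa.injEq] at h
      have h2 : ((2 : ℕ) : ZMod (2 * 2 ^ k)) = 0 := by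
        push_cast
        linear_combination h
      have h3 := Nat.le_of_dvd two_pos ((ZMod.natCast_eq_zero_iff 2 _).1 h2)
      have : (2 : ℕ) ^ 2 ≤ 2 ^ k := Nat.pow_le_pow_right two_pos hk
      omega
  -- the unit
  have hpow : ∀ t : ℕ, (φ ^ t) (a 1) = a (u ^ t) := by
    intro t
    induction t with
    | zero => simp
    | succ t ih =>
      rw [pow_succ', MulAut.mul_apply, ih]
      rw [show a (u ^ t) = (a 1 : QuaternionGroup (2 ^ k)) ^ (u ^ t).val by
        rw [a_one_pow, ZMod.natCast_zmod_val], map_pow, hu]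
      rw [a_pow, ZMod.natCast_zmod_val, ← pow_succ]
  have hcardU : Nat.card (ZMod (2 * 2 ^ k))ˣ = 2 ^ k := by
    rw [Nat.card_eq_fintype_card, ZMod.card_units_eq_totient, ← pow_succ',
      Nat.totient_prime_pow_succ Nat.prime_two]
    simp
  have hu1 : u ^ (2 ^ k) = 1 := by
    have hunit : IsUnit u := by
      have h1 : orderOf (φ (a 1)) = 2 * 2 ^ k := by
        rw [MulEquiv.orderOf_eq, orderOf_a_one]
      rw [hu, orderOf_a] at h1
      have h2 : Nat.gcd (2 * 2 ^ k) u.val = 1 := by
        rcases Nat.div_eq_self.1 h1 with h | h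
        · exact absurd h (mul_ne_zero two_ne_zero (pow_ne_zero _ two_ne_zero))
        · exact h
      rw [← ZMod.natCast_zmod_val u, ZMod.isUnit_iff_coprime]
      exact (Nat.coprime_comm).1 h2
    have h3 := congrArg Units.val (pow_card_eq_one' (x := hunit.unit))
    rwa [hcardU, Units.val_pow_eq_pow_val, Units.val_one, hunit.unit_spec] at h3
  obtain ⟨ψ, hψ⟩ : ∃ ψ, φ ^ (2 ^ k) = ψ := ⟨_, rfl⟩
  have hψa : ψ (a 1) = a 1 := by rw [← hψ, hpow, hu1]
  have hψai : ∀ i, ψ (a i) = a i := fun i => by
    rw [← ZMod.natCast_zmod_val i, ← a_one_pow, map_pow, hψa]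
  obtain ⟨c, hc⟩ : ∃ c, ψ (xa 0) = xa c := by
    obtain ⟨z, hz⟩ : ∃ z, ψ (xa 0) = z := ⟨_, rfl⟩
    cases z with
    | xa i => exact ⟨i, hz⟩
    | a i => exact absurd (ψ.injective (hz.trans (hψai i).symm)) (by simp)
  have hψpow : ∀ t : ℕ, (ψ ^ t) (xa 0) = xa (t • c) ∧ ∀ i, (ψ ^ t) (a i) = a i := by
    intro t
    induction t with
    | zero => simp
    | succ t ih =>
      refine ⟨?_, fun i => by rw [pow_succ', MulAut.mul_apply, ih.2, hψai]⟩
      rw [pow_succ', MulAut.mul_apply, ih.1, show xa (t • c) = xa (0 : ZMod (2 * 2 ^ k)) * a (t • c) by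
        rw [xa_mul_a, zero_add], map_mul, hc, hψai, xa_mul_a, succ_nsmul, add_comm]
  rw [show 2 * k + 1 = k + (k + 1) by ring, pow_add, pow_mul, hψ]
  refine MulEquiv.ext fun z => ?_
  obtain ⟨h1, h2⟩ := hψpow (2 ^ (k + 1))
  rw [MulAut.one_apply]
  cases z with
  | a i => exact h2 i
  | xa i =>
    have h0 : (2 ^ (k + 1) : ℕ) • c = 0 := by
      rw [nsmul_eq_mul, show (2 : ℕ) ^ (k + 1) = 2 * 2 ^ k by rw [pow_succ'], ZMod.natCast_self,
        zero_mul]
    rw [← zero_add i, ← xa_mul_a, map_mul, h1, h2, h0]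

/-! ### the quaternion group of order eight -/

/-- The centre of `Q₈` is `{1, a 2}`. -/
theorem center_eight (z : QuaternionGroup 2) :
    z ∈ Subgroup.center (QuaternionGroup 2) ↔ z = 1 ∨ z = a 2 := by
  rw [Subgroup.mem_center_iff]
  revert z
  decide

theorem center_char : (Subgroup.center (QuaternionGroup 2)).Characteristic := inferInstance

/-- The map to automorphisms of the central quotient. -/
noncomputable def toQuot :
    MulAut (QuaternionGroup 2) →* MulAut (QuaternionGroup 2 ⧸ Subgroup.center (QuaternionGroup 2)) :=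
  MonoidHom.mk' (fun φ => QuotientGroup.congr _ _ φ
    (Subgroup.characteristic_iff_map_eq.1 center_char φ)) fun φ ψ => MulEquiv.ext fun x => by
      induction x using QuotientGroup.induction_on with
      | H y => rfl

theorem toQuot_apply (φ : MulAut (QuaternionGroup 2)) (y : QuaternionGroup 2) :
    toQuot φ (y : QuaternionGroup 2 ⧸ _) = ((φ y : QuaternionGroup 2) : QuaternionGroup 2 ⧸ _) := rfl

theorem card_quot :
    Nat.card (QuaternionGroup 2 ⧸ Subgroup.center (QuaternionGroup 2)) = 4 := by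
  classical
  have h1 := Subgroup.card_eq_card_quotient_mul_card_subgroup (Subgroup.center (QuaternionGroup 2))
  have h2 : Nat.card (Subgroup.center (QuaternionGroup 2)) = 2 := by
    rw [← SetLike.coe_sort_coe, Nat.card_coe_set_eq]
    have : (Subgroup.center (QuaternionGroup 2) : Set (QuaternionGroup 2)) = {1, a 2} := by
      ext z; simpa using center_eight z
    rw [this, Set.ncard_pair (by decide)]
  rw [h2, Nat.card_eq_fintype_card, QuaternionGroup.card] at h1
  omega

/-- The inner automorphisms are the kernel. -/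
theorem ker_toQuot : toQuot.ker = (MulAut.conj : QuaternionGroup 2 →* _).range := by
  classical
  refine le_antisymm (fun φ hφ => ?_) ?_
  · have hval : ∀ y, φ y = y ∨ φ y = y * a 2 := fun y => by
      have h := DFunLike.congr_fun (MonoidHom.mem_ker.1 hφ)
        (y : QuaternionGroup 2 ⧸ Subgroup.center (QuaternionGroup 2))
      rw [toQuot_apply, MulAut.one_apply, eq_comm, QuotientGroup.eq, center_eight] at h
      rcases h with h | h
      · exact Or.inl (inv_mul_eq_one.1 h).symm
      · exact Or.inr (inv_mul_eq_iff_eq_mul.1 h)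
    have key : ∀ u v : QuaternionGroup 2, (u = a 1 ∨ u = a 1 * a 2) → (v = xa 0 ∨ v = xa 0 * a 2) →
        ∃ g : QuaternionGroup 2, g * a 1 * g⁻¹ = u ∧ g * xa 0 * g⁻¹ = v := by decide
    obtain ⟨g, hg1, hg2⟩ := key _ _ (hval (a 1)) (hval (xa 0))
    have hgen : ∀ y : QuaternionGroup 2, ∃ i : Fin 4, y = a 1 ^ (i : ℕ) ∨ y = xa 0 * a 1 ^ (i : ℕ) := by
      decide
    refine ⟨g, MulEquiv.ext fun y => ?_⟩
    rw [MulAut.conj_apply]
    obtain ⟨i, rfl | rfl⟩ := hgen y
    · rw [map_pow, ← hg1, conj_pow]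
    · rw [map_mul, map_pow, ← hg1, ← hg2, conj_pow]
      group
  · rintro _ ⟨g, rfl⟩
    refine MonoidHom.mem_ker.2 (MulEquiv.ext fun x => ?_)
    induction x using QuotientGroup.induction_on with
    | H y =>
      rw [toQuot_apply, MulAut.one_apply, eq_comm, QuotientGroup.eq, center_eight, MulAut.conj_apply]
      revert g y
      decide

/-- The image in the automorphisms of the central quotient has order dividing twenty-four. -/
theorem card_quot_aut_dvd :
    Nat.card (MulAut (QuaternionGroup 2 ⧸ Subgroup.center (QuaternionGroup 2))) ∣ 24 := by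
  classical
  refine (Subgroup.card_dvd_of_injective
    (MulAut.toPerm (QuaternionGroup 2 ⧸ Subgroup.center (QuaternionGroup 2))) fun f g h =>
      MulEquiv.ext fun x => congrFun (congrArg (fun e : Equiv.Perm _ => (e : _ → _)) h) x).trans ?_
  rw [Nat.card_perm, card_quot]
  rfl

theorem card_inner : Nat.card (MulAut.conj : QuaternionGroup 2 →* _).range = 4 := by
  rw [← Subgroup.index_ker,
    show (MulAut.conj : QuaternionGroup 2 →* _).ker = Subgroup.center (QuaternionGroup 2) from ?_,
    Subgroup.index_eq_card, card_quot]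
  ext g
  rw [MonoidHom.mem_ker, Subgroup.mem_center_iff]
  constructor
  · intro h x
    have := DFunLike.congr_fun h x
    rw [MulAut.conj_apply, MulAut.one_apply, mul_inv_eq_iff_eq_mul] at this
    exact this.symm
  · intro h
    refine MulEquiv.ext fun x => ?_
    rw [MulAut.conj_apply, MulAut.one_apply, ← h x, mul_inv_cancel_right]

/-- Prime order automorphisms of `Q₈` have order two or three. -/
theorem card_aut_dvd : Nat.card (MulAut (QuaternionGroup 2)) ∣ 4 * 24 := by
  rw [← toQuot.ker.card_mul_index, Subgroup.index_ker, ker_toQuot, card_inner]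
  exact Nat.mul_dvd_mul_left 4 ((Subgroup.card_subgroup_dvd_card _).trans card_quot_aut_dvd)

end Cfsg.Agent.TransQuat
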