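import Cfsg.Agent.BlockChar.BoundedInvol
import Cfsg.Agent.BlockChar.CardBound
import Cfsg.Agent.BlockChar.Landau
import Cfsg.Agent.BlockChar.CentralQuotient
import Cfsg.Agent.BlockThms.DefectCor
import Cfsg.Agent.Blocks.Principal
import Cfsg.Agent.CharArith.Central

/-!
Groups whose only 2-block of defect at least `r` is the principal one
-/

namespace Cfsg.Agent.TwoDeficiency

open Cfsg.Agent Cfsg.Agent.Blocks

universe u

/-- A central `p`-subgroup is bounded by the defect of every block. -/
theorem factorization_le_blockDefect {C : Type u} [Group C] [Finite C] {p : ℕ} {M : Ideal Cfsg.AlgInt}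
    (hM : Cfsg.IsPModular p M) (N : Subgroup C) [N.Normal] (hN : IsPGroup p N)
    {b : Set (Cfsg.IrrCharacter C)} (hb : Cfsg.IsPBlock M b) :
    (Nat.card N).factorization p ≤ Cfsg.blockDefect p b := by
  obtain ⟨θ, hθ, htriv⟩ := BlockThms.exists_mem_trivial_on N hM hN hb
  obtain ⟨φ, hφ, he⟩ := Char.IsIrr.exists_quotient N θ.2 htriv
  have hdeg : Cfsg.charDegree (θ : C → ℂ) = Cfsg.charDegree φ := by
    rw [Cfsg.charDegree, Cfsg.charDegree, he 1]; rfl
  have hdvd := CharArith.charDegree_dvd_card hφ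
  have h1 := BlockChar.minVal_le (p := p) hθ
  have h2 : (Cfsg.charDegree φ).factorization p ≤ (Nat.card (C ⧸ N)).factorization p :=
    (Nat.factorization_le_iff_dvd (fun h => Nat.card_pos.ne' (Nat.eq_zero_of_zero_dvd (h ▸ hdvd)))
      Nat.card_pos.ne').2 hdvd p
  have h3 := congrArg (fun n => n.factorization p)
    (Subgroup.card_eq_card_quotient_mul_card_subgroup N)
  rw [Nat.factorization_mul Nat.card_pos.ne' Nat.card_pos.ne', Finsupp.coe_add, Pi.add_apply] at h3
  rw [hdeg] at h1
  rw [BlockChar.blockDefect_eq]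
  omega

/-- The centraliser of a large 2-subgroup has one block. -/
theorem card_conjClasses_centralizer_le {G : Type u} [Group G] [Finite G] {M : Ideal Cfsg.AlgInt}
    {p r a : ℕ} (hM : Cfsg.IsPModular p M) (ha : (Nat.card G).factorization p ≤ a)
    (hnp : ∀ B : Set (Cfsg.IrrCharacter G), Cfsg.IsPBlock M B → B ≠ Cfsg.principalBlock M G →
      Cfsg.blockDefect p B < r) (F : Subgroup G) (hcomm : ∀ x ∈ F, ∀ y ∈ F, x * y = y * x)
    (hcard : Nat.card F = p ^ r) :
    Nat.card (ConjClasses (Subgroup.centralizer (F : Set G))) ≤ p ^ (2 * a) + p ^ 2 := by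
  classical
  have := Fintype.ofFinite G
  obtain ⟨C, hC⟩ : ∃ C : Subgroup G, Subgroup.centralizer (F : Set G) = C := ⟨_, rfl⟩
  rw [hC]
  have := Fintype.ofFinite C
  have hp := hM.1
  have := Fact.mk hp
  have hF : IsPGroup p F := IsPGroup.of_card hcard
  have hH : ∀ x : G, x ∈ C ↔ ∀ u ∈ F, u * x = x * u := fun x => by
    rw [← hC]; exact Subgroup.mem_centralizer_iff
  have hall : ∀ ψ : Cfsg.IrrCharacter C, ψ ∈ Cfsg.principalBlock M C := by
    intro ψ
    have hb := isPBlock_blockOf (M := M) ψ
    obtain ⟨χ₀, hχ₀⟩ := (isCenHom_res hM hF hH ψ).exists_char hM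
    have hB := isPBlock_blockOf (M := M) χ₀
    have hind : Cfsg.IsInducedBlock M C (Cfsg.blockOf M (ψ : C → ℂ))
        (Cfsg.blockOf M (χ₀ : G → ℂ)) := by
      refine (mem_inducing_iff hM hF hH hB hb (mem_blockOf_self hM ψ)).1 fun hd => ?_
      have := hχ₀ _ (isClassFunction_blockCoeff (Cfsg.blockOf M (χ₀ : G → ℂ)))
        (memLocalRing_blockCoeff hM hB)
      rw [omega_blockCoeff, if_pos (mem_blockOf_self hM χ₀)] at this
      exact not_memLocalIdeal_one hM (by simpa using memLocalIdeal_sub hM hd this)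
    have hFC : F ≤ C := fun x hx => (hH x).2 fun u hu => hcomm u hu x hx
    obtain ⟨N, hN⟩ : ∃ N : Subgroup C, F.subgroupOf C = N := ⟨_, rfl⟩
    have hNc : N ≤ Subgroup.center C := fun x hx => by
      rw [← hN, Subgroup.mem_subgroupOf] at hx
      exact Subgroup.mem_center_iff.2 fun y => Subtype.ext ((hH y).1 y.2 x hx).symm
    have : N.Normal := ⟨fun n hn g => by
      rwa [Subgroup.mem_center_iff.1 (hNc hn) g, mul_inv_cancel_right]⟩
    have hNcard : Nat.card N = p ^ r := by
      rw [← hN, Nat.card_congr (Subgroup.subgroupOfEquivOfLe hFC).toEquiv, hcard]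
    have hd := factorization_le_blockDefect hM N (IsPGroup.of_card hNcard) hb
    rw [hNcard, hp.factorization_pow, Finsupp.single_eq_same] at hd
    obtain ⟨D, hD⟩ := DefectThms.exists_defectGroup hM hb
    obtain ⟨E, hE, hDE⟩ := DefectThms.exists_defectGroup_ge_of_induced hM C hb hB hind hD
    have hle := Subgroup.card_le_of_le hDE
    rw [← Nat.card_congr (D.equivMapOfInjective _ C.subtype_injective).toEquiv,
      BlockChar.card_defectGroup hM hb hD, BlockChar.card_defectGroup hM hB hE,
      Nat.pow_le_pow_iff_right hp.one_lt] at hle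
    have hB0 : Cfsg.blockOf M (χ₀ : G → ℂ) = Cfsg.principalBlock M G := by
      by_contra hne
      have := hnp _ hB hne
      omega
    rw [hB0] at hind
    rw [← inducing_principalBlock hM hF hH]
    exact (mem_inducing_iff hM hF hH (isPBlock_principalBlock M) hb (mem_blockOf_self hM ψ)).2 hind
  have hk := BlockChar.card_le_pow_defect hM _ C (Cfsg.principalBlock M C)
    (isPBlock_principalBlock M) rfl
  have hd : Cfsg.blockDefect p (Cfsg.principalBlock M C) ≤ a := by
    rw [BlockChar.blockDefect_eq]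
    refine le_trans (Nat.sub_le _ _) (le_trans ?_ ha)
    exact (Nat.factorization_le_iff_dvd Nat.card_pos.ne' Nat.card_pos.ne').2
      (Subgroup.card_subgroup_dvd_card C) p
  have heq : Nat.card (Cfsg.principalBlock M C) = Nat.card (ConjClasses C) := by
    rw [← Char.card_irrCharacter, Nat.card_congr (Equiv.subtypeUnivEquiv hall)]
  rw [← heq]
  rcases Nat.lt_or_ge (Cfsg.blockDefect p (Cfsg.principalBlock M C)) 3 with h | h
  · exact (hk.1 (by omega)).trans (le_add_left (Nat.pow_le_pow_right hp.pos (by omega)))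
  · exact (hk.2 h).trans (le_add_right (Nat.pow_le_pow_right hp.pos (by omega)))

/-- Adjoining an involution. -/
theorem exists_insert {G : Type u} [Group G] [Finite G] {E F : Subgroup G} {e : G} (hFE : F ≤ E)
    (heE : e ∈ E) (hne : e ∉ F) (hcomm : ∀ x ∈ E, ∀ y ∈ E, x * y = y * x)
    (hsq : ∀ x ∈ E, x * x = 1) :
    ∃ H : Subgroup G, H ≤ E ∧ F ≤ H ∧ e ∈ H ∧ Nat.card H = 2 * Nat.card F ∧
      ∀ x ∈ H, x ∈ F ∨ x * e ∈ F := by
  have he := hsq e heE
  have hinv : ∀ x ∈ E, x⁻¹ = x := fun x hx => inv_eq_of_mul_eq_one_right (hsq x hx)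
  let H : Subgroup G :=
    { carrier := {x | x ∈ F ∨ x * e ∈ F}
      one_mem' := Or.inl (one_mem F)
      mul_mem' := fun {x y} hx hy => by
        rcases hx with hx | hx <;> rcases hy with hy | hy
        · exact Or.inl (mul_mem hx hy)
        · exact Or.inr (by rw [mul_assoc]; exact mul_mem hx hy)
        · exact Or.inr (by
            rw [mul_assoc, hcomm y (hFE hy) e heE, ← mul_assoc]; exact mul_mem hx hy)
        · refine Or.inl ?_
          have h := mul_mem hx hy
          rwa [mul_assoc x e, ← mul_assoc e y e, hcomm e heE y ?_, mul_assoc y e e, he,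
            mul_one] at h
          have h2 := mul_mem (hFE hy) heE
          rwa [mul_assoc, he, mul_one] at h2
      inv_mem' := fun {x} hx => by
        rcases hx with hx | hx
        · exact Or.inl (inv_mem hx)
        · refine Or.inr ?_
          have hxE : x ∈ E := by
            have h2 := mul_mem (hFE hx) heE
            rwa [mul_assoc, he, mul_one] at h2
          rwa [hinv x hxE] }
  refine ⟨H, fun x hx => ?_, fun x hx => Or.inl hx, Or.inr (by rw [he]; exact one_mem F), ?_,
    fun x hx => hx⟩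
  · rcases hx with hx | hx
    · exact hFE hx
    · have h2 := mul_mem (hFE hx) heE
      rwa [mul_assoc, he, mul_one] at h2
  rw [two_mul, ← Nat.card_sum]
  refine (Nat.card_congr (Equiv.ofBijective
    (Sum.elim (fun x : F => (⟨x, Or.inl x.2⟩ : H)) fun x : F => (⟨x * e, Or.inr (by
      rw [mul_assoc, he, mul_one]; exact x.2)⟩ : H)) ⟨?_, ?_⟩)).symm
  · rintro (x | x) (y | y) h <;> have h' := congrArg Subtype.val h <;>
      simp only [Sum.elim_inl, Sum.elim_inr] at h'
    · exact congrArg Sum.inl (Subtype.ext h')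
    · exact absurd ((Subgroup.mul_mem_cancel_left F y.2).1 (h' ▸ x.2)) hne
    · exact absurd ((Subgroup.mul_mem_cancel_left F x.2).1 (h'.symm ▸ y.2)) hne
    · exact congrArg Sum.inr (Subtype.ext (mul_right_cancel h'))
  · rintro ⟨x, hx | hx⟩
    · exact ⟨Sum.inl ⟨x, hx⟩, rfl⟩
    · exact ⟨Sum.inr ⟨x * e, hx⟩, Subtype.ext (by simp [mul_assoc, he])⟩

/-- The descending induction over subgroups of an elementary abelian group. -/
theorem exists_bound (a : ℕ) : ∀ j : ℕ, ∃ N : ℕ, ∀ (G : Type u) [Group G] [Finite G]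
    (M : Ideal Cfsg.AlgInt) (r : ℕ) (E F : Subgroup G), Cfsg.IsPModular 2 M →
    (Nat.card G).factorization 2 ≤ a →
    (∀ B : Set (Cfsg.IrrCharacter G), Cfsg.IsPBlock M B → B ≠ Cfsg.principalBlock M G →
      Cfsg.blockDefect 2 B < r) →
    (∀ x ∈ E, ∀ y ∈ E, x * y = y * x) → (∀ x ∈ E, x * x = 1) → Nat.card E = 2 ^ (r + 1) →
    F ≤ E → ∀ i, Nat.card F = 2 ^ i → i + j = r →
      Nat.card (Subgroup.centralizer (F : Set G)) ≤ N := by
  intro j
  induction j with
  | zero =>
    obtain ⟨N, hN⟩ := BlockChar.exists_bound_of_card_conjClasses.{u} (2 ^ (2 * a) + 2 ^ 2)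
    refine ⟨N, fun G _ _ M r E F hM ha hnp hcomm hsq hcard hFE i hi hir => hN _ ?_⟩
    exact card_conjClasses_centralizer_le hM ha hnp F
      (fun x hx y hy => hcomm x (hFE hx) y (hFE hy)) (by rw [hi]; congr 1)
  | succ j ih =>
    obtain ⟨B, hB⟩ := ih
    obtain ⟨N, hN⟩ := BoundedInvol.exists_bound.{u} a B
    refine ⟨N, fun G _ _ M r E F hM ha hnp hcomm hsq hcard hFE i hi hir => ?_⟩
    have hlt : ∀ H : Subgroup G, H ≤ E → Nat.card H < 2 ^ (r + 1) → ∃ e ∈ E, e ∉ H := by
      intro H _ hH
      by_contra hno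
      push Not at hno
      have h2 := Subgroup.card_le_of_le (show E ≤ H from hno)
      omega
    obtain ⟨e1, he1, hne1⟩ := hlt F hFE (by rw [hi]; exact Nat.pow_lt_pow_right one_lt_two (by omega))
    obtain ⟨H1, hH1E, hFH1, he1H, hH1, -⟩ := exists_insert hFE he1 hne1 hcomm hsq
    rw [hi, ← pow_succ'] at hH1
    obtain ⟨e2, he2, hne2⟩ := hlt H1 hH1E
      (by rw [hH1]; exact Nat.pow_lt_pow_right one_lt_two (by omega))
    have hne2F : e2 ∉ F := fun h => hne2 (hFH1 h)
    have hne3 : e1 * e2 ∉ F := fun h => hne2 (by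
      have := mul_mem (inv_mem he1H) (hFH1 h)
      rwa [← mul_assoc, inv_mul_cancel, one_mul] at this)
    have key : ∀ e ∈ E, e ∉ F → Nat.card (Subgroup.centralizer (F : Set G) ⊓
        Subgroup.centralizer ({e} : Set G) : Subgroup G) ≤ B := by
      intro e he hne
      obtain ⟨H, hHE, hFH, heH, hHc, hHmem⟩ := exists_insert hFE he hne hcomm hsq
      rw [hi, ← pow_succ'] at hHc
      refine le_trans (Subgroup.card_le_of_le ?_)
        (hB G M r E H hM ha hnp hcomm hsq hcard hHE (i + 1) hHc (by omega))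
      intro x hx
      refine Subgroup.mem_centralizer_iff.2 fun y hy => ?_
      obtain ⟨hxF, hxe⟩ := Subgroup.mem_inf.1 hx
      have hxe' : Commute x e := Subgroup.mem_centralizer_singleton_iff.1 hxe
      rcases hHmem y hy with h | h
      · exact Subgroup.mem_centralizer_iff.1 hxF y h
      · have h1 : Commute x (y * e) := (Subgroup.mem_centralizer_iff.1 hxF _ h).symm
        have h2 := h1.mul_right hxe'
        rw [mul_assoc, hsq e he, mul_one] at h2
        exact h2.symm
    have hnorm : ∀ e ∈ E, ∀ x ∈ Subgroup.centralizer (F : Set G),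
        e * x * e ∈ Subgroup.centralizer (F : Set G) := by
      intro e he x hx
      have hee : e ∈ Subgroup.centralizer (F : Set G) :=
        Subgroup.mem_centralizer_iff.2 fun y hy => hcomm y (hFE hy) e he
      exact mul_mem (mul_mem hee hx) hee
    exact hN G (Subgroup.centralizer (F : Set G))
      { e1 := e1
        e2 := e2
        e3 := e1 * e2
        sq1 := hsq _ he1
        sq2 := hsq _ he2
        sq3 := hsq _ (mul_mem he1 he2)
        mul12 := rfl
        comm := hcomm _ he1 _ he2
        norm1 := hnorm e1 he1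
        norm2 := hnorm e2 he2
        bd1 := key e1 he1 hne1
        bd2 := key e2 he2 hne2F
        bd3 := key _ (mul_mem he1 he2) hne3 }
      (le_trans ((Nat.factorization_le_iff_dvd Nat.card_pos.ne' Nat.card_pos.ne').2
        (Subgroup.card_subgroup_dvd_card _) 2) ha)

end Cfsg.Agent.TwoDeficiency
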