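import Cfsg.Agent.BlockChar.FieldValues
import Cfsg.Agent.MaxClass.Class

/-!
Sylow 2-subgroups of maximal class and fields of values
-/

set_option autoImplicit false

namespace Cfsg.Agent.TwoMaxField

open Cfsg.Agent
open scoped commutatorElement

universe u

variable {G : Type u} [Group G] [Finite G]

/-- A power coprime to the group order in a given odd class modulo a power of two. -/
theorem exists_coprime_exponent {N : ℕ} (hN : N ≠ 0) {r : ℕ} (hr : Odd r) {e : ℕ}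
    (he : e ≤ N.factorization 2) : ∃ k, k.Coprime N ∧ k ≡ r [MOD 2 ^ e] := by
  have hcop : Nat.Coprime (2 ^ N.factorization 2) (ordCompl[2] N) :=
    (Nat.coprime_ordCompl Nat.prime_two hN).pow_left _
  obtain ⟨k, hk1, hk2⟩ := Nat.chineseRemainder hcop r 1
  refine ⟨k, ?_, hk1.of_dvd (pow_dvd_pow 2 he)⟩
  rw [← Nat.ordProj_mul_ordCompl_eq_self N 2]
  refine Nat.Coprime.mul_right ?_ ?_
  · rw [Nat.Coprime, hk1.gcd_eq]
    exact (Nat.coprime_two_right.2 hr).pow_right _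
  · rw [Nat.Coprime, hk2.gcd_eq, Nat.gcd_one_left]

/-- Few conjugates of `g` in the group it generates. -/
theorem conj_mem_zpowers_cases {g b x : G} {m : ℕ} (hg : orderOf g = 2 ^ m)
    (hG : (Nat.card G).factorization 2 ≤ m + 1) (hb : b * g * b⁻¹ ∈ Subgroup.zpowers g)
    (hbne : b * g * b⁻¹ ≠ g) (hx : x * g * x⁻¹ ∈ Subgroup.zpowers g) :
    x * g * x⁻¹ = g ∨ x * g * x⁻¹ = b * g * b⁻¹ := by
  obtain ⟨Z, hZ⟩ : ∃ Z : Subgroup G, Subgroup.zpowers g = Z := ⟨_, rfl⟩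
  have hnorm : ∀ y : G, y * g * y⁻¹ ∈ Z → y ∈ Subgroup.normalizer (Z : Set G) := by
    intro y hy
    have h1 : Z.map (MulAut.conj y).toMonoidHom ≤ Z := by
      conv_lhs => rw [← hZ, MonoidHom.map_zpowers]
      exact Subgroup.zpowers_le.2 hy
    have h2 : Z.map (MulAut.conj y).toMonoidHom = Z := by
      refine Subgroup.eq_of_le_of_card_ge h1 (le_of_eq ?_)
      exact Nat.card_congr (Z.equivMapOfInjective _ (MulAut.conj y).injective).toEquiv
    rw [Subgroup.mem_normalizer_iff]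
    intro z
    constructor
    · intro hz
      rw [← h2]
      exact ⟨z, hz, rfl⟩
    · intro hz
      rw [← h2] at hz
      obtain ⟨w, hw, hwz⟩ := hz
      have : w = z := (MulAut.conj y).injective hwz
      exact this ▸ hw
  have hgZ : g ∈ Z := hZ ▸ Subgroup.mem_zpowers g
  let f := Z.normalizerMonoidHom
  have hval : ∀ y : Subgroup.normalizer (Z : Set G),
      ((f y ⟨g, hgZ⟩ : Z) : G) = (y : G) * g * (y : G)⁻¹ := fun _ => rfl
  haveI : IsCyclic Z := hZ ▸ inferInstance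
  have hcardZ : Nat.card Z = 2 ^ m := by rw [← hZ, Nat.card_zpowers, hg]
  obtain ⟨j, hj⟩ : ∃ j, Nat.card f.range = 2 ^ j := by
    obtain ⟨j, -, hj⟩ := (Nat.dvd_prime_pow Nat.prime_two).1
      ((Subgroup.card_subgroup_dvd_card f.range).trans (dvd_of_eq (show Nat.card (MulAut Z) = 2 ^ (m - 1) by
        rw [IsCyclic.card_mulAut, hcardZ]
        rcases Nat.eq_zero_or_pos m with h0 | h0
        · simp [h0]
        · rw [Nat.totient_prime_pow Nat.prime_two h0]; simp)))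
    exact ⟨j, hj⟩
  have hker : ∀ z ∈ Z, ∃ h : z ∈ Subgroup.normalizer (Z : Set G), f ⟨z, h⟩ = 1 := by
    intro z hz
    refine ⟨Subgroup.le_normalizer hz, MulEquiv.ext fun w => Subtype.ext ?_⟩
    show z * (w : G) * z⁻¹ = (w : G)
    have hc : Commute z (w : G) :=
      congrArg Subtype.val ((IsCyclic.commutative (α := Z)).is_comm.comm ⟨z, hz⟩ w)
    rw [hc.eq, mul_inv_cancel_right]
  have hj1 : j ≤ 1 := by
    have h1 : Nat.card Z ≤ Nat.card f.ker := by
      choose h₁ h₂ using hker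
      exact Nat.card_le_card_of_injective
        (fun z : Z => (⟨⟨(z : G), h₁ z z.2⟩, h₂ z z.2⟩ : f.ker))
        fun u v h => Subtype.ext (congrArg (fun q : f.ker => ((q : Subgroup.normalizer (Z : Set G)) : G)) h)
    have h2 : 2 ^ (m + j) ∣ Nat.card G := by
      refine (dvd_trans ?_ (Subgroup.card_subgroup_dvd_card (Subgroup.normalizer (Z : Set G))))
      rw [← f.ker.card_mul_index, Subgroup.index_ker, hj, pow_add]
      refine Nat.mul_dvd_mul_right ?_ _
      choose h₁ h₂ using hker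
      rw [← hcardZ]
      refine Subgroup.card_dvd_of_injective
        (MonoidHom.mk' (fun z : Z => (⟨⟨(z : G), h₁ z z.2⟩, h₂ z z.2⟩ : f.ker)) fun _ _ => rfl)
        fun u v h => Subtype.ext (congrArg (fun q : f.ker => ((q : Subgroup.normalizer (Z : Set G)) : G)) h)
    have h3 := (Nat.prime_two.pow_dvd_iff_le_factorization Nat.card_pos.ne').1 h2
    omega
  obtain ⟨σ, hσ⟩ : ∃ σ, f ⟨b, hnorm b (hZ ▸ hb)⟩ = σ := ⟨_, rfl⟩
  obtain ⟨τ, hτ⟩ : ∃ τ, f ⟨x, hnorm x (hZ ▸ hx)⟩ = τ := ⟨_, rfl⟩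
  have hσ1 : σ ≠ 1 := fun e => hbne (by
    have := hval ⟨b, hnorm b (hZ ▸ hb)⟩
    rw [hσ, e] at this
    exact this.symm)
  by_contra hcon
  push Not at hcon
  obtain ⟨hc1, hc2⟩ := hcon
  have hτ1 : τ ≠ 1 := fun e => hc1 (by
    have := hval ⟨x, hnorm x (hZ ▸ hx)⟩
    rw [hτ, e] at this
    exact this.symm)
  have hτσ : τ ≠ σ := fun e => hc2 (by
    have h1 := hval ⟨x, hnorm x (hZ ▸ hx)⟩
    have h2 := hval ⟨b, hnorm b (hZ ▸ hb)⟩
    rw [hτ, e] at h1
    rw [hσ] at h2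
    exact h1.symm.trans h2)
  have h3 : 3 ≤ Nat.card f.range := by
    have hs : ({1, σ, τ} : Set (MulAut Z)).ncard = 3 :=
      Set.ncard_eq_three.2 ⟨1, σ, τ, hσ1.symm, hτ1.symm, hτσ.symm, rfl⟩
    rw [← hs]
    refine le_of_le_of_eq ?_ (Nat.card_coe_set_eq (f.range : Set (MulAut Z))).symm
    refine Set.ncard_le_ncard ?_ (Set.toFinite _)
    rintro y (rfl | rfl | rfl)
    · exact one_mem _
    · exact ⟨_, hσ⟩
    · exact ⟨_, hτ⟩
  rw [hj] at h3
  have := Nat.pow_le_pow_right two_pos hj1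
  omega

theorem pow_eq_pow_iff_mod {ζ : ℂ} {M : ℕ} (hζ : IsPrimitiveRoot ζ M) (hM : M ≠ 0) (k c : ℕ) :
    ζ ^ k = ζ ^ c ↔ k ≡ c [MOD M] := by
  rw [pow_eq_pow_mod k hζ.pow_eq_one, pow_eq_pow_mod c hζ.pow_eq_one]
  exact ⟨fun h => hζ.pow_inj (Nat.mod_lt _ (Nat.pos_of_ne_zero hM))
    (Nat.mod_lt _ (Nat.pos_of_ne_zero hM)) h, fun h => congrArg (fun i => ζ ^ i) h⟩

/-- The powers fixing `ζ + ε/ζ`. -/
theorem fix_iff {ζ : ℂ} {M : ℕ} (hζ : IsPrimitiveRoot ζ M) (hM : M ≠ 0) {ε : ℂ} {c : ℕ}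
    (hc : ζ ^ c * ζ = ε) (k : ℕ) :
    ζ ^ k + ε * (ζ ^ k)⁻¹ = ζ + ε * ζ⁻¹ ↔ k ≡ 1 [MOD M] ∨ k ≡ c [MOD M] := by
  have h0 : ζ ≠ 0 := hζ.ne_zero hM
  have hk0 : ζ ^ k ≠ 0 := pow_ne_zero _ h0
  rw [← pow_eq_pow_iff_mod hζ hM, ← pow_eq_pow_iff_mod hζ hM, pow_one]
  subst hc
  have key : ζ ^ k + ζ ^ c * ζ * (ζ ^ k)⁻¹ - (ζ + ζ ^ c * ζ * ζ⁻¹) =
      (ζ ^ k - ζ) * (ζ ^ k - ζ ^ c) / ζ ^ k := by
    field_simp
    ring
  rw [← sub_eq_zero, key, div_eq_zero_iff, mul_eq_zero]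
  simp [sub_eq_zero, hk0]

/-- `ℚ(ζ + ε/ζ)` as a field of values. -/
theorem adjoin_values_eq_iff_exponents {g : G} {n : ℕ} {ζ : ℂ}
    (hζ : IsPrimitiveRoot ζ (2 ^ (n - 1))) (hdvd : 2 ^ (n - 1) ∣ Nat.card G) {ε : ℂ} {c : ℕ}
    (hc : ζ ^ c * ζ = ε) (hε : ε = 1 ∨ ε = -1) {x : ℂ} (hx : x = ζ + ε * ζ⁻¹) :
    IntermediateField.adjoin ℚ {z : ℂ | ∃ χ : Cfsg.IrrCharacter G, (χ : G → ℂ) g = z} =
        IntermediateField.adjoin ℚ ({x} : Set ℂ) ↔
      ∀ k : ℕ, k.Coprime (Nat.card G) →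
        (IsConj (g ^ k) g ↔ k ≡ 1 [MOD 2 ^ (n - 1)] ∨ k ≡ c [MOD 2 ^ (n - 1)]) := by
  obtain ⟨d, hd⟩ := hdvd
  have hζN : ζ ^ Nat.card G = 1 := by rw [hd, pow_mul, hζ.pow_eq_one, one_pow]
  have hζm : ζ ∈ Char.cycField (Nat.card G) := IntermediateField.subset_adjoin ℚ _ hζN
  have hεm : ε ∈ Char.cycField (Nat.card G) := hc ▸ mul_mem (pow_mem hζm c) hζm
  have hxm : x ∈ Char.cycField (Nat.card G) := hx ▸ add_mem hζm (mul_mem hεm (inv_mem hζm))
  rw [FieldValues.adjoin_values_eq_iff g hxm]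
  have hσε : ∀ (k : ℕ) (σ : ℂ →+* ℂ), (∀ w : ℂ, w ^ Nat.card G = 1 → σ w = w ^ k) → σ ε = ε →
      (σ x = x ↔ ζ ^ k + ε * (ζ ^ k)⁻¹ = ζ + ε * ζ⁻¹) := by
    intro k σ hσ he
    rw [hx, map_add, map_mul, map_inv₀, hσ ζ hζN, he]
  constructor
  · intro h k hk
    obtain ⟨σ, hσ⟩ := Char.exists_galois (Nat.card G) k Nat.card_pos.ne' hk
    rw [h k σ hk hσ, ← fix_iff hζ (pow_ne_zero _ two_ne_zero) hc k]
    exact hσε k σ hσ (by rcases hε with e | e <;> simp [e])
  · intro h k σ hk hσ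
    rw [h k hk, ← fix_iff hζ (pow_ne_zero _ two_ne_zero) hc k]
    exact (hσε k σ hσ (by rcases hε with e | e <;> simp [e])).symm

theorem pow_half_eq_neg_one {ζ : ℂ} {n : ℕ} (hn : 3 ≤ n) (hζ : IsPrimitiveRoot ζ (2 ^ (n - 1))) :
    ζ ^ (2 ^ (n - 2)) = -1 := by
  refine IsPrimitiveRoot.eq_neg_one_of_two_right ?_
  refine hζ.pow (pow_pos two_pos _) ?_
  rw [← pow_succ]
  congr 1
  omega

/-- The two possible exponents. -/
theorem exponent_cases {ζ : ℂ} {n : ℕ} (hn : 3 ≤ n) (hζ : IsPrimitiveRoot ζ (2 ^ (n - 1)))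
    {c : ℕ} (hc : c + 1 = 2 ^ (n - 1) ∨ c + 1 = 2 ^ (n - 2)) :
    ∃ ε : ℂ, (ε = 1 ∨ ε = -1) ∧ ζ ^ c * ζ = ε ∧
      (ε = 1 ↔ c + 1 = 2 ^ (n - 1)) := by
  have hne : (2 : ℕ) ^ (n - 1) ≠ 2 ^ (n - 2) := fun e => by
    have := Nat.pow_right_injective le_rfl e
    omega
  rcases hc with h | h
  · exact ⟨1, Or.inl rfl, by rw [← pow_succ, h, hζ.pow_eq_one], iff_of_true rfl h⟩
  · refine ⟨-1, Or.inr rfl, by rw [← pow_succ, h, pow_half_eq_neg_one hn hζ], iff_of_false ?_ ?_⟩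
    · norm_num
    · omega

theorem not_le_centralizer {g : G} (P : Sylow 2 G)
    (h : 2 ∣ (Subgroup.centralizer ({g} : Set G)).index) :
    ∃ y ∈ (P : Subgroup G), y * g ≠ g * y := by
  by_contra hno
  push Not at hno
  have hle : (P : Subgroup G) ≤ Subgroup.centralizer ({g} : Set G) := fun y hy =>
    Subgroup.mem_centralizer_singleton_iff.2 (hno y hy)
  exact P.not_dvd_index (h.trans (Subgroup.index_dvd_of_le hle))

theorem factorization_card (P : Sylow 2 G) {n : ℕ} (hP : Nat.card P = 2 ^ n) :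
    (Nat.card G).factorization 2 = n := by
  have h := P.card_eq_multiplicity
  rw [hP] at h
  exact (Nat.pow_right_injective le_rfl h).symm

theorem two_pow_dvd_card (P : Sylow 2 G) {n j : ℕ} (hP : Nat.card P = 2 ^ n) (hj : j ≤ n) :
    2 ^ j ∣ Nat.card G :=
  (pow_dvd_pow 2 hj).trans (hP ▸ Subgroup.card_subgroup_dvd_card (P : Subgroup G))

/-- Forward. -/
theorem forward (P : Sylow 2 G) {n : ℕ} (hn : 3 ≤ n) (hP : Nat.card P = 2 ^ n) {ζ : ℂ}
    (hζ : IsPrimitiveRoot ζ (2 ^ (n - 1))) (hi : (commutator ↥P).index = 4) :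
    ∃ g : G, g ∈ (P : Subgroup G) ∧ 2 ∣ (Subgroup.centralizer ({g} : Set G)).index ∧
      (IntermediateField.adjoin ℚ {z : ℂ | ∃ χ : Cfsg.IrrCharacter G, (χ : G → ℂ) g = z} =
          IntermediateField.adjoin ℚ ({ζ + ζ⁻¹} : Set ℂ) ∨
        IntermediateField.adjoin ℚ {z : ℂ | ∃ χ : Cfsg.IrrCharacter G, (χ : G → ℂ) g = z} =
          IntermediateField.adjoin ℚ ({ζ - ζ⁻¹} : Set ℂ)) := by
  have := Fact.mk Nat.prime_two
  have hS : IsPGroup 2 ↥P := P.2
  have hne : commutator ↥P ≠ ⊥ := fun e => by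
    rw [e, Subgroup.index_bot, show Nat.card ↥P = 2 ^ n from hP] at hi
    have := Nat.pow_right_injective le_rfl (hi.trans (show (4 : ℕ) = 2 ^ 2 by norm_num))
    omega
  obtain ⟨m, a, b, u, hm, hcard, ha, hidx, -, hu, hconj⟩ :=
    MaxClass.MC.data (MaxClass.mc_of_commutator hS hi hne)
  rw [show Nat.card ↥P = 2 ^ n from hP] at hcard
  have hmn : m + 1 = n := (Nat.pow_right_injective le_rfl hcard).symm
  obtain rfl : m = n - 1 := by omega
  -- the exponent
  have hbne : b * a * b⁻¹ ≠ a := by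
    intro e
    rw [hconj] at e
    nth_rw 2 [← zpow_one a] at e
    rw [MaxClass.zpow_eq_iff ha, dvd_sub_comm, show 2 * u + 1 - 1 = 2 * u by ring,
      show (2 : ℤ) ^ (n - 1) = 2 * 2 ^ (n - 2) by rw [← pow_succ']; congr 1; omega,
      mul_dvd_mul_iff_left (two_ne_zero : (2 : ℤ) ≠ 0)] at e
    exact (Int.not_even_iff_odd.2 hu)
      (even_iff_two_dvd.2 ((dvd_pow_self 2 (by omega)).trans e))
  have hsq : (2 : ℤ) ^ (n - 1) ∣ (2 * u + 1) ^ 2 - 1 := by
    rw [← MaxClass.zpow_eq_iff ha, zpow_one, pow_two, ← MaxClass.conj_zpow_of_eq hconj, ← hconj]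
    have hb2 : b * b ∈ Subgroup.zpowers a := Subgroup.mul_self_mem_of_index_two hidx b
    obtain ⟨i, hi⟩ := Subgroup.mem_zpowers_iff.1 hb2
    rw [show b * (b * a * b⁻¹) * b⁻¹ = (b * b) * a * (b * b)⁻¹ by group, ← hi]
    group
  obtain ⟨c, hc, hbc⟩ : ∃ c : ℕ, (c + 1 = 2 ^ (n - 1) ∨ c + 1 = 2 ^ (n - 2)) ∧
      b * a * b⁻¹ = a ^ c := by
    have key : ∀ j : ℕ, (2 : ℤ) ^ (n - 1) ∣ (2 * u + 1) - ((2 : ℤ) ^ j - 1) →
        b * a * b⁻¹ = a ^ (2 ^ j - 1 : ℕ) := fun j hd => by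
      rw [hconj, ← zpow_natCast, Nat.cast_sub Nat.one_le_two_pow, MaxClass.zpow_eq_iff ha, dvd_sub_comm]
      simpa using hd
    rcases MaxClass.sqrt_one_cases hm hsq with h | h | h | h
    · exfalso
      refine hbne ?_
      rw [hconj, ← sub_add_cancel (2 * u + 1) 1]
      conv_rhs => rw [← zpow_one a]
      rw [MaxClass.zpow_eq_iff ha]
      first | simpa using h | (rw [dvd_sub_comm]; simpa using h)
    · refine ⟨2 ^ (n - 1) - 1, Or.inl (by have := Nat.one_le_two_pow (n := n - 1); omega), key _ ?_⟩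
      have := dvd_sub h (dvd_refl ((2 : ℤ) ^ (n - 1)))
      rwa [show (2 * u + 1 + 1) - (2 : ℤ) ^ (n - 1) = 2 * u + 1 - (2 ^ (n - 1) - 1) by ring] at this
    · -- `1 + 2 ^ (n - 2)` only occurs for `n = 3`
      rw [show n - 1 - 1 = n - 2 by omega] at h
      rcases Nat.lt_or_ge n 4 with h4 | h4
      · obtain rfl : n = 3 := by omega
        refine ⟨2 ^ (3 - 1) - 1, Or.inl (by norm_num), key _ ?_⟩
        norm_num at h ⊢
        omega
      · exfalso
        have hd : (4 : ℤ) ∣ 2 * u + 1 - (1 + 2 ^ (n - 2)) := by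
          refine dvd_trans ?_ h
          rw [show (4 : ℤ) = 2 ^ 2 by norm_num]
          exact pow_dvd_pow 2 (by omega)
        have h4' : (4 : ℤ) ∣ 2 ^ (n - 2) := by
          rw [show (4 : ℤ) = 2 ^ 2 by norm_num]
          exact pow_dvd_pow 2 (by omega)
        obtain ⟨w, rfl⟩ := hu
        omega
    · refine ⟨2 ^ (n - 2) - 1, Or.inr (by have := Nat.one_le_two_pow (n := n - 2); omega), key _ ?_⟩
      rw [show n - 1 - 1 = n - 2 by omega] at h
      convert h using 1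
      ring
  obtain ⟨g, hg⟩ : ∃ g : G, (a : G) = g := ⟨_, rfl⟩
  have hgo : orderOf g = 2 ^ (n - 1) := by rw [← hg, Subgroup.orderOf_coe, ha]
  have hconjG : (b : G) * g * (b : G)⁻¹ = g ^ c := by
    rw [← hg]; exact congrArg Subtype.val hbc
  have hgne : (b : G) * g * (b : G)⁻¹ ≠ g := fun e => hbne (Subtype.ext (by rw [← hg] at e; exact e))
  refine ⟨g, hg ▸ a.2, ?_, ?_⟩
  · by_contra hodd
    obtain ⟨Q, hQ⟩ : ∃ Q : Sylow 2 G, (Q : Subgroup G) ≤ Subgroup.centralizer ({g} : Set G) := by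
      obtain ⟨Q₀⟩ : Nonempty (Sylow 2 (Subgroup.centralizer ({g} : Set G))) := inferInstance
      obtain ⟨Q, hQ⟩ := ((Q₀.2).map (Subgroup.subtype _)).exists_le_sylow
      have hcard₀ : Nat.card (Q₀ : Subgroup (Subgroup.centralizer ({g} : Set G))) =
          Nat.card (Q : Subgroup G) := by
        rw [Q₀.card_eq_multiplicity, Q.card_eq_multiplicity,
          ← (Subgroup.centralizer ({g} : Set G)).card_mul_index,
          Nat.factorization_mul Nat.card_pos.ne' Subgroup.index_ne_zero_of_finite, Finsupp.coe_add,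
          Pi.add_apply, Nat.factorization_eq_zero_of_not_dvd hodd, add_zero]
      refine ⟨Q, ?_⟩
      have := Subgroup.eq_of_le_of_card_ge hQ (le_of_eq (by
        rw [← hcard₀]
        exact (Nat.card_congr ((Q₀ : Subgroup (Subgroup.centralizer ({g} : Set G))).equivMapOfInjective _
          (Subgroup.subtype_injective _)).toEquiv)))
      rw [← this]
      exact Subgroup.map_subtype_le _
    have hgQ : g ∈ (Q : Subgroup G) := by
      have hp : IsPGroup 2 (Subgroup.zpowers g) :=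
        IsPGroup.of_card (by rw [Nat.card_zpowers, hgo])
      have hnorm : Subgroup.zpowers g ≤ Subgroup.normalizer ((Q : Subgroup G) : Set G) :=
        Subgroup.zpowers_le.2 (by
          rw [Subgroup.mem_normalizer_iff]
          intro z
          have hz : ∀ z ∈ (Q : Subgroup G), g * z * g⁻¹ = z := fun z hz => by
            rw [← Subgroup.mem_centralizer_singleton_iff.1 (hQ hz), mul_inv_cancel_right]
          refine ⟨fun h => (hz z h).symm ▸ h, fun h => ?_⟩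
          have h1 := hz _ h
          have h2 : g * z * g⁻¹ = z := by
            have := congrArg (fun w => g⁻¹ * w * g) h1
            simpa [mul_assoc] using this
          exact h2 ▸ h)
      exact le_sup_left.trans (le_of_eq (Q.is_maximal' (hp.to_sup_of_normal_right' Q.2 hnorm)
        le_sup_right)) (Subgroup.mem_zpowers g)
    have hzc : (⟨g, hgQ⟩ : (Q : Subgroup G)) ∈ Subgroup.center (Q : Subgroup G) :=
      Subgroup.mem_center_iff.2 fun y => Subtype.ext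
        (Subgroup.mem_centralizer_singleton_iff.1 (hQ y.2))
    let e : (Q : Subgroup G) ≃* (P : Subgroup G) := Sylow.equiv Q P
    have hz : e ⟨g, hgQ⟩ ∈ Subgroup.center ↥P := Subgroup.mem_center_iff.2 fun y => by
      obtain ⟨y', rfl⟩ := e.surjective y
      rw [← map_mul, ← map_mul, Subgroup.mem_center_iff.1 hzc]
    refine hne ?_
    have hle : 2 ^ (n - 1) ≤ Nat.card (Subgroup.center ↥P) := by
      rw [← hgo, show orderOf g = orderOf (e ⟨g, hgQ⟩) by
        rw [MulEquiv.orderOf_eq, Subgroup.orderOf_mk], ← Nat.card_zpowers]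
      exact Subgroup.card_le_of_le (Subgroup.zpowers_le.2 hz)
    have hidx2 : (Subgroup.center ↥P).index ≤ 2 := by
      have h1 := (Subgroup.center ↥P).card_mul_index
      rw [show Nat.card ↥P = 2 ^ n from hP, show n = n - 1 + 1 by omega, pow_succ] at h1
      exact Nat.le_of_mul_le_mul_left (h1 ▸ Nat.mul_le_mul_right _ hle) (pow_pos two_pos _)
    haveI : IsCyclic (↥P ⧸ Subgroup.center ↥P) := by
      rcases Nat.lt_or_ge (Subgroup.center ↥P).index 2 with h | h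
      · have h1 : (Subgroup.center ↥P).index = 1 := by
          have := Nat.pos_of_ne_zero (Subgroup.index_ne_zero_of_finite (H := Subgroup.center ↥P))
          omega
        haveI : Subsingleton (↥P ⧸ Subgroup.center ↥P) :=
          Finite.card_le_one_iff_subsingleton.1 (by rw [← Subgroup.index_eq_card, h1])
        infer_instance
      · exact isCyclic_of_prime_card (p := 2) (by rw [← Subgroup.index_eq_card]; omega)
    rw [_root_.commutator_def, Subgroup.commutator_eq_bot_iff_le_centralizer]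
    intro x _
    rw [Subgroup.mem_centralizer_iff]
    intro y _
    exact commutative_of_cyclic_center_quotient (QuotientGroup.mk' (Subgroup.center ↥P))
      (by rw [QuotientGroup.ker_mk']) y x
  obtain ⟨ε, hε, hζc, -⟩ := exponent_cases hn hζ hc
  have key := (adjoin_values_eq_iff_exponents (g := g) hζ (two_pow_dvd_card P hP (by omega)) hζc hε
    (x := ζ + ε * ζ⁻¹) rfl).2 fun k _ => by
      rw [← hgo, ← pow_eq_pow_iff_modEq, ← pow_eq_pow_iff_modEq, pow_one]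
      constructor
      · intro hk
        obtain ⟨x, hx⟩ := isConj_iff.1 hk.symm
        rw [← hconjG, ← hx]
        refine conj_mem_zpowers_cases hgo (by rw [factorization_card P hP]; omega) ?_ hgne ?_
        · rw [hconjG]; exact Subgroup.npow_mem_zpowers g c
        · rw [hx]; exact Subgroup.npow_mem_zpowers g k
      · rintro (h | h)
        · rw [h]
        · rw [h, ← hconjG]
          exact (isConj_iff.2 ⟨_, rfl⟩).symm
  rcases hε with rfl | rfl
  · left; rw [one_mul] at key; exact key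
  · right; rw [neg_one_mul, ← sub_eq_add_neg] at key; exact key

/-- Backward. -/
theorem backward (P : Sylow 2 G) {n : ℕ} (hn : 3 ≤ n) (hP : Nat.card P = 2 ^ n) {ζ : ℂ}
    (hζ : IsPrimitiveRoot ζ (2 ^ (n - 1))) {g : G} (hgP : g ∈ (P : Subgroup G))
    (hidx : 2 ∣ (Subgroup.centralizer ({g} : Set G)).index)
    (hK : IntermediateField.adjoin ℚ {z : ℂ | ∃ χ : Cfsg.IrrCharacter G, (χ : G → ℂ) g = z} =
          IntermediateField.adjoin ℚ ({ζ + ζ⁻¹} : Set ℂ) ∨
        IntermediateField.adjoin ℚ {z : ℂ | ∃ χ : Cfsg.IrrCharacter G, (χ : G → ℂ) g = z} =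
          IntermediateField.adjoin ℚ ({ζ - ζ⁻¹} : Set ℂ)) :
    (commutator ↥P).index = 4 := by
  have := Fact.mk Nat.prime_two
  obtain ⟨y, hy, hyg⟩ := not_le_centralizer P hidx
  have hne : commutator ↥P ≠ ⊥ := fun e => by
    rw [_root_.commutator_def, Subgroup.commutator_eq_bot_iff_le_centralizer] at e
    have h := Subgroup.mem_centralizer_iff.1 (e (Subgroup.mem_top (⟨g, hgP⟩ : ↥P)))
      ⟨y, hy⟩ (Subgroup.mem_top _)
    exact hyg (congrArg Subtype.val h)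
  have h4 := MaxClass.four_le_index_commutator P.2 hne
  refine le_antisymm ?_ h4
  obtain ⟨j, hjn, hj⟩ := (Nat.dvd_prime_pow Nat.prime_two).1
    (hP ▸ (commutator ↥P).index_dvd_card)
  have hjlt : j < n := by
    rcases hjn.lt_or_eq with h | h
    · exact h
    · exfalso
      have h1 := (commutator ↥P).card_mul_index
      rw [hj, h, show Nat.card ↥P = 2 ^ n from hP] at h1
      exact hne (Subgroup.eq_bot_of_card_eq _ (Nat.eq_of_mul_eq_mul_right (pow_pos two_pos n)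
        (h1.trans (one_mul _).symm)))
  rcases Nat.lt_or_ge n 4 with hn4 | hn4
  · rw [hj, show (4 : ℕ) = 2 ^ 2 by norm_num]
    exact Nat.pow_le_pow_right two_pos (by omega)
  obtain ⟨c, hc, ε, hε, hζc, hKc⟩ : ∃ c, (c + 1 = 2 ^ (n - 1) ∨ c + 1 = 2 ^ (n - 2)) ∧ ∃ ε : ℂ,
      (ε = 1 ∨ ε = -1) ∧ ζ ^ c * ζ = ε ∧
      IntermediateField.adjoin ℚ {z : ℂ | ∃ χ : Cfsg.IrrCharacter G, (χ : G → ℂ) g = z} =
        IntermediateField.adjoin ℚ ({ζ + ε * ζ⁻¹} : Set ℂ) := by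
    rcases hK with h | h
    · have hc : 2 ^ (n - 1) - 1 + 1 = 2 ^ (n - 1) := Nat.sub_add_cancel Nat.one_le_two_pow
      exact ⟨_, Or.inl hc, 1, Or.inl rfl, by rw [← pow_succ, hc, hζ.pow_eq_one], by rwa [one_mul]⟩
    · have hc : 2 ^ (n - 2) - 1 + 1 = 2 ^ (n - 2) := Nat.sub_add_cancel Nat.one_le_two_pow
      exact ⟨_, Or.inr hc, -1, Or.inr rfl,
        by rw [← pow_succ, hc, pow_half_eq_neg_one hn hζ],
        by rwa [neg_one_mul, ← sub_eq_add_neg]⟩
  have hexp := (adjoin_values_eq_iff_exponents (g := g) hζ (two_pow_dvd_card P hP (by omega)) hζc hε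
    rfl).1 hKc
  -- the order of `g`
  obtain ⟨m, hm⟩ := IsPGroup.iff_orderOf.1 P.2 ⟨g, hgP⟩
  rw [Subgroup.orderOf_mk] at hm
  have hmn : m ≤ n := by
    rw [← Nat.pow_le_pow_iff_right one_lt_two, ← hm, ← hP, ← Subgroup.orderOf_mk (H := (P : Subgroup G)) g hgP]
    exact Nat.le_of_dvd Nat.card_pos (orderOf_dvd_natCard _)
  have hmne : m ≠ n := fun e => by
    have hcyc : IsCyclic ↥P := isCyclic_of_orderOf_eq_card (⟨g, hgP⟩ : ↥P)
      (by rw [Subgroup.orderOf_mk, hm, show Nat.card ↥P = 2 ^ n from hP, e])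
    exact hyg (congrArg Subtype.val ((IsCyclic.commutative (α := ↥P)).is_comm.comm ⟨y, hy⟩ ⟨g, hgP⟩))
  have hfac := factorization_card P hP
  have hmge : n - 1 ≤ m := by
    by_contra hlt
    obtain ⟨k, hk, hk1⟩ := exists_coprime_exponent (N := Nat.card G) Nat.card_pos.ne'
      (r := 1 + 2 ^ (n - 2)) ⟨2 ^ (n - 3), by
        rw [← pow_succ', show n - 3 + 1 = n - 2 by omega]; ring⟩ (e := n - 1) (by omega)
    have h2n : (2 : ℕ) ^ (n - 1) = 2 * 2 ^ (n - 2) := by rw [← pow_succ']; congr 1; omega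
    have h4d : (4 : ℕ) ∣ 2 ^ (n - 2) := by
      rw [show (4 : ℕ) = 2 ^ 2 by norm_num]; exact pow_dvd_pow 2 (by omega)
    have hgk : g ^ k = g := by
      nth_rw 2 [← pow_one g]
      rw [pow_eq_pow_iff_modEq, hm]
      have h0 : (1 + 2 ^ (n - 2)) ≡ 1 + 0 [MOD 2 ^ m] := by
        refine Nat.ModEq.add_left 1 (Nat.modEq_zero_iff_dvd.2 ?_)
        exact pow_dvd_pow 2 (by omega)
      exact (hk1.of_dvd (pow_dvd_pow 2 (by omega))).trans h0
    have hpos : 0 < 2 ^ (n - 2) := pow_pos two_pos _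
    have hmod : ∀ c' < 2 ^ (n - 1), k ≡ c' [MOD 2 ^ (n - 1)] → c' = 1 + 2 ^ (n - 2) := fun c' hc' h =>
      Nat.ModEq.eq_of_lt_of_lt (h.symm.trans hk1) hc' (by omega)
    rcases (hexp k hk).1 (by rw [hgk]) with h | h
    · have := hmod 1 (by omega) h
      omega
    · have := hmod c (by omega) h
      omega
  obtain rfl : m = n - 1 := by omega
  -- conjugation by an outside element
  have hgo : orderOf (⟨g, hgP⟩ : ↥P) = 2 ^ (n - 1) := by rw [Subgroup.orderOf_mk, hm]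
  have hidx2 : (Subgroup.zpowers (⟨g, hgP⟩ : ↥P)).index = 2 := by
    have h1 := (Subgroup.zpowers (⟨g, hgP⟩ : ↥P)).card_mul_index
    rw [Nat.card_zpowers, hgo, show Nat.card ↥P = 2 ^ n from hP,
      show (2 : ℕ) ^ n = 2 ^ (n - 1) * 2 by rw [← pow_succ]; congr 1; omega] at h1
    exact Nat.eq_of_mul_eq_mul_left (pow_pos two_pos _) h1
  haveI := Subgroup.normal_of_index_eq_two hidx2
  obtain ⟨r, hr⟩ := Submonoid.mem_powers_iff _ _ |>.1 (mem_powers_iff_mem_zpowers.2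
    (Subgroup.Normal.conj_mem inferInstance _ (Subgroup.mem_zpowers (⟨g, hgP⟩ : ↥P)) ⟨y, hy⟩))
  have hrG : g ^ r = y * g * y⁻¹ := congrArg Subtype.val hr
  have hro : Odd r := by
    rw [Nat.odd_iff]
    by_contra hev
    have h1 : orderOf (g ^ r) = orderOf g := by
      rw [hrG]
      exact (MulEquiv.orderOf_eq (MulAut.conj y) g)
    rw [orderOf_pow, hm] at h1
    have h2 : (2 : ℕ) ∣ Nat.gcd (2 ^ (n - 1)) r :=
      Nat.dvd_gcd (dvd_pow_self 2 (by omega)) (by omega)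
    have h3 := Nat.div_eq_self.1 h1
    rcases h3 with h3 | h3
    · exact (pow_ne_zero _ two_ne_zero) h3
    · omega
  obtain ⟨k, hk, hk1⟩ := exists_coprime_exponent (N := Nat.card G) Nat.card_pos.ne' hro
    (e := n) (le_of_eq hfac.symm)
  have hgk : g ^ k = y * g * y⁻¹ := by
    rw [← hrG, pow_eq_pow_iff_modEq, hm]
    exact hk1.of_dvd (pow_dvd_pow 2 (by omega))
  have hgc : g ^ c = y * g * y⁻¹ := by
    rcases (hexp k hk).1 (by rw [hgk]; exact (isConj_iff.2 ⟨_, rfl⟩).symm) with h | h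
    · refine absurd ?_ hyg
      have : y * g * y⁻¹ = g := by
        rw [← hgk]
        conv_rhs => rw [← pow_one g]
        rw [pow_eq_pow_iff_modEq, hm]
        exact h
      exact mul_inv_eq_iff_eq_mul.1 this
    · rw [← hgk, pow_eq_pow_iff_modEq, hm]
      exact h.symm
  -- the commutator contains a cyclic group of order `2 ^ (n - 2)`
  obtain ⟨d, hd⟩ : ∃ d : ℕ, c = 2 * d + 1 ∧ Odd d := by
    have h4d : (4 : ℕ) ∣ 2 ^ (n - 2) := by
      rw [show (4 : ℕ) = 2 ^ 2 by norm_num]; exact pow_dvd_pow 2 (by omega)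
    have h2n : (2 : ℕ) ^ (n - 1) = 2 * 2 ^ (n - 2) := by rw [← pow_succ']; congr 1; omega
    have hpos : 0 < 2 ^ (n - 2) := pow_pos two_pos _
    refine ⟨(c - 1) / 2, by omega, ?_⟩
    rw [Nat.odd_iff]
    omega
  have hmem : (⟨g, hgP⟩ : ↥P) ^ (2 * d) ∈ commutator ↥P := by
    have hyg' : (⟨y, hy⟩ : ↥P) * ⟨g, hgP⟩ * (⟨y, hy⟩ : ↥P)⁻¹ = ⟨g, hgP⟩ ^ c :=
      Subtype.ext hgc.symm
    have : ⁅(⟨y, hy⟩ : ↥P), (⟨g, hgP⟩ : ↥P)⁆ = (⟨g, hgP⟩ : ↥P) ^ (2 * d) := by
      rw [commutatorElement_def, hyg', hd.1, pow_succ, mul_inv_cancel_right]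
    rw [← this, _root_.commutator_def]
    exact Subgroup.commutator_mem_commutator (Subgroup.mem_top _) (Subgroup.mem_top _)
  have hcard : 2 ^ (n - 2) ≤ Nat.card (commutator ↥P) := by
    refine le_trans (le_of_eq ?_) (Subgroup.card_le_of_le (Subgroup.zpowers_le.2 hmem))
    rw [Nat.card_zpowers, orderOf_pow, hgo, show n - 1 = n - 2 + 1 by omega, pow_succ',
      Nat.gcd_mul_left, Nat.Coprime.gcd_eq_one ((Nat.coprime_two_left.2 hd.2).pow_left _), mul_one,
      Nat.mul_div_cancel_left _ two_pos]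
  have h1 := (commutator ↥P).card_mul_index
  rw [show Nat.card ↥P = 2 ^ n from hP, show n = n - 2 + 2 by omega, pow_add] at h1
  exact Nat.le_of_mul_le_mul_left (h1 ▸ Nat.mul_le_mul_right _ hcard : 2 ^ (n - 2) * _ ≤ 2 ^ (n - 2) * 4)
    (pow_pos two_pos _)

end Cfsg.Agent.TwoMaxField
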