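import Mathlib
import Cfsg.Agent.Char.Clifford
import Cfsg.Agent.Char.Glauberman.Cong
import Cfsg.Agent.Char.Glauberman.Count
import Cfsg.Agent.Coprime.Basic
import Cfsg.Agent.Core.PCore
import Cfsg.Agent.Layer.PConstraint
import Cfsg.Agent.S4035
import Cfsg.Agent.S4601
import Cfsg.Prelude.Def_Blocks

/-!
# Invariant characters of degree prime to `q` under a coprime `p`-group

If `P` centralizes a Sylow `q`-subgroup `Q` of the `q`-solvable group `R` and every `P`-invariant
irreducible character of `R` has degree prime to `q`, then `C_R(P)` normalizes `Q`.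
-/

set_option autoImplicit false

namespace Cfsg.Agent.BlockChar.TwoPrimeInvariant

open scoped ComplexConjugate
open Cfsg.Agent.Char

universe u

variable {Y : Type u} [Group Y] [Finite Y]

/-- Conjugation as a left action on the characters of a normal subgroup. -/
@[reducible] noncomputable def conjAction (K : Subgroup Y) [K.Normal] :
    MulAction Y (IrrCharacter K) where
  smul g χ := ⟨conjFun g⁻¹ (χ : K → ℂ), isIrr_conjFun g⁻¹ χ.2⟩
  one_smul χ := Subtype.ext (by
    show conjFun (1 : Y)⁻¹ (χ : K → ℂ) = _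
    rw [inv_one, conjFun_one])
  mul_smul a b χ := Subtype.ext (by
    show conjFun (a * b)⁻¹ (χ : K → ℂ) = conjFun a⁻¹ (conjFun b⁻¹ (χ : K → ℂ))
    rw [conjFun_conjFun, _root_.mul_inv_rev])

theorem classInner_comp_equiv {A B : Type u} [Group A] [Group B] [Fintype A] [Fintype B]
    (e : A ≃* B) (φ ψ : B → ℂ) :
    classInner (fun a => φ (e a)) (fun a => ψ (e a)) = classInner φ ψ := by
  simp only [classInner]
  rw [Nat.card_congr e.toEquiv]
  congr 1
  exact Fintype.sum_equiv e.toEquiv _ _ fun a => rfl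

/-- A `P`-invariant character above a `P`-invariant one, for a `p`-group `P` and `p'`-group `R`. -/
theorem exists_fixed_above {p : ℕ} [hp : Fact p.Prime] (N R P : Subgroup Y) [N.Normal] [R.Normal]
    [Fintype N] [Fintype R] (hNR : N ≤ R) (hP : IsPGroup p P) (hR : ¬ p ∣ Nat.card R)
    (l : IrrCharacter N) (hl : ∀ t ∈ P, conjFun t (l : N → ℂ) = (l : N → ℂ)) :
    ∃ θ : IrrCharacter R, (∀ t ∈ P, conjFun t (θ : R → ℂ) = (θ : R → ℂ)) ∧
      classInner (fun n : N => (θ : R → ℂ) ⟨n, hNR n.2⟩) (l : N → ℂ) ≠ 0 := by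
  classical
  let N' := N.subgroupOf R
  let e : N' ≃* N := Subgroup.subgroupOfEquivOfLe hNR
  let l' : N' → ℂ := fun n => (l : N → ℂ) (e n)
  have hl' : IsIrrCharacter N' l' := (isIrrCharacter_comp_equiv e).2 l.2
  set I := indFun N' l' with hI
  have hIc : IsCharacter R I := isCharacter_indFun N' (IsIrr.isCharacter hl')
  choose d hd0 hd using fun ξ : IrrCharacter R => IsIrr.degree ξ.2
  choose m hm using fun ξ : IrrCharacter R =>
    classInner_isCharacter_eq_natCast hIc (IsIrr.isCharacter ξ.2)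
  obtain ⟨dl, -, hdl⟩ := IsIrr.degree l.2
  have hmf : ∀ ξ : IrrCharacter R,
      classInner (fun n : N => (ξ : R → ℂ) ⟨n, hNR n.2⟩) (l : N → ℂ) = (m ξ : ℂ) := by
    intro ξ
    have h := hm ξ
    rw [hI, classInner_indFun_left N' l' (isClassFunction_of_isIrr ξ.2)] at h
    rw [← classInner_conj_symm, ← classInner_comp_equiv e (l : N → ℂ)
      (fun n : N => (ξ : R → ℂ) ⟨n, hNR n.2⟩)]
    have h' : classInner (fun a : N' => (l : N → ℂ) (e a))
        (fun a : N' => (ξ : R → ℂ) ⟨(e a : Y), hNR (e a).2⟩) = (m ξ : ℂ) := h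
    rw [h', map_natCast]
  have h1 : ((N'.index * dl : ℕ) : ℂ) = ∑ ξ : IrrCharacter R, ((m ξ * d ξ : ℕ) : ℂ) := by
    have h3 := congrFun (classFun_expansion (isClassFunction_of_isCharacter hIc)) 1
    simp only [Finset.sum_apply, Pi.smul_apply, smul_eq_mul, hm, hd] at h3
    rw [hI, indFun_apply_one, show l' 1 = (dl : ℂ) from (congrArg (l : N → ℂ) (map_one e)).trans hdl]
      at h3
    rw [Nat.cast_mul, h3]
    exact Finset.sum_congr rfl fun ξ _ => by rw [Nat.cast_mul]
  let _ : MulAction Y (IrrCharacter R) := conjAction R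
  let _ : MulAction P (IrrCharacter R) := MulAction.compHom _ P.subtype
  have hinv : ∀ (t : P) (ξ : IrrCharacter R), ((m (t • ξ) * d (t • ξ) : ℕ) : ℂ) =
      ((m ξ * d ξ : ℕ) : ℂ) := by
    intro t ξ
    have hm' : (m (t • ξ) : ℂ) = m ξ := by
      rw [← hmf, ← hmf]
      conv_lhs => rw [← hl (t : Y)⁻¹ (P.inv_mem t.2)]
      rw [← classInner_conjFun (t : Y)⁻¹ (fun n : N => (ξ : R → ℂ) ⟨n, hNR n.2⟩) (l : N → ℂ)]
      rfl
    have hd' : (d (t • ξ) : ℂ) = d ξ := by
      rw [← hd, ← hd]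
      exact conjFun_apply_one _ _
    rw [Nat.cast_mul, Nat.cast_mul, hm', hd']
  have hcong := Glauberman.sum_cong_fixed (p := p) (T := P) hP
    (fun ξ : IrrCharacter R => ((m ξ * d ξ : ℕ) : ℂ)) hinv
    fun ξ => isIntegral_algebraMap (R := ℤ) (x := ((m ξ * d ξ : ℕ) : ℤ))
  by_contra hno
  push Not at hno
  rw [← h1, Finset.sum_eq_zero (fun ξ hξ => ?_)] at hcong
  · have h2 := Glauberman.Cong.zmod_eq hp.out.ne_zero (a := N'.index * dl) (b := 0)
      (by rw [Nat.cast_zero]; exact hcong)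
    rw [Nat.cast_zero, ZMod.natCast_eq_zero_iff] at h2
    rcases hp.out.dvd_mul.1 h2 with h3 | h3
    · exact hR (h3.trans N'.index_dvd_card)
    · exact hR (h3.trans ((IsIrr.degree_dvd_card l.2 hdl).trans (Subgroup.card_dvd_of_le hNR)))
  · have h0 := hno ξ (fun t ht => by
      have h4 := (Finset.mem_filter.1 hξ).2 ⟨t⁻¹, P.inv_mem ht⟩
      have h5 : conjFun ((t : Y)⁻¹)⁻¹ (ξ : R → ℂ) = (ξ : R → ℂ) := congrArg Subtype.val h4
      rwa [inv_inv] at h5)
    rw [hmf, Nat.cast_eq_zero] at h0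
    simp [h0]

/-- The stabilizer index of a constituent divides the degree. -/
theorem relIndex_inertia_dvd (N R : Subgroup Y) [N.Normal] [R.Normal]
    [Fintype N] [Fintype R] (hNR : N ≤ R) (l : IrrCharacter N) (θ : IrrCharacter R)
    (h : classInner (fun n : N => (θ : R → ℂ) ⟨n, hNR n.2⟩) (l : N → ℂ) ≠ 0) :
    (inertia (l : N → ℂ)).relIndex R ∣ Cfsg.charDegree (θ : R → ℂ) := by
  classical
  let N' := N.subgroupOf R
  let e : N' ≃* N := Subgroup.subgroupOfEquivOfLe hNR
  let l' : N' → ℂ := fun n => (l : N → ℂ) (e n)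
  have hl' : IsIrrCharacter N' l' := (isIrrCharacter_comp_equiv e).2 l.2
  have h' : classInner (fun n : N' => (θ : R → ℂ) n) l' ≠ 0 := by
    rw [← classInner_comp_equiv e] at h
    exact h
  obtain ⟨a, ha⟩ := classInner_isCharacter_eq_natCast
    (isCharacter_res N' (IsIrr.isCharacter θ.2)) (IsIrr.isCharacter hl')
  obtain ⟨dl, -, hdl⟩ := IsIrr.degree hl'
  obtain ⟨dt, -, hdt⟩ := IsIrr.degree θ.2
  have h2 := degree_eq_of_clifford θ.2 hl' h'
  rw [hdt, ha, hdl] at h2
  have h3 : dt = a * (inertia (N := N') l').index * dl := by exact_mod_cast h2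
  have heq : (inertia (N := N') l') = (inertia (l : N → ℂ)).subgroupOf R := by
    ext r
    simp only [mem_inertia, Subgroup.mem_subgroupOf]
    refine ⟨fun hr => funext fun n => ?_, fun hr => funext fun n => ?_⟩
    · have := congrFun hr (e.symm n)
      simpa [conjFun, l', e, Subgroup.subgroupOfEquivOfLe] using this
    · have := congrFun hr (e n)
      simpa [conjFun, l', e, Subgroup.subgroupOfEquivOfLe] using this
  have hdeg : Cfsg.charDegree (θ : R → ℂ) = dt := by simp [Cfsg.charDegree, hdt]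
  rw [hdeg, h3, heq]
  exact Dvd.intro _ (by rw [mul_comm a, mul_assoc]; rfl)

/-- Characters fixed by `P` separate the `P`-fixed classes of a `p'`-group. -/
theorem isConj_of_fixes {p : ℕ} [hp : Fact p.Prime] (K P : Subgroup Y) [K.Normal] [Fintype K]
    (hP : IsPGroup p P) (hK : ¬ p ∣ Nat.card K) {x x' : K}
    (hx : ∀ t ∈ P, t * (x : Y) = (x : Y) * t) (hx' : ∀ t ∈ P, t * (x' : Y) = (x' : Y) * t)
    (h : ∀ χ : IrrCharacter K, (∀ t ∈ P, conjFun t (χ : K → ℂ) = (χ : K → ℂ)) →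
      (χ : K → ℂ) x' = (χ : K → ℂ) x) :
    IsConj x x' := by
  classical
  let _ : MulAction Y (IrrCharacter K) := conjAction K
  let _ : MulAction P (IrrCharacter K) := MulAction.compHom _ P.subtype
  have hval : ∀ (t : P) (χ : IrrCharacter K) (z : K), (∀ t ∈ P, t * (z : Y) = (z : Y) * t) →
      ((t • χ : IrrCharacter K) : K → ℂ) z = (χ : K → ℂ) z := by
    intro t χ z hz
    show (χ : K → ℂ) ⟨(t : Y)⁻¹ * z * ((t : Y)⁻¹)⁻¹, _⟩ = _
    refine congrArg (χ : K → ℂ) (Subtype.ext ?_)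
    show (t : Y)⁻¹ * z * ((t : Y)⁻¹)⁻¹ = z
    rw [inv_inv, mul_assoc, ← hz t t.2, inv_mul_cancel_left]
  have hint : ∀ (a b : K) (χ : IrrCharacter K),
      IsIntegral ℤ ((χ : K → ℂ) a * conj ((χ : K → ℂ) b)) := fun a b χ => by
    rw [← IsChar.inv_eq_conj (IsIrr.isCharacter χ.2)]
    exact (IsChar.isIntegral (IsIrr.isCharacter χ.2) a).mul
      (IsChar.isIntegral (IsIrr.isCharacter χ.2) _)
  have c1 := Glauberman.sum_cong_fixed (p := p) (T := P) hP
    (fun χ : IrrCharacter K => (χ : K → ℂ) x * conj ((χ : K → ℂ) x))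
    (fun t χ => by simp only [hval t χ x hx]) (hint x x)
  have c2 := Glauberman.sum_cong_fixed (p := p) (T := P) hP
    (fun χ : IrrCharacter K => (χ : K → ℂ) x * conj ((χ : K → ℂ) x'))
    (fun t χ => by simp only [hval t χ x hx, hval t χ x' hx']) (hint x x')
  rw [second_orthogonality, if_pos (IsConj.refl x)] at c1
  rw [second_orthogonality] at c2
  by_contra hne
  rw [if_neg hne] at c2
  have c3 := c1.trans (Glauberman.Cong.trans (by
    rw [Finset.sum_congr rfl fun χ hχ => ?_]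
    · exact Glauberman.Cong.rfl'
    rw [h χ fun t ht => ?_]
    have h4 := (Finset.mem_filter.1 hχ).2 ⟨t⁻¹, P.inv_mem ht⟩
    have h5 : conjFun ((t : Y)⁻¹)⁻¹ (χ : K → ℂ) = (χ : K → ℂ) := congrArg Subtype.val h4
    rwa [inv_inv] at h5) c2.symm)
  have h2 := Glauberman.Cong.zmod_eq hp.out.ne_zero
    (a := Nat.card (Subgroup.centralizer ({x} : Set K))) (b := 0) (by rw [Nat.cast_zero]; exact c3)
  rw [Nat.cast_zero, ZMod.natCast_eq_zero_iff] at h2
  exact hK (h2.trans (Subgroup.card_subgroup_dvd_card _))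

/-- An invariant Sylow subgroup of a stabilizer is a Sylow subgroup above. -/
theorem exists_invariant_sylow_le {p q : ℕ} [hp : Fact p.Prime] [hq : Fact q.Prime] (hpq : p ≠ q)
    (P D R : Subgroup Y) (hP : IsPGroup p P) (hPD : P ≤ Subgroup.normalizer (D : Set Y))
    (hPR : P ≤ Subgroup.normalizer (R : Set Y)) (hDR : D ≤ R) (hR : ¬ p ∣ Nat.card R)
    (hidx : ¬ q ∣ D.relIndex R) (Q : Subgroup Y) (hQR : Q ≤ R) (hQq : IsPGroup q Q)
    (hQidx : ¬ q ∣ Q.relIndex R) (hPQ : ∀ t ∈ P, ∀ y ∈ Q, t * y = y * t) :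
    ∃ c ∈ R, (∀ t ∈ P, t * c = c * t) ∧ ∀ y ∈ Q, c * y * c⁻¹ ∈ D := by
  classical
  obtain ⟨k, hk⟩ := hP.exists_card_eq
  have hcopR : (Nat.card P).Coprime (Nat.card R) := by
    rw [hk]; exact (hp.out.coprime_iff_not_dvd.2 hR).pow_left k
  have hcopD := hcopR.coprime_dvd_right (Subgroup.card_dvd_of_le hDR)
  have hsolv : Group.IsSolvable P := Layer.isSolvable_of_isPGroup hP
  obtain ⟨S, hS⟩ := Coprime.exists_invariant_sylow hPD hcopD (Or.inl hsolv) q
  set S' := (S : Subgroup D).map D.subtype with hS'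
  have hSD : S' ≤ D := Subgroup.map_subtype_le _
  have hSq : IsPGroup q S' := S.2.map _
  have hSidx : ¬ q ∣ (S'.subgroupOf R).index := by
    show ¬ q ∣ S'.relIndex R
    rw [← Subgroup.relIndex_mul_relIndex S' D R hSD hDR]
    refine hq.out.not_dvd_mul ?_ hidx
    rw [hS', Subgroup.relIndex, ← Subgroup.comap_subtype,
      Subgroup.comap_map_eq_self_of_injective D.subtype_injective]
    exact S.not_dvd_index
  let SR : Sylow q R := (hSq.comap_subtype).toSylow hSidx
  let QR : Sylow q R := (hQq.comap_subtype).toSylow hQidx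
  have hSRc : (SR : Subgroup R).map R.subtype = S' := by
    show (S'.subgroupOf R).map R.subtype = S'
    exact Subgroup.map_subgroupOf_eq_of_le (hSD.trans hDR)
  have hQRc : (QR : Subgroup R).map R.subtype = Q := by
    show (Q.subgroupOf R).map R.subtype = Q
    exact Subgroup.map_subgroupOf_eq_of_le hQR
  obtain ⟨c, hcP, hc⟩ := Coprime.exists_centralizer_conj_sylow hPR hcopR (Or.inl hsolv) QR SR
    (by
      rw [hQRc]
      intro t ht
      refine Subgroup.centralizer_le_normalizer _ (Subgroup.mem_centralizer_iff.2 fun y hy => ?_)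
      exact (hPQ t ht y hy).symm)
    (by rw [hSRc]; exact hS)
  refine ⟨c, c.2, fun t ht => Subgroup.mem_centralizer_iff.1 hcP t ht, fun y hy => hSD ?_⟩
  rw [← hSRc, ← hc]
  refine ⟨⟨(c : Y) * y * (c : Y)⁻¹, R.mul_mem (R.mul_mem c.2 (hQR hy)) (R.inv_mem c.2)⟩, ?_, rfl⟩
  exact ⟨⟨y, hQR hy⟩, by simpa [QR, Subgroup.mem_subgroupOf] using hy, rfl⟩

/-- The inductive statement. -/
theorem normalizes_aux {p q : ℕ} [hp : Fact p.Prime] [hq : Fact q.Prime] (hpq : p ≠ q) :
    ∀ (n : ℕ) (Y : Type u) [Group Y] [Finite Y] (R P Q : Subgroup Y) [R.Normal],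
    Nat.card Y = n → IsPGroup p P → ¬ p ∣ Nat.card R → Cfsg.IsPSolvable q R →
    Q ≤ R → IsPGroup q Q → ¬ q ∣ Q.relIndex R → (∀ t ∈ P, ∀ y ∈ Q, t * y = y * t) →
    (∀ θ : IrrCharacter R, (∀ t ∈ P, conjFun t (θ : R → ℂ) = (θ : R → ℂ)) →
      ¬ q ∣ Cfsg.charDegree (θ : R → ℂ)) →
    ∀ d ∈ R, (∀ t ∈ P, t * d = d * t) → ∀ y ∈ Q, d * y * d⁻¹ ∈ Q := by
  intro n
  induction n using Nat.strong_induction_on with
  | _ n ih =>
  intro Y _ _ R P Q hRn hn hP hRp hRsol hQR hQq hQidx hPQ hθ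
  classical
  rcases subsingleton_or_nontrivial R with hR | hR
  · intro d _ _ y hy
    rw [show y = 1 from congrArg Subtype.val (Subsingleton.elim (⟨y, hQR hy⟩ : R) 1)]
    simp
  have hex : ∃ K : Subgroup Y, K.Normal ∧ K ≤ R ∧ K ≠ ⊥ ∧ (IsPGroup q K ∨ ¬ q ∣ Nat.card K) := by
    rcases S4601.exists_nontrivial_core hRsol with h | h
    · refine ⟨(Cfsg.pCore q R).map R.subtype, inferInstance, Subgroup.map_subtype_le _,
        fun e => h ((Subgroup.map_eq_bot_iff_of_injective _ R.subtype_injective).1 e),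
        Or.inl (Core.pCore_isPGroup.map _)⟩
    · refine ⟨(Cfsg.pPrimeCore q R).map R.subtype, inferInstance, Subgroup.map_subtype_le _,
        fun e => h ((Subgroup.map_eq_bot_iff_of_injective _ R.subtype_injective).1 e), Or.inr ?_⟩
      rw [Subgroup.card_map_of_injective R.subtype_injective]
      exact Core.not_dvd_card_pPrimeCore
  obtain ⟨K, hKn, hKR, hK1, hKq⟩ := hex
  have := Fintype.ofFinite R
  have := Fintype.ofFinite K
  let π := QuotientGroup.mk' K
  have hπ : Function.Surjective π := QuotientGroup.mk'_surjective K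
  -- the quotient
  have hbar : ∀ d ∈ R, (∀ t ∈ P, t * d = d * t) → ∀ y ∈ Q, d * y * d⁻¹ ∈ Q ⊔ K := by
    have hRn' : (R.map π).Normal := Subgroup.Normal.map hRn π hπ
    let f : R →* R.map π := π.subgroupMap R
    have hf : Function.Surjective f := π.subgroupMap_surjective R
    have hQR' : Q.map π ≤ R.map π := Subgroup.map_mono hQR
    have hQidx' : ¬ q ∣ (Q.map π).relIndex (R.map π) := by
      rw [Subgroup.relIndex_map_map, QuotientGroup.ker_mk', sup_eq_left.2 hKR]
      exact fun h => hQidx (h.trans (Subgroup.relIndex_dvd_of_le_left R le_sup_left))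
    have key := ih (Nat.card (Y ⧸ K)) (hn ▸ Core.card_quotient_lt hK1) (Y ⧸ K) (R.map π) (P.map π)
      (Q.map π) rfl (hP.map π) (fun h => hRp (h.trans (Subgroup.card_map_dvd R π)))
      (Layer.isPSolvable_of_surjective hRsol hf) hQR' (hQq.map π) hQidx'
      (by
        rintro _ ⟨t, ht, rfl⟩ _ ⟨y, hy, rfl⟩
        rw [← map_mul, ← map_mul, hPQ t ht y hy])
      (fun θ hθ' => by
        have h := hθ ⟨fun r => (θ : R.map π → ℂ) (f r), isIrrCharacter_comp f hf θ.2⟩
          (fun t ht => funext fun r => by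
            have h1 := congrFun (hθ' (π t) ⟨t, ht, rfl⟩) (f r)
            rw [conjFun_apply] at h1 ⊢
            refine Eq.trans (congrArg (θ : R.map π → ℂ) (Subtype.ext ?_)) h1
            show π (t * (r : Y) * t⁻¹) = π t * π (r : Y) * (π t)⁻¹
            rw [map_mul, map_mul, map_inv])
        simpa [Cfsg.charDegree] using h)
    intro d hd hdP y hy
    have h := key (π d) ⟨d, hd, rfl⟩ (by
      rintro _ ⟨t, ht, rfl⟩
      rw [← map_mul, ← map_mul, hdP t ht]) (π y) ⟨y, hy, rfl⟩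
    rw [← map_inv, ← map_mul, ← map_mul] at h
    have h' : d * y * d⁻¹ ∈ (Q.map π).comap π := h
    rwa [Subgroup.comap_map_eq, QuotientGroup.ker_mk'] at h'
  rcases hKq with hKq | hKq
  · have hKQ : K ≤ Q := by
      intro k hk
      have hn' : (K.subgroupOf R).Normal := hKn.subgroupOf R
      have : (⟨k, hKR hk⟩ : R) ∈ Q.subgroupOf R :=
        IsPGroup.le_sylow_of_normal (hKq.comap_subtype) ((hQq.comap_subtype).toSylow hQidx)
          (Subgroup.mem_subgroupOf.2 hk : (⟨k, hKR hk⟩ : R) ∈ K.subgroupOf R)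
      exact this
    intro d hd hdP y hy
    have h := hbar d hd hdP y hy
    rwa [sup_eq_left.2 hKQ] at h
  have hKp : ¬ p ∣ Nat.card K := fun h => hRp (h.trans (Subgroup.card_dvd_of_le hKR))
  have hPnR : P ≤ Subgroup.normalizer (R : Set Y) := Subgroup.le_normalizer_of_normal
  -- `Q` fixes every invariant character of `K`
  have hfix : ∀ χ : IrrCharacter K, (∀ t ∈ P, conjFun t (χ : K → ℂ) = (χ : K → ℂ)) →
      ∀ y ∈ Q, conjFun y (χ : K → ℂ) = (χ : K → ℂ) := by
    intro χ hχ y hy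
    obtain ⟨θ, hθP, hθK⟩ := exists_fixed_above K R P hKR hP hRp χ hχ
    have hdvd := relIndex_inertia_dvd K R hKR χ θ hθK
    set T := inertia (χ : K → ℂ) with hT
    have hKT : K ≤ T := le_inertia (isClassFunction_of_isIrr χ.2)
    have hidx : ¬ q ∣ (T ⊓ R).relIndex R := fun h => hθ θ hθP (by
      rw [Subgroup.inf_relIndex_right] at h
      exact h.trans hdvd)
    have hPT : P ≤ Subgroup.normalizer ((T ⊓ R : Subgroup Y) : Set Y) :=
      Coprime.le_normalizer_inf
        ((fun t ht => Subgroup.le_normalizer (show t ∈ T from hχ t ht))) hPnR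
    obtain ⟨c, hcR, hcP, hc⟩ := exists_invariant_sylow_le hpq P (T ⊓ R) R hP hPT hPnR inf_le_right
      hRp hidx Q hQR hQq hQidx hPQ
    have h := hbar c⁻¹ (R.inv_mem hcR) (fun t ht => by
      have := hcP t ht
      exact (Commute.inv_right (show Commute t c from this)).eq) y hy
    rw [inv_inv] at h
    obtain ⟨y', hy', k, hk, he⟩ := Subgroup.mem_sup_of_normal_right.1 h
    have h2 : c * (c⁻¹ * y * c) * c⁻¹ ∈ T := by
      rw [← he, show c * (y' * k) * c⁻¹ = c * y' * c⁻¹ * (c * k * c⁻¹) by group]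
      exact T.mul_mem (hc y' hy').1 (hKT (hKn.conj_mem k hk c))
    have h3 : c * (c⁻¹ * y * c) * c⁻¹ = y := by group
    rw [h3] at h2
    exact h2
  -- `Q` centralizes `C_K(P)`
  set Kc := K ⊓ Subgroup.centralizer (P : Set Y) with hKc
  have hKQn : (K ⊔ Q) ≤ R := sup_le hKR hQR
  have hQK : IsPGroup q Q := hQq
  obtain ⟨a, ha⟩ := hQq.exists_card_eq
  have hconj : ∀ x ∈ Kc, ∃ k ∈ Kc, ∀ y ∈ Q, y * (k * x * k⁻¹) = k * x * k⁻¹ * y := by
    rintro x ⟨hxK, hxP⟩
    have hx : ∀ t ∈ P, t * x = x * t := fun t ht => Subgroup.mem_centralizer_iff.1 hxP t ht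
    set C := Subgroup.centralizer ({x} : Set Y) ⊓ (K ⊔ Q) with hC
    have hcl : ∀ y ∈ Q, ∃ k ∈ K, k⁻¹ * y ∈ C := by
      intro y hy
      have hc := isConj_of_fixes K P hP hKp (x := ⟨x, hxK⟩)
        (x' := ⟨y * x * y⁻¹, hKn.conj_mem x hxK y⟩) hx
        (fun t ht => by
          have h1 : Commute t y := hPQ t ht y hy
          exact ((h1.mul_right (hx t ht)).mul_right h1.inv_right).eq)
        (fun χ hχ => by
          have h2 := congrFun (hfix χ hχ y hy) ⟨x, hxK⟩
          rw [conjFun_apply] at h2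
          exact h2)
      obtain ⟨k, hk⟩ := isConj_iff.1 hc
      refine ⟨k, k.2, Subgroup.mem_centralizer_singleton_iff.2 ?_,
        Subgroup.mul_mem _ (Subgroup.mem_sup_left (K.inv_mem k.2)) (Subgroup.mem_sup_right hy)⟩
      have h3 : (k : Y) * x * (k : Y)⁻¹ = y * x * y⁻¹ := congrArg Subtype.val hk
      have h4 : x = (k : Y)⁻¹ * (y * x * y⁻¹) * k := by rw [← h3]; group
      calc (k : Y)⁻¹ * y * x = ((k : Y)⁻¹ * (y * x * y⁻¹) * k) * ((k : Y)⁻¹ * y) := by group
        _ = x * ((k : Y)⁻¹ * y) := by rw [← h4]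
    have hCidx : ¬ q ∣ C.relIndex (K ⊔ Q) := by
      have hsup : K ⊔ C = K ⊔ Q := by
        refine le_antisymm (sup_le le_sup_left inf_le_right) (sup_le le_sup_left fun y hy => ?_)
        obtain ⟨k, hk, hk'⟩ := hcl y hy
        rw [show y = k * (k⁻¹ * y) by group]
        exact Subgroup.mul_mem_sup hk hk'
      intro h
      have h1 : C.relIndex (K ⊔ Q) = C.relIndex K := by
        rw [← hsup, sup_comm, S4601.relIndex_sup_normal]
      exact hKq ((h1 ▸ h).trans (Subgroup.index_dvd_card _ |>.trans (dvd_of_eq rfl)))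
    have hPKQ : P ≤ Subgroup.normalizer ((K ⊔ Q : Subgroup Y) : Set Y) :=
      Coprime.le_normalizer_sup Subgroup.le_normalizer_of_normal
        (fun t ht => Subgroup.centralizer_le_normalizer _
          (Subgroup.mem_centralizer_iff.2 fun y hy => (hPQ t ht y hy).symm))
    have hPC : P ≤ Subgroup.normalizer (C : Set Y) := by
      refine Coprime.le_normalizer_inf (fun t ht => ?_) hPKQ
      exact Subgroup.le_normalizer (Subgroup.mem_centralizer_singleton_iff.2 (hx t ht))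
    have hQidx' : ¬ q ∣ Q.relIndex (K ⊔ Q) := fun h =>
      hQidx (h.trans ⟨_, (Subgroup.relIndex_mul_relIndex Q (K ⊔ Q) R le_sup_right hKQn).symm⟩)
    obtain ⟨c, hc, hcP, hcC⟩ := exists_invariant_sylow_le hpq P C (K ⊔ Q) hP hPC hPKQ inf_le_right
      (fun h => hRp (h.trans (Subgroup.card_dvd_of_le hKQn))) hCidx Q le_sup_right hQq hQidx' hPQ
    obtain ⟨k, hk, z, hz, rfl⟩ := Subgroup.mem_sup_of_normal_left.1 hc
    refine ⟨k⁻¹, ?_, fun y hy => ?_⟩
    · exact ⟨K.inv_mem hk, Subgroup.inv_mem _ (Subgroup.mem_centralizer_iff.2 fun t ht => by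
        have h1 : Commute t (k * z) := hcP t ht
        have h2 := h1.mul_right (show Commute t z from hPQ t ht z hz).inv_right
        rwa [mul_inv_cancel_right] at h2)⟩
    · have h1 : k * z * (z⁻¹ * y * z) * (k * z)⁻¹ ∈ C :=
        hcC _ (Q.mul_mem (Q.mul_mem (Q.inv_mem hz) hy) hz)
      rw [show k * z * (z⁻¹ * y * z) * (k * z)⁻¹ = k * y * k⁻¹ by group] at h1
      have h2 := Subgroup.mem_centralizer_singleton_iff.1 h1.1
      rw [inv_inv]
      calc y * (k⁻¹ * x * k) = k⁻¹ * ((k * y * k⁻¹) * x) * k := by group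
        _ = k⁻¹ * (x * (k * y * k⁻¹)) * k := by rw [h2]
        _ = _ := by group
  have hcent : ∀ k ∈ Kc, ∀ y ∈ Q, y * k = k * y := by
    have htop := S4035.eq_top_of_cover ((Subgroup.centralizer (Q : Set Y)).subgroupOf Kc)
      fun g => by
        obtain ⟨k, hk, h⟩ := hconj g g.2
        exact ⟨⟨k⁻¹, Kc.inv_mem hk⟩, Subgroup.mem_subgroupOf.2 (Subgroup.mem_centralizer_iff.2
          fun y hy => by simpa using h y hy)⟩
    intro k hk y hy
    have : (⟨k, hk⟩ : Kc) ∈ (Subgroup.centralizer (Q : Set Y)).subgroupOf Kc :=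
      htop ▸ Subgroup.mem_top _
    exact Subgroup.mem_centralizer_iff.1 (Subgroup.mem_subgroupOf.1 this) y hy
  -- conclusion
  intro d hd hdP y hy
  set E := (K ⊔ Q) ⊓ Subgroup.centralizer (P : Set Y) with hE
  have hEdec : ∀ z ∈ E, ∃ k ∈ Kc, ∃ u ∈ Q, z = k * u := by
    rintro z ⟨hz, hzP⟩
    obtain ⟨k, hk, u, hu, rfl⟩ := Subgroup.mem_sup_of_normal_left.1 hz
    refine ⟨k, ⟨hk, ?_⟩, u, hu, rfl⟩
    have huP : u ∈ Subgroup.centralizer (P : Set Y) :=
      Subgroup.mem_centralizer_iff.2 fun t ht => hPQ t ht u hu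
    simpa using Subgroup.mul_mem _ hzP (Subgroup.inv_mem _ huP)
  have hdy : d * y * d⁻¹ ∈ E := by
    refine ⟨sup_comm K Q ▸ hbar d hd hdP y hy, Subgroup.mem_centralizer_iff.2 fun t ht => ?_⟩
    have h1 : Commute t d := hdP t ht
    exact ((h1.mul_right (hPQ t ht y hy)).mul_right h1.inv_right).eq
  obtain ⟨k, hk, u, hu, he⟩ := hEdec _ hdy
  -- a `q`-element of `Kc × Q`
  obtain ⟨j, hj⟩ := hQq ⟨y, hy⟩
  have hj' : y ^ q ^ j = 1 := congrArg Subtype.val hj
  obtain ⟨i, hi⟩ := hQq ⟨u, hu⟩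
  have hi' : u ^ q ^ i = 1 := congrArg Subtype.val hi
  have h1 : (k * u) ^ q ^ (j + i) = 1 := by
    rw [← he, conj_pow, pow_add, pow_mul, hj', one_pow, mul_one, mul_inv_cancel]
  rw [(show Commute k u from (hcent k hk u hu).symm).mul_pow,
    show u ^ q ^ (j + i) = 1 by rw [pow_add, mul_comm, pow_mul, hi', one_pow], mul_one] at h1
  have h2 : k = 1 := by
    have hcop : (q ^ (j + i)).Coprime (Nat.card K) :=
      (hq.out.coprime_iff_not_dvd.2 hKq).pow_left _
    have h3 : orderOf (⟨k, hk.1⟩ : K) ∣ q ^ (j + i) :=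
      orderOf_dvd_of_pow_eq_one (Subtype.ext (by simpa using h1))
    have h4 := Nat.eq_one_of_dvd_coprimes hcop h3 (orderOf_dvd_natCard _)
    simpa using congrArg Subtype.val (orderOf_eq_one_iff.1 h4)
  rw [he, h2, one_mul]
  exact hu

end Cfsg.Agent.BlockChar.TwoPrimeInvariant
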