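import Mathlib
import Cfsg.Agent.BlockChar.TwoPrimeInvariant
import Cfsg.Agent.Coprime.SchurZassenhaus
import Cfsg.Agent.Core.Frattini
import Cfsg.Agent.S0867
import Cfsg.Agent.S0575
import Cfsg.Agent.QdFree.SL2Facts

/-!
# Degrees in two principal blocks of a `p`- and `q`-solvable group

If every character of degree prime to `p` with `O_{p'}` in its kernel has degree prime to `q`, and
conversely, then `q` does not divide the index of `O_{p'}`.
-/

set_option autoImplicit false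

namespace Cfsg.Agent.BlockChar.TwoPrimeMain

open scoped ComplexConjugate Pointwise commutatorElement
open Cfsg.Agent.Char

universe u

/-- The degree condition. -/
def Hyp (p q : ℕ) (G : Type u) [Group G] : Prop :=
  ∀ χ : IrrCharacter G, (∀ n ∈ Cfsg.pPrimeCore p G, (χ : G → ℂ) n = (χ : G → ℂ) 1) →
    ¬ p ∣ Cfsg.charDegree (χ : G → ℂ) → ¬ q ∣ Cfsg.charDegree (χ : G → ℂ)

variable {G : Type u} [Group G] [Finite G]

theorem hyp_quotient {p q : ℕ} (K : Subgroup G) [K.Normal] (h : Hyp p q G) :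
    Hyp p q (G ⧸ K) := by
  intro χ hχ hd
  let π := QuotientGroup.mk' K
  have hπ : Function.Surjective π := QuotientGroup.mk'_surjective K
  have h1 := h ⟨fun g => (χ : G ⧸ K → ℂ) (π g), isIrrCharacter_comp π hπ χ.2⟩ (fun n hn => by
    show (χ : G ⧸ K → ℂ) (π n) = (χ : G ⧸ K → ℂ) (π 1)
    rw [map_one]
    exact hχ _ (Core.map_pPrimeCore_le_of_surjective hπ ⟨n, hn, rfl⟩))
    (by simpa [Cfsg.charDegree] using hd)
  simpa [Cfsg.charDegree] using h1

/-- A complement of a normal `p`-subgroup in the preimage of a normal `p'`-subgroup, with the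
Frattini argument. -/
theorem exists_complement_preimage {p : ℕ} [hp : Fact p.Prime] (N : Subgroup G) [N.Normal]
    (hN : IsPGroup p N) (R : Subgroup (G ⧸ N)) [R.Normal] (hR : (Nat.card R).Coprime p) :
    ∃ Q : Subgroup G, Q ≤ R.comap (QuotientGroup.mk' N) ∧ N ⊓ Q = ⊥ ∧
      N ⊔ Q = R.comap (QuotientGroup.mk' N) ∧ Nat.card Q = Nat.card R ∧
      N ⊔ Subgroup.normalizer (Q : Set G) = ⊤ := by
  let π := QuotientGroup.mk' N
  have hπ : Function.Surjective π := QuotientGroup.mk'_surjective N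
  set M := R.comap π with hM
  have hNM : N ≤ M := fun x hx => by
    show π x ∈ R
    rw [show π x = 1 from (QuotientGroup.eq_one_iff x).2 hx]; exact R.one_mem
  obtain ⟨c, hc⟩ := hN.exists_card_eq
  have hidxM : (N.subgroupOf M).index = Nat.card R := by
    let f : M →* G ⧸ N := π.comp M.subtype
    have hk : f.ker = N.subgroupOf M := by
      ext x; simp [f, π, Subgroup.mem_subgroupOf]
    have hr : f.range = R := by
      rw [MonoidHom.range_comp, Subgroup.range_subtype,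
        Subgroup.map_comap_eq_self_of_surjective hπ R]
    rw [← hk, Subgroup.index_ker, hr]
  have hcardN : Nat.card (N.subgroupOf M) = p ^ c :=
    (Nat.card_congr (Subgroup.subgroupOfEquivOfLe hNM).toEquiv).trans hc
  obtain ⟨Q₀, hQ₀⟩ := Subgroup.exists_right_complement'_of_coprime (N := N.subgroupOf M)
    (by rw [hidxM, hcardN]; exact (hR.pow_right c).symm)
  set Q := Q₀.map M.subtype with hQ
  have hQM : Q ≤ M := Subgroup.map_subtype_le _
  have hQcard : Nat.card Q = Nat.card R := by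
    rw [hQ, Subgroup.card_map_of_injective M.subtype_injective, ← hidxM]
    exact hQ₀.symm.index_eq_card.symm
  have hNQ : N ⊓ Q = ⊥ :=
    Subgroup.inf_eq_bot_of_coprime (by rw [hc, hQcard]; exact (hR.pow_right c).symm)
  have hNQM : N ⊔ Q = M := by
    have h1 := congrArg (Subgroup.map M.subtype) hQ₀.sup_eq_top
    rwa [Subgroup.map_sup, Subgroup.map_subgroupOf_eq_of_le hNM, ← MonoidHom.range_eq_map,
      Subgroup.range_subtype] at h1
  refine ⟨Q, hQM, hNQ, hNQM, hQcard, eq_top_iff.2 fun g _ => ?_⟩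
  have hMn : M.Normal := Subgroup.Normal.comap inferInstance π
  have hQg : MulAut.conj g • Q ≤ M := by
    rintro _ ⟨x, hx, rfl⟩
    exact hMn.conj_mem x (hQM hx) g
  obtain ⟨m, hm, hmQ⟩ := Coprime.exists_conj_of_sup_eq (N := N) (H := Q)
    (K := MulAut.conj g • Q) Subgroup.le_normalizer_of_normal hNQ
    (Subgroup.inf_eq_bot_of_coprime (by
      rw [Nat.card_congr (Subgroup.equivSMul (MulAut.conj g) Q).symm.toEquiv, hc, hQcard]
      exact (hR.pow_right c).symm))
    (by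
      refine le_antisymm ?_ (sup_le le_sup_left (hQg.trans hNQM.ge))
      rw [hNQM]
      have h1 : MulAut.conj g • (N ⊔ Q) = MulAut.conj g • M := by rw [hNQM]
      rw [Subgroup.smul_sup, Subgroup.Normal.conj_smul_eq_self g N,
        Subgroup.Normal.conj_smul_eq_self g M] at h1
      exact h1.ge)
    (by rw [hc, hQcard]; exact (hR.pow_right c).symm)
    (Or.inl (by have := hN.isNilpotent; infer_instance))
  have e : MulAut.conj (m⁻¹ * g) • Q = Q := by
    rw [map_mul, mul_smul, ← hmQ, ← mul_smul, ← map_mul, inv_mul_cancel, map_one, one_smul]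
  have hmem : m⁻¹ * g ∈ Subgroup.normalizer (Q : Set G) := by
    rw [Subgroup.mem_normalizer_iff]
    intro h
    conv_rhs => rw [← e]
    exact (Subgroup.smul_mem_pointwise_smul_iff (a := MulAut.conj (m⁻¹ * g))).symm
  rw [show g = m * (m⁻¹ * g) by group]
  exact Subgroup.mul_mem_sup hm hmem

/-- Factoring out a normal `p`-subgroup that is Frattini or centralized keeps `O_{p'}` trivial. -/
theorem pPrimeCore_quotient_eq_bot {p : ℕ} [hp : Fact p.Prime] (hcore : Cfsg.pPrimeCore p G = ⊥)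
    (K : Subgroup G) [K.Normal] (hK : IsPGroup p K)
    (h : K ≤ frattini G ∨ ∀ Q : Subgroup G, (Nat.card Q).Coprime p →
      Q ≤ (Cfsg.pPrimeCore p (G ⧸ K)).comap (QuotientGroup.mk' K) →
      ∀ x ∈ Q, ∀ k ∈ K, x * k = k * x) :
    Cfsg.pPrimeCore p (G ⧸ K) = ⊥ := by
  obtain ⟨Q, hQle, -, -, hQcard, htop⟩ :=
    exists_complement_preimage K hK (Cfsg.pPrimeCore p (G ⧸ K)) Core.coprime_card_pPrimeCore
  have hcop : (Nat.card Q).Coprime p := hQcard ▸ Core.coprime_card_pPrimeCore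
  have hN : Subgroup.normalizer (Q : Set G) = ⊤ := by
    rcases h with h | h
    · refine frattini_nongenerating (eq_top_iff.2 ?_)
      rw [← htop, sup_comm K]
      exact sup_le_sup le_rfl h
    · refine eq_top_iff.2 (htop ▸ sup_le (fun k hk => ?_) le_rfl)
      refine Subgroup.centralizer_le_normalizer _ (Subgroup.mem_centralizer_iff.2 fun x hx => ?_)
      exact h Q hcop hQle x hx k hk
  have hQn : Q.Normal := Subgroup.normalizer_eq_top_iff.1 hN
  have hQbot : Q = ⊥ := le_bot_iff.1 (hcore ▸ Core.le_pPrimeCore hcop)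
  rw [hQbot, Subgroup.card_bot] at hQcard
  exact Subgroup.eq_bot_of_card_eq _ hQcard.symm

/-- A character of degree prime to `p` over a given one. -/
theorem exists_over [Fintype G] {p : ℕ} [hp : Fact p.Prime] (H₀ N : Subgroup G) [N.Normal]
    [Fintype H₀] [Fintype N] (hN : N ≤ H₀) (hidx : ¬ p ∣ H₀.index) (ψ : IrrCharacter H₀) {d : ℕ}
    (hd : (ψ : H₀ → ℂ) 1 = (d : ℂ)) (hdp : ¬ p ∣ d) (θ : IrrCharacter N)
    (hres : ∀ n : N, (ψ : H₀ → ℂ) ⟨n, hN n.2⟩ = (θ : N → ℂ) n) :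
    ∃ χ : IrrCharacter G, ¬ p ∣ Cfsg.charDegree (χ : G → ℂ) ∧
      classInner (fun n : N => (χ : G → ℂ) n) (θ : N → ℂ) ≠ 0 := by
  classical
  set I := indFun H₀ (ψ : H₀ → ℂ) with hI
  have hIc : IsCharacter G I := isCharacter_indFun _ (IsIrr.isCharacter ψ.2)
  choose d' hd0 hd' using fun ξ : IrrCharacter G => IsIrr.degree ξ.2
  choose m hm using fun ξ : IrrCharacter G =>
    classInner_isCharacter_eq_natCast hIc (IsIrr.isCharacter ξ.2)
  have h1 : ((H₀.index * d : ℕ) : ℂ) = ((∑ ξ : IrrCharacter G, m ξ * d' ξ : ℕ) : ℂ) := by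
    have h3 := congrFun (classFun_expansion (isClassFunction_of_isCharacter hIc)) 1
    simp only [Finset.sum_apply, Pi.smul_apply, smul_eq_mul, hm, hd'] at h3
    rw [hI, indFun_apply_one, hd] at h3
    rw [Nat.cast_mul, h3, Nat.cast_sum]
    exact Finset.sum_congr rfl fun ξ _ => by rw [Nat.cast_mul]
  have h2 : H₀.index * d = ∑ ξ : IrrCharacter G, m ξ * d' ξ := by exact_mod_cast h1
  obtain ⟨ξ, -, hξ⟩ : ∃ ξ ∈ (Finset.univ : Finset (IrrCharacter G)), ¬ p ∣ m ξ * d' ξ := by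
    by_contra hc
    push Not at hc
    exact hp.out.not_dvd_mul hidx hdp (h2 ▸ Finset.dvd_sum hc)
  refine ⟨ξ, fun hdiv => hξ (Dvd.dvd.mul_left ?_ _), ?_⟩
  · simpa [Cfsg.charDegree, hd' ξ] using hdiv
  have hres0 := isCharacter_res H₀ (IsIrr.isCharacter ξ.2)
  have h3 : classInner (fun x : H₀ => (ξ : G → ℂ) x) (ψ : H₀ → ℂ) ≠ 0 := by
    intro h0
    refine hξ ?_
    have h4 := classInner_indFun_left H₀ (ψ : H₀ → ℂ) (isClassFunction_of_isIrr ξ.2)
    have h5' : (m ξ : ℂ) = 0 := by rw [← hm ξ, hI, h4, ← classInner_conj_symm, h0, map_zero]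
    have h5 : m ξ = 0 := by exact_mod_cast h5'
    rw [h5, zero_mul]
    exact dvd_zero p
  have hsub := IsChar.sub_constituent hres0 ψ.2 h3
  have hsub' : IsCharacter N (fun n : N => (fun x : H₀ => (ξ : G → ℂ) x) ⟨n, hN n.2⟩ -
      (ψ : H₀ → ℂ) ⟨n, hN n.2⟩) :=
    isCharacter_comp (Subgroup.inclusion hN) hsub
  obtain ⟨a, ha⟩ := classInner_isCharacter_eq_natCast hsub' (IsIrr.isCharacter θ.2)
  intro h0
  have hfun : (fun n : N => (ξ : G → ℂ) n) = (fun n : N => (fun x : H₀ => (ξ : G → ℂ) x)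
      ⟨n, hN n.2⟩ - (ψ : H₀ → ℂ) ⟨n, hN n.2⟩) + (θ : N → ℂ) := by
    funext n
    simp [hres n]
  rw [hfun, classInner_add_left, ha, classInner_irr_self θ.2] at h0
  have h6 : a + 1 = 0 := by exact_mod_cast h0
  omega

/-- Degree and stabilizer index of a constituent divide the degree. -/
theorem dvd_of_over [Fintype G] (N : Subgroup G) [N.Normal] [Fintype N] (χ : IrrCharacter G)
    (θ : IrrCharacter N) (h : classInner (fun n : N => (χ : G → ℂ) n) (θ : N → ℂ) ≠ 0) :
    (inertia (θ : N → ℂ)).index * Cfsg.charDegree (θ : N → ℂ) ∣ Cfsg.charDegree (χ : G → ℂ) := by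
  obtain ⟨a, ha⟩ := classInner_isCharacter_eq_natCast
    (isCharacter_res N (IsIrr.isCharacter χ.2)) (IsIrr.isCharacter θ.2)
  obtain ⟨dl, -, hdl⟩ := IsIrr.degree θ.2
  obtain ⟨dt, -, hdt⟩ := IsIrr.degree χ.2
  have h2 := degree_eq_of_clifford χ.2 θ.2 h
  rw [hdt, ha, hdl] at h2
  have h3 : dt = a * (inertia (θ : N → ℂ)).index * dl := by exact_mod_cast h2
  rw [show Cfsg.charDegree (θ : N → ℂ) = dl by simp [Cfsg.charDegree, hdl],
    show Cfsg.charDegree (χ : G → ℂ) = dt by simp [Cfsg.charDegree, hdt], h3, mul_assoc]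
  exact dvd_mul_left _ _

/-- An invariant character of a normal `p'`-subgroup of `Y` lies under a character of degree
prime to `p`. -/
theorem exists_over_invariant {Y : Type u} [Group Y] [Fintype Y] {p : ℕ} [hp : Fact p.Prime]
    (R : Subgroup Y) [R.Normal] [Fintype R] (hR : ¬ p ∣ Nat.card R) (P : Subgroup Y)
    (hP : IsPGroup p P) (hPidx : ¬ p ∣ P.index) (θ : IrrCharacter R)
    (hθ : ∀ t ∈ P, conjFun t (θ : R → ℂ) = (θ : R → ℂ)) :
    ∃ χ : IrrCharacter Y, ¬ p ∣ Cfsg.charDegree (χ : Y → ℂ) ∧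
      classInner (fun n : R => (χ : Y → ℂ) n) (θ : R → ℂ) ≠ 0 := by
  classical
  set E := R ⊔ P with hE
  have hRE : R ≤ E := le_sup_left
  have hPT : P ≤ inertia (θ : R → ℂ) := fun t ht => hθ t ht
  have hET : E ≤ inertia (θ : R → ℂ) := sup_le (le_inertia (isClassFunction_of_isIrr θ.2)) hPT
  let N : Subgroup E := R.subgroupOf E
  have hNn : N.Normal := Subgroup.Normal.subgroupOf inferInstance E
  let e : N ≃* R := Subgroup.subgroupOfEquivOfLe hRE
  let ϑ : N → ℂ := fun n => (θ : R → ℂ) (e n)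
  have hϑ : IsIrrCharacter N ϑ := (isIrrCharacter_comp_equiv e).2 θ.2
  have hinv : ∀ (g : E) (n : N), ϑ ⟨g * n * g⁻¹, hNn.conj_mem (n : E) n.2 g⟩ = ϑ n := by
    intro g n
    have h1 := congrFun (mem_inertia.1 (hET g.2)) (e n)
    rw [conjFun_apply] at h1
    exact (congrArg (θ : R → ℂ) (Subtype.ext rfl)).trans h1
  obtain ⟨d, -, hd⟩ := IsIrr.degree θ.2
  have hd' : ϑ 1 = (d : ℂ) := (congrArg (θ : R → ℂ) (map_one e)).trans hd
  obtain ⟨k, hk⟩ := hP.exists_card_eq
  have hRP : R ⊓ P = ⊥ := Subgroup.inf_eq_bot_of_coprime (by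
    rw [hk]; exact ((hp.out.coprime_iff_not_dvd.2 hR).pow_left k).symm)
  have hNidx : N.index = p ^ k := by
    have h1 := N.card_mul_index
    rw [Nat.card_congr e.toEquiv] at h1
    have h2 := Coprime.card_sup_eq_mul (N := R) (A := P) Subgroup.le_normalizer_of_normal hRP
    rw [← hE, hk] at h2
    exact mul_left_cancel₀ Nat.card_pos.ne' (h1.trans h2)
  have hcop : ∀ m : ℕ, m ∣ Nat.card R → N.index.Coprime m := fun m hm => by
    rw [hNidx]
    exact ((hp.out.coprime_iff_not_dvd.2 hR).pow_left k).coprime_dvd_right hm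
  have hNcard : Nat.card N = Nat.card R := Nat.card_congr e.toEquiv
  obtain ⟨χ₀, ⟨h0, hres, -⟩, -⟩ := S0867.result N ϑ hϑ hinv d hd'
    (Nat.Coprime.mul_right (hcop _ (hNcard ▸ Glauberman.detOrder_dvd_card (IsIrr.isCharacter hϑ)))
      (hcop _ (hNcard ▸ IsIrr.degree_dvd_card hϑ hd')))
  have hEidx : ¬ p ∣ E.index := fun h => hPidx (h.trans (Subgroup.index_dvd_of_le le_sup_right))
  refine exists_over E R hRE hEidx ⟨χ₀, h0⟩ (d := d) ?_ ?_ θ fun n => ?_
  · show χ₀ 1 = (d : ℂ)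
    rw [← hd', ← hres 1]
    rfl
  · exact fun h => hR (h.trans (IsIrr.degree_dvd_card θ.2 hd))
  · exact (hres ⟨⟨n, hRE n.2⟩, n.2⟩).trans (congrArg (θ : R → ℂ) (Subtype.ext rfl))

/-- A nontrivial character of a `p`-group `M`, trivial on `W`, fixed by a `p`-group. -/
theorem exists_fixed_linear {p : ℕ} [hp : Fact p.Prime] (M W P : Subgroup G) [M.Normal]
    (hM : IsPGroup p M) (hMab : ∀ a ∈ M, ∀ b ∈ M, a * b = b * a) (hWM : W ≤ M) (hW : W ≠ M)
    (hP : IsPGroup p P) (hPW : P ≤ Subgroup.normalizer (W : Set G)) :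
    ∃ l : M →* ℂˣ, l ≠ 1 ∧ (∀ w : M, (w : G) ∈ W → l w = 1) ∧
      ∀ t ∈ P, ∀ (a : M) (b : M), (b : G) = t * a * t⁻¹ → l b = l a := by
  classical
  let _ : CommGroup M :=
    { (inferInstance : Group M) with mul_comm := fun a b => Subtype.ext (hMab a a.2 b b.2) }
  let W' : Subgroup M := W.subgroupOf M
  let Λ := {l : M →* ℂˣ // ∀ w : M, (w : G) ∈ W → l w = 1}
  let eΛ : Λ ≃ (M ⧸ W' →* ℂˣ) :=
    { toFun := fun l => QuotientGroup.lift W' l.1 fun w hw => l.2 w hw
      invFun := fun f => ⟨f.comp (QuotientGroup.mk' W'), fun w hw => by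
        show f (QuotientGroup.mk w) = 1
        rw [(QuotientGroup.eq_one_iff w).2 hw, map_one]⟩
      left_inv := fun l => rfl
      right_inv := fun f => MonoidHom.ext fun x => by
        obtain ⟨y, rfl⟩ := QuotientGroup.mk_surjective x
        rfl }
  have hcard : Nat.card Λ = Nat.card (M ⧸ W') := by
    rw [Nat.card_congr eΛ]
    exact CommGroup.card_monoidHom_of_hasEnoughRootsOfUnity (M ⧸ W') ℂ
  let cj : P → M →* M := fun t => (MulAut.conjNormal ((t : G)⁻¹) : MulAut M).toMonoidHom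
  let act : MulAction P Λ :=
    { smul := fun t l => ⟨l.1.comp (cj t), fun w hw => l.2 _ (by
        show ((MulAut.conjNormal ((t : G)⁻¹) : MulAut M) w : G) ∈ W
        rw [MulAut.conjNormal_apply]
        exact (Subgroup.mem_normalizer_iff.1 (hPW (P.inv_mem t.2)) _).1 hw)⟩
      one_smul := fun l => Subtype.ext (MonoidHom.ext fun w => congrArg l.1 (Subtype.ext (by
        show ((MulAut.conjNormal (((1 : P) : G)⁻¹) : MulAut M) w : G) = w
        rw [MulAut.conjNormal_apply]; simp)))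
      mul_smul := fun s t l => Subtype.ext (MonoidHom.ext fun w => congrArg l.1 (Subtype.ext (by
        show ((MulAut.conjNormal (((s * t : P) : G)⁻¹) : MulAut M) w : G) =
          ((MulAut.conjNormal ((t : G)⁻¹) : MulAut M) ((MulAut.conjNormal ((s : G)⁻¹) : MulAut M) w) : G)
        simp only [MulAut.conjNormal_apply, Subgroup.coe_mul]
        group))) }
  have hfin : Finite Λ := Nat.finite_of_card_ne_zero (by rw [hcard]; exact Nat.card_pos.ne')
  have hne1 : Nontrivial (M ⧸ W') := QuotientGroup.nontrivial_iff.2 fun h =>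
    hW (le_antisymm hWM (Subgroup.subgroupOf_eq_top.1 h))
  have hpdvd : p ∣ Nat.card Λ := by
    rw [hcard]
    obtain ⟨j, hj, hjc⟩ := (hM.to_quotient W').nontrivial_iff_card.1 hne1
    exact hjc ▸ dvd_pow_self p hj.ne'
  have h1 : (1 : M →* ℂˣ) = (1 : M →* ℂˣ) := rfl
  let one : Λ := ⟨1, fun _ _ => rfl⟩
  obtain ⟨l, hl, hne⟩ := hP.exists_fixed_point_of_prime_dvd_card_of_fixed_point Λ hpdvd
    (a := one) (fun t => Subtype.ext (MonoidHom.ext fun w => rfl))
  refine ⟨l.1, fun e => hne (Subtype.ext e.symm), l.2, fun t ht a b hab => ?_⟩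
  have h2 : l.1 (cj ⟨t⁻¹, P.inv_mem ht⟩ a) = l.1 a :=
    congrArg (fun x : Λ => x.1 a) (hl ⟨t⁻¹, P.inv_mem ht⟩)
  rw [← h2]
  congr 1
  refine Subtype.ext ?_
  show (b : G) = ((MulAut.conjNormal ((t⁻¹ : G)⁻¹) : MulAut M) a : G)
  rw [MulAut.conjNormal_apply, inv_inv, hab]

theorem main_aux : ∀ (n : ℕ) (G : Type u) [Group G] [Finite G] (p q : ℕ) [Fact p.Prime]
    [Fact q.Prime], Nat.card G = n → p ≠ q → Cfsg.IsPSolvable p G → Cfsg.IsPSolvable q G →
    Hyp p q G → Hyp q p G → ¬ q ∣ (Cfsg.pPrimeCore p G).index := by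
  intro n
  induction n using Nat.strong_induction_on with
  | _ n ih =>
  intro G _ _ p q hp hq hn hpq hps hqs hpq' hqp'
  classical
  have IHq : ∀ (K : Subgroup G) [K.Normal], K ≠ ⊥ → ¬ q ∣ (Cfsg.pPrimeCore p (G ⧸ K)).index :=
    fun K _ hK => ih _ (hn ▸ Core.card_quotient_lt hK) (G ⧸ K) p q rfl hpq
      (Layer.isPSolvable_of_surjective hps (QuotientGroup.mk'_surjective K))
      (Layer.isPSolvable_of_surjective hqs (QuotientGroup.mk'_surjective K))
      (hyp_quotient K hpq') (hyp_quotient K hqp')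
  by_cases hA : Cfsg.pPrimeCore p G = ⊥
  swap
  · have h := IHq _ hA
    rwa [Core.pPrimeCore_quotient_eq_bot, Subgroup.index_bot, ← Subgroup.index_eq_card] at h
  rw [hA, Subgroup.index_bot]
  intro hqG
  have hGnt : Nontrivial G := Finite.one_lt_card_iff_nontrivial.1
    (lt_of_lt_of_le hq.out.one_lt (Nat.le_of_dvd Nat.card_pos hqG))
  set M := Cfsg.pCore p G with hMdef
  have hMne : M ≠ ⊥ := (S4601.exists_nontrivial_core hps).resolve_right fun h => h hA
  have hMp : IsPGroup p M := Core.pCore_isPGroup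
  have hqp : ∀ {K : Subgroup G}, IsPGroup p K → ¬ q ∣ Nat.card K := fun hK hd => by
    obtain ⟨k, hk⟩ := hK.exists_card_eq
    exact hpq ((Nat.prime_dvd_prime_iff_eq hq.out hp.out).1 (hq.out.dvd_of_dvd_pow (hk ▸ hd))).symm
  have hstep : ∀ (K : Subgroup G) [K.Normal], IsPGroup p K → K ≠ ⊥ →
      Cfsg.pPrimeCore p (G ⧸ K) = ⊥ → False := by
    intro K _ hK hKne hcore
    have h := IHq K hKne
    rw [hcore, Subgroup.index_bot, ← Subgroup.index_eq_card] at h
    rw [← K.card_mul_index] at hqG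
    exact (hq.out.dvd_mul.1 hqG).elim (hqp hK) h
  -- `M` is abelian
  have hMab : ∀ a ∈ M, ∀ b ∈ M, a * b = b * a := by
    intro a ha b hb
    by_contra hab
    set K := (commutator M).map M.subtype with hK
    have hKn : K.Normal := inferInstance
    have hKne : K ≠ ⊥ := by
      intro h
      rw [hK, Subgroup.map_eq_bot_iff_of_injective _ M.subtype_injective] at h
      have h1 : ⁅(⟨a, ha⟩ : M), (⟨b, hb⟩ : M)⁆ ∈ commutator M := by
        rw [commutator_def]
        exact Subgroup.commutator_mem_commutator (Subgroup.mem_top _) (Subgroup.mem_top _)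
      rw [h, Subgroup.mem_bot, commutatorElement_eq_one_iff_mul_comm] at h1
      exact hab (congrArg Subtype.val h1)
    have hKf : K ≤ frattini G := by
      have := hMp.isNilpotent
      exact (Subgroup.map_mono Core.commutator_le_frattini).trans (S0575.result M)
    exact hstep K (hMp.to_le (Subgroup.map_subtype_le _)) hKne
      (pPrimeCore_quotient_eq_bot hA K (hMp.to_le (Subgroup.map_subtype_le _)) (Or.inl hKf))
  -- the quotient by `M`
  let π := QuotientGroup.mk' M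
  have hπ : Function.Surjective π := QuotientGroup.mk'_surjective M
  set R := Cfsg.pPrimeCore p (G ⧸ M) with hR
  have hRcop : (Nat.card R).Coprime p := Core.coprime_card_pPrimeCore
  have hRidx : ¬ q ∣ R.index := IHq M hMne
  have hBidx : ¬ p ∣ (Cfsg.pPrimeCore q (G ⧸ M)).index :=
    ih _ (hn ▸ Core.card_quotient_lt hMne) (G ⧸ M) q p rfl hpq.symm
      (Layer.isPSolvable_of_surjective hqs hπ) (Layer.isPSolvable_of_surjective hps hπ)
      (hyp_quotient M hqp') (hyp_quotient M hpq')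
  obtain ⟨R₀, hR₀L, hMR, hMRL, hR₀card, htop⟩ := exists_complement_preimage M hMp R hRcop
  set Y := Subgroup.normalizer (R₀ : Set G) with hY
  have hR₀Y : R₀ ≤ Y := Subgroup.le_normalizer
  have hR₀p : ¬ p ∣ Nat.card R₀ := by
    rw [hR₀card]; exact hp.out.coprime_iff_not_dvd.1 hRcop.symm
  -- no centralized part
  set M₀ := M ⊓ Subgroup.centralizer (R₀ : Set G) with hM₀
  have hMnorm : M.Normal := inferInstance
  have hM₀n : M₀.Normal := by
    refine Subgroup.normalizer_eq_top_iff.1 (eq_top_iff.2 (htop ▸ sup_le (fun m hm => ?_) ?_))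
    · exact Subgroup.centralizer_le_normalizer _
        (Subgroup.mem_centralizer_iff.2 fun x hx => hMab x hx.1 m hm)
    · exact Coprime.le_normalizer_inf Subgroup.le_normalizer_of_normal
        (Coprime.le_normalizer_centralizer le_rfl)
  have hM₀bot : M₀ = ⊥ := by
    by_contra hne
    refine hstep M₀ (hMp.to_le inf_le_left) hne
      (pPrimeCore_quotient_eq_bot hA M₀ (hMp.to_le inf_le_left) (Or.inr ?_))
    intro S hS hSle x hx k hk
    set S' := (Cfsg.pPrimeCore p (G ⧸ M₀)).comap (QuotientGroup.mk' M₀) with hS'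
    have hSn : (S'.map π).Normal := Subgroup.Normal.map (Subgroup.Normal.comap inferInstance _) π hπ
    have hScop : (Nat.card (S'.map π)).Coprime p := by
      let g : G ⧸ M₀ →* G ⧸ M := QuotientGroup.map M₀ M (MonoidHom.id G) inf_le_left
      have hg : S'.map π = (Cfsg.pPrimeCore p (G ⧸ M₀)).map g := by
        conv_rhs => rw [← Subgroup.map_comap_eq_self_of_surjective
          (QuotientGroup.mk'_surjective M₀) (Cfsg.pPrimeCore p (G ⧸ M₀))]
        rw [Subgroup.map_map]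
        rfl
      rw [hg]
      exact Core.coprime_card_pPrimeCore.coprime_dvd_left (Subgroup.card_map_dvd _ _)
    have hxL : x ∈ M ⊔ R₀ := by
      rw [hMRL]
      exact Core.le_pPrimeCore hScop ⟨x, hSle hx, rfl⟩
    obtain ⟨m, hm, r, hr, rfl⟩ := Subgroup.mem_sup_of_normal_left.1 hxL
    rw [mul_assoc, Subgroup.mem_centralizer_iff.1 hk.2 r hr, ← mul_assoc, hMab m hm k hk.1,
      mul_assoc]
  have hMY : M ⊓ Y = ⊥ := by
    rw [eq_bot_iff]
    rintro m ⟨hm, hmY⟩
    refine hM₀bot ▸ (⟨hm, Subgroup.mem_centralizer_iff.2 fun r hr => ?_⟩ : m ∈ M₀)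
    have h1 : m * r * m⁻¹ * r⁻¹ ∈ M ⊓ R₀ := by
      refine ⟨?_, R₀.mul_mem ((Subgroup.mem_normalizer_iff.1 hmY r).1 hr) (R₀.inv_mem hr)⟩
      rw [show m * r * m⁻¹ * r⁻¹ = m * (r * m⁻¹ * r⁻¹) by group]
      exact M.mul_mem hm (hMnorm.conj_mem _ (M.inv_mem hm) r)
    rw [hMR, Subgroup.mem_bot] at h1
    calc r * m = (m * r * m⁻¹ * r⁻¹) * (r * m) := by rw [h1, one_mul]
      _ = m * r := by group
  let πY : Y →* G ⧸ M := π.comp Y.subtype
  have hπY : Function.Bijective πY := by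
    constructor
    · refine (injective_iff_map_eq_one πY).2 fun y hy => ?_
      have h1 : (y : G) ∈ M ⊓ Y := ⟨(QuotientGroup.eq_one_iff (y : G)).1 hy, y.2⟩
      rw [hMY, Subgroup.mem_bot] at h1
      exact Subtype.ext h1
    · intro z
      obtain ⟨g, rfl⟩ := hπ z
      have hg : g ∈ M ⊔ Y := htop ▸ Subgroup.mem_top g
      obtain ⟨m, hm, y, hy, rfl⟩ := Subgroup.mem_sup_of_normal_left.1 hg
      refine ⟨⟨y, hy⟩, ?_⟩
      show π y = π (m * y)
      rw [map_mul, show π m = 1 from (QuotientGroup.eq_one_iff m).2 hm, one_mul]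
  let eY : Y ≃* G ⧸ M := MulEquiv.ofBijective πY hπY
  let ρ : G →* Y := eY.symm.toMonoidHom.comp π
  have hρs : Function.Surjective ρ := eY.symm.surjective.comp hπ
  have hρπ : ∀ g, π (ρ g : G) = π g := fun g => eY.apply_symm_apply (π g)
  have hρY : ∀ y : Y, ρ (y : G) = y := fun y => eY.symm_apply_apply y
  -- Sylow subgroups
  obtain ⟨P₁⟩ : Nonempty (Sylow p Y) := inferInstance
  set P₀ := (P₁ : Subgroup Y).map Y.subtype with hP₀
  have hP₀Y : P₀ ≤ Y := Subgroup.map_subtype_le _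
  have hP₀p : IsPGroup p P₀ := P₁.2.map _
  have hcopR₀ : (Nat.card P₀).Coprime (Nat.card R₀) := by
    obtain ⟨k, hk⟩ := hP₀p.exists_card_eq
    rw [hk]; exact (hp.out.coprime_iff_not_dvd.2 hR₀p).pow_left k
  obtain ⟨Q₁, hQ₁⟩ := Coprime.exists_invariant_sylow (A := P₀) (K := R₀) hP₀Y hcopR₀
    (Or.inl (Layer.isSolvable_of_isPGroup hP₀p)) q
  set Q := (Q₁ : Subgroup R₀).map R₀.subtype with hQ
  have hQR₀ : Q ≤ R₀ := Subgroup.map_subtype_le _
  have hQq : IsPGroup q Q := Q₁.2.map _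
  have hQrel : ¬ q ∣ Q.relIndex R₀ := by
    rw [hQ, Subgroup.relIndex, ← Subgroup.comap_subtype,
      Subgroup.comap_map_eq_self_of_injective R₀.subtype_injective]
    exact Q₁.not_dvd_index
  have hPB : ∀ t ∈ P₀, π t ∈ Cfsg.pPrimeCore q (G ⧸ M) := by
    intro t ht
    obtain ⟨k, hk⟩ := hP₀p ⟨t, ht⟩
    have hk' : t ^ p ^ k = 1 := congrArg Subtype.val hk
    rw [← QuotientGroup.eq_one_iff, ← orderOf_eq_one_iff]
    refine Nat.eq_one_of_dvd_coprimes ((hp.out.coprime_iff_not_dvd.2 hBidx).pow_left k) ?_ ?_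
    · refine orderOf_dvd_of_pow_eq_one ?_
      rw [← QuotientGroup.mk_pow, ← map_pow, hk', map_one, QuotientGroup.mk_one]
    · rw [Subgroup.index_eq_card]; exact orderOf_dvd_natCard _
  have hPQ : ∀ t ∈ P₀, ∀ y ∈ Q, t * y = y * t := by
    intro t ht y hy
    have hw : t * y * t⁻¹ * y⁻¹ ∈ Q :=
      Q.mul_mem ((Subgroup.mem_normalizer_iff.1 (hQ₁ ht) y).1 hy) (Q.inv_mem hy)
    have hwB : π (t * y * t⁻¹ * y⁻¹) ∈ Cfsg.pPrimeCore q (G ⧸ M) := by
      rw [show t * y * t⁻¹ * y⁻¹ = t * (y * t⁻¹ * y⁻¹) by group, map_mul, map_mul, map_mul,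
        map_inv, map_inv]
      exact Subgroup.mul_mem _ (hPB t ht)
        (Subgroup.Normal.conj_mem inferInstance _ (Subgroup.inv_mem _ (hPB t ht)) _)
    obtain ⟨k, hk⟩ := hQq ⟨_, hw⟩
    have hk' : (t * y * t⁻¹ * y⁻¹) ^ q ^ k = 1 := congrArg Subtype.val hk
    have h1 : orderOf (⟨_, hwB⟩ : Cfsg.pPrimeCore q (G ⧸ M)) = 1 := by
      refine Nat.eq_one_of_dvd_coprimes
        ((Core.coprime_card_pPrimeCore (p := q) (G := G ⧸ M)).symm.pow_left k) ?_ ?_
      · refine orderOf_dvd_of_pow_eq_one (Subtype.ext ?_)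
        rw [SubmonoidClass.coe_pow, ← map_pow, hk', map_one]
        rfl
      · exact orderOf_dvd_natCard _
    rw [orderOf_eq_one_iff] at h1
    have h2 : t * y * t⁻¹ * y⁻¹ ∈ M ⊓ Y :=
      ⟨(QuotientGroup.eq_one_iff _).1 (congrArg Subtype.val h1), hR₀Y (hQR₀ hw)⟩
    rw [hMY, Subgroup.mem_bot] at h2
    calc t * y = (t * y * t⁻¹ * y⁻¹) * (y * t) := by group
      _ = y * t := by rw [h2, one_mul]
  -- inside `Y`
  have := Fintype.ofFinite G
  have := Fintype.ofFinite Y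
  let RY := R₀.subgroupOf Y
  have hRYn : RY.Normal := Subgroup.normal_subgroupOf_of_le_normalizer le_rfl
  have := Fintype.ofFinite RY
  let QY := Q.subgroupOf Y
  let eR : RY ≃* R₀ := Subgroup.subgroupOfEquivOfLe hR₀Y
  have hRYp : ¬ p ∣ Nat.card RY := by rw [Nat.card_congr eR.toEquiv]; exact hR₀p
  have hRYsol : Cfsg.IsPSolvable q RY :=
    QdFree.isPSolvable_subgroup (QdFree.isPSolvable_subgroup hqs Y) RY
  have hQYidx : ¬ q ∣ QY.relIndex RY := by
    have h1 : QY.relIndex RY = Q.relIndex R₀ := by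
      rw [← Subgroup.relIndex_map_map_of_injective QY RY Y.subtype_injective]
      rw [Subgroup.map_subgroupOf_eq_of_le (hQR₀.trans hR₀Y),
        Subgroup.map_subgroupOf_eq_of_le hR₀Y]
    rw [h1]; exact hQrel
  have hPQY : ∀ t ∈ (P₁ : Subgroup Y), ∀ y ∈ QY, t * y = y * t := fun t ht y hy =>
    Subtype.ext (hPQ t ⟨t, ht, rfl⟩ y hy)
  have hnorm := TwoPrimeInvariant.normalizes_aux (p := p) (q := q) hpq (Nat.card Y) Y RY
    (P₁ : Subgroup Y) QY rfl P₁.2 hRYp hRYsol (Subgroup.comap_mono hQR₀) hQq.comap_subtype hQYidx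
    hPQY (fun θ hθ => by
      obtain ⟨χ, hχp, hχ⟩ := exists_over_invariant RY hRYp (P₁ : Subgroup Y) P₁.2 P₁.not_dvd_index
        θ hθ
      let χG : IrrCharacter G := ⟨fun g => (χ : Y → ℂ) (ρ g), isIrrCharacter_comp ρ hρs χ.2⟩
      have h1 := hpq' χG (fun x hx => by
        rw [hA, Subgroup.mem_bot] at hx
        rw [hx]) (by simpa [χG, Cfsg.charDegree] using hχp)
      intro hd
      refine h1 ?_
      have h2 := (dvd_of_over RY χ θ hχ)
      have h3 : q ∣ Cfsg.charDegree (χ : Y → ℂ) := (hd.trans (Dvd.intro_left _ rfl)).trans h2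
      simpa [χG, Cfsg.charDegree] using h3)
  -- `Q` is nontrivial and acts faithfully
  have hcardG : Nat.card G = Nat.card M * (Nat.card R * R.index) := by
    rw [R.card_mul_index, ← Subgroup.index_eq_card, M.card_mul_index]
  have hQne : Q ≠ ⊥ := by
    intro h
    have h1 : ¬ q ∣ Nat.card R₀ := by
      rw [h, Subgroup.relIndex_bot_left] at hQrel
      exact hQrel
    rw [hcardG] at hqG
    rcases hq.out.dvd_mul.1 hqG with h2 | h2
    · exact hqp hMp h2
    rcases hq.out.dvd_mul.1 h2 with h3 | h3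
    · exact h1 (hR₀card ▸ h3)
    · exact hRidx h3
  set C₀ := R₀ ⊓ Subgroup.centralizer (M : Set G) with hC₀
  have hC₀n : C₀.Normal := by
    refine Subgroup.normalizer_eq_top_iff.1 (eq_top_iff.2 (htop ▸ sup_le (fun m hm => ?_) ?_))
    · exact Subgroup.centralizer_le_normalizer _ (Subgroup.mem_centralizer_iff.2 fun x hx =>
        ((Subgroup.mem_centralizer_iff.1 hx.2 m hm)).symm)
    · exact Coprime.le_normalizer_inf le_rfl
        (Coprime.le_normalizer_centralizer Subgroup.le_normalizer_of_normal)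
  have hC₀bot : C₀ = ⊥ := le_bot_iff.1 (hA ▸ Core.le_pPrimeCore
    ((hp.out.coprime_iff_not_dvd.2 fun h =>
      hR₀p (h.trans (Subgroup.card_dvd_of_le inf_le_left))).symm))
  set W := M ⊓ Subgroup.centralizer (Q : Set G) with hW
  have hWne : W ≠ M := by
    intro h
    refine hQne (le_bot_iff.1 (hC₀bot ▸ le_inf hQR₀ ?_))
    intro y hy
    refine Subgroup.mem_centralizer_iff.2 fun m hm => ?_
    exact (Subgroup.mem_centralizer_iff.1 (h.ge hm).2 y hy).symm
  have hPW : P₀ ≤ Subgroup.normalizer (W : Set G) :=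
    Coprime.le_normalizer_inf Subgroup.le_normalizer_of_normal
      (Coprime.le_normalizer_centralizer (fun t ht => hQ₁ ht))
  obtain ⟨l, hl1, hlW, hlP⟩ := exists_fixed_linear M W P₀ hMp hMab inf_le_left hWne hP₀p hPW
  have := Fintype.ofFinite M
  let lc : IrrCharacter M := ⟨fun m => ((l m : ℂˣ) : ℂ), isIrrCharacter_hom l⟩
  -- the extension to `M P₀`
  set E := (P₁ : Subgroup Y).comap ρ with hE
  have hME : M ≤ E := fun m hm => by
    show ρ m ∈ (P₁ : Subgroup Y)
    have : ρ m = 1 := by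
      show eY.symm (π m) = 1
      rw [show π m = 1 from (QuotientGroup.eq_one_iff m).2 hm, map_one]
    rw [this]; exact one_mem _
  have hEidx : ¬ p ∣ E.index := by
    rw [hE, Subgroup.index_comap_of_surjective _ hρs]; exact P₁.not_dvd_index
  have := Fintype.ofFinite E
  have hmem : ∀ g : G, g * (ρ g : G)⁻¹ ∈ M := fun g => by
    rw [← QuotientGroup.eq_one_iff]
    show π (g * (ρ g : G)⁻¹) = 1
    rw [map_mul, map_inv, hρπ, mul_inv_cancel]
  let α : E →* ℂˣ := MonoidHom.mk' (fun x => l ⟨(x : G) * (ρ x : G)⁻¹, hmem x⟩) fun a b => by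
    have hk : ((ρ (a : G)) : G) * ((b : G) * (ρ (b : G) : G)⁻¹) * ((ρ (a : G)) : G)⁻¹ ∈ M :=
      hMnorm.conj_mem _ (hmem b) _
    rw [← hlP (ρ (a : G) : G) ⟨ρ (a : G), a.2, rfl⟩ ⟨_, hmem b⟩ ⟨_, hk⟩ rfl, ← map_mul]
    congr 1
    apply Subtype.ext
    show (a : G) * b * ((ρ ((a : G) * b) : Y) : G)⁻¹ = _
    rw [map_mul, Subgroup.coe_mul, Subgroup.coe_mul]
    group
  have hα : ∀ m : M, ((α ⟨m, hME m.2⟩ : ℂˣ) : ℂ) = ((l m : ℂˣ) : ℂ) := fun m => by
    show ((l ⟨(m : G) * (ρ (m : G) : G)⁻¹, _⟩ : ℂˣ) : ℂ) = _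
    congr 2
    apply Subtype.ext
    show (m : G) * (ρ (m : G) : G)⁻¹ = m
    have : ρ (m : G) = 1 := by
      show eY.symm (π m) = 1
      rw [show π m = 1 from (QuotientGroup.eq_one_iff (m : G)).2 m.2, map_one]
    rw [this]; simp
  obtain ⟨χ, hχp, hχ⟩ := exists_over E M hME hEidx
    ⟨fun x => ((α x : ℂˣ) : ℂ), isIrrCharacter_hom α⟩ (d := 1)
    (by show ((α 1 : ℂˣ) : ℂ) = _; rw [map_one]; simp) hp.out.not_dvd_one lc hα
  set T := inertia (lc : M → ℂ) with hT
  have hTidx : ¬ q ∣ T.index := fun h => hpq' χ (fun x hx => by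
      rw [hA, Subgroup.mem_bot] at hx
      rw [hx]) hχp
    ((h.trans (Dvd.intro _ rfl)).trans (dvd_of_over M χ lc hχ))
  have hMT : M ≤ T := le_inertia (isClassFunction_of_isIrr lc.2)
  have hPT : P₀ ≤ T := fun t ht => funext fun m => by
    show ((l _ : ℂˣ) : ℂ) = ((l m : ℂˣ) : ℂ)
    rw [hlP t ht m _ rfl]
  set TY := T.subgroupOf Y with hTY
  have hTcomap : TY.comap ρ = T := by
    ext g
    show (ρ g : G) ∈ T ↔ g ∈ T
    have h1 : (g * (ρ g : G)⁻¹) ∈ T := hMT (hmem g)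
    constructor
    · intro h; simpa using T.mul_mem h1 h
    · intro h; simpa [mul_assoc] using T.mul_mem (T.inv_mem h1) h
  have hTYidx : ¬ q ∣ TY.index := by
    rw [← Subgroup.index_comap_of_surjective TY hρs, hTcomap]; exact hTidx
  have hD : ¬ q ∣ (TY ⊓ RY).relIndex RY := fun h => by
    rw [Subgroup.inf_relIndex_right, ← S4601.relIndex_sup_normal TY RY] at h
    exact hTYidx (h.trans (Subgroup.relIndex_dvd_index_of_le le_sup_left))
  obtain ⟨c, hcR, hcP, hc⟩ := TwoPrimeInvariant.exists_invariant_sylow_le hpq (P₁ : Subgroup Y)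
    (TY ⊓ RY) RY P₁.2
    (Coprime.le_normalizer_inf (fun t ht => Subgroup.le_normalizer (hPT ⟨t, ht, rfl⟩ : t ∈ TY))
      Subgroup.le_normalizer_of_normal)
    Subgroup.le_normalizer_of_normal inf_le_right hRYp hD QY (Subgroup.comap_mono hQR₀)
    hQq.comap_subtype hQYidx hPQY
  have hQT : ∀ y ∈ Q, y ∈ T := by
    intro y hy
    have hy' : (⟨y, hR₀Y (hQR₀ hy)⟩ : Y) ∈ QY := hy
    have h1 := hnorm c⁻¹ (RY.inv_mem hcR)
      (fun t ht => (Commute.inv_right (show Commute t c from hcP t ht)).eq) _ hy'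
    have h2 := (hc _ h1).1
    rw [inv_inv, show c * (c⁻¹ * (⟨y, hR₀Y (hQR₀ hy)⟩ : Y) * c) * c⁻¹ = ⟨y, hR₀Y (hQR₀ hy)⟩ by group]
      at h2
    exact h2
  -- contradiction
  apply hl1
  have hQn : Q ≤ Subgroup.normalizer (M : Set G) := Subgroup.le_normalizer_of_normal
  have hcopQM : (Nat.card Q).Coprime (Nat.card M) := by
    obtain ⟨k, hk⟩ := hQq.exists_card_eq
    rw [hk]; exact (hq.out.coprime_iff_not_dvd.2 (hqp hMp)).pow_left k
  have hgen := Coprime.commutator_sup_centralizer hQn hcopQM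
    (Or.inl (Layer.isSolvable_of_isPGroup hQq))
  let Kl : Subgroup G := l.ker.map M.subtype
  have hle : M ≤ Kl := by
    refine hgen.ge.trans (sup_le (Subgroup.commutator_le.2 fun m hm y hy => ?_) fun w hw => ?_)
    · have h1 : ⁅m, y⁆ ∈ M := Coprime.commutator_le_of_le_normalizer hQn
        (Subgroup.commutator_mem_commutator hm hy)
      refine ⟨⟨⁅m, y⁆, h1⟩, ?_, rfl⟩
      rw [SetLike.mem_coe, MonoidHom.mem_ker]
      have hm' : y * m⁻¹ * y⁻¹ ∈ M := hMnorm.conj_mem _ (M.inv_mem hm) y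
      have h2 : l ⟨y * m⁻¹ * y⁻¹, hm'⟩ = l ⟨m⁻¹, M.inv_mem hm⟩ :=
        Units.ext (congrFun (hQT y hy : y ∈ T) ⟨m⁻¹, M.inv_mem hm⟩)
      have h3 : (⟨⁅m, y⁆, h1⟩ : M) = ⟨m, hm⟩ * ⟨y * m⁻¹ * y⁻¹, hm'⟩ :=
        Subtype.ext (by simp [commutatorElement_def, mul_assoc])
      rw [h3, map_mul, h2, ← map_mul,
        show (⟨m, hm⟩ : M) * ⟨m⁻¹, M.inv_mem hm⟩ = 1 from Subtype.ext (mul_inv_cancel m), map_one]
    · exact ⟨⟨w, hw.1⟩, hlW _ hw, rfl⟩
  refine MonoidHom.ext fun m => ?_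
  obtain ⟨m', hm', he⟩ := hle m.2
  rw [show m = m' from Subtype.ext he.symm]
  exact hm'

/-- The Sylow subgroups commute. -/
theorem exists_commuting_sylow {p q : ℕ} [hp : Fact p.Prime] [hq : Fact q.Prime]
    (hqA : ¬ q ∣ (Cfsg.pPrimeCore p G).index)
    (hpB : ¬ p ∣ (Cfsg.pPrimeCore q G).index) :
    ∃ (P : Sylow p G) (Q : Sylow q G), ∀ x ∈ (P : Subgroup G), ∀ y ∈ (Q : Subgroup G),
      x * y = y * x := by
  obtain ⟨P⟩ : Nonempty (Sylow p G) := inferInstance
  set A := Cfsg.pPrimeCore p G with hA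
  set B := Cfsg.pPrimeCore q G with hB
  have hcop : (Nat.card (P : Subgroup G)).Coprime (Nat.card A) := by
    obtain ⟨k, hk⟩ := P.2.exists_card_eq
    rw [hk]; exact (Core.coprime_card_pPrimeCore (p := p) (G := G)).symm.pow_left k
  obtain ⟨Q₁, hQ₁⟩ := Coprime.exists_invariant_sylow (A := (P : Subgroup G)) (K := A)
    Subgroup.le_normalizer_of_normal hcop (Or.inl (Layer.isSolvable_of_isPGroup P.2)) q
  have hidx : ¬ q ∣ ((Q₁ : Subgroup A).map A.subtype).index := by
    rw [Subgroup.index_map_subtype]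
    exact hq.out.not_dvd_mul Q₁.not_dvd_index hqA
  refine ⟨P, (Q₁.2.map A.subtype).toSylow hidx, fun x hx y hy => ?_⟩
  rw [IsPGroup.toSylow_coe] at hy
  have hxB : x ∈ B := by
    obtain ⟨k, hk⟩ := P.2 ⟨x, hx⟩
    have hk' : x ^ p ^ k = 1 := congrArg Subtype.val hk
    rw [← QuotientGroup.eq_one_iff, ← orderOf_eq_one_iff]
    refine Nat.eq_one_of_dvd_coprimes ((hp.out.coprime_iff_not_dvd.2 hpB).pow_left k) ?_ ?_
    · refine orderOf_dvd_of_pow_eq_one ?_
      rw [← QuotientGroup.mk_pow, hk', QuotientGroup.mk_one]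
    · rw [Subgroup.index_eq_card]; exact orderOf_dvd_natCard _
  set Q' := (Q₁ : Subgroup A).map A.subtype
  have hw : x * y * x⁻¹ * y⁻¹ ∈ B ⊓ Q' := by
    refine ⟨?_, Q'.mul_mem ((Subgroup.mem_normalizer_iff.1 (hQ₁ hx) y).1 hy) (Q'.inv_mem hy)⟩
    rw [show x * y * x⁻¹ * y⁻¹ = x * (y * x⁻¹ * y⁻¹) by group]
    exact B.mul_mem hxB (Subgroup.Normal.conj_mem inferInstance _ (B.inv_mem hxB) y)
  have hbot : B ⊓ Q' = ⊥ := Subgroup.inf_eq_bot_of_coprime (by
    obtain ⟨k, hk⟩ := (Q₁.2.map A.subtype).exists_card_eq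
    rw [hk]; exact (Core.coprime_card_pPrimeCore (p := q) (G := G)).pow_right k)
  rw [hbot, Subgroup.mem_bot] at hw
  calc x * y = (x * y * x⁻¹ * y⁻¹) * (y * x) := by group
    _ = y * x := by rw [hw, one_mul]

/-- The degree condition from commuting Sylow subgroups. -/
theorem hyp_of_commuting {p q : ℕ} [hp : Fact p.Prime] [hq : Fact q.Prime] (hpq : p ≠ q)
    (hps : Cfsg.IsPSolvable p G) (P : Sylow p G) (Q : Sylow q G)
    (h : ∀ x ∈ (P : Subgroup G), ∀ y ∈ (Q : Subgroup G), x * y = y * x) : Hyp p q G := by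
  set A := Cfsg.pPrimeCore p G with hA
  let π := QuotientGroup.mk' A
  have hπ : Function.Surjective π := QuotientGroup.mk'_surjective A
  have hQA : (Q : Subgroup G) ≤ A := by
    intro y hy
    have hsc := Layer.pCoreSelfCentral_of_isPSolvable (Layer.isPSolvable_of_surjective hps hπ)
      (Core.pPrimeCore_quotient_eq_bot (p := p) (G := G))
    have hy1 : π y ∈ Cfsg.pCore p (G ⧸ A) := by
      refine hsc (Subgroup.mem_centralizer_iff.2 fun z hz => ?_)
      have hzP : z ∈ (P.mapSurjective hπ : Subgroup (G ⧸ A)) := Core.pCore_le_sylow _ hz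
      rw [Sylow.coe_mapSurjective] at hzP
      obtain ⟨x, hx, rfl⟩ := hzP
      rw [← map_mul, ← map_mul, h x hx y hy]
    obtain ⟨k, hk⟩ := Q.2 ⟨y, hy⟩
    have hk' : y ^ q ^ k = 1 := congrArg Subtype.val hk
    obtain ⟨j, hj⟩ := Core.pCore_isPGroup (p := p) (G := G ⧸ A) ⟨π y, hy1⟩
    have hj' : π y ^ p ^ j = 1 := congrArg Subtype.val hj
    rw [← QuotientGroup.eq_one_iff, ← orderOf_eq_one_iff]
    refine Nat.eq_one_of_dvd_coprimes (((Nat.coprime_primes hp.out hq.out).2 hpq).pow j k)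
      (orderOf_dvd_of_pow_eq_one hj') (orderOf_dvd_of_pow_eq_one ?_)
    rw [← QuotientGroup.mk_pow, hk', QuotientGroup.mk_one]
  intro χ hχ _ hd
  obtain ⟨φ, hφ, hφe⟩ := IsIrr.exists_quotient A χ.2 hχ
  obtain ⟨d, -, hd'⟩ := IsIrr.degree hφ
  have h1 : Cfsg.charDegree (χ : G → ℂ) = d := by
    have : (χ : G → ℂ) 1 = (d : ℂ) := by rw [hφe, QuotientGroup.mk_one, hd']
    simp [Cfsg.charDegree, this]
  have h2 : d ∣ A.index := by rw [Subgroup.index_eq_card]; exact IsIrr.degree_dvd_card hφ hd'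
  exact Q.not_dvd_index ((h1 ▸ hd).trans (h2.trans (Subgroup.index_dvd_of_le hQA)))

end Cfsg.Agent.BlockChar.TwoPrimeMain
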